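import Mathlib
import Cfsg.Prelude.Def_GeometricClasses
import Cfsg.Agent.Lib.Helper04.AschUB6eDefs

/-!
# K-B6e-2 : kernel, scalars and order of the image of `tensPair`
-/

set_option autoImplicit false

namespace Cfsg.Agent.Lib.Helper94.AschU

open Cfsg Cfsg.Geo Cfsg.Agent.Lib.Helper61.Asch Cfsg.Agent.Lib.Helper61.AschU Cfsg.Agent.Lib.Helper04.AschU
open scoped Matrix Kronecker MatrixGroups

variable {F : Type*} [Field F]
variable {ι : Type} [Fintype ι] [DecidableEq ι] {a b : ℕ}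

theorem smul_one_submatrix_equiv {m n : Type} [DecidableEq m] [DecidableEq n] (e : m ≃ n) (c : F) :
    (c • (1 : Matrix n n F)).submatrix e e = c • (1 : Matrix m m F) := by
  ext i j
  simp [Matrix.submatrix_apply, Matrix.one_apply, e.injective.eq_iff]

/-- a conjugated reindexed matrix is the scalar `c` iff the matrix is. -/
theorem conj_submatrix_eq_smul_one_iff (e : ι ≃ Fin a × Fin b) (P : GL ι F)
    (X : Matrix (Fin a × Fin b) (Fin a × Fin b) F) (c : F) :
    (P : Matrix ι ι F) * X.submatrix e e * ((P⁻¹ : GL ι F) : Matrix ι ι F) = c • (1 : Matrix ι ι F) ↔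
      X = c • (1 : Matrix (Fin a × Fin b) (Fin a × Fin b) F) := by
  have hPi : ((P⁻¹ : GL ι F) : Matrix ι ι F) * (P : Matrix ι ι F) = 1 := by
    rw [← Units.val_mul, inv_mul_cancel, Units.val_one]
  have hPi' : (P : Matrix ι ι F) * ((P⁻¹ : GL ι F) : Matrix ι ι F) = 1 := by
    rw [← Units.val_mul, mul_inv_cancel, Units.val_one]
  constructor
  · intro h
    have h1 : X.submatrix e e = c • (1 : Matrix ι ι F) := by
      calc X.submatrix e e
          = (((P⁻¹ : GL ι F) : Matrix ι ι F) * (P : Matrix ι ι F)) * X.submatrix e e *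
              (((P⁻¹ : GL ι F) : Matrix ι ι F) * (P : Matrix ι ι F)) := by
            rw [hPi, Matrix.one_mul, Matrix.mul_one]
        _ = ((P⁻¹ : GL ι F) : Matrix ι ι F) *
              ((P : Matrix ι ι F) * X.submatrix e e * ((P⁻¹ : GL ι F) : Matrix ι ι F)) *
              (P : Matrix ι ι F) := by
            simp only [Matrix.mul_assoc]
        _ = c • (1 : Matrix ι ι F) := by
            rw [h, Matrix.mul_smul, Matrix.mul_one, Matrix.smul_mul, hPi]
    have h2 : X = (X.submatrix e e).submatrix e.symm e.symm := by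
      rw [Matrix.submatrix_submatrix, Equiv.self_comp_symm, Matrix.submatrix_id_id]
    rw [h2, h1, smul_one_submatrix_equiv]
  · intro h
    rw [h, smul_one_submatrix_equiv, Matrix.mul_smul, Matrix.mul_one,
      Matrix.smul_mul, hPi']

/-- a Kronecker product which is a non-zero scalar has scalar factors. -/
theorem kron_eq_smul_one {A : Matrix (Fin a) (Fin a) F} {B : Matrix (Fin b) (Fin b) F} (ha : 0 < a)
    (hb : 0 < b) {l : F} (hl : l ≠ 0)
    (h : A ⊗ₖ B = l • (1 : Matrix (Fin a × Fin b) (Fin a × Fin b) F)) :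
    ∃ α β : F, α * β = l ∧ A = α • (1 : Matrix (Fin a) (Fin a) F) ∧
      B = β • (1 : Matrix (Fin b) (Fin b) F) := by
  have hent : ∀ i j k m, A i j * B k m = l * (if i = j ∧ k = m then 1 else 0) := by
    intro i j k m
    have h1 := congrFun (congrFun h (i, k)) (j, m)
    rw [Matrix.kroneckerMap_apply, Matrix.smul_apply, Matrix.one_apply, smul_eq_mul] at h1
    rw [h1]
    simp only [Prod.mk.injEq]
  have h0 : A ⟨0, ha⟩ ⟨0, ha⟩ * B ⟨0, hb⟩ ⟨0, hb⟩ = l := by
    have h1 := hent ⟨0, ha⟩ ⟨0, ha⟩ ⟨0, hb⟩ ⟨0, hb⟩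
    simpa using h1
  have hα : A ⟨0, ha⟩ ⟨0, ha⟩ ≠ 0 := by
    intro h1; rw [h1, zero_mul] at h0; exact hl h0.symm
  have hβ : B ⟨0, hb⟩ ⟨0, hb⟩ ≠ 0 := by
    intro h1; rw [h1, mul_zero] at h0; exact hl h0.symm
  refine ⟨A ⟨0, ha⟩ ⟨0, ha⟩, B ⟨0, hb⟩ ⟨0, hb⟩, h0, ?_, ?_⟩
  · ext i j
    have h1 := hent i j ⟨0, hb⟩ ⟨0, hb⟩
    simp only [and_true] at h1
    rw [Matrix.smul_apply, Matrix.one_apply, smul_eq_mul]
    apply mul_right_cancel₀ hβ
    rw [h1, ← h0]
    split_ifs <;> ring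
  · ext k m
    have h1 := hent ⟨0, ha⟩ ⟨0, ha⟩ k m
    simp only [true_and] at h1
    rw [Matrix.smul_apply, Matrix.one_apply, smul_eq_mul]
    apply mul_left_cancel₀ hα
    rw [h1, ← h0]
    split_ifs <;> ring

theorem smul_one_kron_smul_one (α β : F) :
    (α • (1 : Matrix (Fin a) (Fin a) F)) ⊗ₖ (β • (1 : Matrix (Fin b) (Fin b) F)) =
      (α * β) • (1 : Matrix (Fin a × Fin b) (Fin a × Fin b) F) := by
  rw [Matrix.smul_kronecker, Matrix.kronecker_smul, Matrix.one_kronecker_one, smul_smul]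

/-- K-B6e-2a. -/
theorem tensPair_mem_scalars_iff (ha : 0 < a) (hb : 0 < b) (e : ι ≃ Fin a × Fin b) (P : GL ι F)
    (A : GL (Fin a) F) (B : GL (Fin b) F) :
    tensPair e P (A, B) ∈ scalars ι F ↔ A ∈ scalars (Fin a) F ∧ B ∈ scalars (Fin b) F := by
  rw [mem_scalars_iff, mem_scalars_iff, mem_scalars_iff]
  constructor
  · rintro ⟨c, hc⟩
    rw [tensPair_val, conj_submatrix_eq_smul_one_iff] at hc
    obtain ⟨α, β, hαβ, hA, hB⟩ := kron_eq_smul_one ha hb c.ne_zero hc
    have hα : α ≠ 0 := by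
      intro h1; rw [h1, zero_mul] at hαβ; exact c.ne_zero hαβ.symm
    have hβ : β ≠ 0 := by
      intro h1; rw [h1, mul_zero] at hαβ; exact c.ne_zero hαβ.symm
    exact ⟨⟨Units.mk0 α hα, hA⟩, ⟨Units.mk0 β hβ, hB⟩⟩
  · rintro ⟨⟨α, hA⟩, ⟨β, hB⟩⟩
    refine ⟨α * β, ?_⟩
    rw [tensPair_val, conj_submatrix_eq_smul_one_iff, hA, hB, smul_one_kron_smul_one, Units.val_mul]

/-- K-B6e-2b. -/
theorem tensPair_eq_one_iff (ha : 0 < a) (hb : 0 < b) (e : ι ≃ Fin a × Fin b) (P : GL ι F)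
    (A : GL (Fin a) F) (B : GL (Fin b) F) :
    tensPair e P (A, B) = 1 ↔ ∃ c : Fˣ, (A : Matrix (Fin a) (Fin a) F) = (c : F) • (1 : Matrix (Fin a) (Fin a) F) ∧
      (B : Matrix (Fin b) (Fin b) F) = ((c⁻¹ : Fˣ) : F) • (1 : Matrix (Fin b) (Fin b) F) := by
  have h1 : tensPair e P (A, B) = 1 ↔
      ((tensPair e P (A, B) : GL ι F) : Matrix ι ι F) = (1 : F) • (1 : Matrix ι ι F) := by
    rw [one_smul]
    constructor
    · intro h; rw [h, Units.val_one]
    · intro h; exact Units.ext (by rw [h, Units.val_one])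
  rw [h1, tensPair_val, conj_submatrix_eq_smul_one_iff]
  constructor
  · intro h
    obtain ⟨α, β, hαβ, hA, hB⟩ := kron_eq_smul_one ha hb one_ne_zero h
    have hα : α ≠ 0 := by
      intro h2; rw [h2, zero_mul] at hαβ; exact one_ne_zero hαβ.symm
    refine ⟨Units.mk0 α hα, hA, ?_⟩
    rw [hB]
    congr 1
    rw [Units.val_inv_eq_inv_val, Units.val_mk0]
    exact eq_inv_of_mul_eq_one_right hαβ
  · rintro ⟨c, hA, hB⟩
    rw [hA, hB, smul_one_kron_smul_one, ← Units.val_mul, mul_inv_cancel, Units.val_one]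

/-- the scalar `c` in `GL`. -/
def scG (a : ℕ) (c : Fˣ) : GL (Fin a) F :=
  Units.map (Matrix.scalar (Fin a) : F →+* Matrix (Fin a) (Fin a) F).toMonoidHom c

theorem scG_mem (a : ℕ) (c : Fˣ) : scG a c ∈ scalars (Fin a) F := ⟨c, rfl⟩

theorem scG_val (a : ℕ) (c : Fˣ) :
    ((scG a c : GL (Fin a) F) : Matrix (Fin a) (Fin a) F) = (c : F) • (1 : Matrix (Fin a) (Fin a) F) := by
  simp [scG, Matrix.smul_one_eq_diagonal]

/-- K-B6e-2c. -/
theorem card_map_tensPair [Fintype F] (ha : 0 < a) (hb : 0 < b) (e : ι ≃ Fin a × Fin b) (P : GL ι F)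
    (R₁ : Subgroup (GL (Fin a) F)) (R₂ : Subgroup (GL (Fin b) F)) (h₁ : scalars (Fin a) F ≤ R₁)
    (h₂ : scalars (Fin b) F ≤ R₂) :
    Nat.card ((R₁.prod R₂).map (tensPair e P)) * (Fintype.card F - 1) = Nat.card R₁ * Nat.card R₂ := by
  classical
  let ψ : (R₁.prod R₂) →* GL ι F := (tensPair e P).comp (R₁.prod R₂).subtype
  have hrange : ψ.range = (R₁.prod R₂).map (tensPair e P) := by
    ext g
    constructor
    · rintro ⟨x, rfl⟩
      exact ⟨x.1, x.2, rfl⟩
    · rintro ⟨x, hx, rfl⟩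
      exact ⟨⟨x, hx⟩, rfl⟩
  have hcardH : Nat.card (R₁.prod R₂) = Nat.card R₁ * Nat.card R₂ := by
    rw [Nat.card_congr (Subgroup.prodEquiv R₁ R₂).toEquiv, Nat.card_prod]
  have hker : Nat.card ψ.ker = Fintype.card F - 1 := by
    rw [← Fintype.card_units, ← Nat.card_eq_fintype_card]
    symm
    let g : Fˣ → ψ.ker := fun c =>
      ⟨⟨(scG a c, scG b c⁻¹), ⟨h₁ (scG_mem a c), h₂ (scG_mem b c⁻¹)⟩⟩, by
        rw [MonoidHom.mem_ker]
        show tensPair e P (scG a c, scG b c⁻¹) = 1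
        rw [tensPair_eq_one_iff ha hb]
        exact ⟨c, scG_val a c, scG_val b c⁻¹⟩⟩
    apply Nat.card_eq_of_bijective g
    constructor
    · intro c c' hcc
      have h3 : scG a c = scG a c' :=
        congrArg (fun x : ψ.ker => ((x : R₁.prod R₂) : GL (Fin a) F × GL (Fin b) F).1) hcc
      have h4 := congrArg (fun x : GL (Fin a) F => (x : Matrix (Fin a) (Fin a) F) ⟨0, ha⟩ ⟨0, ha⟩) h3
      simp only [scG_val, Matrix.smul_apply, Matrix.one_apply_eq, smul_eq_mul, mul_one] at h4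
      exact Units.ext h4
    · rintro ⟨⟨⟨A, B⟩, hAB⟩, hk⟩
      have hk' : tensPair e P (A, B) = 1 := hk
      obtain ⟨c, hA, hB⟩ := (tensPair_eq_one_iff ha hb e P A B).1 hk'
      refine ⟨c, ?_⟩
      apply Subtype.ext
      apply Subtype.ext
      apply Prod.ext
      · exact Units.ext (by rw [hA]; exact scG_val a c)
      · exact Units.ext (by rw [hB]; exact scG_val b c⁻¹)
  have h3 := Subgroup.card_eq_card_quotient_mul_card_subgroup ψ.ker
  rw [Nat.card_congr (QuotientGroup.quotientKerEquivRange ψ).toEquiv, hrange, hker, hcardH] at h3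
  exact h3.symm

end Cfsg.Agent.Lib.Helper94.AschU
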