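import Mathlib

/-!
# Theta series of an even unimodular lattice of rank 24 : definitions (pack K-TH, S1632)

`thetaC B τ = ∑_{x ∈ ℤ^24} exp(π i τ · xᵀBx)`; `rep B m = #{x : xᵀBx = 2m}`.
General-`n` real machinery for the theta inversion formula (induction on `n` via the Schur
complement and the functional equation of `jacobiTheta₂`): `rq`, `IsPD`, `schur`, `dq` (the dual
quadratic form `ξ ↦ ξᵀA⁻¹ξ`, defined recursively), `cst` (`= det(A)^(-1/2)`, defined recursively),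
`ThTerm/Th` (theta sum with characteristic `z`) and `ThDTerm/ThD` (the dual sum).
-/

set_option autoImplicit false

namespace Cfsg.Agent.Lib.Helper94.TH

open Matrix Complex

/-- the integral quadratic form `xᵀBx` -/
def qf {n : ℕ} (B : Matrix (Fin n) (Fin n) ℤ) (x : Fin n → ℤ) : ℤ := x ⬝ᵥ (B *ᵥ x)

/-- even unimodular positive definite Gram matrix of rank 24 -/
structure Hyp (B : Matrix (Fin 24) (Fin 24) ℤ) : Prop where
  symm : B.IsSymm
  pos : ∀ x : Fin 24 → ℤ, x ≠ 0 → 0 < x ⬝ᵥ (B *ᵥ x)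
  even : ∀ x : Fin 24 → ℤ, (2 : ℤ) ∣ x ⬝ᵥ (B *ᵥ x)
  det : B.det = 1

/-- the theta series as a function of a complex variable -/
noncomputable def thetaC (B : Matrix (Fin 24) (Fin 24) ℤ) (τ : ℂ) : ℂ :=
  ∑' x : Fin 24 → ℤ, cexp (Real.pi * I * τ * (qf B x : ℂ))

/-- the number of vectors of norm `2m` -/
noncomputable def rep (B : Matrix (Fin 24) (Fin 24) ℤ) (m : ℕ) : ℕ :=
  {x : Fin 24 → ℤ | x ⬝ᵥ (B *ᵥ x) = 2 * (m : ℤ)}.ncard

/-- the real quadratic form `xᵀAx` -/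
def rq {n : ℕ} (A : Matrix (Fin n) (Fin n) ℝ) (x : Fin n → ℝ) : ℝ := x ⬝ᵥ (A *ᵥ x)

/-- symmetric positive definite (over `ℝ`) -/
def IsPD {n : ℕ} (A : Matrix (Fin n) (Fin n) ℝ) : Prop :=
  A.IsSymm ∧ ∀ x : Fin n → ℝ, x ≠ 0 → 0 < rq A x

/-- the Schur complement of the `(0,0)` entry -/
noncomputable def schur {n : ℕ} (A : Matrix (Fin (n + 1)) (Fin (n + 1)) ℝ) :
    Matrix (Fin n) (Fin n) ℝ :=
  Matrix.of fun i j => A i.succ j.succ - A i.succ 0 * A 0 j.succ / A 0 0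

/-- the dual quadratic form `ξ ↦ ξᵀA⁻¹ξ` on complex vectors, defined by recursion on `n` -/
noncomputable def dq : (n : ℕ) → Matrix (Fin n) (Fin n) ℝ → (Fin n → ℂ) → ℂ
  | 0, _, _ => 0
  | (n + 1), A, ξ => (ξ 0) ^ 2 / (A 0 0 : ℂ) +
      dq n (schur A) (fun i => ξ i.succ - ξ 0 * (A 0 i.succ : ℂ) / (A 0 0 : ℂ))

/-- the constant `det(A)^(-1/2)`, defined by recursion on `n` -/
noncomputable def cst : (n : ℕ) → Matrix (Fin n) (Fin n) ℝ → ℝ
  | 0, _ => 1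
  | (n + 1), A => (Real.sqrt (A 0 0))⁻¹ * cst n (schur A)

/-- the term of the theta sum with characteristic `z` -/
noncomputable def ThTerm {n : ℕ} (A : Matrix (Fin n) (Fin n) ℝ) (τ : ℂ) (z : Fin n → ℂ)
    (x : Fin n → ℤ) : ℂ :=
  cexp (Real.pi * I * (τ * (rq A (fun i => (x i : ℝ)) : ℂ) + 2 * ∑ i, (x i : ℂ) * z i))

/-- the theta sum with characteristic `z` -/
noncomputable def Th {n : ℕ} (A : Matrix (Fin n) (Fin n) ℝ) (τ : ℂ) (z : Fin n → ℂ) : ℂ :=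
  ∑' x : Fin n → ℤ, ThTerm A τ z x

/-- the term of the dual sum -/
noncomputable def ThDTerm (n : ℕ) (A : Matrix (Fin n) (Fin n) ℝ) (τ : ℂ) (z : Fin n → ℂ)
    (k : Fin n → ℤ) : ℂ :=
  cexp (-(Real.pi * I / τ) * dq n A (fun i => (k i : ℂ) - z i))

/-- the dual sum -/
noncomputable def ThD (n : ℕ) (A : Matrix (Fin n) (Fin n) ℝ) (τ : ℂ) (z : Fin n → ℂ) : ℂ :=
  ∑' k : Fin n → ℤ, ThDTerm n A τ z k

/-- the factor `1 / (-iτ)^(1/2)` of the one-dimensional functional equation -/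
noncomputable def rt (τ : ℂ) : ℂ := 1 / (-I * τ) ^ (1 / 2 : ℂ)

end Cfsg.Agent.Lib.Helper94.TH
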