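import Mathlib
import Cfsg.Prelude.Def_GeometricClasses
import Cfsg.Agent.Lib.Helper50.GeoBridge
import Cfsg.Agent.Lib.Helper27.OEvenXX1

/-!
# K-OPlus10-X2 `half_pair`: a non-degenerate subspace `W` of half the dimension and `W^⊥` form a non-degenerate
decomposition `D = ![W, W^⊥]`, stabilised by every isometry stabilising `W`.
-/

set_option autoImplicit false
set_option linter.unusedVariables false
set_option linter.unusedSectionVars false

namespace Cfsg.Agent.Lib.Helper94.OPlus10

open Cfsg Cfsg.Geo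
open scoped Matrix Kronecker MatrixGroups

variable {F : Type*} [Field F] [Fintype F] {n : ℕ}

theorem map_toLin'_eq_of_mem (W : Submodule F (Fin n → F)) (g : GL (Fin n) F)
    (hg : g ∈ subspaceStabilizer W) : W.map (Matrix.toLin' (g : Matrix (Fin n) (Fin n) F)) = W := by
  rw [Cfsg.Agent.Lib.Helper50.mem_subspaceStabilizer_iff_map] at hg
  rw [Matrix.toLin'_apply']
  exact hg

/-- K-OPlus10-X2. -/
theorem half_pair (Q : (Fin n → F) → F) (hQ : IsNondegenerateQuadraticForm Q) {M : ℕ} (hn : n = 2 * M) (hM : 0 < M)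
    (W : Submodule F (Fin n → F)) (hW : IsNondegenerateOn (QuadraticMap.polar Q) W) (hdim : Module.finrank F W = M) :
    ∃ D : Fin 2 → Submodule F (Fin n → F), D 0 = W ∧ IsNondegenerateMDecomposition (QuadraticMap.polar Q) M D ∧
      subspaceStabilizer W ⊓ isometryGroup F Q ≤ decompositionStabilizer D := by
  obtain ⟨W', hW', hsum, hstab, hmem⟩ :=
    Cfsg.Agent.Lib.Helper27.OEvenX.exists_perp_of_isNondegenerateOn' Q hQ W hW
  rw [Fintype.card_fin] at hsum
  have hdim' : Module.finrank F W' = M := by omega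
  have hdisj : Disjoint W W' := by
    rw [Submodule.disjoint_def]
    intro v hv hv'
    by_contra hv0
    obtain ⟨⟨x, hx, hxv⟩, -⟩ := hW v hv hv0
    exact hxv ((hmem v).mp hv' x hx)
  have hsup : W ⊔ W' = ⊤ := by
    apply Submodule.eq_top_of_finrank_eq
    have h1 := Submodule.finrank_sup_add_finrank_inf_eq W W'
    rw [disjoint_iff.mp hdisj, finrank_bot, add_zero] at h1
    rw [h1, Module.finrank_fintype_fun_eq_card, Fintype.card_fin]
    omega
  refine ⟨![W, W'], rfl, ⟨⟨le_rfl, hM, ?_, ?_, ?_⟩, ?_, ?_⟩, ?_⟩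
  · intro i
    fin_cases i
    · exact hdim
    · exact hdim'
  · rw [iSupIndep_pair (i := (0 : Fin 2)) (j := 1) (by decide) (by decide)]
    exact hdisj
  · rw [eq_top_iff, ← hsup]
    exact sup_le (le_iSup ![W, W'] 0) (le_iSup ![W, W'] 1)
  · intro i
    fin_cases i
    · exact hW
    · exact hW'
  · intro i j hij u hu v hv
    fin_cases i <;> fin_cases j
    · exact absurd rfl hij
    · exact (hmem v).mp hv u hu
    · rw [QuadraticMap.polar_comm]
      exact (hmem u).mp hu v hv
    · exact absurd rfl hij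
  · intro g hg
    have hg' : g ∈ subspaceStabilizer W' ⊓ isometryGroup F Q := hstab ▸ hg
    refine ⟨1, fun i => ?_⟩
    fin_cases i
    · exact map_toLin'_eq_of_mem W g hg.1
    · exact map_toLin'_eq_of_mem W' g hg'.1

end Cfsg.Agent.Lib.Helper94.OPlus10
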