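import Mathlib
import Cfsg.Prelude.Def_GeometricClasses
import Cfsg.Agent.Lib.Helper61.AschDefs
import Cfsg.Agent.Lib.Helper61.AschBasic
import Cfsg.Agent.Lib.Helper61.AschGlueC
import Cfsg.Agent.Lib.Helper46.AschOBasic
import Cfsg.Agent.Lib.Helper30.AschOA2b

/-!
# K-OEven-A2o: pairwise orthogonal transitive components form a non-degenerate isometric decomposition
(second half of `Helper30.AschO.isOrthogonalMDecomposition_of_components`, any characteristic, any `n`).
-/

set_option autoImplicit false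
set_option linter.unusedVariables false

namespace Cfsg.Agent.Lib.Helper94.AschE

open Cfsg Cfsg.Geo Cfsg.Agent.Lib.Helper61.Asch Cfsg.Agent.Lib.Helper46.AschO
open scoped Matrix Kronecker MatrixGroups

variable {F : Type*} [Field F] [Fintype F] {n : ℕ}

local notation "V" => (Fin n → F)
local notation "Mat" => Matrix (Fin n) (Fin n) F
local notation "Z" => scalars (Fin n) F

/-- K-OEven-A2o. -/
theorem isOrthogonalMDecomposition_of_orthogonal (Q : V → F) (hQ : IsNondegenerateQuadraticForm Q)
    (H K : Subgroup (GL (Fin n) F)) (hK : K = H ⊔ Z) (hH : H ≤ isometryGroup F Q)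
    (t m : ℕ) (D : Fin t → Submodule F V) (hD : IsMDecomposition m D) (hKD : K ≤ decompositionStabilizer D)
    (htr : ∀ i j, ∃ k ∈ K, (D i).map (Matrix.toLin' (k : Mat)) = D j)
    (horth : ∀ i j, i ≠ j → AreOrthogonalFor (QuadraticMap.polar Q) (D i) (D j)) :
    IsOrthogonalMDecomposition Q m D := by
  classical
  refine ⟨⟨hD, ?_, horth⟩, ?_⟩
  · intro i w hw hw0
    obtain ⟨j, x, hx, hxw⟩ :=
      Cfsg.Agent.Lib.Helper30.AschO.exists_polar_ne_zero Q hQ D hD.iSup_eq_top w hw0
    have hji : j = i := by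
      by_contra h
      exact hxw (horth j i h x hx w hw)
    subst hji
    exact ⟨⟨x, hx, hxw⟩, ⟨x, hx, by rwa [QuadraticMap.polar_comm]⟩⟩
  · intro i j
    obtain ⟨k, hk, hkD⟩ := htr i j
    rw [hK] at hk
    obtain ⟨h, hh, z, hz, rfl⟩ := mem_sup_scalars hk
    rw [mem_scalars_iff] at hz
    obtain ⟨c, hc⟩ := hz
    have hmap : (D i).map (Matrix.toLin' (h : Mat)) = D j := by
      rw [← hkD, Units.val_mul, hc, Matrix.mul_smul, mul_one, map_smul,
        Submodule.map_smul _ _ _ c.ne_zero]
    have hinj : Function.Injective (Matrix.toLin' (h : Mat)) := by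
      intro a b hab
      rw [Matrix.toLin'_apply, Matrix.toLin'_apply] at hab
      exact Matrix.mulVec_injective_iff_isUnit.mpr ⟨h, rfl⟩ hab
    refine ⟨(Submodule.equivMapOfInjective (Matrix.toLin' (h : Mat)) hinj (D i)).trans
      (LinearEquiv.ofEq _ _ hmap), fun w => ?_⟩
    have h3 := (mem_isometryGroup_iff Q h).mp (hH hh) (w : V)
    rw [← h3]
    rfl

end Cfsg.Agent.Lib.Helper94.AschE
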