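import Mathlib
import Cfsg.Prelude.Def_OddOrderLocal
import Cfsg.Prelude.Def_OddOrderChar
import Cfsg.Agent.Lib.Helper60.BG151A

/-!
K-1537-C (keystone 153705, pack K-1537 for S1537, architect helper2): `A₀(M) ⊆ M̂_σ - 1`.
-/

set_option autoImplicit false
set_option linter.unusedSectionVars false

namespace Cfsg.Agent.Lib.Helper94.BG1537

open Cfsg Subgroup

variable {G : Type*} [Group G] [Finite G]

/-- `M` normalizes `M_σ` elementwise -/
theorem conj_mem_sigmaCore {M : Subgroup G} {m y : G} (hm : m ∈ M) (hy : y ∈ sigmaCore M) :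
    m * y * m⁻¹ ∈ sigmaCore M := by
  unfold sigmaCore at hy ⊢
  obtain ⟨y', hy', rfl⟩ := hy
  refine ⟨⟨m, hm⟩ * y' * ⟨m, hm⟩⁻¹, ?_, rfl⟩
  exact (piCore_normal (sigma M) M).conj_mem y' hy' ⟨m, hm⟩

theorem fittingHallOf_le (M : Subgroup G) : fittingHallOf M ≤ M := by
  unfold fittingHallOf
  rintro x ⟨y, _, rfl⟩
  exact y.2

/-- **L-C** `A₀(M) ⊆ M̂_σ - 1` (in particular `A₀(M) ⊆ M - 1`). -/
theorem typeA0_subset_sigmaHat (hG : IsMinSimpleOddOrder G) {M : Subgroup G} (hM : IsCoatom M)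
    (hC : typeCore M = sigmaCore M) :
    typeA0 M ⊆ sigmaHat M \ {1} := by
  have hFσ : fittingHallOf M ≤ sigmaCore M :=
    Cfsg.Agent.Lib.Helper60.BG151.fittingHallOf_le_sigmaCore hG hM
  have hDM : ⁅M, M⁆ ≤ M := by
    rw [Subgroup.commutator_le]
    intro a ha b hb
    rw [commutatorElement_def]
    exact M.mul_mem (M.mul_mem (M.mul_mem ha hb) (M.inv_mem ha)) (M.inv_mem hb)
  intro v hv
  rcases hv with hv | hv
  · -- the `typeA` part
    unfold typeA at hv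
    split_ifs at hv with hI
    · obtain ⟨hvM, hv1, x, hx, hx1, hcomm⟩ := hv
      exact ⟨⟨hvM, x, hFσ hx, hx1, hcomm⟩, hv1⟩
    · obtain ⟨hvM, hv1, x, hx, hx1, hcomm⟩ := hv
      rw [hC] at hx
      exact ⟨⟨hDM hvM, x, hx, hx1, hcomm⟩, hv1⟩
  · -- the `Ẑ` part
    obtain ⟨-, W₁, U, W₂, hP, m, hm, w, hw, hw1, hw2, rfl⟩ := hv
    have hW1M : W₁ ≤ M := hP.W₁_compl.2.1
    have hW2F : W₂ ≤ fittingHallOf M := le_trans hP.W₂_le inf_le_left
    have hW2M : W₂ ≤ M := le_trans hW2F (fittingHallOf_le M)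
    have hwM : w ∈ M := (sup_le hW1M hW2M) hw
    have hw_ne : w ≠ 1 := fun h => hw1 (h ▸ W₁.one_mem)
    obtain ⟨hne1, hne2, hdisj, hcommW, hcyc, -⟩ := hP.selfNormalizing
    obtain ⟨y, hy1⟩ := (Subgroup.ne_bot_iff_exists_ne_one).mp hne2
    have hyW2 : (y : G) ∈ W₂ := y.2
    have hy1' : (y : G) ≠ 1 := fun h => hy1 (Subtype.ext h)
    -- `w` and `y` commute: `W₁ ⊔ W₂` is cyclic
    have hcomm : w * (y : G) = (y : G) * w := by
      have hcomm' : ∀ a b : ↥(W₁ ⊔ W₂), a * b = b * a := by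
        intro a b
        obtain ⟨g, hg⟩ := hcyc.exists_generator
        obtain ⟨i, rfl⟩ := Subgroup.mem_zpowers_iff.mp (hg a)
        obtain ⟨j, rfl⟩ := Subgroup.mem_zpowers_iff.mp (hg b)
        rw [← zpow_add, ← zpow_add, add_comm]
      have := hcomm' ⟨w, hw⟩ ⟨(y : G), (le_sup_right : W₂ ≤ W₁ ⊔ W₂) hyW2⟩
      exact congrArg Subtype.val this
    refine ⟨⟨?_, m * (y : G) * m⁻¹, conj_mem_sigmaCore hm (hFσ (hW2F hyW2)), ?_, ?_⟩, ?_⟩
    · exact M.mul_mem (M.mul_mem hm hwM) (M.inv_mem hm)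
    · intro h
      apply hy1'
      have : (y : G) = m⁻¹ * (m * (y : G) * m⁻¹) * m := by group
      rw [this, h]
      group
    · calc m * w * m⁻¹ * (m * (y : G) * m⁻¹) = m * (w * (y : G)) * m⁻¹ := by group
        _ = m * ((y : G) * w) * m⁻¹ := by rw [hcomm]
        _ = m * (y : G) * m⁻¹ * (m * w * m⁻¹) := by group
    · intro h
      apply hw_ne
      have h' : m * w * m⁻¹ = 1 := h
      have : w = m⁻¹ * (m * w * m⁻¹) * m := by group
      rw [this, h']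
      group

end Cfsg.Agent.Lib.Helper94.BG1537
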