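import Mathlib

set_option autoImplicit false

namespace Cfsg.Agent.Lib.Helper94.OhP

/-- LEAF K2 (597414; pure number theory). `r ∣ q^a - 1 ↔ i ∣ a`;
`r ∣ q^b + 1`: `q^b = -1` in `ZMod r`, so `q^(2b) = 1`, `i ∣ 2 b`, `i ∤ b`: `i` even and `b ≡ i/2 (mod i)`. -/
theorem order_cases (q r a b : ℕ) [Fact r.Prime] (hr2 : r ≠ 2) (hq : ¬ r ∣ q)
    (h : r ∣ (q ^ a - 1) * (q ^ b + 1)) :
    orderOf (q : ZMod r) ∣ a ∨
      (Even (orderOf (q : ZMod r)) ∧ b % orderOf (q : ZMod r) = orderOf (q : ZMod r) / 2) := by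
  have hr : r.Prime := Fact.out
  set x : ZMod r := (q : ZMod r) with hx
  set i := orderOf x with hi
  have hx0 : x ≠ 0 := by
    intro h0
    exact hq ((ZMod.natCast_eq_zero_iff q r).mp h0)
  have hqpos : 0 < q := by
    rcases Nat.eq_zero_or_pos q with h0 | h0
    · exfalso; apply hq; rw [h0]; exact dvd_zero r
    · exact h0
  rcases (Nat.Prime.dvd_mul hr).mp h with h1 | h1
  · left
    have hpos : 1 ≤ q ^ a := Nat.one_le_pow _ _ hqpos
    have : ((q ^ a - 1 : ℕ) : ZMod r) = 0 := (ZMod.natCast_eq_zero_iff _ r).mpr h1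
    rw [Nat.cast_sub hpos] at this
    push_cast at this
    have hxa : x ^ a = 1 := by
      have := sub_eq_zero.mp this
      simpa [hx] using this
    exact orderOf_dvd_of_pow_eq_one hxa
  · right
    have : ((q ^ b + 1 : ℕ) : ZMod r) = 0 := (ZMod.natCast_eq_zero_iff _ r).mpr h1
    push_cast at this
    have hxb : x ^ b = -1 := by
      have := eq_neg_of_add_eq_zero_left this
      simpa [hx] using this
    have hne : (-1 : ZMod r) ≠ 1 := by
      intro h11
      have h2 : (2 : ZMod r) = 0 := by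
        have : (1 : ZMod r) + 1 = 0 := by
          nth_rewrite 1 [← h11]; ring
        rw [← this]; norm_num
      have : ((2 : ℕ) : ZMod r) = 0 := by exact_mod_cast h2
      have hd : r ∣ 2 := (ZMod.natCast_eq_zero_iff 2 r).mp this
      have := (Nat.prime_dvd_prime_iff_eq hr Nat.prime_two).mp hd
      exact hr2 this
    have hx2b : x ^ (2 * b) = 1 := by
      rw [mul_comm, pow_mul, hxb]; norm_num
    have hd2 : i ∣ 2 * b := orderOf_dvd_of_pow_eq_one hx2b
    have hnd : ¬ i ∣ b := by
      intro hd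
      have : x ^ b = 1 := orderOf_dvd_iff_pow_eq_one.mp hd
      rw [hxb] at this
      exact hne this
    have hipos : 0 < i := by
      have : IsOfFinOrder x := isOfFinOrder_iff_pow_eq_one.mpr
        ⟨r - 1, Nat.sub_pos_of_lt hr.one_lt, ZMod.pow_card_sub_one_eq_one hx0⟩
      exact this.orderOf_pos
    -- i ∣ 2b, i ∤ b ⇒ i even and b % i = i / 2
    have heven : Even i := by
      rcases Nat.even_or_odd i with he | ho
      · exact he
      · exfalso
        have hcop : Nat.Coprime i 2 := Nat.coprime_two_right.mpr ho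
        exact hnd (hcop.dvd_of_dvd_mul_left hd2)
    refine ⟨heven, ?_⟩
    obtain ⟨k, hk⟩ := heven
    -- i = k + k
    obtain ⟨t, ht⟩ := hd2
    -- 2 b = i t = 2 k t ⇒ b = k t
    have hb : b = k * t := by
      have : 2 * b = 2 * (k * t) := by rw [ht, hk]; ring
      omega
    have hkpos : 0 < k := by omega
    -- t odd, else i ∣ b
    have htodd : Odd t := by
      rcases Nat.even_or_odd t with he | ho
      · exfalso
        obtain ⟨s, hs⟩ := he
        apply hnd
        refine ⟨s, ?_⟩
        rw [hb, hs, hk]; ring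
      · exact ho
    obtain ⟨s, hs⟩ := htodd
    have hb2 : b = i * s + k := by rw [hb, hs, hk]; ring
    have hk2 : i / 2 = k := by omega
    rw [hk2, hb2, Nat.mul_add_mod]
    exact Nat.mod_eq_of_lt (by omega)

end Cfsg.Agent.Lib.Helper94.OhP
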