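import Mathlib

/-!
# K-PG-495: a group of order 495 has an element of order 15 (or 55).

A Sylow 5-subgroup `P` has `n_5 ∈ {1, 11}`, so `3 ∣ |N(P)|`; an element `y ∈ N(P)` of order 3 induces on `P` (cyclic of
order 5, `|Aut P| = 4`) an automorphism of order dividing `gcd(3, 4) = 1`, so `y` centralizes `P`.
-/

set_option autoImplicit false
set_option linter.unusedVariables false
set_option linter.style.haveILetI false

namespace Cfsg.Agent.Lib.Helper94.PG7920

theorem exists_orderOf_of_card_495 {H : Type*} [Group H] [Finite H] (h : Nat.card H = 495) :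
    (∃ g : H, orderOf g = 3 * 5) ∨ (∃ g : H, orderOf g = 5 * 11) := by
  left
  haveI h5 : Fact (Nat.Prime 5) := ⟨by norm_num⟩
  haveI h3 : Fact (Nat.Prime 3) := ⟨by norm_num⟩
  obtain ⟨P⟩ : Nonempty (Sylow 5 H) := inferInstance
  have hfac : (495 : ℕ).factorization 5 = 1 := by
    have h1 : (495 : ℕ) = 5 ^ 1 * 99 := by norm_num
    rw [h1, Nat.factorization_mul (by norm_num) (by norm_num), Nat.Prime.factorization_pow (by norm_num)]
    simp [Nat.factorization_eq_zero_of_not_dvd (show ¬ 5 ∣ 99 by norm_num)]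
  have hPcard : Nat.card (P : Subgroup H) = 5 := by
    rw [Sylow.card_eq_multiplicity, h, hfac, pow_one]
  have hidx : (P : Subgroup H).index = 99 := by
    have h1 := Subgroup.card_mul_index (P : Subgroup H)
    rw [hPcard, h] at h1
    omega
  have hn1 : Nat.card (Sylow 5 H) % 5 = 1 := card_sylow_modEq_one 5 H
  have hn2 : Nat.card (Sylow 5 H) ∣ 99 := hidx ▸ P.card_dvd_index
  have hn3 : Nat.card (Sylow 5 H) = (Subgroup.normalizer ((P : Subgroup H) : Set H)).index :=
    Sylow.card_eq_index_normalizer P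
  obtain ⟨N, hN⟩ : ∃ N : Subgroup H, N = Subgroup.normalizer ((P : Subgroup H) : Set H) := ⟨_, rfl⟩
  rw [← hN] at hn3
  have hcases : Nat.card (Sylow 5 H) = 1 ∨ Nat.card (Sylow 5 H) = 11 := by
    have hle : Nat.card (Sylow 5 H) ≤ 99 := Nat.le_of_dvd (by norm_num) hn2
    generalize Nat.card (Sylow 5 H) = n at hn1 hn2 hle
    interval_cases n <;> omega
  have h3N : 3 ∣ Nat.card N := by
    have h1 := Subgroup.card_mul_index N
    rw [← hn3, h] at h1
    rcases hcases with h2 | h2 <;> rw [h2] at h1 <;> omega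
  have hPN : (P : Subgroup H) ≤ N := hN ▸ Subgroup.le_normalizer
  haveI hnorm : ((P : Subgroup H).subgroupOf N).Normal := by
    rw [hN]
    exact Subgroup.normal_in_normalizer
  have hQcard : Nat.card ((P : Subgroup H).subgroupOf N) = 5 := by
    rw [Nat.card_congr (Subgroup.subgroupOfEquivOfLe hPN).toEquiv, hPcard]
  haveI hcyc : IsCyclic ((P : Subgroup H).subgroupOf N) := isCyclic_of_prime_card hQcard
  have hAut : Nat.card (MulAut ((P : Subgroup H).subgroupOf N)) = 4 := by
    rw [IsCyclic.card_mulAut, hQcard]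
    decide
  obtain ⟨y, hy⟩ := exists_prime_orderOf_dvd_card' 3 h3N
  have h5Q : 5 ∣ Nat.card ((P : Subgroup H).subgroupOf N) := by rw [hQcard]
  obtain ⟨x, hx⟩ := exists_prime_orderOf_dvd_card' 5 h5Q
  have hφ : (MulAut.conjNormal y : MulAut ((P : Subgroup H).subgroupOf N)) = 1 := by
    rw [← orderOf_eq_one_iff]
    have h1 : orderOf (MulAut.conjNormal y : MulAut ((P : Subgroup H).subgroupOf N)) ∣ 3 := by
      rw [← hy]
      exact orderOf_map_dvd _ y
    have h2 : orderOf (MulAut.conjNormal y : MulAut ((P : Subgroup H).subgroupOf N)) ∣ 4 := by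
      rw [← hAut]
      exact orderOf_dvd_natCard _
    have h3 := Nat.dvd_gcd h1 h2
    exact Nat.dvd_one.mp h3
  have hcomm : Commute y (x : N) := by
    have h1 : ((MulAut.conjNormal y x : (P : Subgroup H).subgroupOf N) : N) = y * x * y⁻¹ :=
      MulAut.conjNormal_apply y x
    rw [hφ] at h1
    have h2 : (x : N) = y * x * y⁻¹ := h1
    show y * (x : N) = (x : N) * y
    calc y * (x : N) = (y * x * y⁻¹) * y := by group
      _ = (x : N) * y := by rw [← h2]
  have hx' : orderOf (x : N) = 5 := by rw [Subgroup.orderOf_coe, hx]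
  have h15 : orderOf (y * (x : N)) = 3 * 5 := by
    rw [hcomm.orderOf_mul_eq_mul_orderOf_of_coprime (by rw [hy, hx']; norm_num), hy, hx']
  exact ⟨((y * (x : N) : N) : H), by rw [Subgroup.orderOf_coe, h15]⟩

end Cfsg.Agent.Lib.Helper94.PG7920
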