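import Mathlib

/-!
# S0406 (Conway's characterisation of the Leech lattice): shared vocabulary of pack K-LC (architect helper94)
-/

set_option autoImplicit false
open Matrix

namespace Cfsg.Agent.Lib.Helper94.LC

/-- the bilinear form of the Gram matrix `B` -/
def bf (B : Matrix (Fin 24) (Fin 24) ℤ) (x y : Fin 24 → ℤ) : ℤ := x ⬝ᵥ (B *ᵥ y)

/-- the hypotheses of S0406 on the Gram matrix, bundled -/
structure Hyp (B : Matrix (Fin 24) (Fin 24) ℤ) : Prop where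
  hsymm : B.IsSymm
  hpos : ∀ x : Fin 24 → ℤ, x ≠ 0 → 0 < x ⬝ᵥ (B *ᵥ x)
  heven : ∀ x : Fin 24 → ℤ, (2 : ℤ) ∣ x ⬝ᵥ (B *ᵥ x)
  h2 : ∀ x : Fin 24 → ℤ, x ⬝ᵥ (B *ᵥ x) ≠ 2
  h4 : {x : Fin 24 → ℤ | x ⬝ᵥ (B *ᵥ x) = 4}.ncard = 196560
  h6 : {x : Fin 24 → ℤ | x ⬝ᵥ (B *ᵥ x) = 6}.ncard = 16773120
  h8 : {x : Fin 24 → ℤ | x ⬝ᵥ (B *ᵥ x) = 8}.ncard = 398034000

/-- a coordinate frame: 24 pairwise orthogonal vectors of norm 8, pairwise congruent modulo 2 -/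
structure IsFrame (B : Matrix (Fin 24) (Fin 24) ℤ) (e : Fin 24 → (Fin 24 → ℤ)) : Prop where
  norm : ∀ i, bf B (e i) (e i) = 8
  orth : ∀ i j, i ≠ j → bf B (e i) (e j) = 0
  cong : ∀ i j k, (2 : ℤ) ∣ (e i - e j) k

/-- coordinates with respect to a frame: `x ↦ (i ↦ (x, e i))` -/
def coord (B : Matrix (Fin 24) (Fin 24) ℤ) (e : Fin 24 → (Fin 24 → ℤ)) : (Fin 24 → ℤ) →+ (Fin 24 → ℤ) where
  toFun x := fun i => bf B x (e i)
  map_zero' := by funext i; simp [bf]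
  map_add' x y := by funext i; simp [bf, add_dotProduct]

/-- sum of squares of the coordinates -/
def ssq (v : Fin 24 → ℤ) : ℤ := ∑ i, v i ^ 2

/-- the abstract properties of the image `L` of the lattice in frame coordinates -/
structure CoordLattice (L : AddSubgroup (Fin 24 → ℤ)) : Prop where
  h8 : ∀ i, (Pi.single i (8 : ℤ) : Fin 24 → ℤ) ∈ L
  h4p : ∀ i j, i ≠ j → (Pi.single i (4 : ℤ) + Pi.single j (4 : ℤ) : Fin 24 → ℤ) ∈ L
  h4m : ∀ i j, i ≠ j → (Pi.single i (4 : ℤ) - Pi.single j (4 : ℤ) : Fin 24 → ℤ) ∈ L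
  hpar : ∀ v ∈ L, ∀ i j, (2 : ℤ) ∣ v i - v j
  h16 : ∀ v ∈ L, (16 : ℤ) ∣ ssq v
  hmin : ∀ v ∈ L, v ≠ 0 → 32 ≤ ssq v
  hcount : {v : Fin 24 → ℤ | v ∈ L ∧ ssq v = 32}.ncard = 196560

/-- the binary code of the vectors of `L` with even coordinates, halved and reduced modulo 2 -/
def codeOf (L : AddSubgroup (Fin 24 → ℤ)) : Submodule (ZMod 2) (Fin 24 → ZMod 2) where
  carrier := {w | ∃ y : Fin 24 → ℤ, (fun i => 2 * y i) ∈ L ∧ ∀ i, w i = ((y i : ℤ) : ZMod 2)}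
  zero_mem' := ⟨0, by
      have h0 : (fun i : Fin 24 => 2 * (0 : Fin 24 → ℤ) i) = 0 := by funext i; simp
      rw [h0]; exact L.zero_mem, fun i => by simp⟩
  add_mem' := by
    rintro a b ⟨y, hy, hya⟩ ⟨z, hz, hzb⟩
    refine ⟨y + z, ?_, fun i => by simp [hya i, hzb i]⟩
    have := L.add_mem hy hz
    convert this using 1
    funext i; simp [mul_add]
  smul_mem' := by
    rintro c a ⟨y, hy, hya⟩
    have hc : c = 0 ∨ c = 1 := by
      revert c; decide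
    rcases hc with rfl | rfl
    · exact ⟨0, by
      have h0 : (fun i : Fin 24 => 2 * (0 : Fin 24 → ℤ) i) = 0 := by funext i; simp
      rw [h0]; exact L.zero_mem, fun i => by simp⟩
    · exact ⟨y, hy, fun i => by simp [hya i]⟩

lemma mem_codeOf {L : AddSubgroup (Fin 24 → ℤ)} {w : Fin 24 → ZMod 2} :
    w ∈ codeOf L ↔ ∃ y : Fin 24 → ℤ, (fun i => 2 * y i) ∈ L ∧ ∀ i, w i = ((y i : ℤ) : ZMod 2) := Iff.rfl

/-- the standard (Conway) lattice of a binary code `C` of length 24, in the shape used by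
`Cfsg.Agent.Lib.Helper94.mem_leechLattice_iff` -/
def StdLeech (C : Submodule (ZMod 2) (Fin 24 → ZMod 2)) : Set (Fin 24 → ℤ) :=
  {x | ∃ (a : ℤ) (c : Fin 24 → ZMod 2), c ∈ C ∧ (∀ i, x i ≡ a + 2 * ((c i).val : ℤ) [ZMOD 4]) ∧
    ∑ i, x i ≡ 4 * a [ZMOD 8]}

/-- `C` is a "Golay-type" code: the hypotheses of S0375 -/
structure IsGolayType (C : Submodule (ZMod 2) (Fin 24 → ZMod 2)) : Prop where
  hdim : Module.finrank (ZMod 2) C = 12
  horth : ∀ v ∈ C, ∀ w ∈ C, ∑ i, v i * w i = 0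
  h4 : ∀ w ∈ C, 4 ∣ hammingNorm w
  hno4 : ∀ w ∈ C, hammingNorm w ≠ 4

end Cfsg.Agent.Lib.Helper94.LC
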