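import Mathlib
import Cfsg.Agent.S0391
import Cfsg.Agent.Lib.Helper95.GolayConcrete

/-! Shape of Leech lattice vectors modulo 4, membership criterion for `leechSet`,
and divisibility by 4 of inner products with code words. -/

set_option autoImplicit false

namespace Cfsg.Agent.Lib.Helper94

open Cfsg
open Cfsg.Agent.Lib.Helper95
open Cfsg.Agent.S0391 (zmod2_cases val_le_one shape_of_mem sum_of_mem sum_val_eq)

lemma mem_supports_of (w : GolayPt → ZMod 2) (hw : w ∈ golayCode) (p : GolayPt → Prop)
    [DecidablePred p] (h : ∀ i, w i ≠ 0 ↔ p i) :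
    (Finset.univ.filter p) ∈ supports (golayCode : Set (GolayPt → ZMod 2)) := by
  refine ⟨w, hw, ?_⟩
  ext i
  simp [support₂, h i]

/-- Converse of the shape lemma: a vector congruent to `m + 2c` modulo 4 for a code word `c`,
with coordinate sum `4m` modulo 8, lies in `leechSet`. -/
lemma mem_leechSet_of_shape (x : GolayPt → ℤ) (m : ℤ) (c : GolayPt → ZMod 2)
    (hc : c ∈ golayCode) (h : ∀ i, x i ≡ m + 2 * ((c i).val : ℤ) [ZMOD 4])
    (hsum : ∑ i, x i ≡ 4 * m [ZMOD 8]) : x ∈ leechSet := by
  have h1 : (1 : GolayPt → ZMod 2) ∈ golayCode := golayCode_one_mem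
  refine ⟨m, fun i => ?_, hsum, fun k => ?_⟩
  · have := h i
    simp only [Int.ModEq] at *
    omega
  · have hk : (k - m) % 4 = 0 ∨ (k - m) % 4 = 1 ∨ (k - m) % 4 = 2 ∨ (k - m) % 4 = 3 := by omega
    rcases hk with hk | hk | hk | hk
    · apply mem_supports_of (1 + c) (golayCode.add_mem h1 hc)
      intro i
      show (1 : ZMod 2) + c i ≠ 0 ↔ x i % 4 = k % 4
      have := h i
      simp only [Int.ModEq] at this
      rcases zmod2_cases (c i) with h' | h' <;> rw [h'] at this ⊢
      · simp only [ZMod.val_zero, Nat.cast_zero, mul_zero, add_zero] at this ⊢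
        constructor
        · intro _; omega
        · intro _; decide
      · simp only [ZMod.val_one, Nat.cast_one, mul_one] at this ⊢
        constructor
        · intro hh; exact absurd (by decide) hh
        · intro hh; omega
    · apply mem_supports_of 0 golayCode.zero_mem
      intro i
      show (0 : ZMod 2) ≠ 0 ↔ x i % 4 = k % 4
      have := h i
      simp only [Int.ModEq] at this
      constructor
      · intro hh; exact absurd rfl hh
      · intro hh; rcases val_le_one (c i) with h' | h' <;> rw [h'] at this <;> omega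
    · apply mem_supports_of c hc
      intro i
      show c i ≠ 0 ↔ x i % 4 = k % 4
      have := h i
      simp only [Int.ModEq] at this
      rcases zmod2_cases (c i) with h' | h' <;> rw [h'] at this ⊢
      · simp only [ZMod.val_zero, Nat.cast_zero, mul_zero, add_zero] at this ⊢
        constructor
        · intro hh; exact absurd rfl hh
        · intro hh; omega
      · simp only [ZMod.val_one, Nat.cast_one, mul_one] at this ⊢
        constructor
        · intro _; omega
        · intro _; decide
    · apply mem_supports_of 0 golayCode.zero_mem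
      intro i
      show (0 : ZMod 2) ≠ 0 ↔ x i % 4 = k % 4
      have := h i
      simp only [Int.ModEq] at this
      constructor
      · intro hh; exact absurd rfl hh
      · intro hh; rcases val_le_one (c i) with h' | h' <;> rw [h'] at this <;> omega

/-- Two code words meet evenly (integer form). -/
lemma even_dot_val (d c : GolayPt → ZMod 2) (hd : d ∈ golayCode) (hc : c ∈ golayCode) :
    (2 : ℤ) ∣ ∑ j, ((d j).val : ℤ) * ((c j).val : ℤ) := by
  have h := golayCode_horth d hd c hc
  have e : ((∑ j, ((d j).val : ℤ) * ((c j).val : ℤ) : ℤ) : ZMod 2) = ∑ j, d j * c j := by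
    push_cast
    apply Finset.sum_congr rfl
    intro j _
    rw [ZMod.natCast_zmod_val, ZMod.natCast_zmod_val]
  rw [h] at e
  exact (ZMod.intCast_zmod_eq_zero_iff_dvd _ 2).mp e

/-- Lattice vectors have inner product divisible by 4 with every (0/1 lifted) code word. -/
lemma four_dvd_dot_code (x : GolayPt → ℤ) (hx : x ∈ leechLattice) (d : GolayPt → ZMod 2)
    (hd : d ∈ golayCode) : (4 : ℤ) ∣ ∑ j, ((d j).val : ℤ) * x j := by
  obtain ⟨a, c, hc, h⟩ := shape_of_mem x hx
  have ht : ∀ j, ∃ t : ℤ, x j = a + 2 * ((c j).val : ℤ) + 4 * t := by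
    intro j
    have := (h j).symm.dvd
    obtain ⟨t, ht⟩ := this
    exact ⟨t, by linarith⟩
  choose t ht using ht
  have e : ∑ j, ((d j).val : ℤ) * x j
      = a * ∑ j, ((d j).val : ℤ) + 2 * ∑ j, ((d j).val : ℤ) * ((c j).val : ℤ)
        + 4 * ∑ j, ((d j).val : ℤ) * t j := by
    rw [Finset.mul_sum, Finset.mul_sum, Finset.mul_sum, ← Finset.sum_add_distrib,
      ← Finset.sum_add_distrib]
    apply Finset.sum_congr rfl
    intro j _
    rw [ht j]
    ring
  rw [e, sum_val_eq]
  obtain ⟨s, hs⟩ :=
    g24_doubly_even golayPt_card golayCode golayCode_finrank golayCode_hmin golayCode_horth d hd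
  obtain ⟨r, hr⟩ := even_dot_val d c hd hc
  rw [hs, hr]
  push_cast
  exact ⟨a * s + r + ∑ j, ((d j).val : ℤ) * t j, by ring⟩

end Cfsg.Agent.Lib.Helper94
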