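import Mathlib
import Cfsg.Agent.S0391
import Cfsg.Agent.Lib.Helper95.GolayConcrete
import Cfsg.Agent.Lib.Helper94.LeechShape

/-! The lattice coincides with its generating set; evenness of the lattice. -/

set_option autoImplicit false

namespace Cfsg.Agent.Lib.Helper94

open Cfsg
open Cfsg.Agent.Lib.Helper95
open Cfsg.Agent.S0391 (zmod2_cases val_le_one shape_of_mem shape_normal sum_of_mem sum_val_eq)

/-- Every lattice vector already lies in the generating set. -/
lemma mem_leechSet_of_mem (x : GolayPt → ℤ) (hx : x ∈ leechLattice) : x ∈ leechSet := by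
  obtain ⟨a, c, hc, h⟩ := shape_of_mem x hx
  have hQ := sum_of_mem x hx
  apply mem_leechSet_of_shape x a c hc h
  have hn := h none
  obtain ⟨t, ht⟩ := hQ
  simp only [Int.ModEq] at *
  rcases val_le_one (c none) with h' | h' <;> rw [h'] at hn <;> omega

lemma leechLattice_coe : (leechLattice : Set (GolayPt → ℤ)) = leechSet := by
  ext x
  exact ⟨fun h => mem_leechSet_of_mem x h, fun h => AddSubgroup.subset_closure h⟩

/-- Membership criterion for the lattice. -/
lemma mem_leechLattice_iff (x : GolayPt → ℤ) :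
    x ∈ leechLattice ↔ ∃ (a : ℤ) (c : GolayPt → ZMod 2), c ∈ golayCode ∧
      (∀ i, x i ≡ a + 2 * ((c i).val : ℤ) [ZMOD 4]) ∧ ∑ i, x i ≡ 4 * a [ZMOD 8] := by
  constructor
  · intro hx
    obtain ⟨a, c, hc, h⟩ := shape_of_mem x hx
    refine ⟨a, c, hc, h, ?_⟩
    have hQ := sum_of_mem x hx
    have hn := h none
    obtain ⟨t, ht⟩ := hQ
    simp only [Int.ModEq] at *
    rcases val_le_one (c none) with h' | h' <;> rw [h'] at hn <;> omega
  · rintro ⟨a, c, hc, h, hs⟩
    exact AddSubgroup.subset_closure (mem_leechSet_of_shape x a c hc h hs)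

end Cfsg.Agent.Lib.Helper94
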