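import Mathlib
import Cfsg.Agent.S0391
import Cfsg.Agent.Lib.Helper10.M24Mem
import Cfsg.Agent.Lib.Helper95.GolayConcrete
import Cfsg.Agent.Lib.Helper94.LeechShape
import Cfsg.Agent.Lib.Helper94.LeechMore

/-! Monomial automorphisms of the lattice: coordinate permutations from the code's group and
sign changes on code words, as members of `Cfsg.Co0`. -/

set_option autoImplicit false

namespace Cfsg.Agent.Lib.Helper94

open Cfsg
open Cfsg.Agent.Lib.Helper95
open Cfsg.Agent.Lib.Helper10 (permWord permWord_mem_of_mem_M24)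
open Cfsg.Agent.S0391 (zmod2_cases val_le_one shape_of_mem shape_normal sum_of_mem sum_val_eq)

/-! ### Coordinate permutations -/

/-- Permuting the coordinates of an integer vector. -/
def permVec (σ : Equiv.Perm GolayPt) (x : GolayPt → ℤ) : GolayPt → ℤ := fun i => x (σ.symm i)

lemma permVec_apply (σ : Equiv.Perm GolayPt) (x : GolayPt → ℤ) (i : GolayPt) :
    permVec σ x i = x (σ.symm i) := rfl

lemma permVec_add (σ : Equiv.Perm GolayPt) (x y : GolayPt → ℤ) :
    permVec σ (x + y) = permVec σ x + permVec σ y := rfl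

lemma permVec_symm (σ : Equiv.Perm GolayPt) (x : GolayPt → ℤ) :
    permVec σ.symm (permVec σ x) = x := by
  ext i; simp [permVec]

lemma permVec_symm' (σ : Equiv.Perm GolayPt) (x : GolayPt → ℤ) :
    permVec σ (permVec σ.symm x) = x := by
  ext i; simp [permVec]

lemma sqNorm_permVec (σ : Equiv.Perm GolayPt) (x : GolayPt → ℤ) :
    sqNorm (permVec σ x) = sqNorm x := by
  unfold sqNorm
  exact Equiv.sum_comp σ.symm (fun j => x j ^ 2)

lemma permVec_mem {σ : Equiv.Perm GolayPt} (hσ : σ ∈ M24) (x : GolayPt → ℤ)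
    (hx : x ∈ leechLattice) : permVec σ x ∈ leechLattice := by
  obtain ⟨a, c, hc, h, hs⟩ := (mem_leechLattice_iff x).mp hx
  rw [mem_leechLattice_iff]
  refine ⟨a, permWord σ c, permWord_mem_of_mem_M24 hσ c hc, fun i => h (σ.symm i), ?_⟩
  have : ∑ i, permVec σ x i = ∑ i, x i := Equiv.sum_comp σ.symm x
  rw [this]
  exact hs

/-- A member of the code's group as a permutation of the lattice. -/
def permPerm (σ : Equiv.Perm GolayPt) (hσ : σ ∈ M24) : Equiv.Perm leechLattice where
  toFun v := ⟨permVec σ v.1, permVec_mem hσ v.1 v.2⟩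
  invFun v := ⟨permVec σ.symm v.1, permVec_mem (M24.inv_mem hσ) v.1 v.2⟩
  left_inv v := Subtype.ext (permVec_symm σ v.1)
  right_inv v := Subtype.ext (permVec_symm' σ v.1)

lemma permPerm_mem (σ : Equiv.Perm GolayPt) (hσ : σ ∈ M24) : permPerm σ hσ ∈ Co0 :=
  ⟨fun _ _ => Subtype.ext (permVec_add σ _ _), fun v => sqNorm_permVec σ v.1⟩

/-! ### Sign changes -/

/-- The sign attached to a binary word: `-1` on its support, `1` off it. -/
def sgnOf (d : GolayPt → ZMod 2) (i : GolayPt) : ℤ := 1 - 2 * ((d i).val : ℤ)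

lemma sgnOf_sq (d : GolayPt → ZMod 2) (i : GolayPt) : sgnOf d i * sgnOf d i = 1 := by
  unfold sgnOf
  rcases val_le_one (d i) with h | h <;> rw [h] <;> norm_num

/-- Changing signs on the support of a binary word. -/
def signVec (d : GolayPt → ZMod 2) (x : GolayPt → ℤ) : GolayPt → ℤ := fun i => sgnOf d i * x i

lemma signVec_apply (d : GolayPt → ZMod 2) (x : GolayPt → ℤ) (i : GolayPt) :
    signVec d x i = sgnOf d i * x i := rfl

lemma signVec_add (d : GolayPt → ZMod 2) (x y : GolayPt → ℤ) :
    signVec d (x + y) = signVec d x + signVec d y := by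
  ext i; simp only [signVec_apply, Pi.add_apply]; ring

lemma signVec_signVec (d : GolayPt → ZMod 2) (x : GolayPt → ℤ) :
    signVec d (signVec d x) = x := by
  ext i
  simp only [signVec_apply]
  rw [← mul_assoc, sgnOf_sq, one_mul]

lemma sqNorm_signVec (d : GolayPt → ZMod 2) (x : GolayPt → ℤ) :
    sqNorm (signVec d x) = sqNorm x := by
  unfold sqNorm
  apply Finset.sum_congr rfl
  intro i _
  rw [signVec_apply]
  have := sgnOf_sq d i
  linear_combination (x i ^ 2) * this

lemma sum_signVec (d : GolayPt → ZMod 2) (x : GolayPt → ℤ) :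
    ∑ i, signVec d x i = ∑ j, x j - 2 * ∑ j, ((d j).val : ℤ) * x j := by
  rw [Finset.mul_sum, ← Finset.sum_sub_distrib]
  apply Finset.sum_congr rfl
  intro j _
  rw [signVec_apply]
  unfold sgnOf
  ring

lemma signVec_mem {d : GolayPt → ZMod 2} (hd : d ∈ golayCode) (x : GolayPt → ℤ)
    (hx : x ∈ leechLattice) : signVec d x ∈ leechLattice := by
  have hQ := sum_of_mem x hx
  have hD := four_dvd_dot_code x hx d hd
  have hsum := sum_signVec d x
  rw [mem_leechLattice_iff]
  obtain ⟨c, hc, h | h⟩ := shape_normal x (shape_of_mem x hx)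
  · refine ⟨0, c, hc, fun i => ?_, ?_⟩
    · have hi := h i
      rw [signVec_apply]
      unfold sgnOf
      simp only [Int.ModEq] at *
      rcases val_le_one (d i) with h' | h' <;> rw [h'] <;>
        rcases val_le_one (c i) with h'' | h'' <;> rw [h''] at hi ⊢ <;> omega
    · rw [hsum]
      have hn := h none
      obtain ⟨s, hs⟩ := hD
      obtain ⟨t, ht⟩ := hQ
      simp only [Int.ModEq] at *
      rcases val_le_one (c none) with h' | h' <;> rw [h'] at hn <;> omega
  · refine ⟨1, c + d, golayCode.add_mem hc hd, fun i => ?_, ?_⟩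
    · have hi := h i
      rw [signVec_apply]
      unfold sgnOf
      simp only [Pi.add_apply]
      simp only [Int.ModEq] at *
      rcases zmod2_cases (d i) with h' | h' <;> rw [h'] <;>
        rcases zmod2_cases (c i) with h'' | h'' <;> rw [h''] at hi ⊢ <;>
        simp only [ZMod.val_zero, ZMod.val_one, add_zero, zero_add, Nat.cast_zero, Nat.cast_one,
          show ((1 : ZMod 2) + 1) = 0 from by decide] at hi ⊢ <;> omega
    · rw [hsum]
      have hn := h none
      obtain ⟨s, hs⟩ := hD
      obtain ⟨t, ht⟩ := hQ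
      simp only [Int.ModEq] at *
      rcases val_le_one (c none) with h' | h' <;> rw [h'] at hn <;> omega

/-- Sign change on a code word as a permutation of the lattice. -/
def signPerm (d : GolayPt → ZMod 2) (hd : d ∈ golayCode) : Equiv.Perm leechLattice where
  toFun v := ⟨signVec d v.1, signVec_mem hd v.1 v.2⟩
  invFun v := ⟨signVec d v.1, signVec_mem hd v.1 v.2⟩
  left_inv v := Subtype.ext (signVec_signVec d v.1)
  right_inv v := Subtype.ext (signVec_signVec d v.1)

lemma signPerm_mem (d : GolayPt → ZMod 2) (hd : d ∈ golayCode) : signPerm d hd ∈ Co0 :=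
  ⟨fun _ _ => Subtype.ext (signVec_add d _ _), fun v => sqNorm_signVec d v.1⟩

/-! ### The vectors `8 e_i` -/

/-- The vector with `8` at `i` and `0` elsewhere. -/
def vec8 (i : GolayPt) : GolayPt → ℤ := fun j => if j = i then 8 else 0

lemma vec8_mem (i : GolayPt) : vec8 i ∈ leechLattice := by
  rw [mem_leechLattice_iff]
  refine ⟨0, 0, golayCode.zero_mem, fun j => ?_, ?_⟩
  · unfold vec8
    simp only [Pi.zero_apply, ZMod.val_zero, Nat.cast_zero, mul_zero, add_zero, Int.ModEq]
    split_ifs <;> decide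
  · unfold vec8
    rw [Finset.sum_ite_eq' Finset.univ i (fun _ => (8 : ℤ))]
    simp [Int.ModEq]

/-- `8 e_i` as a lattice element. -/
def E8 (i : GolayPt) : leechLattice := ⟨vec8 i, vec8_mem i⟩

lemma sqNorm_vec8 (i : GolayPt) : sqNorm (vec8 i) = 64 := by
  unfold sqNorm vec8
  have : ∀ j, (if j = i then (8 : ℤ) else 0) ^ 2 = if j = i then 64 else 0 := by
    intro j; split_ifs <;> norm_num
  simp only [this]
  rw [Finset.sum_ite_eq' Finset.univ i (fun _ => (64 : ℤ))]
  simp

/-- `8 v` is the combination of the `8 e_i` with the coordinates of `v` as coefficients. -/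
lemma eight_smul_eq_sum (v : leechLattice) :
    (8 : ℤ) • v = ∑ i, (v.1 i) • E8 i := by
  apply Subtype.ext
  funext j
  rw [AddSubgroup.val_finsetSum, Finset.sum_apply]
  simp only [AddSubgroup.coe_zsmul, Pi.smul_apply, smul_eq_mul, E8, vec8]
  rw [Finset.sum_eq_single j]
  · simp [mul_comm]
  · intro b _ hb
    simp [Ne.symm hb]
  · intro h; exact absurd (Finset.mem_univ j) h

end Cfsg.Agent.Lib.Helper94
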