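import Mathlib
import Cfsg.Agent.S0391
import Cfsg.Agent.Lib.Helper95.GolayConcrete
import Cfsg.Agent.Lib.Helper95.GolayCodeCount
import Cfsg.Agent.Lib.Helper94.LeechShape
import Cfsg.Agent.Lib.Helper94.LeechMore
import Cfsg.Agent.Lib.Helper94.LeechMonomial

/-! Tools for counting lattice vectors of a given sum of squares: vectors with entries in
`{0, a, -a}`, counts of even and odd subsets, counts of code words of weight 8 and 12. -/

set_option autoImplicit false

namespace Cfsg.Agent.Lib.Helper94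

open Cfsg
open Cfsg.Agent.Lib.Helper95
open Cfsg.Agent.S0391 (zmod2_cases val_le_one shape_of_mem shape_normal sum_of_mem sum_val_eq)

/-! ### Vectors with entries in `{0, a, -a}` -/

/-- Entries `-a` on `t`, `a` on `s \ t`, and `0` elsewhere. -/
def pmVec (a : ℤ) (s t : Finset GolayPt) : GolayPt → ℤ :=
  fun i => if i ∈ t then -a else if i ∈ s then a else 0

lemma pmVec_apply (a : ℤ) (s t : Finset GolayPt) (i : GolayPt) :
    pmVec a s t i = if i ∈ t then -a else if i ∈ s then a else 0 := rfl

lemma pmVec_inj {a : ℤ} (ha : a ≠ 0) {s t s' t' : Finset GolayPt} (hts : t ⊆ s) (hts' : t' ⊆ s')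
    (h : pmVec a s t = pmVec a s' t') : s = s' ∧ t = t' := by
  have hna : -a ≠ a := by intro h'; apply ha; omega
  have hi : ∀ i, pmVec a s t i = pmVec a s' t' i := fun i => by rw [h]
  have ht : t = t' := by
    ext i
    have := hi i
    simp only [pmVec_apply] at this
    by_cases h1 : i ∈ t <;> by_cases h2 : i ∈ t' <;> by_cases h3 : i ∈ s <;>
      by_cases h4 : i ∈ s' <;> simp only [h1, h2, h3, h4, if_true, if_false] at this ⊢ <;>
      first
        | exact absurd this hna
        | exact absurd this.symm hna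
        | exact absurd this (neg_ne_zero.mpr ha)
        | exact absurd this.symm (neg_ne_zero.mpr ha)
        | exact absurd (hts h1) h3
        | exact absurd (hts' h2) h4
        | trivial
  refine ⟨?_, ht⟩
  ext i
  have := hi i
  simp only [pmVec_apply] at this
  by_cases h1 : i ∈ t <;> by_cases h2 : i ∈ t' <;> by_cases h3 : i ∈ s <;>
    by_cases h4 : i ∈ s' <;> simp only [h1, h2, h3, h4, if_true, if_false] at this ⊢ <;>
    first
      | exact absurd this hna
      | exact absurd this.symm hna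
      | exact absurd this (neg_ne_zero.mpr ha)
      | exact absurd this.symm (neg_ne_zero.mpr ha)
      | exact absurd this ha
      | exact absurd this.symm ha
      | exact absurd (hts h1) h3
      | exact absurd (hts' h2) h4
      | trivial

/-- A vector all of whose entries lie in `{0, a, -a}` is a `pmVec`. -/
lemma eq_pmVec_of_vals {a : ℤ} (ha : a ≠ 0) (x : GolayPt → ℤ)
    (h : ∀ i, x i = 0 ∨ x i = a ∨ x i = -a) :
    x = pmVec a (Finset.univ.filter fun i => x i ≠ 0) (Finset.univ.filter fun i => x i = -a) ∧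
      (Finset.univ.filter fun i => x i = -a) ⊆ (Finset.univ.filter fun i => x i ≠ 0) := by
  constructor
  · ext i
    simp only [pmVec_apply, Finset.mem_filter, Finset.mem_univ, true_and]
    rcases h i with h' | h' | h'
    · have : ¬ (x i = -a) := by rw [h']; exact fun h'' => ha (by omega)
      simp [h']
    · have : ¬ (x i = -a) := by rw [h']; exact fun h'' => ha (by omega)
      rw [if_neg this, if_pos (by rw [h']; exact ha), h']
    · rw [if_pos h', h']
  · intro i
    simp only [Finset.mem_filter, Finset.mem_univ, true_and]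
    intro h'
    rw [h']
    exact neg_ne_zero.mpr ha

lemma sum_pmVec (a : ℤ) {s t : Finset GolayPt} (hts : t ⊆ s) :
    ∑ i, pmVec a s t i = a * ((s.card : ℤ) - 2 * (t.card : ℤ)) := by
  have h1 : ∀ i, pmVec a s t i = (if i ∈ s then a else 0) - (if i ∈ t then 2 * a else 0) := by
    intro i
    rw [pmVec_apply]
    by_cases h1 : i ∈ t
    · have := hts h1
      simp only [h1, this, if_true]; ring
    · by_cases h3 : i ∈ s <;> simp [h1, h3]
  rw [Finset.sum_congr rfl (fun i _ => h1 i), Finset.sum_sub_distrib]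
  simp only [Finset.sum_ite_mem, Finset.univ_inter, Finset.sum_const, nsmul_eq_mul]
  ring

lemma sqNorm_pmVec (a : ℤ) {s t : Finset GolayPt} (hts : t ⊆ s) :
    sqNorm (pmVec a s t) = a ^ 2 * (s.card : ℤ) := by
  have h1 : ∀ i, pmVec a s t i ^ 2 = (if i ∈ s then a ^ 2 else 0) := by
    intro i
    rw [pmVec_apply]
    by_cases h1 : i ∈ t
    · have := hts h1
      simp only [h1, this, if_true]; ring
    · by_cases h3 : i ∈ s <;> simp [h1, h3]
  unfold sqNorm
  rw [Finset.sum_congr rfl (fun i _ => h1 i)]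
  simp only [Finset.sum_ite_mem, Finset.univ_inter, Finset.sum_const, nsmul_eq_mul]
  ring

/-! ### Even and odd subsets -/

lemma card_even_odd_subsets {α : Type*} [DecidableEq α] (s : Finset α) (hs : s.Nonempty) :
    (s.powerset.filter fun t => Even t.card).card = 2 ^ (s.card - 1) ∧
      (s.powerset.filter fun t => ¬ Even t.card).card = 2 ^ (s.card - 1) := by
  have h0 := Finset.sum_powerset_neg_one_pow_card_of_nonempty hs
  have h1 := Finset.sum_filter_add_sum_filter_not s.powerset (fun t => Even t.card)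
    (fun t => (-1 : ℤ) ^ t.card)
  rw [h0] at h1
  have hE : ∑ t ∈ s.powerset.filter (fun t => Even t.card), (-1 : ℤ) ^ t.card
      = ((s.powerset.filter fun t => Even t.card).card : ℤ) := by
    rw [Finset.sum_congr rfl (g := fun _ => (1 : ℤ))]
    · simp
    · intro t ht
      exact Even.neg_one_pow (Finset.mem_filter.mp ht).2
  have hO : ∑ t ∈ s.powerset.filter (fun t => ¬ Even t.card), (-1 : ℤ) ^ t.card
      = -((s.powerset.filter fun t => ¬ Even t.card).card : ℤ) := by
    rw [Finset.sum_congr rfl (g := fun _ => (-1 : ℤ))]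
    · simp
    · intro t ht
      exact Odd.neg_one_pow (Nat.not_even_iff_odd.mp (Finset.mem_filter.mp ht).2)
  rw [hE, hO] at h1
  have h2 := Finset.card_filter_add_card_filter_not (s := s.powerset) (fun t => Even t.card)
  rw [Finset.card_powerset] at h2
  have hc : 0 < s.card := Finset.card_pos.mpr hs
  have h3 : 2 ^ s.card = 2 * 2 ^ (s.card - 1) := by
    rw [← pow_succ']; congr 1; omega
  omega

/-! ### Finsets of code words -/

open Classical in
/-- Code words of weight `k`, as a finset. -/
noncomputable def codeWords (k : ℕ) : Finset (GolayPt → ZMod 2) :=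
  Finset.univ.filter fun w => w ∈ golayCode ∧ hammingNorm w = k

open Classical in
/-- All code words, as a finset. -/
noncomputable def codeAll : Finset (GolayPt → ZMod 2) :=
  Finset.univ.filter fun w => w ∈ golayCode

lemma mem_codeWords (k : ℕ) (w : GolayPt → ZMod 2) :
    w ∈ codeWords k ↔ w ∈ golayCode ∧ hammingNorm w = k := by
  simp [codeWords]

lemma mem_codeAll (w : GolayPt → ZMod 2) : w ∈ codeAll ↔ w ∈ golayCode := by
  simp [codeAll]

lemma card_codeAll : codeAll.card = 4096 := by
  classical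
  have h := golayCode_card
  rw [← h, Nat.card_eq_fintype_card]
  have : Fintype.card (golayCode : Submodule (ZMod 2) (GolayPt → ZMod 2))
      = Fintype.card {w : GolayPt → ZMod 2 // w ∈ golayCode} := rfl
  rw [this, Fintype.card_subtype]
  unfold codeAll
  congr

lemma card_codeWords_eq (k : ℕ) :
    (codeWords k).card = (Cfsg.wordsOfWeight (golayCode : Set (GolayPt → ZMod 2)) k).ncard := by
  rw [ncard_wordsOfWeight]
  have : {w : GolayPt → ZMod 2 | w ∈ golayCode ∧ hammingNorm w = k} = ↑(codeWords k) := by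
    ext w; simp [mem_codeWords]
  rw [this, Set.ncard_coe_finset]

lemma card_codeWords_eight : (codeWords 8).card = 759 := by
  rw [card_codeWords_eq]
  exact g24_octads_ncard golayPt_card golayCode golayCode_finrank golayCode_hmin

lemma card_codeWords_twelve : (codeWords 12).card = 2576 := by
  rw [card_codeWords_eq]
  exact (g24_dodecads_ncard golayPt_card golayCode golayCode_finrank golayCode_hmin
    golayCode_horth golayCode_one_mem).1

/-- Supports of the code words of weight `k`. -/
noncomputable def codeSupps (k : ℕ) : Finset (Finset GolayPt) := (codeWords k).image bsupp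

lemma card_codeSupps (k : ℕ) : (codeSupps k).card = (codeWords k).card :=
  Finset.card_image_of_injective _ bsupp_injective

lemma mem_codeSupps (k : ℕ) (s : Finset GolayPt) :
    s ∈ codeSupps k ↔ ∃ c ∈ golayCode, hammingNorm c = k ∧ bsupp c = s := by
  simp only [codeSupps, Finset.mem_image, mem_codeWords]
  constructor
  · rintro ⟨c, ⟨h1, h2⟩, h3⟩; exact ⟨c, h1, h2, h3⟩
  · rintro ⟨c, h1, h2, h3⟩; exact ⟨c, ⟨h1, h2⟩, h3⟩

lemma card_of_mem_codeSupps {k : ℕ} {s : Finset GolayPt} (h : s ∈ codeSupps k) : s.card = k := by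
  obtain ⟨c, -, h2, rfl⟩ := (mem_codeSupps k s).mp h
  rw [← hammingNorm_eq_card_bsupp, h2]

/-! ### Counting images of `pmVec` -/

lemma card_image_pmVec {a : ℤ} (ha : a ≠ 0) (F : Finset (Finset GolayPt))
    (P : Finset GolayPt → Prop) [DecidablePred P] (n : ℕ)
    (hn : ∀ s ∈ F, (s.powerset.filter P).card = n) :
    ((F.sigma fun s => s.powerset.filter P).image
      fun p : (Σ _ : Finset GolayPt, Finset GolayPt) => pmVec a p.1 p.2).card = F.card * n := by
  rw [Finset.card_image_of_injOn, Finset.card_sigma, Finset.sum_congr rfl hn, Finset.sum_const,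
    smul_eq_mul]
  rintro ⟨s, t⟩ hp ⟨s', t'⟩ hp' h
  simp only [Finset.coe_sigma, Set.mem_sigma_iff, Finset.mem_coe, Finset.mem_filter,
    Finset.mem_powerset] at hp hp'
  obtain ⟨rfl, rfl⟩ := pmVec_inj ha hp.2.1 hp'.2.1 h
  rfl

lemma mem_image_pmVec {a : ℤ} (F : Finset (Finset GolayPt))
    (P : Finset GolayPt → Prop) [DecidablePred P] (x : GolayPt → ℤ) :
    x ∈ ((F.sigma fun s => s.powerset.filter P).image
      fun p : (Σ _ : Finset GolayPt, Finset GolayPt) => pmVec a p.1 p.2) ↔
      ∃ s t, s ∈ F ∧ t ⊆ s ∧ P t ∧ x = pmVec a s t := by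
  simp only [Finset.mem_image, Finset.mem_sigma, Finset.mem_filter, Finset.mem_powerset]
  constructor
  · rintro ⟨⟨s, t⟩, ⟨h1, h2, h3⟩, h4⟩
    exact ⟨s, t, h1, h2, h3, h4.symm⟩
  · rintro ⟨s, t, h1, h2, h3, h4⟩
    exact ⟨⟨s, t⟩, ⟨h1, h2, h3⟩, h4.symm⟩

/-! ### Lattice membership of the model vectors -/

lemma pmVec_two_mem {c : GolayPt → ZMod 2} (hc : c ∈ golayCode) {t : Finset GolayPt}
    (ht : t ⊆ bsupp c) (h8 : (8 : ℤ) ∣ 2 * ((bsupp c).card : ℤ) - 4 * (t.card : ℤ)) :
    pmVec 2 (bsupp c) t ∈ leechLattice := by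
  rw [mem_leechLattice_iff]
  refine ⟨0, c, hc, fun i => ?_, ?_⟩
  · rw [pmVec_apply]
    by_cases h1 : i ∈ t
    · have h2 := (mem_bsupp c i).mp (ht h1)
      rw [if_pos h1, h2]
      simp only [ZMod.val_one, Nat.cast_one]
      decide
    · rw [if_neg h1]
      by_cases h2 : i ∈ bsupp c
      · rw [if_pos h2, (mem_bsupp c i).mp h2]
        simp only [ZMod.val_one, Nat.cast_one]
        decide
      · rw [if_neg h2, (notMem_bsupp c i).mp h2]
        simp
  · rw [sum_pmVec 2 ht]
    obtain ⟨k, hk⟩ := h8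
    simp only [Int.ModEq]
    omega

lemma pmVec_four_mem {s t : Finset GolayPt} (ht : t ⊆ s) (hs : Even s.card) :
    pmVec 4 s t ∈ leechLattice := by
  rw [mem_leechLattice_iff]
  refine ⟨0, 0, golayCode.zero_mem, fun i => ?_, ?_⟩
  · rw [pmVec_apply]
    simp only [Pi.zero_apply, ZMod.val_zero, Nat.cast_zero, mul_zero, add_zero]
    split_ifs <;> decide
  · rw [sum_pmVec 4 ht]
    obtain ⟨k, hk⟩ := hs
    simp only [Int.ModEq]
    omega

/-! ### Vectors with all entries congruent to `1` modulo `4` -/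

/-- Entry `b` on `s`, and `1` elsewhere. -/
def oneVec (s : Finset GolayPt) (b : ℤ) : GolayPt → ℤ := fun i => if i ∈ s then b else 1

lemma oneVec_apply (s : Finset GolayPt) (b : ℤ) (i : GolayPt) :
    oneVec s b i = if i ∈ s then b else 1 := rfl

lemma oneVec_inj {b : ℤ} (hb : b ≠ 1) {s s' : Finset GolayPt} (h : oneVec s b = oneVec s' b) :
    s = s' := by
  ext i
  have := congrFun h i
  simp only [oneVec_apply] at this
  by_cases h1 : i ∈ s <;> by_cases h2 : i ∈ s' <;> simp only [h1, h2, if_true, if_false] at this ⊢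
  · exact absurd this hb
  · exact absurd this.symm hb

lemma sum_oneVec (s : Finset GolayPt) (b : ℤ) :
    ∑ i, oneVec s b i = 24 + (b - 1) * (s.card : ℤ) := by
  have h1 : ∀ i, oneVec s b i = 1 + (if i ∈ s then b - 1 else 0) := by
    intro i; rw [oneVec_apply]; split_ifs <;> ring
  rw [Finset.sum_congr rfl (fun i _ => h1 i), Finset.sum_add_distrib]
  simp only [Finset.sum_ite_mem, Finset.univ_inter, Finset.sum_const, nsmul_eq_mul,
    Finset.card_univ, golayPt_card]
  ring

lemma sqNorm_oneVec (s : Finset GolayPt) (b : ℤ) :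
    sqNorm (oneVec s b) = 24 + (b ^ 2 - 1) * (s.card : ℤ) := by
  have h1 : ∀ i, oneVec s b i ^ 2 = 1 + (if i ∈ s then b ^ 2 - 1 else 0) := by
    intro i; rw [oneVec_apply]; split_ifs <;> ring
  unfold sqNorm
  rw [Finset.sum_congr rfl (fun i _ => h1 i), Finset.sum_add_distrib]
  simp only [Finset.sum_ite_mem, Finset.univ_inter, Finset.sum_const, nsmul_eq_mul,
    Finset.card_univ, golayPt_card]
  ring

lemma oneVec_mod (s : Finset GolayPt) {b : ℤ} (hb : b ≡ 1 [ZMOD 4]) (i : GolayPt) :
    oneVec s b i ≡ 1 [ZMOD 4] := by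
  rw [oneVec_apply]; split_ifs
  · exact hb
  · rfl

/-- A vector with all entries `≡ 1 (mod 4)` lies in the lattice iff its sum is `≡ 4 (mod 8)`. -/
lemma mem_of_one_mod_four (u : GolayPt → ℤ) (h : ∀ i, u i ≡ 1 [ZMOD 4])
    (hs : ∑ i, u i ≡ 4 [ZMOD 8]) : u ∈ leechLattice := by
  rw [mem_leechLattice_iff]
  refine ⟨1, 0, golayCode.zero_mem, fun i => ?_, ?_⟩
  · simpa using h i
  · simpa using hs

lemma signVec_inj_of_one_mod_four {c c' : GolayPt → ZMod 2} {u u' : GolayPt → ℤ}
    (hu : ∀ i, u i ≡ 1 [ZMOD 4]) (hu' : ∀ i, u' i ≡ 1 [ZMOD 4])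
    (h : signVec c u = signVec c' u') : c = c' ∧ u = u' := by
  have key : ∀ i, c i = c' i ∧ u i = u' i := by
    intro i
    have h1 := congrFun h i
    have h2 := hu i
    have h3 := hu' i
    simp only [signVec_apply, sgnOf, Int.ModEq] at h1 h2 h3
    rcases zmod2_cases (c i) with hc | hc <;> rcases zmod2_cases (c' i) with hc' | hc' <;>
      rw [hc, hc'] at h1 ⊢ <;>
      simp only [ZMod.val_zero, ZMod.val_one, Nat.cast_zero, Nat.cast_one] at h1 <;>
      refine ⟨?_, ?_⟩ <;> first | rfl | omega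
  exact ⟨funext fun i => (key i).1, funext fun i => (key i).2⟩

/-- Every lattice vector with odd entries is a sign change, on a code word, of a lattice vector
with all entries `≡ 1 (mod 4)`. -/
lemma odd_decomp (x : GolayPt → ℤ) (hx : x ∈ leechLattice) (c : GolayPt → ZMod 2)
    (hc : c ∈ golayCode) (h : ∀ i, x i ≡ 1 + 2 * ((c i).val : ℤ) [ZMOD 4]) :
    ∃ u : GolayPt → ℤ, (∀ i, u i ≡ 1 [ZMOD 4]) ∧ u ∈ leechLattice ∧ sqNorm u = sqNorm x ∧
      x = signVec c u := by
  refine ⟨signVec c x, fun i => ?_, signVec_mem hc x hx, sqNorm_signVec c x,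
    (signVec_signVec c x).symm⟩
  have := h i
  simp only [signVec_apply, sgnOf, Int.ModEq] at this ⊢
  rcases val_le_one (c i) with h' | h' <;> rw [h'] at this ⊢ <;> omega

/-- Entries of a vector with all entries `≡ 1 (mod 4)` and small sum of squares. -/
lemma base_vals (u : GolayPt → ℤ) (hu : ∀ i, u i ≡ 1 [ZMOD 4]) (hn : sqNorm u < 72) :
    (∀ i, u i = 1 ∨ u i = -3 ∨ u i = 5) ∧
      sqNorm u = 24 + 8 * ((Finset.univ.filter fun i => u i = -3).card : ℤ)
        + 24 * ((Finset.univ.filter fun i => u i = 5).card : ℤ) := by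
  have hcard : (Finset.univ : Finset GolayPt).card = 24 := by
    rw [Finset.card_univ]; exact golayPt_card
  have hsq1 : ∀ i, 1 ≤ u i ^ 2 := by
    intro i
    have h0 : u i ≠ 0 := by
      intro h0
      have := hu i
      rw [h0] at this
      simp only [Int.ModEq] at this
      omega
    have : 0 < u i ^ 2 := by positivity
    linarith
  have hvals : ∀ i, u i = 1 ∨ u i = -3 ∨ u i = 5 := by
    intro j
    have h1 : u j ^ 2 - 1 ≤ ∑ i, (u i ^ 2 - 1) :=
      Finset.single_le_sum (f := fun i => u i ^ 2 - 1)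
        (fun i _ => by have := hsq1 i; linarith) (Finset.mem_univ j)
    rw [Finset.sum_sub_distrib, Finset.sum_const, hcard] at h1
    unfold sqNorm at hn
    simp only [nsmul_eq_mul, Nat.cast_ofNat, mul_one] at h1
    have h49 : u j ^ 2 < 49 := by linarith
    have hlo : -7 < u j := by nlinarith
    have hhi : u j < 7 := by nlinarith
    have := hu j
    simp only [Int.ModEq] at this
    omega
  refine ⟨hvals, ?_⟩
  have h1 : ∀ i, u i ^ 2 = 1 + ((if u i = -3 then 8 else 0) + (if u i = 5 then 24 else 0)) := by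
    intro i
    rcases hvals i with h | h | h <;> rw [h] <;> norm_num
  unfold sqNorm
  rw [Finset.sum_congr rfl (fun i _ => h1 i), Finset.sum_add_distrib, Finset.sum_add_distrib,
    Finset.sum_const, hcard, ← Finset.sum_filter, ← Finset.sum_filter, Finset.sum_const,
    Finset.sum_const]
  simp only [nsmul_eq_mul, mul_one, Nat.cast_ofNat]
  ring

/-! ### Counting images under sign changes -/

lemma card_image_signVec (U : Finset (GolayPt → ℤ)) (hU : ∀ u ∈ U, ∀ i, u i ≡ 1 [ZMOD 4]) :
    ((U ×ˢ codeAll).image fun p : (GolayPt → ℤ) × (GolayPt → ZMod 2) => signVec p.2 p.1).card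
      = U.card * 4096 := by
  rw [Finset.card_image_of_injOn, Finset.card_product, card_codeAll]
  rintro ⟨u, c⟩ hp ⟨u', c'⟩ hp' h
  simp only [Finset.coe_product, Set.mem_prod, Finset.mem_coe] at hp hp'
  obtain ⟨rfl, rfl⟩ := signVec_inj_of_one_mod_four (hU u hp.1) (hU u' hp'.1) h
  rfl

lemma mem_image_signVec (U : Finset (GolayPt → ℤ)) (x : GolayPt → ℤ) :
    x ∈ ((U ×ˢ codeAll).image fun p : (GolayPt → ℤ) × (GolayPt → ZMod 2) => signVec p.2 p.1) ↔
      ∃ u ∈ U, ∃ c ∈ golayCode, x = signVec c u := by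
  simp only [Finset.mem_image, Finset.mem_product, mem_codeAll]
  constructor
  · rintro ⟨⟨u, c⟩, ⟨h1, h2⟩, h3⟩
    exact ⟨u, h1, c, h2, h3.symm⟩
  · rintro ⟨u, h1, c, h2, h3⟩
    exact ⟨⟨u, c⟩, ⟨h1, h2⟩, h3.symm⟩

/-- The base vectors `oneVec s b` with `s` of cardinality `k`. -/
@[irreducible] noncomputable def oneVecs (k : ℕ) (b : ℤ) : Finset (GolayPt → ℤ) :=
  ((Finset.univ : Finset GolayPt).powersetCard k).image fun s => oneVec s b

lemma card_oneVecs (k : ℕ) {b : ℤ} (hb : b ≠ 1) : (oneVecs k b).card = Nat.choose 24 k := by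
  unfold oneVecs
  rw [Finset.card_image_of_injective _ (fun s s' h => oneVec_inj hb h), Finset.card_powersetCard,
    Finset.card_univ, golayPt_card]

lemma mem_oneVecs (k : ℕ) (b : ℤ) (u : GolayPt → ℤ) :
    u ∈ oneVecs k b ↔ ∃ s : Finset GolayPt, s.card = k ∧ u = oneVec s b := by
  simp only [oneVecs, Finset.mem_image, Finset.mem_powersetCard, Finset.subset_univ, true_and]
  constructor
  · rintro ⟨s, h1, h2⟩; exact ⟨s, h1, h2.symm⟩
  · rintro ⟨s, h1, h2⟩; exact ⟨s, h1, h2.symm⟩

end Cfsg.Agent.Lib.Helper94
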