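import Mathlib
import Cfsg.Prelude.Def_Sporadic_a

set_option autoImplicit false

namespace Cfsg.Agent.Lib.Helper94

open Cfsg

theorem sqNorm_two_smul (z : GolayPt → ℤ) : sqNorm (2 • z) = 4 * sqNorm z := by
  unfold sqNorm
  rw [Finset.mul_sum]
  apply Finset.sum_congr rfl
  intro i _
  simp only [Pi.smul_apply, smul_eq_mul]
  ring

theorem sqNorm_sub (x y : GolayPt → ℤ) : sqNorm (x - y) = sqNorm x + sqNorm y - 2 * dotInt x y := by
  unfold sqNorm dotInt
  rw [Finset.mul_sum, ← Finset.sum_add_distrib, ← Finset.sum_sub_distrib]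
  apply Finset.sum_congr rfl
  intro i _
  simp only [Pi.sub_apply]
  ring

theorem sqNorm_add (x y : GolayPt → ℤ) : sqNorm (x + y) = sqNorm x + sqNorm y + 2 * dotInt x y := by
  unfold sqNorm dotInt
  rw [Finset.mul_sum, ← Finset.sum_add_distrib, ← Finset.sum_add_distrib]
  apply Finset.sum_congr rfl
  intro i _
  simp only [Pi.add_apply]
  ring

/-- Parallelogram argument for short vectors congruent modulo twice the lattice. -/
theorem short_congruent
    (hmin : ∀ x : GolayPt → ℤ, x ∈ leechLattice → x ≠ 0 → 32 ≤ sqNorm x)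
    (x y : GolayPt → ℤ) (hy : y ∈ leechLattice)
    (hne : x ≠ y) (hne' : x ≠ -y) (hxn : sqNorm x ≤ 64) (hyn : sqNorm y ≤ 64)
    (hc : ∃ z ∈ leechLattice, x - y = 2 • z) :
    sqNorm x = 64 ∧ sqNorm y = 64 ∧ dotInt x y = 0 := by
  obtain ⟨z, hz, hxy⟩ := hc
  have hz0 : z ≠ 0 := by
    rintro rfl
    apply hne
    have : x - y = 0 := by rw [hxy]; simp
    exact sub_eq_zero.mp this
  have hzy : z + y ∈ leechLattice := leechLattice.add_mem hz hy
  have hxy' : x + y = 2 • (z + y) := by
    have : x + y = (x - y) + 2 • y := by rw [two_smul]; abel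
    rw [this, hxy, smul_add]
  have hzy0 : z + y ≠ 0 := by
    intro h
    apply hne'
    have : x + y = 0 := by rw [hxy', h]; simp
    exact eq_neg_of_add_eq_zero_left this
  have h1 : 32 ≤ sqNorm z := hmin z hz hz0
  have h2 : 32 ≤ sqNorm (z + y) := hmin _ hzy hzy0
  have h3 : sqNorm (x - y) = 4 * sqNorm z := by rw [hxy, sqNorm_two_smul]
  have h4 : sqNorm (x + y) = 4 * sqNorm (z + y) := by rw [hxy', sqNorm_two_smul]
  rw [sqNorm_sub] at h3
  rw [sqNorm_add] at h4
  refine ⟨by omega, by omega, by omega⟩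

end Cfsg.Agent.Lib.Helper94
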