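import Mathlib
import Cfsg.Agent.S0393
import Cfsg.Agent.S5592
import Cfsg.Agent.S5551

/-! The lattice modulo twice the lattice: it has `2^24` classes. -/

set_option autoImplicit false

namespace Cfsg.Agent.Lib.Helper94

open Cfsg
open Cfsg.Agent.Lib.Helper95

/-- Doubling, as an additive map. -/
def dbl : (GolayPt → ℤ) →+ (GolayPt → ℤ) where
  toFun y := 2 • y
  map_zero' := by simp
  map_add' y z := by simp [smul_add]

lemma dbl_apply (y : GolayPt → ℤ) : dbl y = 2 • y := rfl

lemma dbl_inj : Function.Injective dbl := by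
  intro y z h
  ext i
  have := congrFun h i
  simp only [dbl_apply, Pi.smul_apply, nsmul_eq_mul, Nat.cast_ofNat] at this
  omega

lemma range_dbl : dbl.range = Cfsg.Agent.S0393.red2.ker := by
  ext x
  simp only [AddMonoidHom.mem_range, AddMonoidHom.mem_ker]
  constructor
  · rintro ⟨y, rfl⟩
    ext i
    rw [Cfsg.Agent.S0393.red2_apply, dbl_apply]
    simp only [Pi.smul_apply, nsmul_eq_mul, Nat.cast_ofNat, Pi.zero_apply]
    push_cast
    have : (2 : ZMod 2) = 0 := by decide
    rw [this, zero_mul]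
  · intro h
    have h2 : ∀ i, (2 : ℤ) ∣ x i := by
      intro i
      have := congrFun h i
      rw [Cfsg.Agent.S0393.red2_apply] at this
      simp only [Pi.zero_apply] at this
      exact (ZMod.intCast_zmod_eq_zero_iff_dvd (x i) 2).mp this
    refine ⟨fun i => x i / 2, ?_⟩
    ext i
    rw [dbl_apply]
    simp only [Pi.smul_apply, nsmul_eq_mul, Nat.cast_ofNat]
    obtain ⟨k, hk⟩ := h2 i
    omega

lemma range_dbl_index : dbl.range.index = 2 ^ 24 := by
  rw [range_dbl, AddSubgroup.index_ker,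
    AddMonoidHom.range_eq_top.mpr Cfsg.Agent.S0393.red2_surj]
  rw [Nat.card_congr (AddSubgroup.topEquiv (G := GolayPt → ZMod 2)).toEquiv,
    Nat.card_eq_fintype_card, Fintype.card_fun, ZMod.card, golayPt_card]

/-- Twice the lattice. -/
def twoL : AddSubgroup (GolayPt → ℤ) := leechLattice.map dbl

lemma mem_twoL (x : GolayPt → ℤ) : x ∈ twoL ↔ ∃ z ∈ leechLattice, x = 2 • z := by
  unfold twoL
  rw [AddSubgroup.mem_map]
  constructor
  · rintro ⟨z, hz, rfl⟩; exact ⟨z, hz, rfl⟩
  · rintro ⟨z, hz, rfl⟩; exact ⟨z, hz, rfl⟩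

lemma twoL_le : twoL ≤ leechLattice := by
  intro x hx
  obtain ⟨z, hz, rfl⟩ := (mem_twoL x).mp hx
  rw [two_smul]
  exact leechLattice.add_mem hz hz

lemma twoL_index : twoL.index = 2 ^ 36 * 2 ^ 24 := by
  unfold twoL
  have h := AddSubgroup.index_map_of_injective (H := leechLattice) dbl_inj
  rw [h, Cfsg.Agent.S0393.result, range_dbl_index]

lemma twoL_relIndex : twoL.relIndex leechLattice = 2 ^ 24 := by
  have h := AddSubgroup.relIndex_mul_index twoL_le
  rw [twoL_index, Cfsg.Agent.S0393.result] at h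
  have : twoL.relIndex leechLattice * 2 ^ 36 = 2 ^ 24 * 2 ^ 36 := by rw [h]; ring
  exact Nat.eq_of_mul_eq_mul_right (by norm_num) this

/-- The lattice modulo twice the lattice. -/
abbrev Qm : Type := leechLattice ⧸ (twoL.addSubgroupOf leechLattice)

lemma card_Qm : Nat.card Qm = 2 ^ 24 := twoL_relIndex

instance : Finite Qm := Nat.finite_of_card_ne_zero (by rw [card_Qm]; norm_num)

/-- The class of a vector (zero for vectors outside the lattice). -/
noncomputable def cls (x : GolayPt → ℤ) : Qm := by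
  classical
  exact if h : x ∈ leechLattice then QuotientAddGroup.mk ⟨x, h⟩ else 0

lemma cls_of_mem {x : GolayPt → ℤ} (h : x ∈ leechLattice) :
    cls x = QuotientAddGroup.mk ⟨x, h⟩ := by
  unfold cls
  rw [dif_pos h]

lemma cls_eq_iff {x y : GolayPt → ℤ} (hx : x ∈ leechLattice) (hy : y ∈ leechLattice) :
    cls x = cls y ↔ ∃ z ∈ leechLattice, x - y = 2 • z := by
  rw [cls_of_mem hx, cls_of_mem hy, QuotientAddGroup.eq, AddSubgroup.mem_addSubgroupOf]
  simp only [AddSubgroup.coe_add, NegMemClass.coe_neg]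
  rw [mem_twoL]
  constructor
  · rintro ⟨z, hz, h⟩
    refine ⟨-z, leechLattice.neg_mem hz, ?_⟩
    rw [smul_neg, ← h]
    abel
  · rintro ⟨z, hz, h⟩
    refine ⟨-z, leechLattice.neg_mem hz, ?_⟩
    rw [smul_neg, ← h]
    abel

lemma cls_surj (q : Qm) : ∃ x ∈ leechLattice, cls x = q := by
  obtain ⟨⟨x, hx⟩, rfl⟩ := QuotientAddGroup.mk_surjective q
  exact ⟨x, hx, cls_of_mem hx⟩

end Cfsg.Agent.Lib.Helper94
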