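import Mathlib
import Cfsg.Agent.Lib.Helper94.LeechMod2

/-! Bounds on sets of pairwise orthogonal (up to sign) integer vectors. -/

set_option autoImplicit false

namespace Cfsg.Agent.Lib.Helper94

open Cfsg
open Cfsg.Agent.Lib.Helper95
open scoped InnerProductSpace

/-- Integer vectors as points of Euclidean space. -/
noncomputable def toE (y : GolayPt → ℤ) : EuclideanSpace ℝ GolayPt :=
  WithLp.toLp 2 (fun i => (y i : ℝ))

lemma inner_toE (x y : GolayPt → ℤ) : ⟪toE x, toE y⟫_ℝ = ((dotInt x y : ℤ) : ℝ) := by
  unfold toE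
  rw [EuclideanSpace.inner_toLp_toLp]
  unfold dotInt dotProduct
  push_cast
  apply Finset.sum_congr rfl
  intro i _
  simp [mul_comm]

lemma dotInt_self (y : GolayPt → ℤ) : dotInt y y = sqNorm y := by
  unfold dotInt sqNorm
  apply Finset.sum_congr rfl
  intro i _
  ring

lemma toE_ne_zero {y : GolayPt → ℤ} (h : sqNorm y ≠ 0) : toE y ≠ 0 := by
  intro h0
  have := inner_toE y y
  rw [h0, inner_zero_left, dotInt_self] at this
  exact h (by exact_mod_cast this.symm)

lemma ortho_card_le (R : Finset (GolayPt → ℤ)) (hn : ∀ y ∈ R, sqNorm y ≠ 0)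
    (ho : ∀ y ∈ R, ∀ y' ∈ R, y ≠ y' → dotInt y y' = 0) : R.card ≤ 24 := by
  have hli : LinearIndependent ℝ (fun y : R => toE y.1) := by
    apply linearIndependent_of_ne_zero_of_inner_eq_zero
    · intro y
      exact toE_ne_zero (hn y.1 y.2)
    · intro y y' hyy'
      show ⟪toE y.1, toE y'.1⟫_ℝ = 0
      rw [inner_toE, ho y.1 y.2 y'.1 y'.2 (fun h => hyy' (Subtype.ext h))]
      simp
  have := hli.fintype_card_le_finrank
  rw [finrank_euclideanSpace, golayPt_card, Fintype.card_coe] at this
  exact this

lemma dotInt_neg_left' (x y : GolayPt → ℤ) : dotInt (-x) y = -dotInt x y := by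
  unfold dotInt
  simp [Finset.sum_neg_distrib]

lemma dotInt_neg_right' (x y : GolayPt → ℤ) : dotInt x (-y) = -dotInt x y := by
  unfold dotInt
  simp [Finset.sum_neg_distrib]

lemma sqNorm_neg' (x : GolayPt → ℤ) : sqNorm (-x) = sqNorm x := by
  unfold sqNorm
  simp

/-- The relation "equal up to sign". -/
def pmSetoid : Setoid (GolayPt → ℤ) where
  r y y' := y' = y ∨ y' = -y
  iseqv := by
    refine ⟨fun y => Or.inl rfl, ?_, ?_⟩
    · rintro y y' (h | h)
      · exact Or.inl h.symm
      · right; rw [h]; simp
    · rintro y y' y'' (h | h) (h' | h')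
      · left; rw [h', h]
      · right; rw [h', h]
      · right; rw [h', h]
      · left; rw [h', h]; simp

/-- A representative of a vector up to sign. -/
noncomputable def pmRep (y : GolayPt → ℤ) : GolayPt → ℤ := (Quotient.mk pmSetoid y).out

lemma pmRep_spec (y : GolayPt → ℤ) : y = pmRep y ∨ y = -pmRep y := by
  have h : pmSetoid.r (pmRep y) y := Quotient.mk_out (s := pmSetoid) y
  exact h

lemma pmRep_eq {y y' : GolayPt → ℤ} (h : y' = y ∨ y' = -y) : pmRep y = pmRep y' := by
  unfold pmRep
  congr 1
  exact Quotient.sound (s := pmSetoid) h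

/-- A set of nonzero vectors any two of which are equal, opposite or orthogonal has at most 48
members. -/
lemma frame_card_le (T : Finset (GolayPt → ℤ)) (hn : ∀ y ∈ T, sqNorm y ≠ 0)
    (ho : ∀ y ∈ T, ∀ y' ∈ T, y' = y ∨ y' = -y ∨ dotInt y y' = 0) : T.card ≤ 48 := by
  classical
  have h1 : T.card ≤ 2 * (T.image pmRep).card := by
    apply Finset.card_le_mul_card_image
    intro b _
    have hsub : T.filter (fun y => pmRep y = b) ⊆ {b, -b} := by
      intro y hy
      rw [Finset.mem_filter] at hy
      rw [Finset.mem_insert, Finset.mem_singleton, ← hy.2]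
      exact pmRep_spec y
    exact (Finset.card_le_card hsub).trans Finset.card_le_two
  have h2 : (T.image pmRep).card ≤ 24 := by
    apply ortho_card_le
    · intro r hr
      obtain ⟨y, hy, rfl⟩ := Finset.mem_image.mp hr
      rcases pmRep_spec y with h | h
      · rw [← h]; exact hn y hy
      · have := hn y hy
        rw [h, sqNorm_neg'] at this
        exact this
    · intro r hr r' hr' hrr'
      obtain ⟨y, hy, rfl⟩ := Finset.mem_image.mp hr
      obtain ⟨y', hy', rfl⟩ := Finset.mem_image.mp hr'
      have hne : ¬ (y' = y ∨ y' = -y) := fun h => hrr' (pmRep_eq h)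
      have h0 : dotInt y y' = 0 := by
        rcases ho y hy y' hy' with h | h | h
        · exact absurd (Or.inl h) hne
        · exact absurd (Or.inr h) hne
        · exact h
      have key : ∀ (a b r r' : GolayPt → ℤ), (a = r ∨ a = -r) → (b = r' ∨ b = -r') →
          dotInt a b = 0 → dotInt r r' = 0 := by
        rintro a b r r' (rfl | rfl) (rfl | rfl) h
        · exact h
        · rwa [dotInt_neg_right', neg_eq_zero] at h
        · rwa [dotInt_neg_left', neg_eq_zero] at h
        · rwa [dotInt_neg_left', dotInt_neg_right', neg_neg] at h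
      exact key y y' _ _ (pmRep_spec y) (pmRep_spec y') h0
  omega

end Cfsg.Agent.Lib.Helper94
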