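import Mathlib
import Cfsg.Agent.Lib.Helper94.LeechShort
import Cfsg.Agent.Lib.Helper94.LeechMonomial
import Cfsg.Agent.Lib.Helper94.LeechCount
import Cfsg.Agent.Lib.Helper94.LeechFrame
import Cfsg.Agent.S0392

/-! Bilinearity of the coordinate inner product, its invariance under lattice automorphisms, and
the lattice vectors with two nonzero entries `±4`. -/

set_option autoImplicit false

namespace Cfsg.Agent.Lib.Helper94

open Cfsg

lemma dotInt_comm' (x y : GolayPt → ℤ) : dotInt x y = dotInt y x := by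
  unfold dotInt
  exact Finset.sum_congr rfl (fun i _ => mul_comm _ _)

lemma dotInt_add_right' (x y z : GolayPt → ℤ) : dotInt x (y + z) = dotInt x y + dotInt x z := by
  unfold dotInt
  rw [← Finset.sum_add_distrib]
  exact Finset.sum_congr rfl (fun i _ => by simp only [Pi.add_apply]; ring)

lemma dotInt_sub_right' (x y z : GolayPt → ℤ) : dotInt x (y - z) = dotInt x y - dotInt x z := by
  unfold dotInt
  rw [← Finset.sum_sub_distrib]
  exact Finset.sum_congr rfl (fun i _ => by simp only [Pi.sub_apply]; ring)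

lemma dotInt_add_left' (x y z : GolayPt → ℤ) : dotInt (x + y) z = dotInt x z + dotInt y z := by
  rw [dotInt_comm', dotInt_add_right', dotInt_comm' z x, dotInt_comm' z y]

lemma dotInt_sub_left' (x y z : GolayPt → ℤ) : dotInt (x - y) z = dotInt x z - dotInt y z := by
  rw [dotInt_comm', dotInt_sub_right', dotInt_comm' z x, dotInt_comm' z y]

lemma dotInt_smul_right' (c : ℤ) (x y : GolayPt → ℤ) : dotInt x (c • y) = c * dotInt x y := by
  unfold dotInt
  rw [Finset.mul_sum]
  exact Finset.sum_congr rfl (fun i _ => by simp only [Pi.smul_apply, smul_eq_mul]; ring)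

lemma dotInt_smul_left' (c : ℤ) (x y : GolayPt → ℤ) : dotInt (c • x) y = c * dotInt x y := by
  rw [dotInt_comm', dotInt_smul_right', dotInt_comm']

lemma dotInt_single_right (x : GolayPt → ℤ) (i : GolayPt) (c : ℤ) :
    dotInt x (Pi.single i c) = x i * c := by
  unfold dotInt
  rw [Finset.sum_eq_single i]
  · rw [Pi.single_eq_same]
  · intro j _ hj
    rw [Pi.single_eq_of_ne hj]; ring
  · intro h; exact absurd (Finset.mem_univ i) h

lemma vec8_eq_single' (i : GolayPt) : vec8 i = Pi.single i 8 := by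
  ext j
  unfold vec8
  rw [Pi.single_apply]

lemma dotInt_vec8 (x : GolayPt → ℤ) (i : GolayPt) : dotInt x (vec8 i) = x i * 8 := by
  rw [vec8_eq_single', dotInt_single_right]

/-- Automorphisms preserve the inner product. -/
theorem co0_dot (g : Equiv.Perm leechLattice) (hg : g ∈ Co0) (v w : leechLattice) :
    dotInt ((g v : leechLattice) : GolayPt → ℤ) ((g w : leechLattice) : GolayPt → ℤ) =
      dotInt (v : GolayPt → ℤ) (w : GolayPt → ℤ) := by
  have h1 := sqNorm_add (v : GolayPt → ℤ) (w : GolayPt → ℤ)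
  have h2 := sqNorm_add ((g v : leechLattice) : GolayPt → ℤ)
    ((g w : leechLattice) : GolayPt → ℤ)
  have h3 : ((g v : leechLattice) : GolayPt → ℤ) + ((g w : leechLattice) : GolayPt → ℤ) =
      ((g (v + w) : leechLattice) : GolayPt → ℤ) := by
    rw [hg.1 v w]; rfl
  have h4 : ((v : GolayPt → ℤ) + (w : GolayPt → ℤ)) = ((v + w : leechLattice) : GolayPt → ℤ) := rfl
  rw [h3, hg.2, hg.2, hg.2] at h2
  rw [h4] at h1
  linarith

/-- An automorphism as an additive map. -/
def co0Hom (g : Equiv.Perm leechLattice) (hg : g ∈ Co0) : leechLattice →+ leechLattice :=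
  AddMonoidHom.mk' g hg.1

lemma co0Hom_apply (g : Equiv.Perm leechLattice) (hg : g ∈ Co0) (v : leechLattice) :
    co0Hom g hg v = g v := rfl

lemma co0_neg (g : Equiv.Perm leechLattice) (hg : g ∈ Co0) (v : leechLattice) :
    g (-v) = -g v := (co0Hom g hg).map_neg v

lemma co0_zero (g : Equiv.Perm leechLattice) (hg : g ∈ Co0) : g 0 = 0 := (co0Hom g hg).map_zero

lemma co0_sub (g : Equiv.Perm leechLattice) (hg : g ∈ Co0) (v w : leechLattice) :
    g (v - w) = g v - g w := (co0Hom g hg).map_sub v w

/-- Inner products of lattice vectors are multiples of `8`. -/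
lemma eight_dvd_dot {x y : GolayPt → ℤ} (hx : x ∈ leechLattice) (hy : y ∈ leechLattice) :
    (8 : ℤ) ∣ dotInt x y := by
  have h1 := sqNorm_add x y
  obtain ⟨a, ha⟩ := Cfsg.Agent.S0392.result x hx
  obtain ⟨b, hb⟩ := Cfsg.Agent.S0392.result y hy
  obtain ⟨c, hc⟩ := Cfsg.Agent.S0392.result (x + y) (leechLattice.add_mem hx hy)
  exact ⟨c - a - b, by linarith⟩

/-- A vector with entries divisible by `4` and sum divisible by `8` lies in the lattice. -/
lemma mem_of_four_dvd (x : GolayPt → ℤ) (h4 : ∀ i, (4 : ℤ) ∣ x i) (h8 : (8 : ℤ) ∣ ∑ i, x i) :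
    x ∈ leechLattice := by
  rw [mem_leechLattice_iff]
  refine ⟨0, 0, golayCode.zero_mem, fun i => ?_, ?_⟩
  · simp only [Pi.zero_apply, ZMod.val_zero, Nat.cast_zero, mul_zero, add_zero]
    exact Int.modEq_zero_iff_dvd.mpr (h4 i)
  · simp only [mul_zero]
    exact Int.modEq_zero_iff_dvd.mpr h8

/-- The vector with `4` at `i` and `s` at `j`. -/
def twoVec (i j : GolayPt) (s : ℤ) : GolayPt → ℤ := Pi.single i 4 + Pi.single j s

lemma twoVec_mem {i j : GolayPt} {s : ℤ} (hs : s = 4 ∨ s = -4) : twoVec i j s ∈ leechLattice := by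
  apply mem_of_four_dvd
  · intro p
    unfold twoVec
    simp only [Pi.add_apply, Pi.single_apply]
    rcases hs with rfl | rfl <;> split_ifs <;> norm_num
  · unfold twoVec
    simp only [Pi.add_apply, Finset.sum_add_distrib, Finset.sum_pi_single', Finset.mem_univ,
      if_true]
    rcases hs with rfl | rfl <;> norm_num

lemma dotInt_twoVec (x : GolayPt → ℤ) (i j : GolayPt) (s : ℤ) :
    dotInt x (twoVec i j s) = x i * 4 + x j * s := by
  unfold twoVec
  rw [dotInt_add_right', dotInt_single_right, dotInt_single_right]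

lemma twoVec_apply_left {i j : GolayPt} (hij : i ≠ j) (s : ℤ) : twoVec i j s i = 4 := by
  unfold twoVec
  simp [Pi.single_apply, hij]

lemma twoVec_apply_right {i j : GolayPt} (hij : i ≠ j) (s : ℤ) : twoVec i j s j = s := by
  unfold twoVec
  simp [Pi.single_apply, hij.symm]

lemma sqNorm_twoVec {i j : GolayPt} (hij : i ≠ j) {s : ℤ} (hs : s = 4 ∨ s = -4) :
    sqNorm (twoVec i j s) = 32 := by
  rw [← dotInt_self, dotInt_twoVec, twoVec_apply_left hij, twoVec_apply_right hij]
  rcases hs with rfl | rfl <;> norm_num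

lemma twoVec_add (i j : GolayPt) : twoVec i j 4 + twoVec i j (-4) = vec8 i := by
  rw [vec8_eq_single']
  unfold twoVec
  ext p
  simp only [Pi.add_apply, Pi.single_apply]
  split_ifs <;> norm_num

lemma twoVec_sub (i j : GolayPt) : twoVec i j 4 - twoVec i j (-4) = vec8 j := by
  rw [vec8_eq_single']
  unfold twoVec
  ext p
  simp only [Pi.add_apply, Pi.sub_apply, Pi.single_apply]
  split_ifs <;> norm_num

end Cfsg.Agent.Lib.Helper94
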