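import Mathlib
import Cfsg.Agent.Lib.Helper94.LeechCount

/-! More counting tools: vectors with entries `±2` on a code word and `±4` on a disjoint set. -/

set_option autoImplicit false

namespace Cfsg.Agent.Lib.Helper94

open Cfsg
open Cfsg.Agent.Lib.Helper95
open Cfsg.Agent.S0391 (zmod2_cases val_le_one shape_of_mem shape_normal sum_of_mem sum_val_eq)

/-- Entries `±2` on `s` (minus on `t`) plus entries `±4` on `p` (minus on `t'`). -/
def pm2Vec (s t p t' : Finset GolayPt) : GolayPt → ℤ :=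
  fun i => pmVec 2 s t i + pmVec 4 p t' i

lemma pm2Vec_apply (s t p t' : Finset GolayPt) (i : GolayPt) :
    pm2Vec s t p t' i = pmVec 2 s t i + pmVec 4 p t' i := rfl

/-- The side conditions on the parameters of `pm2Vec`. -/
def Pm2Ok (s t p t' : Finset GolayPt) : Prop := t ⊆ s ∧ t' ⊆ p ∧ Disjoint s p

lemma pm2Vec_vals {s t p t' : Finset GolayPt} (h : Pm2Ok s t p t') (i : GolayPt) :
    (i ∈ t ↔ pm2Vec s t p t' i = -2) ∧ (i ∈ s ↔ (pm2Vec s t p t' i = 2 ∨ pm2Vec s t p t' i = -2)) ∧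
    (i ∈ t' ↔ pm2Vec s t p t' i = -4) ∧
      (i ∈ p ↔ (pm2Vec s t p t' i = 4 ∨ pm2Vec s t p t' i = -4)) := by
  obtain ⟨h1, h2, h3⟩ := h
  rw [Finset.disjoint_left] at h3
  simp only [pm2Vec_apply, pmVec_apply]
  by_cases hs : i ∈ s
  · have hp : i ∉ p := h3 hs
    have ht' : i ∉ t' := fun h => hp (h2 h)
    by_cases ht : i ∈ t <;> simp [hs, hp, ht, ht']
  · have ht : i ∉ t := fun h => hs (h1 h)
    by_cases hp : i ∈ p
    · by_cases ht' : i ∈ t' <;> simp [hs, hp, ht, ht']
    · have ht' : i ∉ t' := fun h => hp (h2 h)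
      simp [hs, hp, ht, ht']

lemma pm2Vec_inj {s t p t' s₁ t₁ p₁ t₁' : Finset GolayPt} (h : Pm2Ok s t p t')
    (h₁ : Pm2Ok s₁ t₁ p₁ t₁') (he : pm2Vec s t p t' = pm2Vec s₁ t₁ p₁ t₁') :
    s = s₁ ∧ t = t₁ ∧ p = p₁ ∧ t' = t₁' := by
  refine ⟨?_, ?_, ?_, ?_⟩ <;> ext i
  · rw [(pm2Vec_vals h i).2.1, (pm2Vec_vals h₁ i).2.1, he]
  · rw [(pm2Vec_vals h i).1, (pm2Vec_vals h₁ i).1, he]
  · rw [(pm2Vec_vals h i).2.2.2, (pm2Vec_vals h₁ i).2.2.2, he]
  · rw [(pm2Vec_vals h i).2.2.1, (pm2Vec_vals h₁ i).2.2.1, he]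

lemma sum_pm2Vec {s t p t' : Finset GolayPt} (h : Pm2Ok s t p t') :
    ∑ i, pm2Vec s t p t' i
      = 2 * ((s.card : ℤ) - 2 * (t.card : ℤ)) + 4 * ((p.card : ℤ) - 2 * (t'.card : ℤ)) := by
  simp only [pm2Vec_apply, Finset.sum_add_distrib]
  rw [sum_pmVec 2 h.1, sum_pmVec 4 h.2.1]

lemma sqNorm_pm2Vec {s t p t' : Finset GolayPt} (h : Pm2Ok s t p t') :
    sqNorm (pm2Vec s t p t') = 4 * (s.card : ℤ) + 16 * (p.card : ℤ) := by
  have h1 := sqNorm_pmVec 2 h.1
  have h2 := sqNorm_pmVec 4 h.2.1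
  unfold sqNorm at *
  have h3 : ∀ i, pm2Vec s t p t' i ^ 2 = pmVec 2 s t i ^ 2 + pmVec 4 p t' i ^ 2 := by
    intro i
    obtain ⟨h1, h2, h3⟩ := h
    rw [Finset.disjoint_left] at h3
    simp only [pm2Vec_apply, pmVec_apply]
    by_cases hs : i ∈ s
    · have hp : i ∉ p := h3 hs
      have ht' : i ∉ t' := fun h => hp (h2 h)
      simp [hp, ht']
    · have ht : i ∉ t := fun h => hs (h1 h)
      simp [hs, ht]
  rw [Finset.sum_congr rfl (fun i _ => h3 i), Finset.sum_add_distrib, h1, h2]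
  norm_num

/-- A vector with entries in `{0, ±2, ±4}` is a `pm2Vec`. -/
lemma eq_pm2Vec_of_vals (x : GolayPt → ℤ)
    (h : ∀ i, x i = 0 ∨ x i = 2 ∨ x i = -2 ∨ x i = 4 ∨ x i = -4) :
    x = pm2Vec (Finset.univ.filter fun i => x i = 2 ∨ x i = -2) (Finset.univ.filter fun i => x i = -2)
        (Finset.univ.filter fun i => x i = 4 ∨ x i = -4) (Finset.univ.filter fun i => x i = -4) ∧
      Pm2Ok (Finset.univ.filter fun i => x i = 2 ∨ x i = -2) (Finset.univ.filter fun i => x i = -2)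
        (Finset.univ.filter fun i => x i = 4 ∨ x i = -4) (Finset.univ.filter fun i => x i = -4) := by
  constructor
  · ext i
    simp only [pm2Vec_apply, pmVec_apply, Finset.mem_filter, Finset.mem_univ, true_and]
    rcases h i with h' | h' | h' | h' | h' <;> rw [h'] <;> norm_num
  · refine ⟨?_, ?_, ?_⟩
    · intro i; simp only [Finset.mem_filter, Finset.mem_univ, true_and]; intro h; exact Or.inr h
    · intro i; simp only [Finset.mem_filter, Finset.mem_univ, true_and]; intro h; exact Or.inr h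
    · rw [Finset.disjoint_left]
      intro i
      simp only [Finset.mem_filter, Finset.mem_univ, true_and]
      intro h1 h2
      omega

lemma pm2Vec_mem {c : GolayPt → ZMod 2} (hc : c ∈ golayCode) {t p t' : Finset GolayPt}
    (h : Pm2Ok (bsupp c) t p t')
    (h8 : (8 : ℤ) ∣ 2 * ((bsupp c).card : ℤ) - 4 * (t.card : ℤ) + 4 * (p.card : ℤ)) :
    pm2Vec (bsupp c) t p t' ∈ leechLattice := by
  rw [mem_leechLattice_iff]
  refine ⟨0, c, hc, fun i => ?_, ?_⟩
  · obtain ⟨h1, h2, h3⟩ := h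
    rw [Finset.disjoint_left] at h3
    simp only [pm2Vec_apply, pmVec_apply]
    by_cases hs : i ∈ bsupp c
    · have hp : i ∉ p := h3 hs
      have ht' : i ∉ t' := fun h => hp (h2 h)
      rw [(mem_bsupp c i).mp hs]
      by_cases ht : i ∈ t <;> simp [hs, hp, ht, ht', ZMod.val_one] <;> decide
    · have ht : i ∉ t := fun h => hs (h1 h)
      rw [(notMem_bsupp c i).mp hs]
      by_cases hp : i ∈ p
      · by_cases ht' : i ∈ t' <;> simp [hs, hp, ht, ht'] <;> decide
      · have ht' : i ∉ t' := fun h => hp (h2 h)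
        simp [hs, hp, ht, ht']
  · rw [sum_pm2Vec h]
    obtain ⟨k, hk⟩ := h8
    simp only [Int.ModEq]
    omega

/-- Parameters `(s, t, p, t')`: `s ∈ F`, `t ⊆ s` with `P t`, `p` a `k`-subset of the complement
of `s`, and `t' ⊆ p`. -/
@[irreducible] def pm2Params (F : Finset (Finset GolayPt)) (P : Finset GolayPt → Prop) [DecidablePred P] (k : ℕ) :
    Finset (Σ _ : Finset GolayPt, (Finset GolayPt × (Σ _ : Finset GolayPt, Finset GolayPt))) :=
  F.sigma fun s => (s.powerset.filter P) ×ˢ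
    (((Finset.univ \ s).powersetCard k).sigma fun p => p.powerset)

/-- The vector attached to a parameter. -/
def pm2Of (q : Σ _ : Finset GolayPt, (Finset GolayPt × (Σ _ : Finset GolayPt, Finset GolayPt))) :
    GolayPt → ℤ := pm2Vec q.1 q.2.1 q.2.2.1 q.2.2.2

lemma mem_pm2Params (F : Finset (Finset GolayPt)) (P : Finset GolayPt → Prop) [DecidablePred P]
    (k : ℕ) (s t p t' : Finset GolayPt) :
    (⟨s, (t, ⟨p, t'⟩)⟩ : Σ _ : Finset GolayPt, (Finset GolayPt × (Σ _ : Finset GolayPt,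
      Finset GolayPt))) ∈ pm2Params F P k ↔
      s ∈ F ∧ (t ⊆ s ∧ P t) ∧ (p ⊆ Finset.univ \ s ∧ p.card = k) ∧ t' ⊆ p := by
  simp only [pm2Params, Finset.mem_sigma, Finset.mem_product, Finset.mem_filter,
    Finset.mem_powerset, Finset.mem_powersetCard]

lemma pm2Ok_of_mem {F : Finset (Finset GolayPt)} {P : Finset GolayPt → Prop} [DecidablePred P]
    {k : ℕ} {s t p t' : Finset GolayPt}
    (h : s ∈ F ∧ (t ⊆ s ∧ P t) ∧ (p ⊆ Finset.univ \ s ∧ p.card = k) ∧ t' ⊆ p) :
    Pm2Ok s t p t' := by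
  refine ⟨h.2.1.1, h.2.2.2, ?_⟩
  rw [Finset.disjoint_left]
  intro i hi hp
  have := h.2.2.1.1 hp
  simp only [Finset.mem_sdiff, Finset.mem_univ, true_and] at this
  exact this hi

lemma card_image_pm2 (F : Finset (Finset GolayPt)) (P : Finset GolayPt → Prop) [DecidablePred P]
    (k n m : ℕ) (hn : ∀ s ∈ F, (s.powerset.filter P).card = n) (hm : ∀ s ∈ F, s.card = m) :
    ((pm2Params F P k).image pm2Of).card = F.card * (n * (Nat.choose (24 - m) k * 2 ^ k)) := by
  rw [Finset.card_image_of_injOn]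
  · unfold pm2Params
    rw [Finset.card_sigma]
    have : ∀ s ∈ F, ((s.powerset.filter P) ×ˢ
        (((Finset.univ \ s).powersetCard k).sigma fun p => p.powerset)).card
          = n * (Nat.choose (24 - m) k * 2 ^ k) := by
      intro s hs
      rw [Finset.card_product, hn s hs, Finset.card_sigma]
      congr 1
      have h2 : ∀ p ∈ (Finset.univ \ s).powersetCard k, p.powerset.card = 2 ^ k := by
        intro p hp
        rw [Finset.card_powerset, (Finset.mem_powersetCard.mp hp).2]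
      rw [Finset.sum_congr rfl h2, Finset.sum_const, smul_eq_mul, Finset.card_powersetCard,
        Finset.card_sdiff_of_subset (Finset.subset_univ s), Finset.card_univ, golayPt_card, hm s hs]
    rw [Finset.sum_congr rfl this, Finset.sum_const, smul_eq_mul]
  · rintro ⟨s, t, p, t'⟩ hq ⟨s₁, t₁, p₁, t₁'⟩ hq₁ h
    rw [Finset.mem_coe, mem_pm2Params] at hq hq₁
    obtain ⟨rfl, rfl, rfl, rfl⟩ := pm2Vec_inj (pm2Ok_of_mem hq) (pm2Ok_of_mem hq₁) h
    rfl

lemma mem_image_pm2 (F : Finset (Finset GolayPt)) (P : Finset GolayPt → Prop) [DecidablePred P]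
    (k : ℕ) (x : GolayPt → ℤ) :
    x ∈ (pm2Params F P k).image pm2Of ↔
      ∃ s t p t', (s ∈ F ∧ (t ⊆ s ∧ P t) ∧ (p ⊆ Finset.univ \ s ∧ p.card = k) ∧ t' ⊆ p) ∧
        x = pm2Vec s t p t' := by
  rw [Finset.mem_image]
  constructor
  · rintro ⟨⟨s, t, p, t'⟩, hq, rfl⟩
    rw [mem_pm2Params] at hq
    exact ⟨s, t, p, t', hq, rfl⟩
  · rintro ⟨s, t, p, t', hq, rfl⟩
    exact ⟨⟨s, t, p, t'⟩, (mem_pm2Params F P k s t p t').mpr hq, rfl⟩

/-! ### Parity classes of subsets -/

lemma card_parity_subsets {α : Type*} [DecidableEq α] (s : Finset α) (hs : s.Nonempty) (k : ℕ) :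
    (s.powerset.filter fun t => t.card % 2 = k % 2).card = 2 ^ (s.card - 1) := by
  obtain ⟨h1, h2⟩ := card_even_odd_subsets s hs
  rcases Nat.mod_two_eq_zero_or_one k with hk | hk
  · rw [← h1]
    congr 1
    apply Finset.filter_congr
    intro t _
    rw [hk, Nat.even_iff]
  · rw [← h2]
    congr 1
    apply Finset.filter_congr
    intro t _
    rw [hk, Nat.even_iff]
    omega

/-- The family of vectors with entries `±2` on a code word of weight `w`, `±4` on `k` further
positions, `0` elsewhere, with the parity of the number of `-2`'s equal to that of `k`. -/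
@[irreducible] noncomputable def evenFam (w k : ℕ) : Finset (GolayPt → ℤ) :=
  (pm2Params (codeSupps w) (fun t => t.card % 2 = k % 2) k).image pm2Of

lemma mem_evenFam (w k : ℕ) (x : GolayPt → ℤ) :
    x ∈ evenFam w k ↔ ∃ s t p t', (s ∈ codeSupps w ∧ (t ⊆ s ∧ t.card % 2 = k % 2) ∧
      (p ⊆ Finset.univ \ s ∧ p.card = k) ∧ t' ⊆ p) ∧ x = pm2Vec s t p t' := by
  unfold evenFam
  rw [mem_image_pm2]

lemma card_evenFam (w k : ℕ) (hw : 0 < w) :
    (evenFam w k).card = (codeWords w).card * (2 ^ (w - 1) * (Nat.choose (24 - w) k * 2 ^ k)) := by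
  unfold evenFam
  rw [card_image_pm2 _ _ k (2 ^ (w - 1)) w, card_codeSupps]
  · intro s hs
    have h8 := card_of_mem_codeSupps hs
    have hne : s.Nonempty := by
      rw [← Finset.card_pos, h8]; exact hw
    rw [card_parity_subsets s hne k, h8]
  · intro s hs
    exact card_of_mem_codeSupps hs

lemma evenFam_sub (w k : ℕ) (hw : 4 ∣ w) (x : GolayPt → ℤ) (hx : x ∈ evenFam w k) :
    x ∈ leechLattice ∧ sqNorm x = 4 * (w : ℤ) + 16 * (k : ℤ) ∧
      (∀ i, x i = 0 ∨ x i = 2 ∨ x i = -2 ∨ x i = 4 ∨ x i = -4) ∧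
      (Finset.univ.filter fun i => x i = 4 ∨ x i = -4).card = k := by
  obtain ⟨s, t, p, t', hq, rfl⟩ := (mem_evenFam w k x).mp hx
  have hok := pm2Ok_of_mem (P := fun t => t.card % 2 = k % 2) hq
  obtain ⟨hs, ⟨hts, hpar⟩, ⟨hps, hpk⟩, htp⟩ := hq
  obtain ⟨c, hc, hwt, rfl⟩ := (mem_codeSupps w s).mp hs
  have hcard : (bsupp c).card = w := by rw [← hammingNorm_eq_card_bsupp, hwt]
  refine ⟨?_, ?_, ?_, ?_⟩
  · apply pm2Vec_mem hc hok
    rw [hcard, hpk]
    obtain ⟨w', rfl⟩ := hw
    push_cast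
    omega
  · rw [sqNorm_pm2Vec hok, hcard, hpk]
  · intro i
    simp only [pm2Vec_apply, pmVec_apply]
    obtain ⟨h1, h2, h3⟩ := hok
    rw [Finset.disjoint_left] at h3
    by_cases hs : i ∈ bsupp c
    · have hp : i ∉ p := h3 hs
      have ht' : i ∉ t' := fun h => hp (h2 h)
      by_cases ht : i ∈ t <;> simp [hs, hp, ht, ht']
    · have ht : i ∉ t := fun h => hs (h1 h)
      by_cases hp : i ∈ p
      · by_cases ht' : i ∈ t' <;> simp [hs, hp, ht, ht']
      · have ht' : i ∉ t' := fun h => hp (h2 h)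
        simp [hs, hp, ht, ht']
  · rw [← hpk]
    congr 1
    ext i
    simp only [Finset.mem_filter, Finset.mem_univ, true_and]
    exact ((pm2Vec_vals hok i).2.2.2).symm

/-- Classification of the lattice vectors with even entries attached to a nonzero code word, when
the sum of squares exceeds four times the weight by less than `32`. -/
lemma classify_even_code (x : GolayPt → ℤ) (hx : x ∈ leechLattice) (c : GolayPt → ZMod 2)
    (hc : c ∈ golayCode) (h : ∀ i, x i ≡ 2 * ((c i).val : ℤ) [ZMOD 4]) (w k : ℕ)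
    (hw : hammingNorm c = w) (hN : sqNorm x = 4 * (w : ℤ) + 16 * (k : ℤ)) (hk : k < 2) :
    x ∈ evenFam w k := by
  have hterm : ∀ i, (if c i ≠ 0 then (4 : ℤ) else 0) ≤ x i ^ 2 := by
    intro i
    split_ifs with hci
    · have hci1 : c i = 1 := by
        rcases zmod2_cases (c i) with h' | h'
        · exact absurd h' hci
        · exact h'
      have := h i
      rw [hci1] at this
      simp only [ZMod.val_one, Nat.cast_one, mul_one] at this
      have h2 : (2 : ℤ) ∣ x i := by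
        simp only [Int.ModEq] at this
        omega
      have hne : x i ≠ 0 := by
        intro h0'
        rw [h0'] at this
        simp only [Int.ModEq] at this
        omega
      have := Cfsg.Agent.S0391.sq_ge_of_dvd 2 (x i) (by norm_num) h2 hne
      linarith
    · exact sq_nonneg _
  have hcount : ∑ i, (if c i ≠ 0 then (4 : ℤ) else 0) = 4 * (w : ℤ) := by
    rw [← hw]
    unfold hammingNorm
    rw [← Finset.sum_filter, Finset.sum_const]
    simp [mul_comm]
  have hslack : ∀ j, x j ^ 2 - (if c j ≠ 0 then (4 : ℤ) else 0) ≤ 16 * (k : ℤ) := by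
    intro j
    have h1 : x j ^ 2 - (if c j ≠ 0 then (4 : ℤ) else 0)
        ≤ ∑ i, (x i ^ 2 - (if c i ≠ 0 then (4 : ℤ) else 0)) :=
      Finset.single_le_sum (f := fun i => x i ^ 2 - (if c i ≠ 0 then (4 : ℤ) else 0))
        (fun i _ => by have := hterm i; linarith) (Finset.mem_univ j)
    rw [Finset.sum_sub_distrib, hcount] at h1
    unfold sqNorm at hN
    linarith
  have hk' : (k : ℤ) ≤ 1 := by exact_mod_cast Nat.lt_succ_iff.mp hk
  have hvals : ∀ i, (c i = 1 → x i = 2 ∨ x i = -2) ∧ (c i = 0 → x i = 0 ∨ x i = 4 ∨ x i = -4) := by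
    intro i
    have h1 := hslack i
    have h2 := h i
    constructor
    · intro hci
      rw [hci] at h1 h2
      simp only [ne_eq, one_ne_zero, not_false_eq_true, if_true, ZMod.val_one, Nat.cast_one,
        mul_one] at h1 h2
      have h36 : x i ^ 2 < 36 := by linarith
      have hlo : -6 < x i := by nlinarith
      have hhi : x i < 6 := by nlinarith
      simp only [Int.ModEq] at h2
      omega
    · intro hci
      rw [hci] at h1 h2
      simp only [ne_eq, not_true_eq_false, if_false, ZMod.val_zero, Nat.cast_zero, mul_zero,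
        sub_zero] at h1 h2
      have h36 : x i ^ 2 < 64 := by linarith
      have hlo : -8 < x i := by nlinarith
      have hhi : x i < 8 := by nlinarith
      simp only [Int.ModEq] at h2
      omega
  have hvals' : ∀ i, x i = 0 ∨ x i = 2 ∨ x i = -2 ∨ x i = 4 ∨ x i = -4 := by
    intro i
    rcases zmod2_cases (c i) with hci | hci
    · rcases (hvals i).2 hci with h' | h' | h'
      · exact Or.inl h'
      · exact Or.inr (Or.inr (Or.inr (Or.inl h')))
      · exact Or.inr (Or.inr (Or.inr (Or.inr h')))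
    · rcases (hvals i).1 hci with h' | h'
      · exact Or.inr (Or.inl h')
      · exact Or.inr (Or.inr (Or.inl h'))
  obtain ⟨hxp, hok⟩ := eq_pm2Vec_of_vals x hvals'
  have hsupp : (Finset.univ.filter fun i => x i = 2 ∨ x i = -2) = bsupp c := by
    ext i
    simp only [Finset.mem_filter, Finset.mem_univ, true_and, mem_bsupp]
    constructor
    · intro h'
      rcases zmod2_cases (c i) with hci | hci
      · rcases (hvals i).2 hci with h'' | h'' | h'' <;> omega
      · exact hci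
    · exact (hvals i).1
  set s := Finset.univ.filter fun i => x i = 2 ∨ x i = -2 with hs
  set t := Finset.univ.filter fun i => x i = -2 with ht
  set p := Finset.univ.filter fun i => x i = 4 ∨ x i = -4 with hp
  set t' := Finset.univ.filter fun i => x i = -4 with ht'
  have hscard : s.card = w := by rw [hsupp, ← hammingNorm_eq_card_bsupp, hw]
  have hnorm := sqNorm_pm2Vec hok
  rw [← hxp, hN, hscard] at hnorm
  have hpcard : p.card = k := by omega
  have hsum := sum_pm2Vec hok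
  rw [← hxp, hscard, hpcard] at hsum
  have hQ := sum_of_mem x hx
  rw [hsum] at hQ
  have h4w : 4 ∣ w := by
    rw [← hw]
    exact g24_doubly_even golayPt_card golayCode golayCode_finrank golayCode_hmin golayCode_horth
      c hc
  have hpar : t.card % 2 = k % 2 := by
    obtain ⟨w', rfl⟩ := h4w
    obtain ⟨q, hq⟩ := hQ
    have h8n : (8 : ℤ) ∣ 4 * x none := by
      rcases hvals' none with h' | h' | h' | h' | h' <;> rw [h'] <;> norm_num
    obtain ⟨q', hq'⟩ := h8n
    push_cast at hq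
    omega
  rw [mem_evenFam]
  refine ⟨s, t, p, t', ⟨?_, ⟨hok.1, hpar⟩, ⟨?_, hpcard⟩, hok.2.1⟩, hxp⟩
  · rw [hsupp, mem_codeSupps]
    exact ⟨c, hc, hw, rfl⟩
  · intro i hi
    simp only [Finset.mem_sdiff, Finset.mem_univ, true_and]
    exact fun h' => (Finset.disjoint_left.mp hok.2.2) h' hi

lemma four_wt_le (x : GolayPt → ℤ) (c : GolayPt → ZMod 2)
    (h : ∀ i, x i ≡ 2 * ((c i).val : ℤ) [ZMOD 4]) : 4 * (hammingNorm c : ℤ) ≤ sqNorm x := by
  have hterm : ∀ i, (if c i ≠ 0 then (4 : ℤ) else 0) ≤ x i ^ 2 := by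
    intro i
    split_ifs with hci
    · have hci1 : c i = 1 := by
        rcases zmod2_cases (c i) with h' | h'
        · exact absurd h' hci
        · exact h'
      have := h i
      rw [hci1] at this
      simp only [ZMod.val_one, Nat.cast_one, mul_one] at this
      have h2 : (2 : ℤ) ∣ x i := by
        simp only [Int.ModEq] at this
        omega
      have hne : x i ≠ 0 := by
        intro h0'
        rw [h0'] at this
        simp only [Int.ModEq] at this
        omega
      have := Cfsg.Agent.S0391.sq_ge_of_dvd 2 (x i) (by norm_num) h2 hne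
      linarith
    · exact sq_nonneg _
  have hcount : ∑ i, (if c i ≠ 0 then (4 : ℤ) else 0) = 4 * (hammingNorm c : ℤ) := by
    unfold hammingNorm
    rw [← Finset.sum_filter, Finset.sum_const]
    simp [mul_comm]
  rw [← hcount]
  exact Finset.sum_le_sum (fun i _ => hterm i)

/-- A lattice vector all of whose entries are divisible by `4` has sum of squares divisible
by `32`. -/
lemma dvd_sqNorm_of_four_dvd (x : GolayPt → ℤ) (hx : x ∈ leechLattice) (h4 : ∀ i, (4 : ℤ) ∣ x i) :
    (32 : ℤ) ∣ sqNorm x := by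
  have h1 : ∀ i, (32 : ℤ) ∣ x i ^ 2 - 4 * x i := by
    intro i
    obtain ⟨z, hz⟩ := h4 i
    have h2 : (2 : ℤ) ∣ z * (z - 1) := by
      have := Int.even_mul_pred_self z
      exact even_iff_two_dvd.mp this
    obtain ⟨q, hq⟩ := h2
    refine ⟨q, ?_⟩
    rw [hz]
    linear_combination 16 * hq
  have h2 : (32 : ℤ) ∣ ∑ i, (x i ^ 2 - 4 * x i) := Finset.dvd_sum (fun i _ => h1 i)
  rw [Finset.sum_sub_distrib, ← Finset.mul_sum] at h2
  have hQ := sum_of_mem x hx
  obtain ⟨z, hz⟩ := h4 none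
  obtain ⟨q, hq⟩ := hQ
  obtain ⟨r, hr⟩ := h2
  unfold sqNorm
  refine ⟨r + q + 2 * z, ?_⟩
  linarith

/-! ### Families of vectors with odd entries -/

/-- Sign changes, on code words, of the members of `U`. -/
@[irreducible] noncomputable def oddFam (U : Finset (GolayPt → ℤ)) : Finset (GolayPt → ℤ) :=
  (U ×ˢ codeAll).image fun p : (GolayPt → ℤ) × (GolayPt → ZMod 2) => signVec p.2 p.1

lemma mem_oddFam (U : Finset (GolayPt → ℤ)) (x : GolayPt → ℤ) :
    x ∈ oddFam U ↔ ∃ u ∈ U, ∃ c ∈ golayCode, x = signVec c u := by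
  unfold oddFam
  exact mem_image_signVec U x

lemma card_oddFam (U : Finset (GolayPt → ℤ)) (hU : ∀ u ∈ U, ∀ i, u i ≡ 1 [ZMOD 4]) :
    (oddFam U).card = U.card * 4096 := by
  unfold oddFam
  exact card_image_signVec U hU

lemma abs_signVec (c : GolayPt → ZMod 2) (u : GolayPt → ℤ) (i : GolayPt) :
    |signVec c u i| = |u i| := by
  rw [signVec_apply, abs_mul]
  unfold sgnOf
  rcases val_le_one (c i) with h' | h' <;> rw [h'] <;> norm_num

lemma mem_oddFam_oneVecs (k : ℕ) (b : ℤ) (x : GolayPt → ℤ) :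
    x ∈ oddFam (oneVecs k b) ↔
      ∃ s : Finset GolayPt, s.card = k ∧ ∃ c ∈ golayCode, x = signVec c (oneVec s b) := by
  rw [mem_oddFam]
  constructor
  · rintro ⟨u, hu, c, hc, rfl⟩
    obtain ⟨s, hs, rfl⟩ := (mem_oneVecs k b u).mp hu
    exact ⟨s, hs, c, hc, rfl⟩
  · rintro ⟨s, hs, c, hc, rfl⟩
    exact ⟨_, (mem_oneVecs k b _).mpr ⟨s, hs, rfl⟩, c, hc, rfl⟩

lemma card_oddFam_oneVecs (k : ℕ) {b : ℤ} (hb : b ≡ 1 [ZMOD 4]) (hb1 : b ≠ 1) :
    (oddFam (oneVecs k b)).card = Nat.choose 24 k * 4096 := by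
  rw [card_oddFam, card_oneVecs k hb1]
  intro u hu i
  obtain ⟨s, -, rfl⟩ := (mem_oneVecs k b u).mp hu
  exact oneVec_mod s hb i

lemma oddFam_oneVecs_sub (k : ℕ) {b : ℤ} (hb : b ≡ 1 [ZMOD 4])
    (h8 : (24 + (b - 1) * (k : ℤ)) ≡ 4 [ZMOD 8]) (x : GolayPt → ℤ)
    (hx : x ∈ oddFam (oneVecs k b)) :
    x ∈ leechLattice ∧ sqNorm x = 24 + (b ^ 2 - 1) * (k : ℤ) ∧
      (∀ i, |x i| = 1 ∨ |x i| = |b|) ∧
      ∃ s : Finset GolayPt, s.card = k ∧ ∀ i ∈ s, |x i| = |b| := by
  obtain ⟨s, hs, c, hc, rfl⟩ := (mem_oddFam_oneVecs k b x).mp hx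
  refine ⟨?_, ?_, ?_, ?_⟩
  · apply signVec_mem hc
    apply mem_of_one_mod_four _ (fun i => oneVec_mod s hb i)
    rw [sum_oneVec, hs]
    exact h8
  · rw [sqNorm_signVec, sqNorm_oneVec, hs]
  · intro i
    rw [abs_signVec, oneVec_apply]
    split_ifs
    · exact Or.inr rfl
    · exact Or.inl abs_one
  · refine ⟨s, hs, fun i hi => ?_⟩
    rw [abs_signVec, oneVec_apply, if_pos hi]

end Cfsg.Agent.Lib.Helper94
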