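import Mathlib
import Cfsg.Agent.Lib.Helper94.LeechCount2

/-! Further families of lattice vectors, needed for the vectors of sum of squares 64. -/

set_option autoImplicit false

namespace Cfsg.Agent.Lib.Helper94

open Cfsg
open Cfsg.Agent.Lib.Helper95
open Cfsg.Agent.S0391 (zmod2_cases val_le_one shape_of_mem shape_normal sum_of_mem sum_val_eq)

/-! ### The excess of the squares over four times the code word -/

/-- The excess of the square of an entry over `4` (on the code word) or `0` (off it). -/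
def slack (x : GolayPt → ℤ) (c : GolayPt → ZMod 2) (i : GolayPt) : ℤ :=
  x i ^ 2 - (if c i ≠ 0 then (4 : ℤ) else 0)

lemma slack_nonneg (x : GolayPt → ℤ) (c : GolayPt → ZMod 2)
    (h : ∀ i, x i ≡ 2 * ((c i).val : ℤ) [ZMOD 4]) (i : GolayPt) : 0 ≤ slack x c i := by
  unfold slack
  split_ifs with hci
  · have hci1 : c i = 1 := by
      rcases zmod2_cases (c i) with h' | h'
      · exact absurd h' hci
      · exact h'
    have := h i
    rw [hci1] at this
    simp only [ZMod.val_one, Nat.cast_one, mul_one] at this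
    have h2 : (2 : ℤ) ∣ x i := by
      simp only [Int.ModEq] at this
      omega
    have hne : x i ≠ 0 := by
      intro h0'
      rw [h0'] at this
      simp only [Int.ModEq] at this
      omega
    have := Cfsg.Agent.S0391.sq_ge_of_dvd 2 (x i) (by norm_num) h2 hne
    linarith
  · have := sq_nonneg (x i)
    linarith

lemma sum_slack (x : GolayPt → ℤ) (c : GolayPt → ZMod 2) :
    ∑ i, slack x c i = sqNorm x - 4 * (hammingNorm c : ℤ) := by
  have hcount : ∑ i, (if c i ≠ 0 then (4 : ℤ) else 0) = 4 * (hammingNorm c : ℤ) := by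
    unfold hammingNorm
    rw [← Finset.sum_filter, Finset.sum_const]
    simp [mul_comm]
  unfold slack sqNorm
  rw [Finset.sum_sub_distrib, hcount]

lemma slack_le (x : GolayPt → ℤ) (c : GolayPt → ZMod 2)
    (h : ∀ i, x i ≡ 2 * ((c i).val : ℤ) [ZMOD 4]) (j : GolayPt) :
    slack x c j ≤ sqNorm x - 4 * (hammingNorm c : ℤ) := by
  rw [← sum_slack]
  exact Finset.single_le_sum (f := fun i => slack x c i) (fun i _ => slack_nonneg x c h i)
    (Finset.mem_univ j)

lemma slack_pair_le (x : GolayPt → ℤ) (c : GolayPt → ZMod 2)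
    (h : ∀ i, x i ≡ 2 * ((c i).val : ℤ) [ZMOD 4]) {j k : GolayPt} (hjk : j ≠ k) :
    slack x c j + slack x c k ≤ sqNorm x - 4 * (hammingNorm c : ℤ) := by
  rw [← sum_slack]
  have hsub : ∑ i ∈ ({j, k} : Finset GolayPt), slack x c i ≤ ∑ i, slack x c i :=
    Finset.sum_le_sum_of_subset_of_nonneg (Finset.subset_univ _)
      (fun i _ _ => slack_nonneg x c h i)
  rw [Finset.sum_pair hjk] at hsub
  exact hsub

/-- Classification of the lattice vectors with entries in `{0, ±2, ±4}` attached to a nonzero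
code word. -/
lemma classify_even_code' (x : GolayPt → ℤ) (hx : x ∈ leechLattice) (c : GolayPt → ZMod 2)
    (hc : c ∈ golayCode) (h : ∀ i, x i ≡ 2 * ((c i).val : ℤ) [ZMOD 4]) (w k : ℕ)
    (hw : hammingNorm c = w) (hN : sqNorm x = 4 * (w : ℤ) + 16 * (k : ℤ))
    (hvals' : ∀ i, x i = 0 ∨ x i = 2 ∨ x i = -2 ∨ x i = 4 ∨ x i = -4) :
    x ∈ evenFam w k := by
  have hvals : ∀ i, (c i = 1 → x i = 2 ∨ x i = -2) ∧ (c i = 0 → x i = 0 ∨ x i = 4 ∨ x i = -4) := by
    intro i
    have h2 := h i
    constructor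
    · intro hci
      rw [hci] at h2
      simp only [ZMod.val_one, Nat.cast_one, mul_one, Int.ModEq] at h2
      rcases hvals' i with h' | h' | h' | h' | h' <;> omega
    · intro hci
      rw [hci] at h2
      simp only [ZMod.val_zero, Nat.cast_zero, mul_zero, Int.ModEq] at h2
      rcases hvals' i with h' | h' | h' | h' | h' <;> omega
  obtain ⟨hxp, hok⟩ := eq_pm2Vec_of_vals x hvals'
  have hsupp : (Finset.univ.filter fun i => x i = 2 ∨ x i = -2) = bsupp c := by
    ext i
    simp only [Finset.mem_filter, Finset.mem_univ, true_and, mem_bsupp]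
    constructor
    · intro h'
      rcases zmod2_cases (c i) with hci | hci
      · rcases (hvals i).2 hci with h'' | h'' | h'' <;> omega
      · exact hci
    · exact (hvals i).1
  set s := Finset.univ.filter fun i => x i = 2 ∨ x i = -2 with hs
  set t := Finset.univ.filter fun i => x i = -2 with ht
  set p := Finset.univ.filter fun i => x i = 4 ∨ x i = -4 with hp
  set t' := Finset.univ.filter fun i => x i = -4 with ht'
  have hscard : s.card = w := by rw [hsupp, ← hammingNorm_eq_card_bsupp, hw]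
  have hnorm := sqNorm_pm2Vec hok
  rw [← hxp, hN, hscard] at hnorm
  have hpcard : p.card = k := by omega
  have hsum := sum_pm2Vec hok
  rw [← hxp, hscard, hpcard] at hsum
  have hQ := sum_of_mem x hx
  rw [hsum] at hQ
  have h4w : 4 ∣ w := by
    rw [← hw]
    exact g24_doubly_even golayPt_card golayCode golayCode_finrank golayCode_hmin golayCode_horth
      c hc
  have hpar : t.card % 2 = k % 2 := by
    obtain ⟨w', rfl⟩ := h4w
    obtain ⟨q, hq⟩ := hQ
    have h8n : (8 : ℤ) ∣ 4 * x none := by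
      rcases hvals' none with h' | h' | h' | h' | h' <;> rw [h'] <;> norm_num
    obtain ⟨q', hq'⟩ := h8n
    push_cast at hq
    omega
  rw [mem_evenFam]
  refine ⟨s, t, p, t', ⟨?_, ⟨hok.1, hpar⟩, ⟨?_, hpcard⟩, hok.2.1⟩, hxp⟩
  · rw [hsupp, mem_codeSupps]
    exact ⟨c, hc, hw, rfl⟩
  · intro i hi
    simp only [Finset.mem_sdiff, Finset.mem_univ, true_and]
    exact fun h' => (Finset.disjoint_left.mp hok.2.2) h' hi

/-! ### Vectors with one entry `±6` on an octad -/

/-- Entries `±2` on `s` (minus on `t`), tripled at `j`. -/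
def sixVec (s t : Finset GolayPt) (j : GolayPt) : GolayPt → ℤ :=
  fun i => if i = j then 3 * pmVec 2 s t i else pmVec 2 s t i

lemma sixVec_apply (s t : Finset GolayPt) (j i : GolayPt) :
    sixVec s t j i = if i = j then 3 * pmVec 2 s t i else pmVec 2 s t i := rfl

lemma sixVec_vals {s t : Finset GolayPt} {j : GolayPt} (hts : t ⊆ s) (hj : j ∈ s) (i : GolayPt) :
    (i ∈ t ↔ sixVec s t j i < 0) ∧ (i ∈ s ↔ sixVec s t j i ≠ 0) ∧
      (i = j ↔ (sixVec s t j i = 6 ∨ sixVec s t j i = -6)) ∧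
      (sixVec s t j i = 0 ∨ sixVec s t j i = 2 ∨ sixVec s t j i = -2 ∨ sixVec s t j i = 6 ∨
        sixVec s t j i = -6) := by
  simp only [sixVec_apply, pmVec_apply]
  by_cases hij : i = j
  · subst hij
    by_cases ht : i ∈ t <;> simp [ht, hj]
  · by_cases ht : i ∈ t
    · have hs : i ∈ s := hts ht
      simp [hij, ht, hs]
    · by_cases hs : i ∈ s <;> simp [hij, ht, hs]

lemma sixVec_inj {s t s' t' : Finset GolayPt} {j j' : GolayPt} (hts : t ⊆ s) (hj : j ∈ s)
    (hts' : t' ⊆ s') (hj' : j' ∈ s') (h : sixVec s t j = sixVec s' t' j') :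
    s = s' ∧ t = t' ∧ j = j' := by
  refine ⟨?_, ?_, ?_⟩
  · ext i
    rw [(sixVec_vals hts hj i).2.1, (sixVec_vals hts' hj' i).2.1, h]
  · ext i
    rw [(sixVec_vals hts hj i).1, (sixVec_vals hts' hj' i).1, h]
  · have h1 := (sixVec_vals hts hj j).2.2.1.mp rfl
    rw [h] at h1
    exact (sixVec_vals hts' hj' j).2.2.1.mpr h1

lemma sum_sixVec {s t : Finset GolayPt} (hts : t ⊆ s) (j : GolayPt) :
    ∑ i, sixVec s t j i = 2 * ((s.card : ℤ) - 2 * (t.card : ℤ)) + 2 * pmVec 2 s t j := by
  have h1 : ∀ i, sixVec s t j i = pmVec 2 s t i + (if i = j then 2 * pmVec 2 s t i else 0) := by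
    intro i
    rw [sixVec_apply]
    split_ifs <;> ring
  rw [Finset.sum_congr rfl (fun i _ => h1 i), Finset.sum_add_distrib, sum_pmVec 2 hts,
    Finset.sum_ite_eq' Finset.univ j]
  simp

lemma sqNorm_sixVec {s t : Finset GolayPt} (hts : t ⊆ s) {j : GolayPt} (hj : j ∈ s) :
    sqNorm (sixVec s t j) = 4 * (s.card : ℤ) + 32 := by
  have h1 : ∀ i, sixVec s t j i ^ 2
      = pmVec 2 s t i ^ 2 + (if i = j then 8 * pmVec 2 s t i ^ 2 else 0) := by
    intro i
    rw [sixVec_apply]
    split_ifs <;> ring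
  have h2 := sqNorm_pmVec 2 hts
  unfold sqNorm at *
  rw [Finset.sum_congr rfl (fun i _ => h1 i), Finset.sum_add_distrib, h2,
    Finset.sum_ite_eq' Finset.univ j]
  simp only [Finset.mem_univ, if_true, pmVec_apply, hj]
  split_ifs <;> norm_num

/-- Parameters for the vectors with an entry `±6`. -/
@[irreducible] noncomputable def sixParams :
    Finset (Σ _ : Finset GolayPt, (Finset GolayPt × GolayPt)) :=
  (codeSupps 8).sigma fun s => (s.powerset.filter fun t => ¬ Even t.card) ×ˢ s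

lemma mem_sixParams (s t : Finset GolayPt) (j : GolayPt) :
    (⟨s, (t, j)⟩ : Σ _ : Finset GolayPt, (Finset GolayPt × GolayPt)) ∈ sixParams ↔
      s ∈ codeSupps 8 ∧ (t ⊆ s ∧ ¬ Even t.card) ∧ j ∈ s := by
  unfold sixParams
  simp only [Finset.mem_sigma, Finset.mem_product, Finset.mem_filter, Finset.mem_powerset]

/-- The vectors of shape `(±6, ±2^7, 0^16)`. -/
@[irreducible] noncomputable def sixFam : Finset (GolayPt → ℤ) :=
  sixParams.image fun q => sixVec q.1 q.2.1 q.2.2

lemma mem_sixFam (x : GolayPt → ℤ) :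
    x ∈ sixFam ↔ ∃ s t j, (s ∈ codeSupps 8 ∧ (t ⊆ s ∧ ¬ Even t.card) ∧ j ∈ s) ∧
      x = sixVec s t j := by
  unfold sixFam
  rw [Finset.mem_image]
  constructor
  · rintro ⟨⟨s, t, j⟩, hq, rfl⟩
    rw [mem_sixParams] at hq
    exact ⟨s, t, j, hq, rfl⟩
  · rintro ⟨s, t, j, hq, rfl⟩
    exact ⟨⟨s, t, j⟩, (mem_sixParams s t j).mpr hq, rfl⟩

lemma card_sixFam : sixFam.card = 777216 := by
  unfold sixFam
  rw [Finset.card_image_of_injOn]
  · unfold sixParams
    rw [Finset.card_sigma]
    have : ∀ s ∈ codeSupps 8, ((s.powerset.filter fun t => ¬ Even t.card) ×ˢ s).card = 1024 := by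
      intro s hs
      have h8 := card_of_mem_codeSupps hs
      have hne : s.Nonempty := by
        rw [← Finset.card_pos, h8]; norm_num
      rw [Finset.card_product, (card_even_odd_subsets s hne).2, h8]
      norm_num
    rw [Finset.sum_congr rfl this, Finset.sum_const, smul_eq_mul, card_codeSupps,
      card_codeWords_eight]
  · rintro ⟨s, t, j⟩ hq ⟨s', t', j'⟩ hq' h
    rw [Finset.mem_coe, mem_sixParams] at hq hq'
    obtain ⟨rfl, rfl, rfl⟩ := sixVec_inj hq.2.1.1 hq.2.2 hq'.2.1.1 hq'.2.2 h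
    rfl

lemma sixFam_sub (x : GolayPt → ℤ) (hx : x ∈ sixFam) :
    x ∈ leechLattice ∧ sqNorm x = 64 ∧
      (∀ i, x i = 0 ∨ x i = 2 ∨ x i = -2 ∨ x i = 6 ∨ x i = -6) ∧ ∃ j, |x j| = 6 := by
  obtain ⟨s, t, j, ⟨hs, ⟨hts, hodd⟩, hj⟩, rfl⟩ := (mem_sixFam x).mp hx
  obtain ⟨c, hc, hwt, rfl⟩ := (mem_codeSupps 8 s).mp hs
  have hcard : (bsupp c).card = 8 := by rw [← hammingNorm_eq_card_bsupp, hwt]
  refine ⟨?_, ?_, fun i => (sixVec_vals hts hj i).2.2.2, ⟨j, ?_⟩⟩
  · rw [mem_leechLattice_iff]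
    refine ⟨0, c, hc, fun i => ?_, ?_⟩
    · have hv := (sixVec_vals hts hj i).2.2.2
      have hv0 := (sixVec_vals hts hj i).2.1
      by_cases hi : i ∈ bsupp c
      · rw [(mem_bsupp c i).mp hi]
        have := hv0.mp hi
        simp only [ZMod.val_one, Nat.cast_one, Int.ModEq]
        omega
      · rw [(notMem_bsupp c i).mp hi]
        have : sixVec (bsupp c) t j i = 0 := by
          by_contra h0
          exact hi (hv0.mpr h0)
        rw [this]
        simp
    · rw [sum_sixVec hts, hcard]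
      have hodd' : t.card % 2 = 1 := Nat.odd_iff.mp (Nat.not_even_iff_odd.mp hodd)
      simp only [pmVec_apply, hj, if_true, Int.ModEq]
      split_ifs <;> omega
  · rw [sqNorm_sixVec hts hj, hcard]
    norm_num
  · rcases (sixVec_vals hts hj j).2.2.1.mp rfl with h' | h' <;> rw [h'] <;> norm_num

lemma classify_six (x : GolayPt → ℤ) (hx : x ∈ leechLattice) (c : GolayPt → ZMod 2)
    (hc : c ∈ golayCode) (h : ∀ i, x i ≡ 2 * ((c i).val : ℤ) [ZMOD 4])
    (hw : hammingNorm c = 8) (hN : sqNorm x = 64) (j : GolayPt) (hj : x j = 6 ∨ x j = -6) :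
    x ∈ sixFam := by
  have hcj : c j = 1 := by
    have := h j
    rcases zmod2_cases (c j) with h' | h'
    · rw [h'] at this
      simp only [ZMod.val_zero, Nat.cast_zero, mul_zero, Int.ModEq] at this
      omega
    · exact h'
  have hsj : slack x c j = 32 := by
    unfold slack
    rw [hcj]
    rcases hj with h' | h' <;> rw [h'] <;> norm_num
  have hothers : ∀ k, k ≠ j → slack x c k = 0 := by
    intro k hk
    have h1 := slack_pair_le x c h (Ne.symm hk)
    have h2 := slack_nonneg x c h k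
    rw [hN, hw, hsj] at h1
    push_cast at h1
    omega
  have hvals : ∀ k, k ≠ j → (c k = 1 → x k = 2 ∨ x k = -2) ∧ (c k = 0 → x k = 0) := by
    intro k hk
    have h1 := hothers k hk
    unfold slack at h1
    constructor
    · intro hck
      rw [hck] at h1
      simp only [ne_eq, one_ne_zero, not_false_eq_true, if_true] at h1
      have h2 : (x k - 2) * (x k + 2) = 0 := by linear_combination h1
      rcases mul_eq_zero.mp h2 with h' | h'
      · left; omega
      · right; omega
    · intro hck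
      rw [hck] at h1
      simp only [ne_eq, not_true_eq_false, if_false, sub_zero] at h1
      exact pow_eq_zero_iff (two_ne_zero) |>.mp h1
  set t := Finset.univ.filter fun i => x i < 0 with ht
  have hts : t ⊆ bsupp c := by
    intro i hi
    rw [ht] at hi
    simp only [Finset.mem_filter, Finset.mem_univ, true_and] at hi
    rw [mem_bsupp]
    by_cases hij : i = j
    · rw [hij]; exact hcj
    · rcases zmod2_cases (c i) with h' | h'
      · have := (hvals i hij).2 h'
        omega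
      · exact h'
  have hjs : j ∈ bsupp c := (mem_bsupp c j).mpr hcj
  have hxeq : x = sixVec (bsupp c) t j := by
    ext i
    simp only [sixVec_apply, pmVec_apply, ht, Finset.mem_filter, Finset.mem_univ, true_and]
    by_cases hij : i = j
    · subst hij
      rw [if_pos rfl, if_pos hjs]
      rcases hj with h' | h' <;> rw [h'] <;> norm_num
    · rw [if_neg hij]
      rcases zmod2_cases (c i) with h' | h'
      · have h0 := (hvals i hij).2 h'
        rw [h0, if_neg (by norm_num), if_neg ((notMem_bsupp c i).mpr h')]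
      · rw [if_pos ((mem_bsupp c i).mpr h')]
        rcases (hvals i hij).1 h' with h'' | h'' <;> rw [h''] <;> norm_num
  have hcard : (bsupp c).card = 8 := by rw [← hammingNorm_eq_card_bsupp, hw]
  have hodd : ¬ Even t.card := by
    have hsum := sum_sixVec hts j
    rw [← hxeq, hcard] at hsum
    have hQ := sum_of_mem x hx
    rw [hsum] at hQ
    obtain ⟨q, hq⟩ := hQ
    have h8n : (8 : ℤ) ∣ 4 * x none := by
      by_cases hn : (none : GolayPt) = j
      · rw [hn]; rcases hj with h' | h' <;> rw [h'] <;> norm_num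
      · rcases zmod2_cases (c none) with h' | h'
        · rw [(hvals none hn).2 h']; norm_num
        · rcases (hvals none hn).1 h' with h'' | h'' <;> rw [h''] <;> norm_num
    obtain ⟨q', hq'⟩ := h8n
    rw [Nat.even_iff]
    simp only [pmVec_apply, hjs, if_true] at hq
    split_ifs at hq <;> omega
  rw [mem_sixFam]
  exact ⟨bsupp c, t, j, ⟨(mem_codeSupps 8 _).mpr ⟨c, hc, hw, rfl⟩, ⟨hts, hodd⟩, hjs⟩, hxeq⟩

/-! ### Vectors with entries `±a` on a `k`-set -/

/-- The vectors with entries `±a` on a set of `k` positions and `0` elsewhere. -/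
@[irreducible] def zeroFam (a : ℤ) (k : ℕ) : Finset (GolayPt → ℤ) :=
  (((Finset.univ : Finset GolayPt).powersetCard k).sigma
      fun s => s.powerset.filter fun _ => True).image
    fun p : (Σ _ : Finset GolayPt, Finset GolayPt) => pmVec a p.1 p.2

lemma mem_zeroFam (a : ℤ) (k : ℕ) (x : GolayPt → ℤ) :
    x ∈ zeroFam a k ↔ ∃ s t : Finset GolayPt, s.card = k ∧ t ⊆ s ∧ x = pmVec a s t := by
  unfold zeroFam
  rw [mem_image_pmVec]
  constructor
  · rintro ⟨s, t, hs, hts, -, rfl⟩
    exact ⟨s, t, (Finset.mem_powersetCard.mp hs).2, hts, rfl⟩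
  · rintro ⟨s, t, hs, hts, rfl⟩
    exact ⟨s, t, Finset.mem_powersetCard.mpr ⟨Finset.subset_univ _, hs⟩, hts, trivial, rfl⟩

lemma card_zeroFam {a : ℤ} (ha : a ≠ 0) (k : ℕ) :
    (zeroFam a k).card = Nat.choose 24 k * 2 ^ k := by
  unfold zeroFam
  rw [card_image_pmVec ha _ _ (2 ^ k), Finset.card_powersetCard, Finset.card_univ,
    golayPt_card]
  intro s hs
  rw [Finset.filter_true_of_mem (fun _ _ => trivial), Finset.card_powerset,
    (Finset.mem_powersetCard.mp hs).2]

lemma pmVec_eight_mem {s t : Finset GolayPt} (ht : t ⊆ s) : pmVec 8 s t ∈ leechLattice := by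
  rw [mem_leechLattice_iff]
  refine ⟨0, 0, golayCode.zero_mem, fun i => ?_, ?_⟩
  · rw [pmVec_apply]
    simp only [Pi.zero_apply, ZMod.val_zero, Nat.cast_zero, mul_zero, add_zero]
    split_ifs <;> decide
  · rw [sum_pmVec 8 ht]
    simp only [Int.ModEq]
    omega

lemma pmVec_abs (a : ℤ) (s t : Finset GolayPt) (i : GolayPt) :
    pmVec a s t i = 0 ∨ pmVec a s t i = a ∨ pmVec a s t i = -a := by
  rw [pmVec_apply]
  split_ifs <;> simp

lemma pmVec_ne_zero_iff {a : ℤ} (ha : a ≠ 0) {s t : Finset GolayPt} (hts : t ⊆ s) (i : GolayPt) :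
    pmVec a s t i ≠ 0 ↔ i ∈ s := by
  rw [pmVec_apply]
  by_cases h1 : i ∈ t
  · simp [h1, hts h1, ha]
  · by_cases h2 : i ∈ s <;> simp [h1, h2, ha]

/-- Classification of the vectors with all entries divisible by 4 and sum of squares 64. -/
lemma classify_zero64 (x : GolayPt → ℤ) (hn : sqNorm x = 64) (h4 : ∀ i, (4 : ℤ) ∣ x i) :
    x ∈ zeroFam 4 4 ∨ x ∈ zeroFam 8 1 := by
  have hn' : ∑ i, x i ^ 2 = 64 := hn
  have hvals : ∀ i, x i = 0 ∨ x i = 4 ∨ x i = -4 ∨ x i = 8 ∨ x i = -8 := by
    intro j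
    have h1 : x j ^ 2 ≤ ∑ i, x i ^ 2 :=
      Finset.single_le_sum (f := fun i => x i ^ 2) (fun i _ => sq_nonneg _) (Finset.mem_univ j)
    rw [hn'] at h1
    obtain ⟨z, hz⟩ := h4 j
    have hlo : -3 < z := by nlinarith
    have hhi : z < 3 := by nlinarith
    omega
  by_cases h8 : ∃ j, x j = 8 ∨ x j = -8
  · right
    obtain ⟨j, hj⟩ := h8
    have hothers : ∀ k, k ≠ j → x k = 0 := by
      intro k hk
      have hsub : ∑ i ∈ ({j, k} : Finset GolayPt), x i ^ 2 ≤ ∑ i, x i ^ 2 :=
        Finset.sum_le_sum_of_subset_of_nonneg (Finset.subset_univ _)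
          (fun i _ _ => sq_nonneg _)
      rw [Finset.sum_pair (Ne.symm hk), hn'] at hsub
      have : x j ^ 2 = 64 := by rcases hj with h' | h' <;> rw [h'] <;> norm_num
      have h0 : x k ^ 2 ≤ 0 := by linarith
      have h0' : x k ^ 2 = 0 := le_antisymm h0 (sq_nonneg _)
      exact pow_eq_zero_iff (two_ne_zero) |>.mp h0'
    have hv8 : ∀ i, x i = 0 ∨ x i = 8 ∨ x i = -8 := by
      intro i
      by_cases hi : i = j
      · rw [hi]; exact Or.inr hj
      · exact Or.inl (hothers i hi)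
    obtain ⟨hx, hts⟩ := eq_pmVec_of_vals (a := 8) (by norm_num) x hv8
    rw [mem_zeroFam]
    refine ⟨_, _, ?_, hts, hx⟩
    have := sqNorm_pmVec 8 hts
    rw [← hx, hn] at this
    omega
  · left
    push Not at h8
    have hv4 : ∀ i, x i = 0 ∨ x i = 4 ∨ x i = -4 := by
      intro i
      rcases hvals i with h' | h' | h' | h' | h'
      · exact Or.inl h'
      · exact Or.inr (Or.inl h')
      · exact Or.inr (Or.inr h')
      · exact absurd h' (h8 i).1
      · exact absurd h' (h8 i).2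
    obtain ⟨hx, hts⟩ := eq_pmVec_of_vals (a := 4) (by norm_num) x hv4
    rw [mem_zeroFam]
    refine ⟨_, _, ?_, hts, hx⟩
    have := sqNorm_pmVec 4 hts
    rw [← hx, hn] at this
    omega

lemma zeroFam_four_sub (k : ℕ) (hk : Even k) (x : GolayPt → ℤ) (hx : x ∈ zeroFam 4 k) :
    x ∈ leechLattice ∧ sqNorm x = 16 * (k : ℤ) ∧ (∀ i, x i = 0 ∨ x i = 4 ∨ x i = -4) ∧
      (Finset.univ.filter fun i => x i = 4 ∨ x i = -4).card = k := by
  obtain ⟨s, t, hs, hts, rfl⟩ := (mem_zeroFam 4 k x).mp hx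
  refine ⟨pmVec_four_mem hts (by rw [hs]; exact hk), ?_, fun i => pmVec_abs 4 s t i, ?_⟩
  · rw [sqNorm_pmVec 4 hts, hs]; norm_num
  · rw [← hs]
    congr 1
    ext i
    simp only [Finset.mem_filter, Finset.mem_univ, true_and]
    rw [← pmVec_ne_zero_iff (a := 4) (by norm_num) hts i]
    rcases pmVec_abs 4 s t i with h' | h' | h' <;> rw [h'] <;> norm_num

lemma zeroFam_eight_sub (x : GolayPt → ℤ) (hx : x ∈ zeroFam 8 1) :
    x ∈ leechLattice ∧ sqNorm x = 64 ∧ (∀ i, x i = 0 ∨ x i = 8 ∨ x i = -8) ∧ ∃ j, |x j| = 8 := by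
  obtain ⟨s, t, hs, hts, rfl⟩ := (mem_zeroFam 8 1 x).mp hx
  refine ⟨pmVec_eight_mem hts, ?_, fun i => pmVec_abs 8 s t i, ?_⟩
  · rw [sqNorm_pmVec 8 hts, hs]; norm_num
  · obtain ⟨j, rfl⟩ := Finset.card_eq_one.mp hs
    refine ⟨j, ?_⟩
    have h0 := (pmVec_ne_zero_iff (a := 8) (by norm_num) hts j).mpr (by simp)
    rcases pmVec_abs 8 {j} t j with h' | h' | h'
    · exact absurd h' h0
    · rw [h']; norm_num
    · rw [h']; norm_num

/-! ### Base vectors `(5, -3, -3, 1^21)` -/

/-- Entry `5` at `j`, `-3` on `s`, and `1` elsewhere. -/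
def mixVec (j : GolayPt) (s : Finset GolayPt) : GolayPt → ℤ :=
  fun i => if i = j then 5 else if i ∈ s then -3 else 1

lemma mixVec_apply (j : GolayPt) (s : Finset GolayPt) (i : GolayPt) :
    mixVec j s i = if i = j then 5 else if i ∈ s then -3 else 1 := rfl

lemma mixVec_vals {j : GolayPt} {s : Finset GolayPt} (hj : j ∉ s) (i : GolayPt) :
    (i = j ↔ mixVec j s i = 5) ∧ (i ∈ s ↔ mixVec j s i = -3) ∧
      (mixVec j s i = 1 ∨ mixVec j s i = -3 ∨ mixVec j s i = 5) := by
  rw [mixVec_apply]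
  by_cases hij : i = j
  · subst hij
    simp [hj]
  · by_cases hs : i ∈ s <;> simp [hij, hs]

lemma mixVec_inj {j j' : GolayPt} {s s' : Finset GolayPt} (hj : j ∉ s) (hj' : j' ∉ s')
    (h : mixVec j s = mixVec j' s') : j = j' ∧ s = s' := by
  constructor
  · have h1 := (mixVec_vals hj j).1.mp rfl
    rw [h] at h1
    exact (mixVec_vals hj' j).1.mpr h1
  · ext i
    rw [(mixVec_vals hj i).2.1, (mixVec_vals hj' i).2.1, h]

lemma mixVec_mod (j : GolayPt) (s : Finset GolayPt) (i : GolayPt) :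
    mixVec j s i ≡ 1 [ZMOD 4] := by
  rw [mixVec_apply]
  split_ifs <;> decide

lemma sum_mixVec {j : GolayPt} {s : Finset GolayPt} (hj : j ∉ s) :
    ∑ i, mixVec j s i = 28 - 4 * (s.card : ℤ) := by
  have h1 : ∀ i, mixVec j s i = 1 + ((if i = j then 4 else 0) + (if i ∈ s then -4 else 0)) := by
    intro i
    rw [mixVec_apply]
    by_cases hij : i = j
    · subst hij; simp [hj]
    · by_cases hs : i ∈ s <;> simp [hij, hs]
  rw [Finset.sum_congr rfl (fun i _ => h1 i), Finset.sum_add_distrib, Finset.sum_add_distrib,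
    Finset.sum_ite_eq' Finset.univ j]
  simp only [Finset.sum_ite_mem, Finset.univ_inter, Finset.sum_const, nsmul_eq_mul,
    Finset.card_univ, golayPt_card, Finset.mem_univ, if_true]
  ring

lemma sqNorm_mixVec {j : GolayPt} {s : Finset GolayPt} (hj : j ∉ s) :
    sqNorm (mixVec j s) = 48 + 8 * (s.card : ℤ) := by
  have h1 : ∀ i, mixVec j s i ^ 2
      = 1 + ((if i = j then 24 else 0) + (if i ∈ s then 8 else 0)) := by
    intro i
    rw [mixVec_apply]
    by_cases hij : i = j
    · subst hij; simp [hj]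
    · by_cases hs : i ∈ s <;> simp [hij, hs]
  unfold sqNorm
  rw [Finset.sum_congr rfl (fun i _ => h1 i), Finset.sum_add_distrib, Finset.sum_add_distrib,
    Finset.sum_ite_eq' Finset.univ j]
  simp only [Finset.sum_ite_mem, Finset.univ_inter, Finset.sum_const, nsmul_eq_mul,
    Finset.card_univ, golayPt_card, Finset.mem_univ, if_true]
  ring

/-- The base vectors of shape `(5, -3, -3, 1^21)`. -/
@[irreducible] def mixVecs : Finset (GolayPt → ℤ) :=
  ((Finset.univ : Finset GolayPt).sigma fun j => (Finset.univ \ {j}).powersetCard 2).image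
    fun p : (Σ _ : GolayPt, Finset GolayPt) => mixVec p.1 p.2

lemma mem_mixVecs (u : GolayPt → ℤ) :
    u ∈ mixVecs ↔ ∃ (j : GolayPt) (s : Finset GolayPt), j ∉ s ∧ s.card = 2 ∧ u = mixVec j s := by
  unfold mixVecs
  simp only [Finset.mem_image, Finset.mem_sigma, Finset.mem_univ, true_and,
    Finset.mem_powersetCard]
  constructor
  · rintro ⟨⟨j, s⟩, ⟨h1, h2⟩, rfl⟩
    refine ⟨j, s, ?_, h2, rfl⟩
    intro hj
    have := h1 hj
    simp at this
  · rintro ⟨j, s, h1, h2, rfl⟩
    refine ⟨⟨j, s⟩, ⟨?_, h2⟩, rfl⟩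
    intro i hi
    simp only [Finset.mem_sdiff, Finset.mem_univ, Finset.mem_singleton, true_and]
    rintro rfl
    exact h1 hi

lemma card_mixVecs : mixVecs.card = 6072 := by
  unfold mixVecs
  rw [Finset.card_image_of_injOn]
  · rw [Finset.card_sigma]
    have : ∀ j ∈ (Finset.univ : Finset GolayPt),
        ((Finset.univ \ {j} : Finset GolayPt).powersetCard 2).card = 253 := by
      intro j _
      rw [Finset.card_powersetCard, Finset.card_sdiff_of_subset (Finset.subset_univ _),
        Finset.card_univ, golayPt_card, Finset.card_singleton]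
      rfl
    rw [Finset.sum_congr rfl this, Finset.sum_const, smul_eq_mul, Finset.card_univ, golayPt_card]
  · rintro ⟨j, s⟩ hq ⟨j', s'⟩ hq' h
    simp only [Finset.coe_sigma, Set.mem_sigma_iff, Finset.mem_coe, Finset.mem_univ, true_and,
      Finset.mem_powersetCard] at hq hq'
    have hj : j ∉ s := fun hj => by
      have := hq.1 hj
      simp at this
    have hj' : j' ∉ s' := fun hj => by
      have := hq'.1 hj
      simp at this
    obtain ⟨rfl, rfl⟩ := mixVec_inj hj hj' h
    rfl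

lemma card_oddFam_mixVecs : (oddFam mixVecs).card = 24870912 := by
  rw [card_oddFam, card_mixVecs]
  intro u hu i
  obtain ⟨j, s, -, -, rfl⟩ := (mem_mixVecs u).mp hu
  exact mixVec_mod j s i

lemma oddFam_mixVecs_sub (x : GolayPt → ℤ) (hx : x ∈ oddFam mixVecs) :
    x ∈ leechLattice ∧ sqNorm x = 64 ∧ (∀ i, |x i| = 1 ∨ |x i| = 3 ∨ |x i| = 5) ∧
      ∃ j, |x j| = 5 := by
  obtain ⟨u, hu, c, hc, rfl⟩ := (mem_oddFam mixVecs x).mp hx
  obtain ⟨j, s, hj, hs, rfl⟩ := (mem_mixVecs u).mp hu
  refine ⟨?_, ?_, ?_, ⟨j, ?_⟩⟩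
  · apply signVec_mem hc
    apply mem_of_one_mod_four _ (mixVec_mod j s)
    rw [sum_mixVec hj, hs]
    decide
  · rw [sqNorm_signVec, sqNorm_mixVec hj, hs]
    norm_num
  · intro i
    rw [abs_signVec]
    rcases (mixVec_vals hj i).2.2 with h' | h' | h' <;> rw [h'] <;> norm_num
  · rw [abs_signVec, (mixVec_vals hj j).1.mp rfl]
    norm_num

lemma classify_odd64 (x : GolayPt → ℤ) (hx : x ∈ leechLattice) (hn : sqNorm x = 64)
    (c : GolayPt → ZMod 2) (hc : c ∈ golayCode)
    (h : ∀ i, x i ≡ 1 + 2 * ((c i).val : ℤ) [ZMOD 4]) :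
    x ∈ oddFam (oneVecs 5 (-3)) ∨ x ∈ oddFam mixVecs := by
  obtain ⟨u, hu, -, hnu, rfl⟩ := odd_decomp x hx c hc h
  rw [hn] at hnu
  obtain ⟨hvals, hsum⟩ := base_vals u hu (by rw [hnu]; norm_num)
  rw [hnu] at hsum
  set s3 := Finset.univ.filter fun i => u i = -3 with hs3
  set s5 := Finset.univ.filter fun i => u i = 5 with hs5
  have hcases : (s3.card = 5 ∧ s5.card = 0) ∨ (s3.card = 2 ∧ s5.card = 1) := by omega
  rcases hcases with ⟨h3, h5⟩ | ⟨h3, h5⟩
  · left
    rw [mem_oddFam_oneVecs]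
    refine ⟨s3, h3, c, hc, ?_⟩
    congr 1
    ext i
    rw [oneVec_apply]
    have hi5 : u i ≠ 5 := by
      intro h'
      have : i ∈ s5 := by rw [hs5]; simp [h']
      rw [Finset.card_eq_zero.mp h5] at this
      simp at this
    by_cases hi : u i = -3
    · rw [if_pos (by rw [hs3]; simp [hi]), hi]
    · rw [if_neg (by rw [hs3]; simp [hi])]
      rcases hvals i with h' | h' | h'
      · exact h'
      · exact absurd h' hi
      · exact absurd h' hi5
  · right
    rw [mem_oddFam]
    obtain ⟨j, hj⟩ := Finset.card_eq_one.mp h5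
    have hj5 : ∀ i, u i = 5 ↔ i = j := by
      intro i
      have : i ∈ s5 ↔ i ∈ ({j} : Finset GolayPt) := by rw [hj]
      simpa [hs5] using this
    have hjs : j ∉ s3 := by
      rw [hs3]
      simp only [Finset.mem_filter, Finset.mem_univ, true_and]
      rw [(hj5 j).mpr rfl]
      norm_num
    refine ⟨mixVec j s3, (mem_mixVecs _).mpr ⟨j, s3, hjs, h3, rfl⟩, c, hc, ?_⟩
    congr 1
    ext i
    rw [mixVec_apply]
    by_cases hij : i = j
    · rw [if_pos hij, (hj5 i).mpr hij]
    · rw [if_neg hij]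
      have hi5 : u i ≠ 5 := fun h' => hij ((hj5 i).mp h')
      by_cases hi : u i = -3
      · rw [if_pos (by rw [hs3]; simp [hi]), hi]
      · rw [if_neg (by rw [hs3]; simp [hi])]
        rcases hvals i with h' | h' | h'
        · exact h'
        · exact absurd h' hi
        · exact absurd h' hi5

end Cfsg.Agent.Lib.Helper94
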