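import Mathlib
import Cfsg.Agent.Lib.Helper94.LeechCount3
import Cfsg.Agent.Lib.Helper95.GolayCodeCfsg

/-! The lattice vectors of sum of squares 64, sorted into eight families. -/

set_option autoImplicit false

namespace Cfsg.Agent.Lib.Helper94

open Cfsg
open Cfsg.Agent.Lib.Helper95
open Cfsg.Agent.S0391 (zmod2_cases val_le_one shape_of_mem shape_normal sum_of_mem sum_val_eq)

lemma card_codeWords_sixteen : (codeWords 16).card = 759 := by
  rw [card_codeWords_eq]
  exact (g24_dodecads_ncard golayPt_card golayCode golayCode_finrank golayCode_hmin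
    golayCode_horth golayCode_one_mem).2

/-- The eight families of lattice vectors of sum of squares 64. -/
theorem norm64_iff (x : GolayPt → ℤ) :
    (x ∈ leechLattice ∧ sqNorm x = 64) ↔
      x ∈ evenFam 16 0 ∨ x ∈ evenFam 12 1 ∨ x ∈ evenFam 8 2 ∨ x ∈ sixFam ∨ x ∈ zeroFam 4 4 ∨
        x ∈ zeroFam 8 1 ∨ x ∈ oddFam (oneVecs 5 (-3)) ∨ x ∈ oddFam mixVecs := by
  constructor
  · rintro ⟨hx, hn⟩
    obtain ⟨c, hc, h | h⟩ := shape_normal x (shape_of_mem x hx)
    · by_cases hc0 : c = 0
      · have h4 : ∀ i, (4 : ℤ) ∣ x i := by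
          intro i
          have := h i
          rw [hc0] at this
          simp only [Pi.zero_apply, ZMod.val_zero, Nat.cast_zero, mul_zero] at this
          exact Int.modEq_zero_iff_dvd.mp this
        rcases classify_zero64 x hn h4 with h' | h'
        · right; right; right; right; left; exact h'
        · right; right; right; right; right; left; exact h'
      · have hwts := g24_weights golayPt_card golayCode golayCode_finrank golayCode_hmin
          golayCode_horth golayCode_one_mem c hc
        have hle := four_wt_le x c h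
        rw [hn] at hle
        have h0 : hammingNorm c ≠ 0 := by
          rw [Ne, hammingNorm_eq_zero]; exact hc0
        have hcases : hammingNorm c = 16 ∨ hammingNorm c = 12 ∨ hammingNorm c = 8 := by omega
        rcases hcases with hw | hw | hw
        · left
          exact classify_even_code x hx c hc h 16 0 hw (by rw [hn]; norm_num) (by norm_num)
        · right; left
          exact classify_even_code x hx c hc h 12 1 hw (by rw [hn]; norm_num) (by norm_num)
        · have hvals : ∀ i, x i = 0 ∨ x i = 2 ∨ x i = -2 ∨ x i = 4 ∨ x i = -4 ∨ x i = 6 ∨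
              x i = -6 := by
            intro i
            have h1 := slack_le x c h i
            rw [hn, hw] at h1
            unfold slack at h1
            have h2 := h i
            rcases zmod2_cases (c i) with hci | hci
            · rw [hci] at h1 h2
              simp only [ne_eq, not_true_eq_false, if_false, ZMod.val_zero, Nat.cast_zero,
                mul_zero, sub_zero] at h1 h2
              have h36 : x i ^ 2 < 64 := by push_cast at h1; linarith
              have hlo : -8 < x i := by nlinarith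
              have hhi : x i < 8 := by nlinarith
              simp only [Int.ModEq] at h2
              omega
            · rw [hci] at h1 h2
              simp only [ne_eq, one_ne_zero, not_false_eq_true, if_true, ZMod.val_one,
                Nat.cast_one, mul_one] at h1 h2
              have h36 : x i ^ 2 < 64 := by push_cast at h1; linarith
              have hlo : -8 < x i := by nlinarith
              have hhi : x i < 8 := by nlinarith
              simp only [Int.ModEq] at h2
              omega
          by_cases h6 : ∃ j, x j = 6 ∨ x j = -6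
          · obtain ⟨j, hj⟩ := h6
            right; right; right; left
            exact classify_six x hx c hc h hw hn j hj
          · push Not at h6
            right; right; left
            apply classify_even_code' x hx c hc h 8 2 hw (by rw [hn]; norm_num)
            intro i
            rcases hvals i with h' | h' | h' | h' | h' | h' | h'
            · exact Or.inl h'
            · exact Or.inr (Or.inl h')
            · exact Or.inr (Or.inr (Or.inl h'))
            · exact Or.inr (Or.inr (Or.inr (Or.inl h')))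
            · exact Or.inr (Or.inr (Or.inr (Or.inr h')))
            · exact absurd h' (h6 i).1
            · exact absurd h' (h6 i).2
    · rcases classify_odd64 x hx hn c hc h with h' | h'
      · right; right; right; right; right; right; left; exact h'
      · right; right; right; right; right; right; right; exact h'
  · rintro (h | h | h | h | h | h | h | h)
    · obtain ⟨h1, h2, -⟩ := evenFam_sub 16 0 (by norm_num) x h
      exact ⟨h1, by rw [h2]; norm_num⟩
    · obtain ⟨h1, h2, -⟩ := evenFam_sub 12 1 (by norm_num) x h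
      exact ⟨h1, by rw [h2]; norm_num⟩
    · obtain ⟨h1, h2, -⟩ := evenFam_sub 8 2 (by norm_num) x h
      exact ⟨h1, by rw [h2]; norm_num⟩
    · obtain ⟨h1, h2, -⟩ := sixFam_sub x h
      exact ⟨h1, h2⟩
    · obtain ⟨h1, h2, -⟩ := zeroFam_four_sub 4 (by decide) x h
      exact ⟨h1, by rw [h2]; norm_num⟩
    · obtain ⟨h1, h2, -⟩ := zeroFam_eight_sub x h
      exact ⟨h1, h2⟩
    · obtain ⟨h1, h2, -⟩ := oddFam_oneVecs_sub 5 (b := -3) (by decide) (by decide) x h
      exact ⟨h1, by rw [h2]; norm_num⟩
    · obtain ⟨h1, h2, -⟩ := oddFam_mixVecs_sub x h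
      exact ⟨h1, h2⟩

/-! ### A tag telling the families apart -/

open Classical in
/-- A number read off the entries of a vector, constant on each family. -/
noncomputable def tag (x : GolayPt → ℤ) : ℕ :=
  if x none % 2 = 1 then (if ∃ i, |x i| = 5 then 8 else 7)
  else if ∃ i, |x i| = 8 then 6
  else if ∃ i, |x i| = 6 then 4
  else 10 + (Finset.univ.filter fun i => x i = 4 ∨ x i = -4).card

lemma disj_of_tag {A B : Finset (GolayPt → ℤ)} {a b : ℕ} (hA : ∀ x ∈ A, tag x = a)
    (hB : ∀ x ∈ B, tag x = b) (hab : a ≠ b) : Disjoint A B := by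
  rw [Finset.disjoint_left]
  intro x h1 h2
  exact hab ((hA x h1).symm.trans (hB x h2))

lemma tag_evenFam (w k : ℕ) (hw : 4 ∣ w) : ∀ x ∈ evenFam w k, tag x = 10 + k := by
  intro x hx
  obtain ⟨-, -, hv, hc⟩ := evenFam_sub w k hw x hx
  unfold tag
  have h1 : ¬ (x none % 2 = 1) := by
    rcases hv none with h' | h' | h' | h' | h' <;> rw [h'] <;> norm_num
  have h2 : ¬ ∃ i, |x i| = 8 := by
    rintro ⟨i, hi⟩
    rcases hv i with h' | h' | h' | h' | h' <;> rw [h'] at hi <;> norm_num at hi
  have h3 : ¬ ∃ i, |x i| = 6 := by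
    rintro ⟨i, hi⟩
    rcases hv i with h' | h' | h' | h' | h' <;> rw [h'] at hi <;> norm_num at hi
  rw [if_neg h1, if_neg h2, if_neg h3, hc]

lemma tag_sixFam : ∀ x ∈ sixFam, tag x = 4 := by
  intro x hx
  obtain ⟨-, -, hv, h6⟩ := sixFam_sub x hx
  unfold tag
  have h1 : ¬ (x none % 2 = 1) := by
    rcases hv none with h' | h' | h' | h' | h' <;> rw [h'] <;> norm_num
  have h2 : ¬ ∃ i, |x i| = 8 := by
    rintro ⟨i, hi⟩
    rcases hv i with h' | h' | h' | h' | h' <;> rw [h'] at hi <;> norm_num at hi
  rw [if_neg h1, if_neg h2, if_pos h6]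

lemma tag_zeroFam_four : ∀ x ∈ zeroFam 4 4, tag x = 14 := by
  intro x hx
  obtain ⟨-, -, hv, hc⟩ := zeroFam_four_sub 4 (by decide) x hx
  unfold tag
  have h1 : ¬ (x none % 2 = 1) := by
    rcases hv none with h' | h' | h' <;> rw [h'] <;> norm_num
  have h2 : ¬ ∃ i, |x i| = 8 := by
    rintro ⟨i, hi⟩
    rcases hv i with h' | h' | h' <;> rw [h'] at hi <;> norm_num at hi
  have h3 : ¬ ∃ i, |x i| = 6 := by
    rintro ⟨i, hi⟩
    rcases hv i with h' | h' | h' <;> rw [h'] at hi <;> norm_num at hi
  rw [if_neg h1, if_neg h2, if_neg h3, hc]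

lemma tag_zeroFam_eight : ∀ x ∈ zeroFam 8 1, tag x = 6 := by
  intro x hx
  obtain ⟨-, -, hv, h8⟩ := zeroFam_eight_sub x hx
  unfold tag
  have h1 : ¬ (x none % 2 = 1) := by
    rcases hv none with h' | h' | h' <;> rw [h'] <;> norm_num
  rw [if_neg h1, if_pos h8]

lemma tag_odd5 : ∀ x ∈ oddFam (oneVecs 5 (-3)), tag x = 7 := by
  intro x hx
  obtain ⟨-, -, hv, -⟩ := oddFam_oneVecs_sub 5 (b := -3) (by decide) (by decide) x hx
  unfold tag
  have h1 : x none % 2 = 1 := by
    rcases hv none with h' | h'
    · rcases abs_eq (by norm_num : (0:ℤ) ≤ 1) |>.mp h' with h'' | h'' <;> rw [h''] <;> norm_num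
    · rcases abs_eq (by norm_num : (0:ℤ) ≤ |(-3 : ℤ)|) |>.mp h' with h'' | h'' <;> rw [h''] <;>
        norm_num
  have h2 : ¬ ∃ i, |x i| = 5 := by
    rintro ⟨i, hi⟩
    rcases hv i with h' | h' <;> rw [hi] at h' <;> norm_num at h'
  rw [if_pos h1, if_neg h2]

lemma tag_mix : ∀ x ∈ oddFam mixVecs, tag x = 8 := by
  intro x hx
  obtain ⟨-, -, hv, h5⟩ := oddFam_mixVecs_sub x hx
  unfold tag
  have h1 : x none % 2 = 1 := by
    rcases hv none with h' | h' | h'
    · rcases abs_eq (by norm_num : (0:ℤ) ≤ 1) |>.mp h' with h'' | h'' <;> rw [h''] <;> norm_num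
    · rcases abs_eq (by norm_num : (0:ℤ) ≤ 3) |>.mp h' with h'' | h'' <;> rw [h''] <;> norm_num
    · rcases abs_eq (by norm_num : (0:ℤ) ≤ 5) |>.mp h' with h'' | h'' <;> rw [h''] <;> norm_num
  rw [if_pos h1, if_pos h5]

/-- The number of lattice vectors of sum of squares 64. -/
theorem card_norm64 :
    {x : GolayPt → ℤ | x ∈ leechLattice ∧ sqNorm x = 64}.ncard = 398034000 := by
  classical
  have hS : {x : GolayPt → ℤ | x ∈ leechLattice ∧ sqNorm x = 64}
      = ↑(evenFam 16 0 ∪ evenFam 12 1 ∪ evenFam 8 2 ∪ sixFam ∪ zeroFam 4 4 ∪ zeroFam 8 1 ∪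
          oddFam (oneVecs 5 (-3)) ∪ oddFam mixVecs) := by
    ext x
    simp only [Set.mem_ofPred_eq, Finset.coe_union, Set.mem_union, Finset.mem_coe]
    rw [norm64_iff]
    tauto
  have t1 := tag_evenFam 16 0 (by norm_num)
  have t2 := tag_evenFam 12 1 (by norm_num)
  have t3 := tag_evenFam 8 2 (by norm_num)
  have t4 := tag_sixFam
  have t5 := tag_zeroFam_four
  have t6 := tag_zeroFam_eight
  have t7 := tag_odd5
  have t8 := tag_mix
  have d2 : Disjoint (evenFam 16 0) (evenFam 12 1) := disj_of_tag t1 t2 (by decide)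
  have d3 : Disjoint (evenFam 16 0 ∪ evenFam 12 1) (evenFam 8 2) :=
    Finset.disjoint_union_left.mpr ⟨disj_of_tag t1 t3 (by decide), disj_of_tag t2 t3 (by decide)⟩
  have d4 : Disjoint (evenFam 16 0 ∪ evenFam 12 1 ∪ evenFam 8 2) sixFam :=
    Finset.disjoint_union_left.mpr ⟨Finset.disjoint_union_left.mpr
      ⟨disj_of_tag t1 t4 (by decide), disj_of_tag t2 t4 (by decide)⟩,
      disj_of_tag t3 t4 (by decide)⟩
  have d5 : Disjoint (evenFam 16 0 ∪ evenFam 12 1 ∪ evenFam 8 2 ∪ sixFam) (zeroFam 4 4) :=
    Finset.disjoint_union_left.mpr ⟨Finset.disjoint_union_left.mpr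
      ⟨Finset.disjoint_union_left.mpr
        ⟨disj_of_tag t1 t5 (by decide), disj_of_tag t2 t5 (by decide)⟩,
      disj_of_tag t3 t5 (by decide)⟩, disj_of_tag t4 t5 (by decide)⟩
  have d6 : Disjoint (evenFam 16 0 ∪ evenFam 12 1 ∪ evenFam 8 2 ∪ sixFam ∪ zeroFam 4 4)
      (zeroFam 8 1) :=
    Finset.disjoint_union_left.mpr ⟨Finset.disjoint_union_left.mpr
      ⟨Finset.disjoint_union_left.mpr ⟨Finset.disjoint_union_left.mpr
        ⟨disj_of_tag t1 t6 (by decide), disj_of_tag t2 t6 (by decide)⟩,
      disj_of_tag t3 t6 (by decide)⟩, disj_of_tag t4 t6 (by decide)⟩,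
      disj_of_tag t5 t6 (by decide)⟩
  have d7 : Disjoint (evenFam 16 0 ∪ evenFam 12 1 ∪ evenFam 8 2 ∪ sixFam ∪ zeroFam 4 4 ∪
      zeroFam 8 1) (oddFam (oneVecs 5 (-3))) :=
    Finset.disjoint_union_left.mpr ⟨Finset.disjoint_union_left.mpr
      ⟨Finset.disjoint_union_left.mpr ⟨Finset.disjoint_union_left.mpr
        ⟨Finset.disjoint_union_left.mpr
        ⟨disj_of_tag t1 t7 (by decide), disj_of_tag t2 t7 (by decide)⟩,
      disj_of_tag t3 t7 (by decide)⟩, disj_of_tag t4 t7 (by decide)⟩,
      disj_of_tag t5 t7 (by decide)⟩, disj_of_tag t6 t7 (by decide)⟩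
  have d8 : Disjoint (evenFam 16 0 ∪ evenFam 12 1 ∪ evenFam 8 2 ∪ sixFam ∪ zeroFam 4 4 ∪
      zeroFam 8 1 ∪ oddFam (oneVecs 5 (-3))) (oddFam mixVecs) :=
    Finset.disjoint_union_left.mpr ⟨Finset.disjoint_union_left.mpr
      ⟨Finset.disjoint_union_left.mpr ⟨Finset.disjoint_union_left.mpr
        ⟨Finset.disjoint_union_left.mpr ⟨Finset.disjoint_union_left.mpr
        ⟨disj_of_tag t1 t8 (by decide), disj_of_tag t2 t8 (by decide)⟩,
      disj_of_tag t3 t8 (by decide)⟩, disj_of_tag t4 t8 (by decide)⟩,
      disj_of_tag t5 t8 (by decide)⟩, disj_of_tag t6 t8 (by decide)⟩,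
      disj_of_tag t7 t8 (by decide)⟩
  rw [hS, Set.ncard_coe_finset, Finset.card_union_of_disjoint d8,
    Finset.card_union_of_disjoint d7, Finset.card_union_of_disjoint d6,
    Finset.card_union_of_disjoint d5, Finset.card_union_of_disjoint d4,
    Finset.card_union_of_disjoint d3, Finset.card_union_of_disjoint d2,
    card_evenFam 16 0 (by norm_num), card_evenFam 12 1 (by norm_num),
    card_evenFam 8 2 (by norm_num), card_sixFam, card_zeroFam (by norm_num),
    card_zeroFam (by norm_num), card_oddFam_oneVecs 5 (by decide) (by norm_num),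
    card_oddFam_mixVecs, card_codeWords_sixteen, card_codeWords_twelve, card_codeWords_eight]
  norm_num [Nat.choose]

end Cfsg.Agent.Lib.Helper94
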