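import Mathlib
import Cfsg.Agent.Lib.Helper94.LeechCount2
import Cfsg.Agent.Lib.Helper95.GolayCodeCfsg

/-! The lattice vectors of sum of squares 48, sorted into four families. -/

set_option autoImplicit false

namespace Cfsg.Agent.Lib.Helper94

open Cfsg
open Cfsg.Agent.Lib.Helper95
open Cfsg.Agent.S0391 (zmod2_cases val_le_one shape_of_mem shape_normal sum_of_mem sum_val_eq)

lemma classify_odd48 (x : GolayPt → ℤ) (hx : x ∈ leechLattice) (hn : sqNorm x = 48)
    (c : GolayPt → ZMod 2) (hc : c ∈ golayCode)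
    (h : ∀ i, x i ≡ 1 + 2 * ((c i).val : ℤ) [ZMOD 4]) :
    x ∈ oddFam (oneVecs 3 (-3)) ∨ x ∈ oddFam (oneVecs 1 5) := by
  obtain ⟨u, hu, -, hnu, rfl⟩ := odd_decomp x hx c hc h
  rw [hn] at hnu
  obtain ⟨hvals, hsum⟩ := base_vals u hu (by rw [hnu]; norm_num)
  rw [hnu] at hsum
  set s3 := Finset.univ.filter fun i => u i = -3 with hs3
  set s5 := Finset.univ.filter fun i => u i = 5 with hs5
  have hcases : (s3.card = 3 ∧ s5.card = 0) ∨ (s3.card = 0 ∧ s5.card = 1) := by omega
  rcases hcases with ⟨h3, h5⟩ | ⟨h3, h5⟩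
  · left
    rw [mem_oddFam_oneVecs]
    refine ⟨s3, h3, c, hc, ?_⟩
    congr 1
    ext i
    rw [oneVec_apply]
    have hi5 : u i ≠ 5 := by
      intro h'
      have : i ∈ s5 := by rw [hs5]; simp [h']
      rw [Finset.card_eq_zero.mp h5] at this
      simp at this
    by_cases hi : u i = -3
    · rw [if_pos (by rw [hs3]; simp [hi]), hi]
    · rw [if_neg (by rw [hs3]; simp [hi])]
      rcases hvals i with h' | h' | h'
      · exact h'
      · exact absurd h' hi
      · exact absurd h' hi5
  · right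
    rw [mem_oddFam_oneVecs]
    refine ⟨s5, h5, c, hc, ?_⟩
    congr 1
    ext i
    rw [oneVec_apply]
    have hi3 : u i ≠ -3 := by
      intro h'
      have : i ∈ s3 := by rw [hs3]; simp [h']
      rw [Finset.card_eq_zero.mp h3] at this
      simp at this
    by_cases hi : u i = 5
    · rw [if_pos (by rw [hs5]; simp [hi]), hi]
    · rw [if_neg (by rw [hs5]; simp [hi])]
      rcases hvals i with h' | h' | h'
      · exact h'
      · exact absurd h' hi3
      · exact absurd h' hi

/-- The four families of lattice vectors of sum of squares 48. -/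
theorem norm48_iff (x : GolayPt → ℤ) :
    (x ∈ leechLattice ∧ sqNorm x = 48) ↔
      x ∈ evenFam 12 0 ∨ x ∈ oddFam (oneVecs 3 (-3)) ∨ x ∈ evenFam 8 1 ∨
        x ∈ oddFam (oneVecs 1 5) := by
  constructor
  · rintro ⟨hx, hn⟩
    obtain ⟨c, hc, h | h⟩ := shape_normal x (shape_of_mem x hx)
    · by_cases hc0 : c = 0
      · exfalso
        have h4 : ∀ i, (4 : ℤ) ∣ x i := by
          intro i
          have := h i
          rw [hc0] at this
          simp only [Pi.zero_apply, ZMod.val_zero, Nat.cast_zero, mul_zero] at this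
          exact Int.modEq_zero_iff_dvd.mp this
        have := dvd_sqNorm_of_four_dvd x hx h4
        rw [hn] at this
        omega
      · have hwts := g24_weights golayPt_card golayCode golayCode_finrank golayCode_hmin
          golayCode_horth golayCode_one_mem c hc
        have hle := four_wt_le x c h
        rw [hn] at hle
        have h0 : hammingNorm c ≠ 0 := by
          rw [Ne, hammingNorm_eq_zero]; exact hc0
        have hcases : hammingNorm c = 12 ∨ hammingNorm c = 8 := by omega
        rcases hcases with hw | hw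
        · left
          exact classify_even_code x hx c hc h 12 0 hw (by rw [hn]; norm_num) (by norm_num)
        · right; right; left
          exact classify_even_code x hx c hc h 8 1 hw (by rw [hn]; norm_num) (by norm_num)
    · rcases classify_odd48 x hx hn c hc h with h' | h'
      · right; left; exact h'
      · right; right; right; exact h'
  · rintro (h | h | h | h)
    · obtain ⟨h1, h2, -⟩ := evenFam_sub 12 0 (by norm_num) x h
      exact ⟨h1, by rw [h2]; norm_num⟩
    · obtain ⟨h1, h2, -⟩ := oddFam_oneVecs_sub 3 (b := -3) (by decide) (by decide) x h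
      exact ⟨h1, by rw [h2]; norm_num⟩
    · obtain ⟨h1, h2, -⟩ := evenFam_sub 8 1 (by norm_num) x h
      exact ⟨h1, by rw [h2]; norm_num⟩
    · obtain ⟨h1, h2, -⟩ := oddFam_oneVecs_sub 1 (b := 5) (by decide) (by decide) x h
      exact ⟨h1, by rw [h2]; norm_num⟩

lemma card_fam48_1 : (evenFam 12 0).card = 5275648 := by
  rw [card_evenFam 12 0 (by norm_num), card_codeWords_twelve]
  norm_num

lemma card_fam48_2 : (oddFam (oneVecs 3 (-3))).card = 8290304 := by
  rw [card_oddFam_oneVecs 3 (by decide) (by norm_num)]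
  norm_num [Nat.choose]

lemma card_fam48_3 : (evenFam 8 1).card = 3108864 := by
  rw [card_evenFam 8 1 (by norm_num), card_codeWords_eight]
  norm_num [Nat.choose]

lemma card_fam48_4 : (oddFam (oneVecs 1 5)).card = 98304 := by
  rw [card_oddFam_oneVecs 1 (by decide) (by norm_num)]
  norm_num

/-- Entry patterns that tell the four families apart. -/
lemma fam48_1_vals (x : GolayPt → ℤ) (h : x ∈ evenFam 12 0) : ∀ i, x i = 0 ∨ x i = 2 ∨ x i = -2 := by
  obtain ⟨-, -, hv, hc⟩ := evenFam_sub 12 0 (by norm_num) x h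
  intro i
  rcases hv i with h' | h' | h' | h' | h'
  · exact Or.inl h'
  · exact Or.inr (Or.inl h')
  · exact Or.inr (Or.inr h')
  · exfalso
    have : i ∈ (Finset.univ.filter fun i => x i = 4 ∨ x i = -4) := by simp [h']
    rw [Finset.card_eq_zero.mp hc] at this
    simp at this
  · exfalso
    have : i ∈ (Finset.univ.filter fun i => x i = 4 ∨ x i = -4) := by simp [h']
    rw [Finset.card_eq_zero.mp hc] at this
    simp at this

lemma fam48_3_vals (x : GolayPt → ℤ) (h : x ∈ evenFam 8 1) :
    (∀ i, x i = 0 ∨ x i = 2 ∨ x i = -2 ∨ x i = 4 ∨ x i = -4) ∧ ∃ i, |x i| = 4 := by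
  obtain ⟨-, -, hv, hc⟩ := evenFam_sub 8 1 (by norm_num) x h
  refine ⟨hv, ?_⟩
  obtain ⟨i, hi⟩ := Finset.card_eq_one.mp hc
  have : i ∈ (Finset.univ.filter fun i => x i = 4 ∨ x i = -4) := by rw [hi]; simp
  simp only [Finset.mem_filter, Finset.mem_univ, true_and] at this
  refine ⟨i, ?_⟩
  rcases this with h' | h' <;> rw [h'] <;> norm_num

lemma fam48_2_vals (x : GolayPt → ℤ) (h : x ∈ oddFam (oneVecs 3 (-3))) :
    (∀ i, |x i| = 1 ∨ |x i| = 3) ∧
      ∃ i j k, i ≠ j ∧ j ≠ k ∧ i ≠ k ∧ |x i| = 3 ∧ |x j| = 3 ∧ |x k| = 3 := by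
  obtain ⟨-, -, hv, s, hs, hs3⟩ := oddFam_oneVecs_sub 3 (b := -3) (by decide) (by decide) x h
  refine ⟨fun i => by simpa using hv i, ?_⟩
  obtain ⟨i, j, k, hij, hik, hjk, rfl⟩ := Finset.card_eq_three.mp hs
  refine ⟨i, j, k, hij, hjk, hik, ?_, ?_, ?_⟩
  · simpa using hs3 i (by simp)
  · simpa using hs3 j (by simp)
  · simpa using hs3 k (by simp)

lemma fam48_4_vals (x : GolayPt → ℤ) (h : x ∈ oddFam (oneVecs 1 5)) :
    (∀ i, |x i| = 1 ∨ |x i| = 5) ∧ ∃ i, |x i| = 5 := by
  obtain ⟨-, -, hv, s, hs, hs3⟩ := oddFam_oneVecs_sub 1 (b := 5) (by decide) (by decide) x h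
  refine ⟨fun i => by simpa using hv i, ?_⟩
  obtain ⟨i, rfl⟩ := Finset.card_eq_one.mp hs
  exact ⟨i, by simpa using hs3 i (by simp)⟩

end Cfsg.Agent.Lib.Helper94
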