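import Mathlib
import Cfsg.Agent.Lib.Helper94.LeechFrame
import Cfsg.Agent.Lib.Helper94.LeechCount64
import Cfsg.Agent.S0394
import Cfsg.Agent.S0395

/-! Counting the classes of the lattice modulo twice the lattice by their short vectors. -/

set_option autoImplicit false

namespace Cfsg.Agent.Lib.Helper94

open Cfsg
open Cfsg.Agent.Lib.Helper95

/-- An abstract form of the count `1 + 196560/2 + 16773120/2 + 398034000/48 = 2^24`. -/
lemma class_count {V Q : Type*} [Fintype Q] [DecidableEq Q] [DecidableEq V] (f : V → Q)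
    (A4 A6 A8 : Finset V) (q0 : Q)
    (hQ : Fintype.card Q = 16777216)
    (h4 : A4.card = 196560) (h6 : A6.card = 16773120) (h8 : A8.card = 398034000)
    (f4 : ∀ b, (A4.filter (fun a => f a = b)).card ≤ 2)
    (f6 : ∀ b, (A6.filter (fun a => f a = b)).card ≤ 2)
    (f8 : ∀ b, (A8.filter (fun a => f a = b)).card ≤ 48)
    (d46 : ∀ x ∈ A4, ∀ y ∈ A6, f x ≠ f y) (d48 : ∀ x ∈ A4, ∀ y ∈ A8, f x ≠ f y)
    (d68 : ∀ x ∈ A6, ∀ y ∈ A8, f x ≠ f y) (d04 : ∀ x ∈ A4, f x ≠ q0)
    (d06 : ∀ x ∈ A6, f x ≠ q0) (d08 : ∀ x ∈ A8, f x ≠ q0) :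
    (∀ q, q = q0 ∨ ∃ x ∈ A4 ∪ A6 ∪ A8, f x = q) ∧
      ∀ x ∈ A8, (A8.filter (fun a => f a = f x)).card = 48 := by
  have c4 := Finset.card_le_mul_card_image (f := f) A4 2 (fun b _ => f4 b)
  have c6 := Finset.card_le_mul_card_image (f := f) A6 2 (fun b _ => f6 b)
  have c8 := Finset.card_le_mul_card_image (f := f) A8 48 (fun b _ => f8 b)
  rw [h4] at c4
  rw [h6] at c6
  rw [h8] at c8
  have e46 : Disjoint (A4.image f) (A6.image f) := by
    rw [Finset.disjoint_left]
    intro q h1 h2
    obtain ⟨x, hx, rfl⟩ := Finset.mem_image.mp h1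
    obtain ⟨y, hy, h⟩ := Finset.mem_image.mp h2
    exact d46 x hx y hy h.symm
  have e468 : Disjoint (A4.image f ∪ A6.image f) (A8.image f) := by
    rw [Finset.disjoint_left]
    intro q h1 h2
    obtain ⟨y, hy, h⟩ := Finset.mem_image.mp h2
    rcases Finset.mem_union.mp h1 with h1 | h1
    · obtain ⟨x, hx, rfl⟩ := Finset.mem_image.mp h1
      exact d48 x hx y hy h.symm
    · obtain ⟨x, hx, rfl⟩ := Finset.mem_image.mp h1
      exact d68 x hx y hy h.symm
  have e0 : Disjoint (A4.image f ∪ A6.image f ∪ A8.image f) {q0} := by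
    rw [Finset.disjoint_singleton_right]
    intro h1
    rcases Finset.mem_union.mp h1 with h1 | h1
    · rcases Finset.mem_union.mp h1 with h1 | h1
      · obtain ⟨x, hx, h⟩ := Finset.mem_image.mp h1
        exact d04 x hx h
      · obtain ⟨x, hx, h⟩ := Finset.mem_image.mp h1
        exact d06 x hx h
    · obtain ⟨x, hx, h⟩ := Finset.mem_image.mp h1
      exact d08 x hx h
  have hU : (A4.image f ∪ A6.image f ∪ A8.image f ∪ {q0}).card
      = (A4.image f).card + (A6.image f).card + (A8.image f).card + 1 := by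
    rw [Finset.card_union_of_disjoint e0, Finset.card_union_of_disjoint e468,
      Finset.card_union_of_disjoint e46, Finset.card_singleton]
  have hle : (A4.image f ∪ A6.image f ∪ A8.image f ∪ {q0}).card ≤ 16777216 := by
    rw [← hQ]; exact Finset.card_le_univ _
  have hi8 : (A8.image f).card = 8292375 := by omega
  have hUc : (A4.image f ∪ A6.image f ∪ A8.image f ∪ {q0}).card = Fintype.card Q := by
    rw [hQ]; omega
  have hUniv := Finset.eq_univ_of_card _ hUc
  constructor
  · intro q
    have hq : q ∈ (A4.image f ∪ A6.image f ∪ A8.image f ∪ {q0}) := by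
      rw [hUniv]; exact Finset.mem_univ q
    rcases Finset.mem_union.mp hq with h1 | h1
    · right
      rcases Finset.mem_union.mp h1 with h1 | h1
      · rcases Finset.mem_union.mp h1 with h1 | h1
        · obtain ⟨x, hx, h⟩ := Finset.mem_image.mp h1
          exact ⟨x, Finset.mem_union_left _ (Finset.mem_union_left _ hx), h⟩
        · obtain ⟨x, hx, h⟩ := Finset.mem_image.mp h1
          exact ⟨x, Finset.mem_union_left _ (Finset.mem_union_right _ hx), h⟩
      · obtain ⟨x, hx, h⟩ := Finset.mem_image.mp h1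
        exact ⟨x, Finset.mem_union_right _ hx, h⟩
    · left
      exact Finset.mem_singleton.mp h1
  · intro x hx
    by_contra hne
    have hlt : (A8.filter (fun a => f a = f x)).card < 48 := lt_of_le_of_ne (f8 (f x)) hne
    have hsum := Finset.card_eq_sum_card_image f A8
    have : ∑ b ∈ A8.image f, (A8.filter (fun a => f a = b)).card < ∑ _b ∈ A8.image f, 48 := by
      apply Finset.sum_lt_sum
      · intro b _; exact f8 b
      · exact ⟨f x, Finset.mem_image_of_mem f hx, hlt⟩
    rw [← hsum, h8, Finset.sum_const, hi8] at this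
    norm_num at this

/-- The lattice vectors of a given sum of squares. -/
def shortSet (N : ℤ) : Set (GolayPt → ℤ) := {x | x ∈ leechLattice ∧ sqNorm x = N}

lemma shortSet32_ncard : (shortSet 32).ncard = 196560 := Cfsg.Agent.S0394.result
lemma shortSet48_ncard : (shortSet 48).ncard = 16773120 := Cfsg.Agent.S0395.result
lemma shortSet64_ncard : (shortSet 64).ncard = 398034000 := card_norm64

lemma shortSet32_finite : (shortSet 32).Finite :=
  Set.finite_of_ncard_ne_zero (by rw [shortSet32_ncard]; norm_num)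
lemma shortSet48_finite : (shortSet 48).Finite :=
  Set.finite_of_ncard_ne_zero (by rw [shortSet48_ncard]; norm_num)
lemma shortSet64_finite : (shortSet 64).Finite :=
  Set.finite_of_ncard_ne_zero (by rw [shortSet64_ncard]; norm_num)

/-- Congruent short vectors have the same sum of squares; below 64 they agree up to sign. -/
lemma short_cls_eq {x y : GolayPt → ℤ} {N M : ℤ} (hx : x ∈ shortSet N) (hy : y ∈ shortSet M)
    (hN : 0 < N) (hN' : N ≤ 64) (hM : 0 < M) (hM' : M ≤ 64) (h : cls x = cls y) :
    N = M ∧ (N < 64 → y = x ∨ y = -x) := by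
  have hc := (cls_eq_iff hx.1 hy.1).mp h
  have hx0 : x ≠ 0 := by
    rintro rfl
    have := hx.2
    simp [sqNorm] at this
    omega
  have hy0 : y ≠ 0 := by
    rintro rfl
    have := hy.2
    simp [sqNorm] at this
    omega
  have := Cfsg.Agent.S5551.result x y hx.1 hy.1 hx0 hy0 (by rw [hx.2]; exact hN')
    (by rw [hy.2]; exact hM') hc
  rw [hx.2, hy.2] at this
  exact this

lemma short_cls_ne_zero {x : GolayPt → ℤ} {N : ℤ} (hx : x ∈ shortSet N) (hN : 0 < N)
    (hN' : N ≤ 64) : cls x ≠ cls 0 := by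
  intro h
  obtain ⟨z, hz, hxz⟩ := (cls_eq_iff hx.1 leechLattice.zero_mem).mp h
  rw [sub_zero] at hxz
  have hz0 : z ≠ 0 := by
    rintro rfl
    rw [smul_zero] at hxz
    have := hx.2
    rw [hxz] at this
    simp [sqNorm] at this
    omega
  have h32 := Cfsg.Agent.S0391.result z hz hz0
  have h4 : sqNorm x = 4 * sqNorm z := by
    rw [hxz]
    unfold sqNorm
    rw [Finset.mul_sum]
    apply Finset.sum_congr rfl
    intro i _
    simp only [Pi.smul_apply, nsmul_eq_mul, Nat.cast_ofNat]
    ring
  rw [hx.2] at h4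
  omega

lemma short64_cls_eq {x y : GolayPt → ℤ} (hx : x ∈ shortSet 64) (hy : y ∈ shortSet 64)
    (h : cls x = cls y) : y = x ∨ y = -x ∨ dotInt x y = 0 := by
  by_cases hxy : x = y
  · exact Or.inl hxy.symm
  · have hc := (cls_eq_iff hx.1 hy.1).mp h
    rcases Cfsg.Agent.S5592.result x y hx.1 hy.1 hxy (by rw [hx.2]) (by rw [hy.2]) hc with h' | h'
    · right; left; rw [h']; simp
    · right; right; exact h'.2.2

/-- Every class contains a vector of sum of squares at most 64, and the short vectors of sum of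
squares 64 in a class number 48. -/
theorem classes_main :
    (∀ q : Qm, ∃ y ∈ leechLattice, sqNorm y ≤ 64 ∧ cls y = q) ∧
      ∀ x ∈ shortSet 64, {y | y ∈ shortSet 64 ∧ cls y = cls x}.ncard = 48 := by
  classical
  haveI : Fintype Qm := Fintype.ofFinite Qm
  have hQ : Fintype.card Qm = 16777216 := by
    rw [← Nat.card_eq_fintype_card, card_Qm]; norm_num
  set A4 := shortSet32_finite.toFinset with hA4
  set A6 := shortSet48_finite.toFinset with hA6
  set A8 := shortSet64_finite.toFinset with hA8
  have m4 : ∀ x, x ∈ A4 ↔ x ∈ shortSet 32 := fun x => Set.Finite.mem_toFinset _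
  have m6 : ∀ x, x ∈ A6 ↔ x ∈ shortSet 48 := fun x => Set.Finite.mem_toFinset _
  have m8 : ∀ x, x ∈ A8 ↔ x ∈ shortSet 64 := fun x => Set.Finite.mem_toFinset _
  have h4 : A4.card = 196560 := by
    rw [← shortSet32_ncard, Set.ncard_eq_toFinset_card _ shortSet32_finite]
  have h6 : A6.card = 16773120 := by
    rw [← shortSet48_ncard, Set.ncard_eq_toFinset_card _ shortSet48_finite]
  have h8 : A8.card = 398034000 := by
    rw [← shortSet64_ncard, Set.ncard_eq_toFinset_card _ shortSet64_finite]
  have fsmall : ∀ (N : ℤ) (A : Finset (GolayPt → ℤ)), (∀ x, x ∈ A ↔ x ∈ shortSet N) → 0 < N →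
      N < 64 → ∀ b, (A.filter (fun a => cls a = b)).card ≤ 2 := by
    intro N A mA hN hN' b
    by_cases hne : (A.filter (fun a => cls a = b)).Nonempty
    · obtain ⟨x, hx⟩ := hne
      rw [Finset.mem_filter] at hx
      have hsub : A.filter (fun a => cls a = b) ⊆ {x, -x} := by
        intro y hy
        rw [Finset.mem_filter] at hy
        rw [Finset.mem_insert, Finset.mem_singleton]
        exact (short_cls_eq ((mA x).mp hx.1) ((mA y).mp hy.1) hN hN'.le hN hN'.le
          (hx.2.trans hy.2.symm)).2 hN'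
      exact (Finset.card_le_card hsub).trans Finset.card_le_two
    · rw [Finset.not_nonempty_iff_eq_empty] at hne
      rw [hne]; simp
  have f8 : ∀ b, (A8.filter (fun a => cls a = b)).card ≤ 48 := by
    intro b
    apply frame_card_le
    · intro y hy
      rw [Finset.mem_filter, m8] at hy
      rw [hy.1.2]; norm_num
    · intro y hy y' hy'
      rw [Finset.mem_filter, m8] at hy hy'
      exact short64_cls_eq hy.1 hy'.1 (hy.2.trans hy'.2.symm)
  have dne : ∀ (N M : ℤ), 0 < N → N ≤ 64 → 0 < M → M ≤ 64 → N ≠ M → ∀ x ∈ shortSet N,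
      ∀ y ∈ shortSet M, cls x ≠ cls y := by
    intro N M hN hN' hM hM' hNM x hx y hy h
    exact hNM (short_cls_eq hx hy hN hN' hM hM' h).1
  obtain ⟨r1, r2⟩ := class_count cls A4 A6 A8 (cls 0) hQ h4 h6 h8
    (fsmall 32 A4 m4 (by norm_num) (by norm_num)) (fsmall 48 A6 m6 (by norm_num) (by norm_num)) f8
    (fun x hx y hy => dne 32 48 (by norm_num) (by norm_num) (by norm_num) (by norm_num)
      (by norm_num) x ((m4 x).mp hx) y ((m6 y).mp hy))
    (fun x hx y hy => dne 32 64 (by norm_num) (by norm_num) (by norm_num) (by norm_num)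
      (by norm_num) x ((m4 x).mp hx) y ((m8 y).mp hy))
    (fun x hx y hy => dne 48 64 (by norm_num) (by norm_num) (by norm_num) (by norm_num)
      (by norm_num) x ((m6 x).mp hx) y ((m8 y).mp hy))
    (fun x hx => short_cls_ne_zero ((m4 x).mp hx) (by norm_num) (by norm_num))
    (fun x hx => short_cls_ne_zero ((m6 x).mp hx) (by norm_num) (by norm_num))
    (fun x hx => short_cls_ne_zero ((m8 x).mp hx) (by norm_num) (by norm_num))
  constructor
  · intro q
    rcases r1 q with h | ⟨x, hx, h⟩
    · refine ⟨0, leechLattice.zero_mem, ?_, h.symm⟩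
      simp [sqNorm]
    · rcases Finset.mem_union.mp hx with hx | hx
      · rcases Finset.mem_union.mp hx with hx | hx
        · have := (m4 x).mp hx
          exact ⟨x, this.1, by rw [this.2]; norm_num, h⟩
        · have := (m6 x).mp hx
          exact ⟨x, this.1, by rw [this.2]; norm_num, h⟩
      · have := (m8 x).mp hx
        exact ⟨x, this.1, by rw [this.2], h⟩
  · intro x hx
    have := r2 x ((m8 x).mpr hx)
    rw [← this, ← Set.ncard_coe_finset]
    congr 1
    ext y
    simp only [Set.mem_ofPred_eq, Finset.coe_filter, m8]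

end Cfsg.Agent.Lib.Helper94
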