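import Mathlib
import Cfsg.Agent.Lib.Helper10.Golay
import Cfsg.Agent.Lib.Helper94.LeechMonomial

/-! A concrete sextet (partition of the 24 points into six tetrads, the union of any two of which
is an octad) and its parity property. -/

set_option autoImplicit false

namespace Cfsg.Agent.Lib.Helper94

open Cfsg
open Cfsg.Agent.Lib.Helper95
open Cfsg.Agent.Lib.Helper10 (idx pt vec wmask enc mem_golayCode_iff)

/-- The tetrad index of each of the 24 points (by point index). -/
def kapTbl : List ℕ := [0, 0, 0, 1, 2, 1, 3, 3, 5, 4, 4, 5, 5, 2, 1, 4, 2, 1, 5, 3, 4, 3, 2, 0]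

/-- The tetrad containing a point. -/
def kap (p : GolayPt) : Fin 6 := Fin.ofNat 6 (kapTbl.getD (idx p) 0)

/-- The word which is constant on tetrads, with values given by `e`. -/
def blockWord (e : Fin 6 → ZMod 2) : GolayPt → ZMod 2 := fun p => e (kap p)

theorem blockWord_mem_aux : ∀ e : Fin 6 → ZMod 2, ∑ k, e k = 0 →
    enc (wmask (blockWord e)) = wmask (blockWord e) := by
  decide +kernel

theorem blockWord_mem (e : Fin 6 → ZMod 2) (he : ∑ k, e k = 0) : blockWord e ∈ golayCode := by
  rw [mem_golayCode_iff]
  exact blockWord_mem_aux e he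

theorem block_card : ∀ k : Fin 6, (Finset.univ.filter fun p : GolayPt => kap p = k).card = 4 := by
  decide +kernel

end Cfsg.Agent.Lib.Helper94
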