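import Mathlib
import Cfsg.Agent.Lib.Helper94.LeechSextet
import Cfsg.Agent.S0393
import Cfsg.Agent.S5553

/-! An automorphism of the lattice which is not monomial: on each tetrad of a sextet, subtract
half the tetrad sum, and change sign on the first tetrad. -/

set_option autoImplicit false

namespace Cfsg.Agent.Lib.Helper94

open Cfsg
open Cfsg.Agent.Lib.Helper95
open Cfsg.Agent.S0391 (zmod2_cases val_le_one shape_of_mem shape_normal sum_of_mem sum_val_eq)

/-- The tetrad `k`, as a finset of points. -/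
def blk (k : Fin 6) : Finset GolayPt := Finset.univ.filter fun p => kap p = k

lemma mem_blk (k : Fin 6) (p : GolayPt) : p ∈ blk k ↔ kap p = k := by
  simp [blk]

lemma blk_card (k : Fin 6) : (blk k).card = 4 := block_card k

/-- The sum of the entries on a tetrad. -/
def bsum (x : GolayPt → ℤ) (k : Fin 6) : ℤ := ∑ p ∈ blk k, x p

lemma sum_blocks (f : GolayPt → ℤ) : ∑ p, f p = ∑ k, ∑ p ∈ blk k, f p := by
  unfold blk
  exact (Finset.sum_fiberwise Finset.univ kap f).symm

lemma bsum_add (x y : GolayPt → ℤ) (k : Fin 6) : bsum (x + y) k = bsum x k + bsum y k := by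
  unfold bsum
  simp only [Pi.add_apply, Finset.sum_add_distrib]

lemma bsum_const (a : ℤ) (k : Fin 6) : bsum (fun _ => a) k = 4 * a := by
  unfold bsum
  rw [Finset.sum_const, blk_card]
  simp

/-- The sign attached to a tetrad: `-1` for the first, `1` for the others. -/
def epsK (k : Fin 6) : ℤ := if k = 0 then -1 else 1

lemma epsK_sq (k : Fin 6) : epsK k * epsK k = 1 := by
  unfold epsK; split_ifs <;> norm_num

/-- The map on integer vectors (meaningful when all tetrad sums are even). -/
def xiVec (x : GolayPt → ℤ) : GolayPt → ℤ :=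
  fun p => epsK (kap p) * (x p - bsum x (kap p) / 2)

lemma xiVec_apply (x : GolayPt → ℤ) (p : GolayPt) :
    xiVec x p = epsK (kap p) * (x p - bsum x (kap p) / 2) := rfl

/-- All tetrad sums are even. -/
def BlkEven (x : GolayPt → ℤ) : Prop := ∀ k, (2 : ℤ) ∣ bsum x k

lemma two_mul_half {x : GolayPt → ℤ} (h : BlkEven x) (k : Fin 6) :
    2 * (bsum x k / 2) = bsum x k := Int.mul_ediv_cancel' (h k)

lemma blkEven_of_mem (x : GolayPt → ℤ) (hx : x ∈ leechLattice) : BlkEven x := by
  intro k
  have h1 : (2 : ℤ) ∣ ∑ p ∈ blk k, (x p + x none) :=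
    Finset.dvd_sum (fun p _ => Cfsg.Agent.S5553.even_add_none x hx p)
  rw [Finset.sum_add_distrib, Finset.sum_const, blk_card] at h1
  unfold bsum
  obtain ⟨q, hq⟩ := h1
  simp only [nsmul_eq_mul, Nat.cast_ofNat] at hq
  exact ⟨q - 2 * x none, by linarith⟩

lemma bsum_xiVec {x : GolayPt → ℤ} (h : BlkEven x) (k : Fin 6) :
    bsum (xiVec x) k = -(epsK k * bsum x k) := by
  have h1 : ∀ p ∈ blk k, xiVec x p = epsK k * x p - epsK k * (bsum x k / 2) := by
    intro p hp
    rw [xiVec_apply, (mem_blk k p).mp hp]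
    ring
  unfold bsum at *
  rw [Finset.sum_congr rfl h1, Finset.sum_sub_distrib, Finset.sum_const, blk_card,
    ← Finset.mul_sum]
  have := two_mul_half h k
  unfold bsum at this
  simp only [nsmul_eq_mul, Nat.cast_ofNat]
  linear_combination (-2 * epsK k) * this

lemma blkEven_xiVec {x : GolayPt → ℤ} (h : BlkEven x) : BlkEven (xiVec x) := by
  intro k
  rw [bsum_xiVec h]
  obtain ⟨q, hq⟩ := h k
  exact ⟨-(epsK k * q), by rw [hq]; ring⟩

lemma xiVec_xiVec {x : GolayPt → ℤ} (h : BlkEven x) : xiVec (xiVec x) = x := by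
  ext p
  rw [xiVec_apply, bsum_xiVec h, xiVec_apply]
  have h2 := two_mul_half h (kap p)
  have h3 : -(epsK (kap p) * bsum x (kap p)) / 2 = -(epsK (kap p) * (bsum x (kap p) / 2)) := by
    rw [← h2]
    have : -(epsK (kap p) * (2 * (bsum x (kap p) / 2)))
        = 2 * (-(epsK (kap p) * (bsum x (kap p) / 2))) := by ring
    rw [h2, ← h2, this, Int.mul_ediv_cancel_left _ (by norm_num : (2 : ℤ) ≠ 0), h2]
  rw [h3]
  have := epsK_sq (kap p)
  linear_combination (x p) * this

lemma xiVec_add {x y : GolayPt → ℤ} (hx : BlkEven x) (hy : BlkEven y) :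
    xiVec (x + y) = xiVec x + xiVec y := by
  ext p
  simp only [xiVec_apply, Pi.add_apply, bsum_add]
  have h1 := two_mul_half hx (kap p)
  have h2 := two_mul_half hy (kap p)
  have h3 : (bsum x (kap p) + bsum y (kap p)) / 2 = bsum x (kap p) / 2 + bsum y (kap p) / 2 := by
    rw [← h1, ← h2, ← mul_add, Int.mul_ediv_cancel_left _ (by norm_num : (2 : ℤ) ≠ 0), h1, h2]
  rw [h3]
  ring

lemma sqNorm_xiVec {x : GolayPt → ℤ} (h : BlkEven x) : sqNorm (xiVec x) = sqNorm x := by
  unfold sqNorm
  rw [sum_blocks, sum_blocks (fun p => x p ^ 2)]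
  apply Finset.sum_congr rfl
  intro k _
  have h1 : ∀ p ∈ blk k, xiVec x p ^ 2
      = x p ^ 2 - 2 * (bsum x k / 2) * x p + (bsum x k / 2) ^ 2 := by
    intro p hp
    rw [xiVec_apply, (mem_blk k p).mp hp]
    have := epsK_sq k
    linear_combination ((x p - bsum x k / 2) ^ 2) * this
  rw [Finset.sum_congr rfl h1, Finset.sum_add_distrib, Finset.sum_sub_distrib, Finset.sum_const,
    blk_card, ← Finset.mul_sum]
  have h2 := two_mul_half h k
  unfold bsum at h2 ⊢
  simp only [nsmul_eq_mul, Nat.cast_ofNat]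
  linear_combination (2 * ((∑ p ∈ blk k, x p) / 2)) * h2

/-- The number of points of a code word on two tetrads has even sum. -/
lemma code_blk_parity (c : GolayPt → ZMod 2) (hc : c ∈ golayCode) (k : Fin 6) :
    (2 : ℤ) ∣ bsum (fun p => ((c p).val : ℤ)) 0 - bsum (fun p => ((c p).val : ℤ)) k := by
  by_cases hk : k = 0
  · rw [hk, sub_self]; exact dvd_zero _
  · set e : Fin 6 → ZMod 2 := fun j => if j = 0 ∨ j = k then 1 else 0 with he
    have hsum : ∑ j, e j = 0 := by
      revert hk
      revert k
      decide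
    have hmem := blockWord_mem e hsum
    have h2 := even_dot_val (blockWord e) c hmem hc
    have h3 : ∑ j, ((blockWord e j).val : ℤ) * ((c j).val : ℤ)
        = bsum (fun p => ((c p).val : ℤ)) 0 + bsum (fun p => ((c p).val : ℤ)) k := by
      rw [sum_blocks]
      have hb : ∀ j : Fin 6, ∑ p ∈ blk j, ((blockWord e p).val : ℤ) * ((c p).val : ℤ)
          = if j = 0 ∨ j = k then bsum (fun p => ((c p).val : ℤ)) j else 0 := by
        intro j
        unfold bsum
        split_ifs with hj
        · apply Finset.sum_congr rfl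
          intro p hp
          have : blockWord e p = 1 := by
            unfold blockWord
            rw [(mem_blk j p).mp hp, he]
            simp only [hj, if_true]
          rw [this]
          simp [ZMod.val_one]
        · apply Finset.sum_eq_zero
          intro p hp
          have : blockWord e p = 0 := by
            unfold blockWord
            rw [(mem_blk j p).mp hp, he]
            simp only [hj, if_false]
          rw [this]
          simp
      rw [Finset.sum_congr rfl (fun j _ => hb j)]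
      rw [Finset.sum_ite, Finset.sum_const_zero, add_zero]
      have hf : (Finset.univ.filter fun j : Fin 6 => j = 0 ∨ j = k) = {0, k} := by
        ext j; simp
      rw [hf, Finset.sum_pair (Ne.symm hk)]
    rw [h3] at h2
    obtain ⟨q, hq⟩ := h2
    exact ⟨q - bsum (fun p => ((c p).val : ℤ)) k, by linarith⟩

/-- The map preserves the lattice. -/
lemma xiVec_mem (x : GolayPt → ℤ) (hx : x ∈ leechLattice) : xiVec x ∈ leechLattice := by
  obtain ⟨a, c, hc, hsh, hsum⟩ := (mem_leechLattice_iff x).mp hx
  have hz : ∀ p, ∃ z : ℤ, x p = a + 2 * ((c p).val : ℤ) + 4 * z := by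
    intro p
    obtain ⟨t, ht⟩ := (hsh p).symm.dvd
    exact ⟨t, by linarith⟩
  choose z hz using hz
  set n : Fin 6 → ℤ := fun k => bsum (fun p => ((c p).val : ℤ)) k with hn
  set Z : Fin 6 → ℤ := fun k => bsum z k with hZ
  have hS : ∀ k, bsum x k = 4 * a + 2 * n k + 4 * Z k := by
    intro k
    simp only [hn, hZ]
    unfold bsum
    rw [Finset.sum_congr rfl (fun p _ => hz p), Finset.sum_add_distrib, Finset.sum_add_distrib,
      Finset.sum_const, blk_card, ← Finset.mul_sum, ← Finset.mul_sum]
    simp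
  have hpar : ∀ k, ∃ m : ℤ, n 0 - n k = 2 * m := fun k => code_blk_parity c hc k
  choose m hm using hpar
  have htot : ∑ p, x p = ∑ k, bsum x k := sum_blocks x
  rw [Fin.sum_univ_six] at htot
  have hh : ∀ k, bsum x k / 2 = 2 * a + n k + 2 * Z k := by
    intro k; rw [hS]; omega
  set u : Fin 6 → ℤ := fun k => if k = 0 then a + n 0 + Z 0 else m k - Z k with hu
  have hu0 : u 0 = a + n 0 + Z 0 := by simp [hu]
  have hu1 : u 1 = m 1 - Z 1 := by simp [hu]
  have hu2 : u 2 = m 2 - Z 2 := by simp [hu]
  have hu3 : u 3 = m 3 - Z 3 := by simp [hu]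
  have hu4 : u 4 = m 4 - Z 4 := by simp [hu]
  have hu5 : u 5 = m 5 - Z 5 := by simp [hu]
  set e : Fin 6 → ZMod 2 := fun k => ((u k : ℤ) : ZMod 2) with he
  have hue : (2 : ℤ) ∣ ∑ k, u k := by
    rw [Fin.sum_univ_six, hu0, hu1, hu2, hu3, hu4, hu5]
    have s0 := hS 0
    have s1 := hS 1
    have s2 := hS 2
    have s3 := hS 3
    have s4 := hS 4
    have s5 := hS 5
    have m1 := hm 1
    have m2 := hm 2
    have m3 := hm 3
    have m4 := hm 4
    have m5 := hm 5
    simp only [Int.ModEq] at hsum
    omega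
  have hesum : ∑ k, e k = 0 := by
    have : ((∑ k, u k : ℤ) : ZMod 2) = 0 := (ZMod.intCast_zmod_eq_zero_iff_dvd _ 2).mpr hue
    rw [Int.cast_sum] at this
    exact this
  rw [mem_leechLattice_iff]
  refine ⟨-a - n 0, c + blockWord e, golayCode.add_mem hc (blockWord_mem e hesum), ?_, ?_⟩
  · intro p
    rw [xiVec_apply, hh, hz p]
    simp only [Pi.add_apply]
    have hval := Cfsg.Agent.S0391.val_add_cases (c p) (blockWord e p)
    have hE : (2 : ℤ) ∣ u (kap p) - (((blockWord e p).val : ℕ) : ℤ) :=
      Cfsg.Agent.S0393.two_dvd_sub_val (u (kap p))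
    obtain ⟨q, hq⟩ := hE
    have hmk := hm (kap p)
    by_cases hk : kap p = 0
    · have hu' : u (kap p) = a + n 0 + Z 0 := by rw [hk]; exact hu0
      rw [hk] at hmk ⊢
      rw [hu'] at hq
      simp only [epsK, if_true, Int.ModEq]
      rcases hval with h' | h' <;> rw [h'] <;> omega
    · have hu' : u (kap p) = m (kap p) - Z (kap p) := by simp [hu, hk]
      rw [hu'] at hq
      simp only [epsK, hk, if_false, Int.ModEq]
      rcases hval with h' | h' <;> rw [h'] <;> omega
  · rw [sum_blocks]
    have : ∀ k, ∑ p ∈ blk k, xiVec x p = -(epsK k * bsum x k) :=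
      fun k => bsum_xiVec (blkEven_of_mem x hx) k
    rw [Finset.sum_congr rfl (fun k _ => this k), Fin.sum_univ_six]
    have s0 := hS 0
    simp only [epsK, Int.ModEq] at hsum ⊢
    simp only [show ((1 : Fin 6) = 0) = False from by decide, show ((2 : Fin 6) = 0) = False from by decide,
      show ((3 : Fin 6) = 0) = False from by decide, show ((4 : Fin 6) = 0) = False from by decide,
      show ((5 : Fin 6) = 0) = False from by decide, if_true, if_false]
    omega

/-- The non-monomial automorphism, as a permutation of the lattice. -/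
def xiPerm : Equiv.Perm leechLattice where
  toFun v := ⟨xiVec v.1, xiVec_mem v.1 v.2⟩
  invFun v := ⟨xiVec v.1, xiVec_mem v.1 v.2⟩
  left_inv v := Subtype.ext (xiVec_xiVec (blkEven_of_mem v.1 v.2))
  right_inv v := Subtype.ext (xiVec_xiVec (blkEven_of_mem v.1 v.2))

lemma xiPerm_apply (v : leechLattice) : ((xiPerm v : leechLattice) : GolayPt → ℤ) = xiVec v.1 := rfl

lemma xiPerm_mem : xiPerm ∈ Co0 :=
  ⟨fun v w => Subtype.ext (xiVec_add (blkEven_of_mem v.1 v.2) (blkEven_of_mem w.1 w.2)),
    fun v => sqNorm_xiVec (blkEven_of_mem v.1 v.2)⟩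

end Cfsg.Agent.Lib.Helper94
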