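import Mathlib
import Cfsg.Agent.Lib.Helper94.LeechXi
import Cfsg.Agent.Lib.Helper94.LeechCount3
import Cfsg.Agent.S0366
import Cfsg.Agent.S0367

/-! Orbits of the automorphism group on lattice vectors: the relation of lying in one orbit, and
how the monomial automorphisms act on the model vectors. -/

set_option autoImplicit false

namespace Cfsg.Agent.Lib.Helper94

open Cfsg
open Cfsg.Agent.Lib.Helper95
open Cfsg.Agent.Lib.Helper10 (permWord permWord_apply permWord_mem_of_mem_M24)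

/-- Two vectors of the lattice in one orbit of the automorphism group. -/
def Conj (x y : GolayPt → ℤ) : Prop :=
  ∃ g ∈ Co0, ∃ hx : x ∈ leechLattice, ((g ⟨x, hx⟩ : leechLattice) : GolayPt → ℤ) = y

lemma Conj.mem_left {x y : GolayPt → ℤ} (h : Conj x y) : x ∈ leechLattice := by
  obtain ⟨g, -, hx, -⟩ := h; exact hx

lemma Conj.mem_right {x y : GolayPt → ℤ} (h : Conj x y) : y ∈ leechLattice := by
  obtain ⟨g, -, hx, rfl⟩ := h; exact (g ⟨x, hx⟩).2

lemma Conj.sqNorm_eq {x y : GolayPt → ℤ} (h : Conj x y) : sqNorm y = sqNorm x := by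
  obtain ⟨g, hg, hx, rfl⟩ := h
  exact hg.2 ⟨x, hx⟩

lemma Conj.refl {x : GolayPt → ℤ} (hx : x ∈ leechLattice) : Conj x x :=
  ⟨1, Co0.one_mem, hx, rfl⟩

lemma Conj.symm {x y : GolayPt → ℤ} (h : Conj x y) : Conj y x := by
  obtain ⟨g, hg, hx, rfl⟩ := h
  refine ⟨g⁻¹, Co0.inv_mem hg, (g ⟨x, hx⟩).2, ?_⟩
  simp

lemma Conj.trans {x y z : GolayPt → ℤ} (h : Conj x y) (h' : Conj y z) : Conj x z := by
  obtain ⟨g, hg, hx, rfl⟩ := h
  obtain ⟨g', hg', hy, rfl⟩ := h'
  exact ⟨g' * g, Co0.mul_mem hg' hg, hx, rfl⟩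

lemma conj_perm {σ : Equiv.Perm GolayPt} (hσ : σ ∈ M24) {x : GolayPt → ℤ}
    (hx : x ∈ leechLattice) : Conj x (permVec σ x) :=
  ⟨permPerm σ hσ, permPerm_mem σ hσ, hx, rfl⟩

lemma conj_sign {d : GolayPt → ZMod 2} (hd : d ∈ golayCode) {x : GolayPt → ℤ}
    (hx : x ∈ leechLattice) : Conj x (signVec d x) :=
  ⟨signPerm d hd, signPerm_mem d hd, hx, rfl⟩

lemma conj_xi {x : GolayPt → ℤ} (hx : x ∈ leechLattice) : Conj x (xiVec x) :=
  ⟨xiPerm, xiPerm_mem, hx, rfl⟩

/-- The orbit relation in the form of the statements. -/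
lemma conj_iff (v w : leechLattice) :
    Conj v.1 w.1 ↔ ∃ g : Co0, g • v = w := by
  constructor
  · rintro ⟨g, hg, hx, h⟩
    exact ⟨⟨g, hg⟩, Subtype.ext h⟩
  · rintro ⟨⟨g, hg⟩, h⟩
    exact ⟨g, hg, v.2, congrArg Subtype.val h⟩

/-! ### Monomial maps on the model vectors -/

lemma permVec_pmVec (σ : Equiv.Perm GolayPt) (a : ℤ) (s t : Finset GolayPt) :
    permVec σ (pmVec a s t) = pmVec a (s.image σ) (t.image σ) := by
  ext p
  have h1 : ∀ u : Finset GolayPt, p ∈ u.image σ ↔ σ.symm p ∈ u := by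
    intro u
    rw [Finset.mem_image]
    constructor
    · rintro ⟨q, hq, rfl⟩; simpa using hq
    · intro h; exact ⟨σ.symm p, h, by simp⟩
  simp only [permVec_apply, pmVec_apply, h1]

lemma permVec_oneVec (σ : Equiv.Perm GolayPt) (s : Finset GolayPt) (b : ℤ) :
    permVec σ (oneVec s b) = oneVec (s.image σ) b := by
  ext p
  have h1 : p ∈ s.image σ ↔ σ.symm p ∈ s := by
    rw [Finset.mem_image]
    constructor
    · rintro ⟨q, hq, rfl⟩; simpa using hq
    · intro h; exact ⟨σ.symm p, h, by simp⟩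
  simp only [permVec_apply, oneVec_apply, h1]

lemma permVec_signVec (σ : Equiv.Perm GolayPt) (c : GolayPt → ZMod 2) (u : GolayPt → ℤ) :
    permVec σ (signVec c u) = signVec (permWord σ c) (permVec σ u) := by
  ext p
  simp only [permVec_apply, signVec_apply, sgnOf, permWord_apply]

lemma signVec_comp (d c : GolayPt → ZMod 2) (u : GolayPt → ℤ) :
    signVec d (signVec c u) = signVec (d + c) u := by
  ext p
  simp only [signVec_apply, sgnOf, Pi.add_apply]
  rcases Cfsg.Agent.S0391.zmod2_cases (d p) with h | h <;>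
    rcases Cfsg.Agent.S0391.zmod2_cases (c p) with h' | h' <;> rw [h, h'] <;>
    simp [ZMod.val_one, show ((1 : ZMod 2) + 1) = 0 from by decide]

lemma add_add_cancel_zmod2 (c c' : GolayPt → ZMod 2) : (c + c') + c = c' := by
  ext p
  simp only [Pi.add_apply]
  rcases Cfsg.Agent.S0391.zmod2_cases (c p) with h | h <;>
    rcases Cfsg.Agent.S0391.zmod2_cases (c' p) with h' | h' <;> rw [h, h'] <;> decide

/-! ### Transitivity of the code's group on points -/

lemma m24_two_trans {a b c d : GolayPt} (hab : a ≠ b) (hcd : c ≠ d) :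
    ∃ σ ∈ M24, σ a = c ∧ σ b = d := by
  haveI := Cfsg.Agent.S0366.result
  haveI : MulAction.IsMultiplyPretransitive M24 GolayPt 2 :=
    MulAction.isMultiplyPretransitive_of_le (n := 5) (by norm_num)
      (by rw [Nat.card_eq_fintype_card, golayPt_card]; norm_num)
  obtain ⟨g, h1, h2⟩ := MulAction.is_two_pretransitive_iff.mp this hab hcd
  exact ⟨g.1, g.2, h1, h2⟩

lemma m24_trans (a c : GolayPt) : ∃ σ ∈ M24, σ a = c := by
  by_cases hac : a = c
  · exact ⟨1, M24.one_mem, by simpa using hac⟩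
  · obtain ⟨σ, hσ, h1, -⟩ := m24_two_trans hac (Ne.symm hac)
    exact ⟨σ, hσ, h1⟩

end Cfsg.Agent.Lib.Helper94
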