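import Mathlib
import Cfsg.Agent.Lib.Helper94.LeechOrbit
import Cfsg.Agent.Lib.Helper10.Order
import Cfsg.Agent.S0394

/-! The automorphism group is transitive on the lattice vectors of sum of squares 32. -/

set_option autoImplicit false

namespace Cfsg.Agent.Lib.Helper94

open Cfsg
open Cfsg.Agent.Lib.Helper95
open Cfsg.Agent.Lib.Helper10 (permWord permWord_apply permWord_mem_of_mem_M24 vec
  vec_mem_golayCode_iff fs octO)
open Cfsg.Agent.S0394 (I1 I2 I3 mem_I1 mem_I2 mem_I3 I1_sub I2_sub I3_sub classify_odd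
  classify_zero classify_code)
open Cfsg.Agent.S0391 (zmod2_cases val_le_one shape_of_mem shape_normal sum_of_mem sum_val_eq)

lemma mem_I_of_norm32 (x : GolayPt → ℤ) (hx : x ∈ leechLattice) (hn : sqNorm x = 32) :
    x ∈ I1 ∨ x ∈ I2 ∨ x ∈ I3 := by
  obtain ⟨c, hc, h | h⟩ := shape_normal x (shape_of_mem x hx)
  · by_cases hc0 : c = 0
    · right; right
      apply classify_zero x hn
      intro i
      have := h i
      rw [hc0] at this
      simp only [Pi.zero_apply, ZMod.val_zero, Nat.cast_zero, mul_zero] at this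
      exact Int.modEq_zero_iff_dvd.mp this
    · right; left
      exact classify_code x hx hn c hc hc0 h
  · left
    exact classify_odd x hx hn c hc h

/-- A concrete octad containing the point `0` and none of `∞, 1, 2`. -/
def d1 : GolayPt → ZMod 2 := vec 6053905

lemma d1_mem : d1 ∈ golayCode :=
  (vec_mem_golayCode_iff (by decide)).mpr (by decide +kernel)

lemma d1_vals : d1 (some 0) = 1 ∧ d1 none = 0 ∧ d1 (some 1) = 0 ∧ d1 (some 2) = 0 := by
  decide +kernel

lemma d1_wt : hammingNorm d1 = 8 := by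
  decide +kernel

lemma blk_zero : blk 0 = {none, some 0, some 1, some 2} := by
  decide +kernel

lemma bsum_zero (x : GolayPt → ℤ) : bsum x 0 = x none + x (some 0) + x (some 1) + x (some 2) := by
  unfold bsum
  rw [blk_zero]
  rw [Finset.sum_insert (by decide), Finset.sum_insert (by decide), Finset.sum_insert (by decide),
    Finset.sum_singleton]
  ring

/-- The reference vector `(4, 4, 0, …, 0)`. -/
def v0 : GolayPt → ℤ := pmVec 4 {some 0, none} ∅

/-- Undoing a sign pattern by a word which agrees with it on the support. -/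
lemma signVec_pmVec_fix (d : GolayPt → ZMod 2) (a : ℤ) (s t : Finset GolayPt) (hts : t ⊆ s)
    (hd : ∀ p ∈ s, (d p = 1 ↔ p ∈ t)) : signVec d (pmVec a s t) = pmVec a s ∅ := by
  ext p
  simp only [signVec_apply, pmVec_apply, sgnOf, Finset.notMem_empty, if_false]
  by_cases hs : p ∈ s
  · by_cases ht : p ∈ t
    · rw [(hd p hs).mpr ht]
      simp [ht, hs, ZMod.val_one]
    · have : d p = 0 := by
        rcases zmod2_cases (d p) with h | h
        · exact h
        · exact absurd ((hd p hs).mp h) ht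
      rw [this]
      simp [ht, hs]
  · have ht : p ∉ t := fun h => hs (hts h)
    simp [ht, hs]

lemma conj_I3 (x : GolayPt → ℤ) (hx : x ∈ I3) : Conj x v0 := by
  have hxL := (I3_sub x hx).1
  obtain ⟨s, t, hs, hts, -, rfl⟩ := (mem_I3 x).mp hx
  obtain ⟨i, j, hij, rfl⟩ := Finset.card_eq_two.mp (Finset.mem_powersetCard.mp hs).2
  obtain ⟨σ, hσ, h1, h2⟩ := m24_two_trans hij (show (some 0 : GolayPt) ≠ none by decide)
  have c1 := conj_perm hσ hxL
  rw [permVec_pmVec] at c1
  have himg : ({i, j} : Finset GolayPt).image σ = {some 0, none} := by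
    rw [Finset.image_insert, Finset.image_singleton, h1, h2]
  rw [himg] at c1
  set t₁ := t.image σ with ht₁
  have hts₁ : t₁ ⊆ {some 0, none} := by
    rw [← himg]; exact Finset.image_subset_image hts
  set d : GolayPt → ZMod 2 :=
    (if some 0 ∈ t₁ then d1 else 0) + (if none ∈ t₁ then 1 + d1 else 0) with hd
  have hdmem : d ∈ golayCode := by
    apply golayCode.add_mem
    · split_ifs
      · exact d1_mem
      · exact golayCode.zero_mem
    · split_ifs
      · exact golayCode.add_mem golayCode_one_mem d1_mem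
      · exact golayCode.zero_mem
  have c2 := conj_sign hdmem c1.mem_right
  rw [signVec_pmVec_fix d 4 _ t₁ hts₁] at c2
  · exact c1.trans c2
  · intro p hp
    rw [Finset.mem_insert, Finset.mem_singleton] at hp
    obtain ⟨e1, e2, -, -⟩ := d1_vals
    rcases hp with rfl | rfl
    · simp only [hd, Pi.add_apply]
      by_cases a1 : (some 0 : GolayPt) ∈ t₁ <;> by_cases a2 : (none : GolayPt) ∈ t₁ <;>
        simp [a1, a2, e1, e2]
      decide
    · simp only [hd, Pi.add_apply]
      by_cases a1 : (some 0 : GolayPt) ∈ t₁ <;> by_cases a2 : (none : GolayPt) ∈ t₁ <;>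
        simp [a1, a2, e1, e2]

lemma I1_entries (x : GolayPt → ℤ) (hx : x ∈ I1) (p : GolayPt) : |x p| = 1 ∨ |x p| = 3 := by
  obtain ⟨s, -, c, -, rfl⟩ := (mem_I1 x).mp hx
  rw [abs_signVec, oneVec_apply]
  split_ifs
  · right; norm_num
  · left; norm_num

lemma I2_entries (x : GolayPt → ℤ) (hx : x ∈ I2) (p : GolayPt) :
    x p = 0 ∨ x p = 2 ∨ x p = -2 := by
  obtain ⟨s, t, -, -, -, rfl⟩ := (mem_I2 x).mp hx
  exact pmVec_abs 2 s t p

lemma I3_entries (x : GolayPt → ℤ) (hx : x ∈ I3) (p : GolayPt) :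
    x p = 0 ∨ x p = 4 ∨ x p = -4 := by
  obtain ⟨s, t, -, -, -, rfl⟩ := (mem_I3 x).mp hx
  exact pmVec_abs 4 s t p

lemma kap_blk0 : kap none = 0 ∧ kap (some 0) = 0 ∧ kap (some 1) = 0 ∧ kap (some 2) = 0 := by
  decide +kernel

/-- A vector of sum of squares 32 with entries `±2` on the first tetrad is in the orbit of the
reference vector. -/
lemma conj_of_blk0 (x : GolayPt → ℤ) (hx : x ∈ leechLattice) (hn : sqNorm x = 32)
    (h0 : x none = 2 ∨ x none = -2) (h1 : x (some 0) = 2 ∨ x (some 0) = -2)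
    (h2 : x (some 1) = 2 ∨ x (some 1) = -2) (h3 : x (some 2) = 2 ∨ x (some 2) = -2) :
    Conj x v0 := by
  -- first arrange that the tetrad sum is `±4`
  have step : ∃ x₂, Conj x x₂ ∧ (x₂ none = 2 ∨ x₂ none = -2) ∧
      (x₂ (some 0) = 2 ∨ x₂ (some 0) = -2) ∧ (x₂ (some 1) = 2 ∨ x₂ (some 1) = -2) ∧
      (x₂ (some 2) = 2 ∨ x₂ (some 2) = -2) ∧ (bsum x₂ 0 = 4 ∨ bsum x₂ 0 = -4) := by
    by_cases hS : bsum x 0 = 4 ∨ bsum x 0 = -4
    · exact ⟨x, Conj.refl hx, h0, h1, h2, h3, hS⟩
    · refine ⟨signVec d1 x, conj_sign d1_mem hx, ?_, ?_, ?_, ?_, ?_⟩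
      · rw [signVec_apply, sgnOf, d1_vals.2.1]; simpa using h0
      · rw [signVec_apply, sgnOf, d1_vals.1]
        simp only [ZMod.val_one, Nat.cast_one]
        omega
      · rw [signVec_apply, sgnOf, d1_vals.2.2.1]; simpa using h2
      · rw [signVec_apply, sgnOf, d1_vals.2.2.2]; simpa using h3
      · rw [bsum_zero] at hS ⊢
        simp only [signVec_apply, sgnOf, d1_vals.1, d1_vals.2.1, d1_vals.2.2.1, d1_vals.2.2.2,
          ZMod.val_one, ZMod.val_zero, Nat.cast_one, Nat.cast_zero]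
        omega
  obtain ⟨x₂, c12, g0, g1, g2, g3, gS⟩ := step
  have hx₂ := c12.mem_right
  have hn₂ : sqNorm x₂ = 32 := by rw [c12.sqNorm_eq, hn]
  have c23 := conj_xi hx₂
  have hy := c23.mem_right
  have hny : sqNorm (xiVec x₂) = 32 := by rw [c23.sqNorm_eq, hn₂]
  -- an entry `±4`
  have h4 : ∃ p, xiVec x₂ p = 4 ∨ xiVec x₂ p = -4 := by
    obtain ⟨k0, k1, k2, k3⟩ := kap_blk0
    have e0 : xiVec x₂ none = -(x₂ none - bsum x₂ 0 / 2) := by
      rw [xiVec_apply, k0]; simp [epsK]
    have e1 : xiVec x₂ (some 0) = -(x₂ (some 0) - bsum x₂ 0 / 2) := by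
      rw [xiVec_apply, k1]; simp [epsK]
    have e2 : xiVec x₂ (some 1) = -(x₂ (some 1) - bsum x₂ 0 / 2) := by
      rw [xiVec_apply, k2]; simp [epsK]
    have e3 : xiVec x₂ (some 2) = -(x₂ (some 2) - bsum x₂ 0 / 2) := by
      rw [xiVec_apply, k3]; simp [epsK]
    have hb := bsum_zero x₂
    rcases gS with gS | gS
    · have : x₂ none = -2 ∨ x₂ (some 0) = -2 ∨ x₂ (some 1) = -2 ∨ x₂ (some 2) = -2 := by omega
      rcases this with h | h | h | h
      · exact ⟨none, Or.inl (by rw [e0, gS, h]; norm_num)⟩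
      · exact ⟨some 0, Or.inl (by rw [e1, gS, h]; norm_num)⟩
      · exact ⟨some 1, Or.inl (by rw [e2, gS, h]; norm_num)⟩
      · exact ⟨some 2, Or.inl (by rw [e3, gS, h]; norm_num)⟩
    · have : x₂ none = 2 ∨ x₂ (some 0) = 2 ∨ x₂ (some 1) = 2 ∨ x₂ (some 2) = 2 := by omega
      rcases this with h | h | h | h
      · exact ⟨none, Or.inr (by rw [e0, gS, h]; norm_num)⟩
      · exact ⟨some 0, Or.inr (by rw [e1, gS, h]; norm_num)⟩
      · exact ⟨some 1, Or.inr (by rw [e2, gS, h]; norm_num)⟩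
      · exact ⟨some 2, Or.inr (by rw [e3, gS, h]; norm_num)⟩
  obtain ⟨p, hp⟩ := h4
  have hI3 : xiVec x₂ ∈ I3 := by
    rcases mem_I_of_norm32 _ hy hny with h | h | h
    · exfalso
      rcases I1_entries _ h p with h' | h' <;> rcases hp with hp | hp <;> rw [hp] at h' <;>
        norm_num at h'
    · exfalso
      rcases I2_entries _ h p with h' | h' | h' <;> rcases hp with hp | hp <;> omega
    · exact h
  exact (c12.trans c23).trans (conj_I3 _ hI3)

lemma conj_I2 (x : GolayPt → ℤ) (hx : x ∈ I2) : Conj x v0 := by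
  obtain ⟨hxL, hn⟩ := I2_sub x hx
  obtain ⟨s, t, hs, hts, -, rfl⟩ := (mem_I2 x).mp hx
  obtain ⟨c, hc, hw, rfl⟩ := (mem_codeSupps 8 s).mp hs
  have hoct : bsupp c ∈ octads := by
    rw [Cfsg.Agent.Lib.Helper10.mem_octads_iff]
    exact ⟨c, hc, support₂_eq_bsupp c, by rw [← hammingNorm_eq_card_bsupp, hw]⟩
  have hO : fs octO ∈ octads :=
    Cfsg.Agent.Lib.Helper10.fs_mem_octads Cfsg.Agent.Lib.Helper10.octO_lt
      Cfsg.Agent.Lib.Helper10.octO_enc Cfsg.Agent.Lib.Helper10.octO_pc
  obtain ⟨g, hg⟩ := Cfsg.Agent.S0367.result (bsupp c) (fs octO) hoct hO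
  have himg : (bsupp c).image g.1 = fs octO := hg
  have c1 := conj_perm g.2 hxL
  rw [permVec_pmVec, himg] at c1
  have hmemO : (none : GolayPt) ∈ fs octO ∧ (some 0 : GolayPt) ∈ fs octO ∧
      (some 1 : GolayPt) ∈ fs octO ∧ (some 2 : GolayPt) ∈ fs octO := by
    simp only [Cfsg.Agent.Lib.Helper10.mem_fs]
    decide +kernel
  have hts' : t.image g.1 ⊆ fs octO := by
    rw [← himg]; exact Finset.image_subset_image hts
  have hval : ∀ p ∈ fs octO, pmVec 2 (fs octO) (t.image g.1) p = 2 ∨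
      pmVec 2 (fs octO) (t.image g.1) p = -2 := by
    intro p hp
    have h0 := (pmVec_ne_zero_iff (a := 2) (by norm_num) hts' p).mpr hp
    rcases pmVec_abs 2 (fs octO) (t.image g.1) p with h | h | h
    · exact absurd h h0
    · exact Or.inl h
    · exact Or.inr h
  have hn1 : sqNorm (pmVec 2 (fs octO) (t.image g.1)) = 32 := by rw [c1.sqNorm_eq, hn]
  exact c1.trans (conj_of_blk0 _ c1.mem_right hn1 (hval _ hmemO.1) (hval _ hmemO.2.1)
    (hval _ hmemO.2.2.1) (hval _ hmemO.2.2.2))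

/-- An even vector whose image under the new automorphism is odd. -/
def p1 : GolayPt → ℤ := pmVec 2 (bsupp d1) ∅

lemma p1_mem_I2 : p1 ∈ I2 := by
  rw [mem_I2]
  exact ⟨bsupp d1, ∅, (mem_codeSupps 8 _).mpr ⟨d1, d1_mem, d1_wt, rfl⟩, Finset.empty_subset _,
    by simp, rfl⟩

lemma xi_p1_none : xiVec p1 none = 1 := by
  obtain ⟨e1, e0, e2, e3⟩ := d1_vals
  have hb := bsum_zero p1
  have v0' : p1 none = 0 := by
    unfold p1; rw [pmVec_apply]; simp [mem_bsupp, e0]
  have v1' : p1 (some 0) = 2 := by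
    unfold p1; rw [pmVec_apply]; simp [mem_bsupp, e1]
  have v2' : p1 (some 1) = 0 := by
    unfold p1; rw [pmVec_apply]; simp [mem_bsupp, e2]
  have v3' : p1 (some 2) = 0 := by
    unfold p1; rw [pmVec_apply]; simp [mem_bsupp, e3]
  rw [v0', v1', v2', v3'] at hb
  rw [xiVec_apply, kap_blk0.1, hb, v0']
  simp [epsK]

lemma conj_I1 (x : GolayPt → ℤ) (hx : x ∈ I1) : Conj x v0 := by
  obtain ⟨hxL, hn⟩ := I1_sub x hx
  -- the odd reference vector
  have hp1 := I2_sub p1 p1_mem_I2
  have cxi := conj_xi hp1.1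
  have hstarL := cxi.mem_right
  have hstarn : sqNorm (xiVec p1) = 32 := by rw [cxi.sqNorm_eq, hp1.2]
  have hstar : xiVec p1 ∈ I1 := by
    rcases mem_I_of_norm32 _ hstarL hstarn with h | h | h
    · exact h
    · exfalso
      have := I2_entries _ h none
      rw [xi_p1_none] at this
      omega
    · exfalso
      have := I3_entries _ h none
      rw [xi_p1_none] at this
      omega
  obtain ⟨s, hs, c, hc, rfl⟩ := (mem_I1 x).mp hx
  obtain ⟨s', hs', c', hc', hstar_eq⟩ := (mem_I1 _).mp hstar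
  obtain ⟨j, rfl⟩ := Finset.card_eq_one.mp hs
  obtain ⟨j', rfl⟩ := Finset.card_eq_one.mp hs'
  obtain ⟨σ, hσ, hσj⟩ := m24_trans j j'
  have c1 := conj_perm hσ hxL
  rw [permVec_signVec, permVec_oneVec, Finset.image_singleton, hσj] at c1
  have hc1 : permWord σ c ∈ golayCode := permWord_mem_of_mem_M24 hσ c hc
  have c2 := conj_sign (golayCode.add_mem hc1 hc') c1.mem_right
  rw [signVec_comp, add_add_cancel_zmod2, ← hstar_eq] at c2
  exact ((c1.trans c2).trans cxi.symm).trans (conj_I2 p1 p1_mem_I2)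

/-- The automorphism group is transitive on the vectors of sum of squares 32. -/
theorem conj_norm32 (x : GolayPt → ℤ) (hx : x ∈ leechLattice) (hn : sqNorm x = 32) : Conj x v0 := by
  rcases mem_I_of_norm32 x hx hn with h | h | h
  · exact conj_I1 x h
  · exact conj_I2 x h
  · exact conj_I3 x h

end Cfsg.Agent.Lib.Helper94
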