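import Mathlib
import Cfsg.Agent.Lib.Helper94.LeechTrans4
import Cfsg.Agent.Lib.Helper94.LeechCount48

/-! The automorphism group is transitive on the lattice vectors of sum of squares 48. -/

set_option autoImplicit false

namespace Cfsg.Agent.Lib.Helper94

open Cfsg
open Cfsg.Agent.Lib.Helper95
open Cfsg.Agent.Lib.Helper10 (permWord permWord_apply permWord_mem_of_mem_M24)
open Cfsg.Agent.S0391 (zmod2_cases val_le_one shape_of_mem shape_normal sum_of_mem sum_val_eq)

/-! ### Multiple transitivity of the code's group -/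

lemma m24_emb_trans {n : ℕ} (hn : n ≤ 5) (x y : Fin n ↪ GolayPt) :
    ∃ σ ∈ M24, ∀ i, σ (x i) = y i := by
  have h5 := Cfsg.Agent.S0366.result
  have : MulAction.IsMultiplyPretransitive M24 GolayPt n :=
    MulAction.isMultiplyPretransitive_of_le (n := 5) hn
      (by rw [Nat.card_eq_fintype_card, golayPt_card]; norm_num)
  obtain ⟨g, hg⟩ := MulAction.exists_smul_eq M24 x y
  refine ⟨g.1, g.2, fun i => ?_⟩
  have := congrArg (fun f : Fin n ↪ GolayPt => f i) hg
  exact this

lemma m24_three_trans {a b c a' b' c' : GolayPt} (hab : a ≠ b) (hac : a ≠ c) (hbc : b ≠ c)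
    (hab' : a' ≠ b') (hac' : a' ≠ c') (hbc' : b' ≠ c') :
    ∃ σ ∈ M24, σ a = a' ∧ σ b = b' ∧ σ c = c' := by
  let x : Fin 3 ↪ GolayPt := ⟨![a, b, c], by
    intro i j h
    fin_cases i <;> fin_cases j <;> simp_all⟩
  let y : Fin 3 ↪ GolayPt := ⟨![a', b', c'], by
    intro i j h
    fin_cases i <;> fin_cases j <;> simp_all⟩
  obtain ⟨σ, hσ, h⟩ := m24_emb_trans (by norm_num) x y
  exact ⟨σ, hσ, h 0, h 1, h 2⟩

lemma m24_four_trans {a b c d a' b' c' d' : GolayPt} (hab : a ≠ b) (hac : a ≠ c) (had : a ≠ d)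
    (hbc : b ≠ c) (hbd : b ≠ d) (hcd : c ≠ d) (hab' : a' ≠ b') (hac' : a' ≠ c') (had' : a' ≠ d')
    (hbc' : b' ≠ c') (hbd' : b' ≠ d') (hcd' : c' ≠ d') :
    ∃ σ ∈ M24, σ a = a' ∧ σ b = b' ∧ σ c = c' ∧ σ d = d' := by
  let x : Fin 4 ↪ GolayPt := ⟨![a, b, c, d], by
    intro i j h
    fin_cases i <;> fin_cases j <;> simp_all⟩
  let y : Fin 4 ↪ GolayPt := ⟨![a', b', c', d'], by
    intro i j h
    fin_cases i <;> fin_cases j <;> simp_all⟩
  obtain ⟨σ, hσ, h⟩ := m24_emb_trans (by norm_num) x y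
  exact ⟨σ, hσ, h 0, h 1, h 2, h 3⟩

/-! ### The families of sum of squares 48 -/

lemma odd48 (y : GolayPt → ℤ) (hy : y ∈ leechLattice) (hn : sqNorm y = 48)
    (hodd : y none % 2 = 1) :
    y ∈ oddFam (oneVecs 3 (-3)) ∨ y ∈ oddFam (oneVecs 1 5) := by
  rcases (norm48_iff y).mp ⟨hy, hn⟩ with h | h | h | h
  · exfalso
    rcases fam48_1_vals y h none with h' | h' | h' <;> rw [h'] at hodd <;> norm_num at hodd
  · exact Or.inl h
  · exfalso
    rcases (fam48_3_vals y h).1 none with h' | h' | h' | h' | h' <;> rw [h'] at hodd <;>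
      norm_num at hodd
  · exact Or.inr h

/-- Any two vectors of shape `(∓3^3, ±1^21)` lie in one orbit. -/
lemma conj_J2 (x x' : GolayPt → ℤ) (hx : x ∈ oddFam (oneVecs 3 (-3)))
    (hx' : x' ∈ oddFam (oneVecs 3 (-3))) : Conj x x' := by
  have hxL := ((norm48_iff x).mpr (Or.inr (Or.inl hx))).1
  obtain ⟨s, hs, c, hc, rfl⟩ := (mem_oddFam_oneVecs 3 (-3) x).mp hx
  obtain ⟨s', hs', c', hc', rfl⟩ := (mem_oddFam_oneVecs 3 (-3) x').mp hx'
  obtain ⟨i, j, k, hij, hik, hjk, rfl⟩ := Finset.card_eq_three.mp hs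
  obtain ⟨i', j', k', hij', hik', hjk', rfl⟩ := Finset.card_eq_three.mp hs'
  obtain ⟨σ, hσ, h1, h2, h3⟩ := m24_three_trans hij hik hjk hij' hik' hjk'
  have c1 := conj_perm hσ hxL
  have himg : ({i, j, k} : Finset GolayPt).image σ = {i', j', k'} := by
    rw [Finset.image_insert, Finset.image_insert, Finset.image_singleton, h1, h2, h3]
  rw [permVec_signVec, permVec_oneVec, himg] at c1
  have hc1 : permWord σ c ∈ golayCode := permWord_mem_of_mem_M24 hσ c hc
  have c2 := conj_sign (golayCode.add_mem hc1 hc') c1.mem_right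
  rw [signVec_comp, add_add_cancel_zmod2] at c2
  exact c1.trans c2

/-- The odd vector `(5, 1^23)`. -/
def u5 : GolayPt → ℤ := oneVec {none} 5

lemma signVec_zero (u : GolayPt → ℤ) : signVec 0 u = u := by
  ext p
  simp [signVec_apply, sgnOf]

lemma u5_mem_J4 : u5 ∈ oddFam (oneVecs 1 5) := by
  rw [mem_oddFam_oneVecs]
  exact ⟨{none}, by simp, 0, golayCode.zero_mem, (signVec_zero _).symm⟩

lemma conj_J4 (x : GolayPt → ℤ) (hx : x ∈ oddFam (oneVecs 1 5)) : Conj x u5 := by
  have hxL := ((norm48_iff x).mpr (Or.inr (Or.inr (Or.inr hx)))).1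
  obtain ⟨s, hs, c, hc, rfl⟩ := (mem_oddFam_oneVecs 1 5 x).mp hx
  obtain ⟨j, rfl⟩ := Finset.card_eq_one.mp hs
  obtain ⟨σ, hσ, hσj⟩ := m24_trans j none
  have c1 := conj_perm hσ hxL
  rw [permVec_signVec, permVec_oneVec, Finset.image_singleton, hσj] at c1
  have hc1 : permWord σ c ∈ golayCode := permWord_mem_of_mem_M24 hσ c hc
  have c2 := conj_sign (golayCode.add_mem hc1 golayCode.zero_mem) c1.mem_right
  rw [signVec_comp, add_add_cancel_zmod2, signVec_zero] at c2
  exact c1.trans c2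

lemma xi_u5_vals : xiVec u5 none = -1 ∧ xiVec u5 (some 0) = 3 := by
  have hb := bsum_zero u5
  have e0 : u5 none = 5 := by unfold u5; rw [oneVec_apply]; simp
  have e1 : u5 (some 0) = 1 := by unfold u5; rw [oneVec_apply]; simp
  have e2 : u5 (some 1) = 1 := by unfold u5; rw [oneVec_apply]; simp
  have e3 : u5 (some 2) = 1 := by unfold u5; rw [oneVec_apply]; simp
  rw [e0, e1, e2, e3] at hb
  constructor
  · rw [xiVec_apply, kap_blk0.1, hb, e0]; simp [epsK]
  · rw [xiVec_apply, kap_blk0.2.1, hb, e1]; simp [epsK]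

lemma xi_u5_mem_J2 : xiVec u5 ∈ oddFam (oneVecs 3 (-3)) := by
  have h5 := (norm48_iff u5).mpr (Or.inr (Or.inr (Or.inr u5_mem_J4)))
  have cxi := conj_xi h5.1
  have hn : sqNorm (xiVec u5) = 48 := by rw [cxi.sqNorm_eq, h5.2]
  rcases odd48 _ cxi.mem_right hn (by rw [xi_u5_vals.1]; norm_num) with h | h
  · exact h
  · exfalso
    have := (fam48_4_vals _ h).1 (some 0)
    rw [xi_u5_vals.2] at this
    norm_num at this

/-- Every vector of sum of squares 48 with even entries is in the orbit of a vector with odd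
entries. -/
lemma conj_even48 (w k : ℕ) (hw4 : 4 ∣ w) (hw : 0 < w) (hw' : w + 3 ≤ 24) (x : GolayPt → ℤ)
    (hx : x ∈ evenFam w k) : ∃ y, Conj x y ∧ y none % 2 = 1 := by
  obtain ⟨hxL, -, hv, -⟩ := evenFam_sub w k hw4 x hx
  obtain ⟨s, t, p, t', hq, hxe⟩ := (mem_evenFam w k x).mp hx
  have hok := pm2Ok_of_mem (P := fun t => t.card % 2 = k % 2) hq
  have hscard := card_of_mem_codeSupps hq.1
  have hsne : s.Nonempty := by rw [← Finset.card_pos, hscard]; exact hw
  obtain ⟨a, ha⟩ := hsne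
  have hcompl : 3 ≤ (Finset.univ \ s).card := by
    rw [Finset.card_sdiff_of_subset (Finset.subset_univ s), Finset.card_univ, golayPt_card, hscard]
    omega
  obtain ⟨u, hu, hu3⟩ := Finset.exists_subset_card_eq hcompl
  obtain ⟨b, c, d, hbc, hbd, hcd, rfl⟩ := Finset.card_eq_three.mp hu3
  have hb : b ∉ s := by
    have := hu (show b ∈ ({b, c, d} : Finset GolayPt) by simp)
    simpa using this
  have hc : c ∉ s := by
    have := hu (show c ∈ ({b, c, d} : Finset GolayPt) by simp)
    simpa using this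
  have hd : d ∉ s := by
    have := hu (show d ∈ ({b, c, d} : Finset GolayPt) by simp)
    simpa using this
  have hab : a ≠ b := fun h => hb (h ▸ ha)
  have hac : a ≠ c := fun h => hc (h ▸ ha)
  have had : a ≠ d := fun h => hd (h ▸ ha)
  have va : x a = 2 ∨ x a = -2 := by
    rw [hxe]; exact (pm2Vec_vals hok a).2.1.mp ha
  have voff : ∀ q, q ∉ s → x q = 0 ∨ x q = 4 ∨ x q = -4 := by
    intro q hq'
    have h2 : ¬ (x q = 2 ∨ x q = -2) := by
      rw [hxe]; exact fun h => hq' ((pm2Vec_vals hok q).2.1.mpr h)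
    rcases hv q with h | h | h | h | h
    · exact Or.inl h
    · exact absurd (Or.inl h) h2
    · exact absurd (Or.inr h) h2
    · exact Or.inr (Or.inl h)
    · exact Or.inr (Or.inr h)
  obtain ⟨σ, hσ, h1, h2, h3, h4⟩ := m24_four_trans hab hac had hbc hbd hcd
    (show (none : GolayPt) ≠ some 0 by decide) (show (none : GolayPt) ≠ some 1 by decide)
    (show (none : GolayPt) ≠ some 2 by decide) (show (some 0 : GolayPt) ≠ some 1 by decide)
    (show (some 0 : GolayPt) ≠ some 2 by decide) (show (some 1 : GolayPt) ≠ some 2 by decide)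
  have c1 := conj_perm hσ hxL
  have c2 := conj_xi c1.mem_right
  refine ⟨_, c1.trans c2, ?_⟩
  have e0 : permVec σ x none = x a := by rw [permVec_apply, ← h1]; simp
  have e1 : permVec σ x (some 0) = x b := by rw [permVec_apply, ← h2]; simp
  have e2 : permVec σ x (some 1) = x c := by rw [permVec_apply, ← h3]; simp
  have e3 : permVec σ x (some 2) = x d := by rw [permVec_apply, ← h4]; simp
  rw [xiVec_apply, kap_blk0.1, bsum_zero, e0, e1, e2, e3]
  simp only [epsK, if_true]
  have vb := voff b hb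
  have vc := voff c hc
  have vd := voff d hd
  rcases va with va | va <;> rcases vb with vb | vb | vb <;> rcases vc with vc | vc | vc <;>
    rcases vd with vd | vd | vd <;> rw [va, vb, vc, vd] <;> norm_num

/-- The reference vector of sum of squares 48. -/
def r0 : GolayPt → ℤ := xiVec u5

/-- The automorphism group is transitive on the vectors of sum of squares 48. -/
theorem conj_norm48 (x : GolayPt → ℤ) (hx : x ∈ leechLattice) (hn : sqNorm x = 48) :
    Conj x r0 := by
  have hodd : ∀ y, y ∈ leechLattice → sqNorm y = 48 → y none % 2 = 1 → Conj y r0 := by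
    intro y hy hny hyodd
    rcases odd48 y hy hny hyodd with h | h
    · exact conj_J2 y r0 h xi_u5_mem_J2
    · have h5 := (norm48_iff u5).mpr (Or.inr (Or.inr (Or.inr u5_mem_J4)))
      exact (conj_J4 y h).trans (conj_xi h5.1)
  rcases (norm48_iff x).mp ⟨hx, hn⟩ with h | h | h | h
  · obtain ⟨y, cxy, hy⟩ := conj_even48 12 0 (by norm_num) (by norm_num) (by norm_num) x h
    exact cxy.trans (hodd y cxy.mem_right (by rw [cxy.sqNorm_eq, hn]) hy)
  · exact conj_J2 x r0 h xi_u5_mem_J2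
  · obtain ⟨y, cxy, hy⟩ := conj_even48 8 1 (by norm_num) (by norm_num) (by norm_num) x h
    exact cxy.trans (hodd y cxy.mem_right (by rw [cxy.sqNorm_eq, hn]) hy)
  · have h5 := (norm48_iff u5).mpr (Or.inr (Or.inr (Or.inr u5_mem_J4)))
    exact (conj_J4 x h).trans (conj_xi h5.1)

end Cfsg.Agent.Lib.Helper94
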