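import Mathlib
import Cfsg.Agent.Lib.Helper94.LeechTrans6
import Cfsg.Agent.Lib.Helper94.LeechCount64

/-! The automorphism group is transitive on the lattice vectors of sum of squares 64. -/

set_option autoImplicit false

namespace Cfsg.Agent.Lib.Helper94

open Cfsg
open Cfsg.Agent.Lib.Helper95
open Cfsg.Agent.Lib.Helper10 (permWord permWord_apply permWord_mem_of_mem_M24 vec
  vec_mem_golayCode_iff)
open Cfsg.Agent.S0391 (zmod2_cases val_le_one shape_of_mem shape_normal sum_of_mem sum_val_eq)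

/-- A lattice vector with an entry `≡ 2 (mod 4)` and three entries `≡ 0 (mod 4)` lies in the
orbit of a vector with odd entries. -/
lemma conj_even_to_odd (x : GolayPt → ℤ) (hx : x ∈ leechLattice) {a b c d : GolayPt}
    (hab : a ≠ b) (hac : a ≠ c) (had : a ≠ d) (hbc : b ≠ c) (hbd : b ≠ d) (hcd : c ≠ d)
    (va : x a % 4 = 2) (vb : x b % 4 = 0) (vc : x c % 4 = 0) (vd : x d % 4 = 0) :
    ∃ y, Conj x y ∧ y none % 2 = 1 := by
  obtain ⟨σ, hσ, h1, h2, h3, h4⟩ := m24_four_trans hab hac had hbc hbd hcd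
    (show (none : GolayPt) ≠ some 0 by decide) (show (none : GolayPt) ≠ some 1 by decide)
    (show (none : GolayPt) ≠ some 2 by decide) (show (some 0 : GolayPt) ≠ some 1 by decide)
    (show (some 0 : GolayPt) ≠ some 2 by decide) (show (some 1 : GolayPt) ≠ some 2 by decide)
  have c1 := conj_perm hσ hx
  have c2 := conj_xi c1.mem_right
  refine ⟨_, c1.trans c2, ?_⟩
  have e0 : permVec σ x none = x a := by rw [permVec_apply, ← h1]; simp
  have e1 : permVec σ x (some 0) = x b := by rw [permVec_apply, ← h2]; simp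
  have e2 : permVec σ x (some 1) = x c := by rw [permVec_apply, ← h3]; simp
  have e3 : permVec σ x (some 2) = x d := by rw [permVec_apply, ← h4]; simp
  rw [xiVec_apply, kap_blk0.1, bsum_zero, e0, e1, e2, e3]
  simp only [epsK, if_true]
  omega

lemma exists_three_off (s : Finset GolayPt) (h : s.card + 3 ≤ 24) :
    ∃ b c d, b ∉ s ∧ c ∉ s ∧ d ∉ s ∧ b ≠ c ∧ b ≠ d ∧ c ≠ d := by
  have hcompl : 3 ≤ (Finset.univ \ s).card := by
    rw [Finset.card_sdiff_of_subset (Finset.subset_univ s), Finset.card_univ, golayPt_card]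
    omega
  obtain ⟨u, hu, hu3⟩ := Finset.exists_subset_card_eq hcompl
  obtain ⟨b, c, d, hbc, hbd, hcd, rfl⟩ := Finset.card_eq_three.mp hu3
  refine ⟨b, c, d, ?_, ?_, ?_, hbc, hbd, hcd⟩
  · have := hu (show b ∈ ({b, c, d} : Finset GolayPt) by simp)
    simpa using this
  · have := hu (show c ∈ ({b, c, d} : Finset GolayPt) by simp)
    simpa using this
  · have := hu (show d ∈ ({b, c, d} : Finset GolayPt) by simp)
    simpa using this

lemma conj_evenFam_odd (w k : ℕ) (hw4 : 4 ∣ w) (hw : 0 < w) (hw' : w + 3 ≤ 24) (x : GolayPt → ℤ)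
    (hx : x ∈ evenFam w k) : ∃ y, Conj x y ∧ y none % 2 = 1 := by
  obtain ⟨hxL, -, hv, -⟩ := evenFam_sub w k hw4 x hx
  obtain ⟨s, t, p, t', hq, hxe⟩ := (mem_evenFam w k x).mp hx
  have hok := pm2Ok_of_mem (P := fun t => t.card % 2 = k % 2) hq
  have hscard := card_of_mem_codeSupps hq.1
  have hsne : s.Nonempty := by rw [← Finset.card_pos, hscard]; exact hw
  obtain ⟨a, ha⟩ := hsne
  obtain ⟨b, c, d, hb, hc, hd, hbc, hbd, hcd⟩ := exists_three_off s (by rw [hscard]; exact hw')
  have hab : a ≠ b := fun h => hb (h ▸ ha)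
  have hac : a ≠ c := fun h => hc (h ▸ ha)
  have had : a ≠ d := fun h => hd (h ▸ ha)
  have va : x a = 2 ∨ x a = -2 := by
    rw [hxe]; exact (pm2Vec_vals hok a).2.1.mp ha
  have voff : ∀ q, q ∉ s → x q = 0 ∨ x q = 4 ∨ x q = -4 := by
    intro q hq'
    have h2 : ¬ (x q = 2 ∨ x q = -2) := by
      rw [hxe]; exact fun h => hq' ((pm2Vec_vals hok q).2.1.mpr h)
    rcases hv q with h | h | h | h | h
    · exact Or.inl h
    · exact absurd (Or.inl h) h2
    · exact absurd (Or.inr h) h2
    · exact Or.inr (Or.inl h)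
    · exact Or.inr (Or.inr h)
  apply conj_even_to_odd x hxL hab hac had hbc hbd hcd
  · rcases va with h | h <;> rw [h] <;> norm_num
  · rcases voff b hb with h | h | h <;> rw [h] <;> norm_num
  · rcases voff c hc with h | h | h <;> rw [h] <;> norm_num
  · rcases voff d hd with h | h | h <;> rw [h] <;> norm_num

lemma conj_sixFam_odd (x : GolayPt → ℤ) (hx : x ∈ sixFam) : ∃ y, Conj x y ∧ y none % 2 = 1 := by
  obtain ⟨hxL, -, -, -⟩ := sixFam_sub x hx
  obtain ⟨s, t, j, ⟨hs, ⟨hts, -⟩, hj⟩, rfl⟩ := (mem_sixFam x).mp hx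
  have hscard := card_of_mem_codeSupps hs
  obtain ⟨b, c, d, hb, hc, hd, hbc, hbd, hcd⟩ := exists_three_off s (by rw [hscard]; norm_num)
  have hab : j ≠ b := fun h => hb (h ▸ hj)
  have hac : j ≠ c := fun h => hc (h ▸ hj)
  have had : j ≠ d := fun h => hd (h ▸ hj)
  have voff : ∀ q, q ∉ s → sixVec s t j q = 0 := by
    intro q hq
    by_contra h0
    exact hq ((sixVec_vals hts hj q).2.1.mpr h0)
  apply conj_even_to_odd _ hxL hab hac had hbc hbd hcd
  · rcases (sixVec_vals hts hj j).2.2.1.mp rfl with h | h <;> rw [h] <;> norm_num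
  · rw [voff b hb]; norm_num
  · rw [voff c hc]; norm_num
  · rw [voff d hd]; norm_num

lemma odd64 (y : GolayPt → ℤ) (hy : y ∈ leechLattice) (hn : sqNorm y = 64)
    (hodd : y none % 2 = 1) :
    y ∈ oddFam (oneVecs 5 (-3)) ∨ y ∈ oddFam mixVecs := by
  have hev : ∀ w k : ℕ, 4 ∣ w → y ∈ evenFam w k → False := by
    intro w k hw h
    rcases (evenFam_sub w k hw y h).2.2.1 none with h' | h' | h' | h' | h' <;>
      rw [h'] at hodd <;> norm_num at hodd
  rcases (norm64_iff y).mp ⟨hy, hn⟩ with h | h | h | h | h | h | h | h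
  · exact (hev 16 0 (by norm_num) h).elim
  · exact (hev 12 1 (by norm_num) h).elim
  · exact (hev 8 2 (by norm_num) h).elim
  · exfalso
    rcases (sixFam_sub y h).2.2.1 none with h' | h' | h' | h' | h' <;>
      rw [h'] at hodd <;> norm_num at hodd
  · exfalso
    rcases (zeroFam_four_sub 4 (by decide) y h).2.2.1 none with h' | h' | h' <;>
      rw [h'] at hodd <;> norm_num at hodd
  · exfalso
    rcases (zeroFam_eight_sub y h).2.2.1 none with h' | h' | h' <;>
      rw [h'] at hodd <;> norm_num at hodd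
  · exact Or.inl h
  · exact Or.inr h

/-- The code's group maps any set of at most five points onto any other of the same size. -/
lemma m24_set_trans (s s' : Finset GolayPt) (h : s.card = s'.card) (h5 : s.card ≤ 5) :
    ∃ σ ∈ M24, s.image σ = s' := by
  let e : Fin s.card ≃ s := (Finset.equivFin s).symm
  let e' : Fin s.card ≃ s' := (Finset.equivFinOfCardEq h.symm).symm
  let x : Fin s.card ↪ GolayPt := e.toEmbedding.trans (Function.Embedding.subtype _)
  let y : Fin s.card ↪ GolayPt := e'.toEmbedding.trans (Function.Embedding.subtype _)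
  obtain ⟨σ, hσ, hxy⟩ := m24_emb_trans h5 x y
  refine ⟨σ, hσ, ?_⟩
  ext q
  rw [Finset.mem_image]
  constructor
  · rintro ⟨p, hp, rfl⟩
    have : x (e.symm ⟨p, hp⟩) = p := by simp [x]
    rw [← this, hxy]
    exact (e' _).2
  · intro hq
    refine ⟨x (e'.symm ⟨q, hq⟩), (e _).2, ?_⟩
    rw [hxy]
    simp [y]

lemma conj_F7 (x x' : GolayPt → ℤ) (hx : x ∈ oddFam (oneVecs 5 (-3)))
    (hx' : x' ∈ oddFam (oneVecs 5 (-3))) : Conj x x' := by
  have hxL := ((norm64_iff x).mpr (by tauto)).1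
  obtain ⟨s, hs, c, hc, rfl⟩ := (mem_oddFam_oneVecs 5 (-3) x).mp hx
  obtain ⟨s', hs', c', hc', rfl⟩ := (mem_oddFam_oneVecs 5 (-3) x').mp hx'
  obtain ⟨σ, hσ, himg⟩ := m24_set_trans s s' (by rw [hs, hs']) (by rw [hs])
  have c1 := conj_perm hσ hxL
  rw [permVec_signVec, permVec_oneVec, himg] at c1
  have hc1 : permWord σ c ∈ golayCode := permWord_mem_of_mem_M24 hσ c hc
  have c2 := conj_sign (golayCode.add_mem hc1 hc') c1.mem_right
  rw [signVec_comp, add_add_cancel_zmod2] at c2
  exact c1.trans c2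

lemma permVec_mixVec (σ : Equiv.Perm GolayPt) (j : GolayPt) (s : Finset GolayPt) :
    permVec σ (mixVec j s) = mixVec (σ j) (s.image σ) := by
  ext p
  have h1 : p ∈ s.image σ ↔ σ.symm p ∈ s := by
    rw [Finset.mem_image]
    constructor
    · rintro ⟨q, hq, rfl⟩; simpa using hq
    · intro h; exact ⟨σ.symm p, h, by simp⟩
  have h2 : σ.symm p = j ↔ p = σ j := by
    constructor
    · intro h; rw [← h]; simp
    · intro h; rw [h]; simp
  simp only [permVec_apply, mixVec_apply, h1, h2]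

lemma conj_F8 (x x' : GolayPt → ℤ) (hx : x ∈ oddFam mixVecs) (hx' : x' ∈ oddFam mixVecs) :
    Conj x x' := by
  have hxL := ((norm64_iff x).mpr (by tauto)).1
  obtain ⟨u, hu, c, hc, rfl⟩ := (mem_oddFam mixVecs x).mp hx
  obtain ⟨u', hu', c', hc', rfl⟩ := (mem_oddFam mixVecs x').mp hx'
  obtain ⟨j, s, hj, hs, rfl⟩ := (mem_mixVecs u).mp hu
  obtain ⟨j', s', hj', hs', rfl⟩ := (mem_mixVecs u').mp hu'
  obtain ⟨k, l, hkl, rfl⟩ := Finset.card_eq_two.mp hs
  obtain ⟨k', l', hkl', rfl⟩ := Finset.card_eq_two.mp hs'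
  have hjk : j ≠ k := fun h => hj (by rw [h]; simp)
  have hjl : j ≠ l := fun h => hj (by rw [h]; simp)
  have hjk' : j' ≠ k' := fun h => hj' (by rw [h]; simp)
  have hjl' : j' ≠ l' := fun h => hj' (by rw [h]; simp)
  obtain ⟨σ, hσ, h1, h2, h3⟩ := m24_three_trans hjk hjl hkl hjk' hjl' hkl'
  have c1 := conj_perm hσ hxL
  have himg : ({k, l} : Finset GolayPt).image σ = {k', l'} := by
    rw [Finset.image_insert, Finset.image_singleton, h2, h3]
  rw [permVec_signVec, permVec_mixVec, himg, h1] at c1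
  have hc1 : permWord σ c ∈ golayCode := permWord_mem_of_mem_M24 hσ c hc
  have c2 := conj_sign (golayCode.add_mem hc1 hc') c1.mem_right
  rw [signVec_comp, add_add_cancel_zmod2] at c2
  exact c1.trans c2

/-! ### Concrete links between the families -/

/-- A vector of shape `(5, -3, -3, 1^21)` whose image has five entries `±3`. -/
def x8 : GolayPt → ℤ := mixVec none {some 3, some 5}

lemma x8_mem : x8 ∈ oddFam mixVecs := by
  rw [mem_oddFam]
  refine ⟨x8, (mem_mixVecs _).mpr ⟨none, {some 3, some 5}, by decide, by decide, rfl⟩, 0,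
    golayCode.zero_mem, (signVec_zero _).symm⟩

lemma xi_x8_vals : (∀ p : GolayPt, xiVec x8 p ≠ 5 ∧ xiVec x8 p ≠ -5) ∧ xiVec x8 none = -1 := by
  decide +kernel

lemma xi_x8_mem_F7 : xiVec x8 ∈ oddFam (oneVecs 5 (-3)) := by
  have h8 := (norm64_iff x8).mpr (by have := x8_mem; tauto)
  have cxi := conj_xi h8.1
  have hn : sqNorm (xiVec x8) = 64 := by rw [cxi.sqNorm_eq, h8.2]
  rcases odd64 _ cxi.mem_right hn (by rw [xi_x8_vals.2]; norm_num) with h | h
  · exact h
  · exfalso
    obtain ⟨j, hj⟩ := (oddFam_mixVecs_sub _ h).2.2.2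
    have := xi_x8_vals.1 j
    rcases abs_eq (by norm_num : (0 : ℤ) ≤ 5) |>.mp hj with h' | h'
    · exact this.1 h'
    · exact this.2 h'

/-- The vector `(8, 0^23)`. -/
def e8 : GolayPt → ℤ := pmVec 8 {none} ∅

/-- The vector `(-4, 4, 4, 4, 0^20)` on the first tetrad. -/
def f5 : GolayPt → ℤ := pmVec 4 (blk 0) {none}

lemma xi_e8 : xiVec e8 = f5 := by
  funext p
  revert p
  decide +kernel

lemma e8_mem : e8 ∈ zeroFam 8 1 :=
  (mem_zeroFam 8 1 e8).mpr ⟨{none}, ∅, by simp, Finset.empty_subset _, rfl⟩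

lemma conj_F6 (x : GolayPt → ℤ) (hx : x ∈ zeroFam 8 1) : Conj x e8 := by
  have hxL := (zeroFam_eight_sub x hx).1
  obtain ⟨s, t, hs, hts, rfl⟩ := (mem_zeroFam 8 1 x).mp hx
  obtain ⟨j, rfl⟩ := Finset.card_eq_one.mp hs
  obtain ⟨σ, hσ, hσj⟩ := m24_trans j none
  have c1 := conj_perm hσ hxL
  rw [permVec_pmVec, Finset.image_singleton, hσj] at c1
  have hts' : t.image σ ⊆ {none} := by
    have := Finset.image_subset_image (f := σ) hts
    rwa [Finset.image_singleton, hσj] at this
  set d : GolayPt → ZMod 2 := if none ∈ t.image σ then 1 else 0 with hd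
  have hdmem : d ∈ golayCode := by
    rw [hd]; split_ifs
    · exact golayCode_one_mem
    · exact golayCode.zero_mem
  have c2 := conj_sign hdmem c1.mem_right
  rw [signVec_pmVec_fix d 8 _ _ hts'] at c2
  · exact c1.trans c2
  · intro p hp
    rw [Finset.mem_singleton] at hp
    rw [hp, hd]
    by_cases h : (none : GolayPt) ∈ t.image σ <;> simp [h]

/-- Code words meeting the first tetrad in exactly one prescribed point (by point index). -/
def eMasks : List ℕ := [6053905, 4845570, 5210132, 0, 0, 0, 0, 0, 0, 0, 0, 0, 0, 0, 0, 0, 0, 0,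
  0, 0, 0, 0, 0, 10170384]

/-- The code word attached to a point. -/
def eW (p : GolayPt) : GolayPt → ZMod 2 := vec (eMasks.getD (Cfsg.Agent.Lib.Helper10.idx p) 0)

lemma eW_mem_aux : ∀ p : GolayPt, eMasks.getD (Cfsg.Agent.Lib.Helper10.idx p) 0 < 2 ^ 24 ∧
    Cfsg.Agent.Lib.Helper10.enc (eMasks.getD (Cfsg.Agent.Lib.Helper10.idx p) 0)
      = eMasks.getD (Cfsg.Agent.Lib.Helper10.idx p) 0 := by
  decide +kernel

lemma eW_mem (p : GolayPt) : eW p ∈ golayCode :=
  (vec_mem_golayCode_iff (eW_mem_aux p).1).mpr (eW_mem_aux p).2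

lemma eW_delta : ∀ p ∈ blk 0, ∀ q ∈ blk 0, eW p q = if p = q then 1 else 0 := by
  decide +kernel

lemma exists_code_on_blk0 (u : Finset GolayPt) (hu : u ⊆ blk 0) :
    ∃ d ∈ golayCode, ∀ p ∈ blk 0, (d p = 1 ↔ p ∈ u) := by
  refine ⟨∑ p ∈ u, eW p, golayCode.sum_mem (fun p _ => eW_mem p), fun q hq => ?_⟩
  rw [Finset.sum_apply]
  have : ∑ p ∈ u, eW p q = ∑ p ∈ u, (if p = q then (1 : ZMod 2) else 0) :=
    Finset.sum_congr rfl (fun p hp => eW_delta p (hu hp) q hq)
  rw [this, Finset.sum_ite_eq' u q]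
  by_cases h : q ∈ u <;> simp [h]

lemma conj_F5 (x : GolayPt → ℤ) (hx : x ∈ zeroFam 4 4) : Conj x f5 := by
  have hxL := (zeroFam_four_sub 4 (by decide) x hx).1
  obtain ⟨s, t, hs, hts, rfl⟩ := (mem_zeroFam 4 4 x).mp hx
  obtain ⟨σ, hσ, himg⟩ := m24_set_trans s (blk 0) (by rw [hs, blk_card]) (by rw [hs]; norm_num)
  have c1 := conj_perm hσ hxL
  rw [permVec_pmVec, himg] at c1
  have hts' : t.image σ ⊆ blk 0 := by
    rw [← himg]; exact Finset.image_subset_image hts
  obtain ⟨d, hd, hdp⟩ := exists_code_on_blk0 (t.image σ) hts'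
  have c2 := conj_sign hd c1.mem_right
  rw [signVec_pmVec_fix d 4 _ _ hts' hdp] at c2
  -- and back to the reference signs
  have hnone : ({none} : Finset GolayPt) ⊆ blk 0 := by
    rw [blk_zero]; simp
  obtain ⟨d', hd', hdp'⟩ := exists_code_on_blk0 {none} hnone
  have hf5L : f5 ∈ leechLattice := by
    rw [← xi_e8]
    exact (conj_xi (zeroFam_eight_sub e8 e8_mem).1).mem_right
  have c3 := conj_sign hd' hf5L
  unfold f5 at c3
  rw [signVec_pmVec_fix d' 4 _ _ hnone hdp'] at c3
  exact (c1.trans c2).trans c3.symm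

/-- A vector of shape `(4^4, 0^20)` whose image has an entry `2`. -/
def ff : GolayPt → ℤ := pmVec 4 {none, some 0, some 1, some 3} ∅

lemma ff_mem : ff ∈ zeroFam 4 4 :=
  (mem_zeroFam 4 4 ff).mpr ⟨{none, some 0, some 1, some 3}, ∅, by decide, Finset.empty_subset _, rfl⟩

lemma xi_ff : xiVec ff (some 3) = 2 := by
  decide +kernel

/-- The automorphism group is transitive on the vectors of sum of squares 64. -/
theorem conj_norm64 (x : GolayPt → ℤ) (hx : x ∈ leechLattice) (hn : sqNorm x = 64) :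
    Conj x e8 := by
  have h8 := (norm64_iff x8).mpr (by have := x8_mem; tauto)
  -- odd vectors are in the orbit of `xiVec x8`
  have hodd : ∀ y, y ∈ leechLattice → sqNorm y = 64 → y none % 2 = 1 → Conj y (xiVec x8) := by
    intro y hy hny hyodd
    rcases odd64 y hy hny hyodd with h | h
    · exact conj_F7 y _ h xi_x8_mem_F7
    · exact (conj_F8 y x8 h x8_mem).trans (conj_xi h8.1)
  -- vectors with a nonzero code word
  have hcode : ∀ y, y ∈ leechLattice → sqNorm y = 64 →
      (y ∈ evenFam 16 0 ∨ y ∈ evenFam 12 1 ∨ y ∈ evenFam 8 2 ∨ y ∈ sixFam) →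
      Conj y (xiVec x8) := by
    intro y hy hny hfam
    have : ∃ z, Conj y z ∧ z none % 2 = 1 := by
      rcases hfam with h | h | h | h
      · exact conj_evenFam_odd 16 0 (by norm_num) (by norm_num) (by norm_num) y h
      · exact conj_evenFam_odd 12 1 (by norm_num) (by norm_num) (by norm_num) y h
      · exact conj_evenFam_odd 8 2 (by norm_num) (by norm_num) (by norm_num) y h
      · exact conj_sixFam_odd y h
    obtain ⟨z, cyz, hz⟩ := this
    exact cyz.trans (hodd z cyz.mem_right (by rw [cyz.sqNorm_eq, hny]) hz)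
  -- the link between the two kinds
  have he8 := zeroFam_eight_sub e8 e8_mem
  have hff := zeroFam_four_sub 4 (by decide) ff ff_mem
  have cff := conj_xi hff.1
  have hnff : sqNorm (xiVec ff) = 64 := by rw [cff.sqNorm_eq, hff.2.1]; norm_num
  have hfam : xiVec ff ∈ evenFam 16 0 ∨ xiVec ff ∈ evenFam 12 1 ∨ xiVec ff ∈ evenFam 8 2 ∨
      xiVec ff ∈ sixFam := by
    rcases (norm64_iff _).mp ⟨cff.mem_right, hnff⟩ with h | h | h | h | h | h | h | h
    · exact Or.inl h
    · exact Or.inr (Or.inl h)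
    · exact Or.inr (Or.inr (Or.inl h))
    · exact Or.inr (Or.inr (Or.inr h))
    · exfalso
      have := (zeroFam_four_sub 4 (by decide) _ h).2.2.1 (some 3)
      rw [xi_ff] at this; omega
    · exfalso
      have := (zeroFam_eight_sub _ h).2.2.1 (some 3)
      rw [xi_ff] at this; omega
    · exfalso
      have := (oddFam_oneVecs_sub 5 (b := -3) (by decide) (by decide) _ h).2.2.1 (some 3)
      rw [xi_ff] at this
      norm_num at this
    · exfalso
      have := (oddFam_mixVecs_sub _ h).2.2.1 (some 3)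
      rw [xi_ff] at this
      norm_num at this
  have clink : Conj (xiVec x8) e8 := by
    have c1 := hcode _ cff.mem_right hnff hfam
    have c2 : Conj ff e8 := by
      have := conj_F5 ff ff_mem
      rw [← xi_e8] at this
      exact this.trans (conj_xi he8.1).symm
    exact (c1.symm.trans cff.symm).trans c2
  rcases (norm64_iff x).mp ⟨hx, hn⟩ with h | h | h | h | h | h | h | h
  · exact (hcode x hx hn (Or.inl h)).trans clink
  · exact (hcode x hx hn (Or.inr (Or.inl h))).trans clink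
  · exact (hcode x hx hn (Or.inr (Or.inr (Or.inl h)))).trans clink
  · exact (hcode x hx hn (Or.inr (Or.inr (Or.inr h)))).trans clink
  · have := conj_F5 x h
    rw [← xi_e8] at this
    exact this.trans (conj_xi he8.1).symm
  · exact conj_F6 x h
  · exact (conj_F7 x _ h xi_x8_mem_F7).trans clink
  · exact ((conj_F8 x x8 h x8_mem).trans (conj_xi h8.1)).trans clink

end Cfsg.Agent.Lib.Helper94
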