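import Mathlib
import Cfsg.Agent.Lib.Helper94.LeechTrans8
import Cfsg.Agent.Lib.Helper94.LeechClasses
import Cfsg.Agent.S1571

/-! The order of the automorphism group of the lattice, by its action on the classes of the lattice
modulo twice the lattice. -/

set_option autoImplicit false

namespace Cfsg.Agent.Lib.Helper94

open Cfsg
open Cfsg.Agent.Lib.Helper95
open Cfsg.Agent.S1571 (ghom ghom_apply vec8_mem_cross vec8_eq_single)

lemma ghom_two_smul (g : ↥Co0) (z : leechLattice) : ghom g (2 • z) = 2 • ghom g z :=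
  map_nsmul (ghom g) 2 z

lemma ghom_preserves (g : ↥Co0) :
    twoL.addSubgroupOf leechLattice ≤ (twoL.addSubgroupOf leechLattice).comap (ghom g) := by
  intro v hv
  rw [AddSubgroup.mem_comap, AddSubgroup.mem_addSubgroupOf]
  rw [AddSubgroup.mem_addSubgroupOf, mem_twoL] at hv
  obtain ⟨z, hz, hvz⟩ := hv
  have hv' : v = 2 • (⟨z, hz⟩ : leechLattice) := Subtype.ext (by rw [hvz]; rfl)
  rw [hv', ghom_two_smul, mem_twoL]
  exact ⟨(ghom g ⟨z, hz⟩).1, (ghom g ⟨z, hz⟩).2, rfl⟩

/-- The action of an automorphism on the classes. -/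
def actQm (g : ↥Co0) : Qm →+ Qm :=
  QuotientAddGroup.map _ _ (ghom g) (ghom_preserves g)

lemma actQm_mk (g : ↥Co0) (v : leechLattice) :
    actQm g (QuotientAddGroup.mk v) = QuotientAddGroup.mk (g • v) := rfl

instance : MulAction ↥Co0 Qm where
  smul g q := actQm g q
  one_smul q := by
    induction q using QuotientAddGroup.induction_on with
    | H v => exact actQm_mk 1 v
  mul_smul g h q := by
    induction q using QuotientAddGroup.induction_on with
    | H v => rfl

lemma smul_cls (g : ↥Co0) (v : leechLattice) : g • cls v.1 = cls (g • v).1 := by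
  rw [cls_of_mem v.2, cls_of_mem (g • v).2]
  rfl

/-- The class of `(8, 0^23)`. -/
noncomputable def q0 : Qm := cls e8

lemma e8_eq_vec8 : e8 = vec8 none := by
  funext p
  unfold e8 vec8
  rw [pmVec_apply]
  by_cases h : p = none <;> simp [h]

lemma e8_memL : e8 ∈ leechLattice := (zeroFam_eight_sub e8 e8_mem).1

lemma sqNorm_e8 : sqNorm e8 = 64 := (zeroFam_eight_sub e8 e8_mem).2.1

lemma cls_vec8 (j : GolayPt) : cls (vec8 j) = q0 := by
  unfold q0
  rw [cls_eq_iff (vec8_mem j) e8_memL, e8_eq_vec8]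
  refine ⟨fun p => (if p = j then 4 else 0) - (if p = none then 4 else 0), ?_, ?_⟩
  · rw [mem_leechLattice_iff]
    refine ⟨0, 0, golayCode.zero_mem, fun p => ?_, ?_⟩
    · simp only [Pi.zero_apply, ZMod.val_zero, Nat.cast_zero, mul_zero, add_zero, Int.ModEq]
      split_ifs <;> decide
    · rw [Finset.sum_sub_distrib, Finset.sum_ite_eq' Finset.univ j,
        Finset.sum_ite_eq' Finset.univ none]
      simp [Int.ModEq]
  · funext p
    simp only [Pi.sub_apply, vec8, Pi.smul_apply, nsmul_eq_mul, Nat.cast_ofNat]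
    split_ifs <;> ring

lemma cls_neg (x : GolayPt → ℤ) (hx : x ∈ leechLattice) : cls (-x) = cls x := by
  rw [cls_eq_iff (leechLattice.neg_mem hx) hx]
  refine ⟨-x, leechLattice.neg_mem hx, ?_⟩
  rw [two_smul]
  abel

/-- A vector of sum of squares 64 in the class of `(8, 0^23)` belongs to the standard cross. -/
lemma mem_stdCross_of_cls (y : GolayPt → ℤ) (hy : y ∈ shortSet 64) (hc : cls y = q0) :
    y ∈ stdCross := by
  by_contra hnot
  have hall : ∀ j, y j = 0 := by
    intro j
    have hj : vec8 j ∈ shortSet 64 := ⟨vec8_mem j, sqNorm_vec8 j⟩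
    rcases short64_cls_eq hj hy ((cls_vec8 j).trans hc.symm) with h | h | h
    · exfalso; apply hnot; rw [h]; exact vec8_mem_cross j
    · exfalso; apply hnot; rw [h]
      exact ⟨j, -8, Or.inr rfl, by rw [vec8_eq_single]; simp [Pi.single_neg]⟩
    · unfold dotInt vec8 at h
      simp only [ite_mul, zero_mul] at h
      rw [Finset.sum_ite_eq' Finset.univ j] at h
      simp at h
      exact h
  have : sqNorm y = 0 := by
    unfold sqNorm
    apply Finset.sum_eq_zero
    intro j _
    rw [hall j]; norm_num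
  rw [hy.2] at this
  norm_num at this

lemma stabilizer_iff (g : ↥Co0) :
    g ∈ MulAction.stabilizer ↥Co0 q0 ↔
      (∀ v : ↥leechLattice, (v : GolayPt → ℤ) ∈ stdCross →
        ((g • v : ↥leechLattice) : GolayPt → ℤ) ∈ stdCross) := by
  rw [MulAction.mem_stabilizer_iff]
  have hq0 : q0 = cls (⟨e8, e8_memL⟩ : leechLattice).1 := rfl
  constructor
  · intro hg v hv
    obtain ⟨j, s, hs, hvj⟩ := hv
    have hcv : cls v.1 = q0 := by
      rcases hs with rfl | rfl
      · rw [hvj, ← vec8_eq_single]; exact cls_vec8 j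
      · have : v.1 = -vec8 j := by rw [hvj, vec8_eq_single]; simp [Pi.single_neg]
        rw [this, cls_neg _ (vec8_mem j)]; exact cls_vec8 j
    have hn : sqNorm v.1 = 64 := by
      rcases hs with rfl | rfl
      · rw [hvj, ← vec8_eq_single]; exact sqNorm_vec8 j
      · have : v.1 = -vec8 j := by rw [hvj, vec8_eq_single]; simp [Pi.single_neg]
        rw [this, sqNorm_neg']; exact sqNorm_vec8 j
    apply mem_stdCross_of_cls
    · exact ⟨(g • v).2, by rw [← hn]; exact g.2.2 v⟩
    · rw [← smul_cls, hcv, hg]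
  · intro hP
    have h1 := hP ⟨e8, e8_memL⟩ (by
      show e8 ∈ stdCross
      rw [e8_eq_vec8]; exact vec8_mem_cross none)
    rw [hq0, smul_cls]
    obtain ⟨j, s, hs, hvj⟩ := h1
    rcases hs with rfl | rfl
    · rw [hvj, ← vec8_eq_single]; exact cls_vec8 j
    · have : ((g • (⟨e8, e8_memL⟩ : leechLattice) : leechLattice) : GolayPt → ℤ) = -vec8 j := by
        rw [hvj, vec8_eq_single]; simp [Pi.single_neg]
      rw [this, cls_neg _ (vec8_mem j)]; exact cls_vec8 j

lemma card_stabilizer : Nat.card (MulAction.stabilizer ↥Co0 q0) = 4096 * 244823040 := by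
  rw [← Cfsg.Agent.S1571.result.2]
  exact Nat.card_congr (Equiv.subtypeEquivRight stabilizer_iff)

lemma orbit_eq : MulAction.orbit ↥Co0 q0 = cls '' (shortSet 64) := by
  ext q
  constructor
  · rintro ⟨g, rfl⟩
    refine ⟨(g • (⟨e8, e8_memL⟩ : leechLattice) : leechLattice).1, ⟨Subtype.coe_prop _, ?_⟩, ?_⟩
    · rw [← sqNorm_e8]; exact g.2.2 ⟨e8, e8_memL⟩
    · exact (smul_cls g ⟨e8, e8_memL⟩).symm
  · rintro ⟨x, hx, rfl⟩
    have hc := (conj_norm64 x hx.1 hx.2).symm
    obtain ⟨g, hg⟩ := (conj_iff ⟨e8, e8_memL⟩ ⟨x, hx.1⟩).mp hc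
    refine ⟨g, ?_⟩
    show g • q0 = cls x
    have : q0 = cls (⟨e8, e8_memL⟩ : leechLattice).1 := rfl
    rw [this, smul_cls, hg]

lemma card_orbit : Nat.card (MulAction.orbit ↥Co0 q0) = 8292375 := by
  classical
  rw [orbit_eq, Nat.card_coe_set_eq]
  set A8 := shortSet64_finite.toFinset with hA8
  have m8 : ∀ x, x ∈ A8 ↔ x ∈ shortSet 64 := fun x => Set.Finite.mem_toFinset _
  have h8 : A8.card = 398034000 := by
    rw [← shortSet64_ncard, Set.ncard_eq_toFinset_card _ shortSet64_finite]
  have himg : cls '' (shortSet 64) = ↑(A8.image cls) := by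
    ext q
    simp only [Set.mem_image, Finset.coe_image, Finset.mem_coe, m8]
  rw [himg, Set.ncard_coe_finset]
  have hsum := Finset.card_eq_sum_card_image cls A8
  have hfib : ∀ b ∈ A8.image cls, (A8.filter (fun a => cls a = b)).card = 48 := by
    intro b hb
    obtain ⟨x, hx, rfl⟩ := Finset.mem_image.mp hb
    have := classes_main.2 x ((m8 x).mp hx)
    rw [← this, ← Set.ncard_coe_finset]
    congr 1
    ext y
    simp only [Set.mem_ofPred_eq, Finset.coe_filter, m8]
  rw [Finset.sum_congr rfl hfib, Finset.sum_const, h8, smul_eq_mul] at hsum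
  omega

/-- The order of the automorphism group. -/
theorem card_Co0 : Nat.card Co0 = 8315553613086720000 := by
  have h1 := Subgroup.card_eq_card_quotient_mul_card_subgroup (MulAction.stabilizer ↥Co0 q0)
  rw [← Nat.card_congr (MulAction.orbitEquivQuotientStabilizer ↥Co0 q0), card_orbit,
    card_stabilizer] at h1
  rw [h1]

end Cfsg.Agent.Lib.Helper94
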