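import Mathlib
import Cfsg.Agent.Lib.Helper94.LeechTrans8
import Cfsg.Agent.Lib.Helper94.LeechOrder
import Cfsg.Agent.Lib.Helper94.LeechDot
import Cfsg.Agent.S0398

/-! Orbits of the automorphism group on pairs of lattice vectors, and the pairs of orthogonal
vectors of sum of squares 32. -/

set_option autoImplicit false

namespace Cfsg.Agent.Lib.Helper94

open Cfsg
open Cfsg.Agent.Lib.Helper95

/-- Two pairs of lattice vectors in one orbit of the automorphism group. -/
def Conj2 (x y x' y' : GolayPt → ℤ) : Prop :=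
  ∃ g ∈ Co0, ∃ (hx : x ∈ leechLattice) (hy : y ∈ leechLattice),
    ((g ⟨x, hx⟩ : leechLattice) : GolayPt → ℤ) = x' ∧
      ((g ⟨y, hy⟩ : leechLattice) : GolayPt → ℤ) = y'

lemma Conj2.refl {x y : GolayPt → ℤ} (hx : x ∈ leechLattice) (hy : y ∈ leechLattice) :
    Conj2 x y x y :=
  ⟨1, Co0.one_mem, hx, hy, rfl, rfl⟩

lemma Conj2.symm {x y x' y' : GolayPt → ℤ} (h : Conj2 x y x' y') : Conj2 x' y' x y := by
  obtain ⟨g, hg, hx, hy, rfl, rfl⟩ := h
  refine ⟨g⁻¹, Co0.inv_mem hg, (g ⟨x, hx⟩).2, (g ⟨y, hy⟩).2, ?_, ?_⟩ <;> simp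

lemma Conj2.trans {x y x' y' x'' y'' : GolayPt → ℤ} (h : Conj2 x y x' y')
    (h' : Conj2 x' y' x'' y'') : Conj2 x y x'' y'' := by
  obtain ⟨g, hg, hx, hy, rfl, rfl⟩ := h
  obtain ⟨g', hg', hx', hy', rfl, rfl⟩ := h'
  exact ⟨g' * g, Co0.mul_mem hg' hg, hx, hy, rfl, rfl⟩

lemma Conj2.left {x y x' y' : GolayPt → ℤ} (h : Conj2 x y x' y') : Conj x x' := by
  obtain ⟨g, hg, hx, hy, h1, h2⟩ := h
  exact ⟨g, hg, hx, h1⟩

lemma Conj2.right {x y x' y' : GolayPt → ℤ} (h : Conj2 x y x' y') : Conj y y' := by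
  obtain ⟨g, hg, hx, hy, h1, h2⟩ := h
  exact ⟨g, hg, hy, h2⟩

lemma Conj2.dot_eq {x y x' y' : GolayPt → ℤ} (h : Conj2 x y x' y') :
    dotInt x' y' = dotInt x y := by
  obtain ⟨g, hg, hx, hy, rfl, rfl⟩ := h
  exact co0_dot g hg ⟨x, hx⟩ ⟨y, hy⟩

lemma conj2_perm {σ : Equiv.Perm GolayPt} (hσ : σ ∈ M24) {x y : GolayPt → ℤ}
    (hx : x ∈ leechLattice) (hy : y ∈ leechLattice) :
    Conj2 x y (permVec σ x) (permVec σ y) :=
  ⟨permPerm σ hσ, permPerm_mem σ hσ, hx, hy, rfl, rfl⟩

lemma conj2_sign {d : GolayPt → ZMod 2} (hd : d ∈ golayCode) {x y : GolayPt → ℤ}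
    (hx : x ∈ leechLattice) (hy : y ∈ leechLattice) :
    Conj2 x y (signVec d x) (signVec d y) :=
  ⟨signPerm d hd, signPerm_mem d hd, hx, hy, rfl, rfl⟩

lemma conj2_xi {x y : GolayPt → ℤ} (hx : x ∈ leechLattice) (hy : y ∈ leechLattice) :
    Conj2 x y (xiVec x) (xiVec y) :=
  ⟨xiPerm, xiPerm_mem, hx, hy, rfl, rfl⟩

/-- Extending an orbit relation on the first vector to pairs. -/
lemma conj2_of_conj {x x' y : GolayPt → ℤ} (h : Conj x x') (hy : y ∈ leechLattice) :
    ∃ y', Conj2 x y x' y' := by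
  obtain ⟨g, hg, hx, h1⟩ := h
  exact ⟨_, g, hg, hx, hy, h1, rfl⟩

/-- The orbit relation on pairs in the form of the statements. -/
lemma conj2_iff (v w v' w' : leechLattice) :
    Conj2 v.1 w.1 v'.1 w'.1 ↔ ∃ g : Co0, g • v = v' ∧ g • w = w' := by
  constructor
  · rintro ⟨g, hg, hx, hy, h1, h2⟩
    exact ⟨⟨g, hg⟩, Subtype.ext h1, Subtype.ext h2⟩
  · rintro ⟨⟨g, hg⟩, h1, h2⟩
    exact ⟨g, hg, v.2, w.2, congrArg Subtype.val h1, congrArg Subtype.val h2⟩

/-- The image of a sum under a pair relation. -/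
lemma Conj2.add {x y x' y' : GolayPt → ℤ} (h : Conj2 x y x' y') :
    Conj (x + y) (x' + y') := by
  obtain ⟨g, hg, hx, hy, rfl, rfl⟩ := h
  refine ⟨g, hg, leechLattice.add_mem hx hy, ?_⟩
  have := hg.1 ⟨x, hx⟩ ⟨y, hy⟩
  exact congrArg Subtype.val this

lemma permVec_single (σ : Equiv.Perm GolayPt) (i : GolayPt) (a : ℤ) :
    permVec σ (Pi.single i a) = Pi.single (σ i) a := by
  ext p
  rw [permVec_apply, Pi.single_apply, Pi.single_apply]
  by_cases h : p = σ i
  · rw [if_pos h, if_pos (by rw [h]; simp)]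
  · rw [if_neg h, if_neg (by intro h'; apply h; rw [← h']; simp)]

lemma permVec_twoVec (σ : Equiv.Perm GolayPt) (i j : GolayPt) (s : ℤ) :
    permVec σ (twoVec i j s) = twoVec (σ i) (σ j) s := by
  unfold twoVec
  rw [permVec_add, permVec_single, permVec_single]

lemma signVec_twoVec {d : GolayPt → ZMod 2} {i j : GolayPt} (hi : d i = 0) (hj : d j = 1)
    (s : ℤ) : signVec d (twoVec i j s) = twoVec i j (-s) := by
  ext p
  unfold twoVec
  simp only [signVec_apply, Pi.add_apply, Pi.single_apply, sgnOf]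
  by_cases h1 : p = i
  · subst h1
    rw [hi]
    by_cases h2 : p = j
    · subst h2
      rw [hi] at hj
      exact absurd hj (by decide)
    · simp [h2]
  · by_cases h2 : p = j
    · subst h2
      rw [hj]
      simp [h1, ZMod.val_one]
    · simp [h1, h2]

lemma I1_entry_ne_four (x : GolayPt → ℤ) (hx : x ∈ Cfsg.Agent.S0394.I1) (p : GolayPt) :
    x p ≠ 4 := by
  obtain ⟨s, -, c, -, rfl⟩ := (Cfsg.Agent.S0394.mem_I1 x).mp hx
  intro h
  have h1 := abs_signVec c (oneVec s (-3)) p
  rw [h, oneVec_apply] at h1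
  split_ifs at h1 <;> simp at h1

/-- A lattice vector of sum of squares 32 with an entry 4 has exactly one other nonzero entry,
equal to `±4`. -/
lemma eq_twoVec_of_entry_four (x : GolayPt → ℤ) (hx : x ∈ leechLattice) (hn : sqNorm x = 32)
    (i : GolayPt) (hi : x i = 4) : ∃ j, i ≠ j ∧ (x = twoVec i j 4 ∨ x = twoVec i j (-4)) := by
  rcases mem_I_of_norm32 x hx hn with h | h | h
  · exact absurd hi (I1_entry_ne_four x h i)
  · rcases I2_entries x h i with h' | h' | h' <;> omega
  · obtain ⟨s, t, hs, hts, -, rfl⟩ := (Cfsg.Agent.S0394.mem_I3 x).mp h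
    have hcard := (Finset.mem_powersetCard.mp hs).2
    rw [pmVec_apply] at hi
    have hit : i ∉ t := by
      intro h'
      rw [if_pos h'] at hi
      omega
    rw [if_neg hit] at hi
    have his : i ∈ s := by
      by_contra h'
      rw [if_neg h'] at hi
      omega
    obtain ⟨a, b, hab, rfl⟩ := Finset.card_eq_two.mp hcard
    have hcases : (i = a ∨ i = b) := by simpa using his
    -- name the other point
    obtain ⟨j, hij, hsj⟩ : ∃ j, i ≠ j ∧ ({a, b} : Finset GolayPt) = {i, j} := by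
      rcases hcases with rfl | rfl
      · exact ⟨b, hab, rfl⟩
      · exact ⟨a, hab.symm, Finset.pair_comm _ _⟩
    refine ⟨j, hij, ?_⟩
    rw [hsj] at hts ⊢
    by_cases hjt : j ∈ t
    · right
      ext p
      rw [pmVec_apply]
      unfold twoVec
      simp only [Pi.add_apply, Pi.single_apply]
      by_cases hp : p = i
      · subst hp
        rw [if_neg hit, if_pos (by simp)]
        simp [hij]
      · by_cases hp' : p = j
        · subst hp'
          rw [if_pos hjt]
          simp [hp]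
        · have : p ∉ t := fun h' => by
            have := hts h'
            simp [hp, hp'] at this
          rw [if_neg this, if_neg (by simp [hp, hp'])]
          simp [hp, hp']
    · left
      ext p
      rw [pmVec_apply]
      unfold twoVec
      simp only [Pi.add_apply, Pi.single_apply]
      by_cases hp : p = i
      · subst hp
        rw [if_neg hit, if_pos (by simp)]
        simp [hij]
      · by_cases hp' : p = j
        · subst hp'
          rw [if_neg hjt, if_pos (by simp)]
          simp [hp]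
        · have : p ∉ t := fun h' => by
            have := hts h'
            simp [hp, hp'] at this
          rw [if_neg this, if_neg (by simp [hp, hp'])]
          simp [hp, hp']

/-- The standard pair of orthogonal vectors. -/
def oa : GolayPt → ℤ := twoVec none (some 0) 4
/-- The standard pair of orthogonal vectors. -/
def ob : GolayPt → ℤ := twoVec none (some 0) (-4)

/-- Any ordered pair of orthogonal lattice vectors of sum of squares 32 lies in the orbit of the
standard pair. -/
theorem conj2_ortho (v w : GolayPt → ℤ) (hv : v ∈ leechLattice) (hw : w ∈ leechLattice)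
    (nv : sqNorm v = 32) (nw : sqNorm w = 32) (hd : dotInt v w = 0) : Conj2 v w oa ob := by
  have nx : sqNorm (v + w) = 64 := by rw [sqNorm_add, nv, nw, hd]; norm_num
  have c1 := conj_norm64 (v + w) (leechLattice.add_mem hv hw) nx
  rw [e8_eq_vec8] at c1
  obtain ⟨g, hg, hx, h1⟩ := c1
  set v1 := ((g ⟨v, hv⟩ : leechLattice) : GolayPt → ℤ) with hv1
  set w1 := ((g ⟨w, hw⟩ : leechLattice) : GolayPt → ℤ) with hw1
  have c2 : Conj2 v w v1 w1 := ⟨g, hg, hv, hw, rfl, rfl⟩
  have hsum : v1 + w1 = vec8 none := by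
    rw [← h1]
    have := hg.1 ⟨v, hv⟩ ⟨w, hw⟩
    exact (congrArg Subtype.val this).symm
  have nv1 : sqNorm v1 = 32 := by rw [c2.left.sqNorm_eq, nv]
  have hd1 : dotInt v1 w1 = 0 := by rw [c2.dot_eq, hd]
  have hv1L : v1 ∈ leechLattice := c2.left.mem_right
  have hw1L : w1 ∈ leechLattice := c2.right.mem_right
  have h4 : v1 none = 4 := by
    have := dotInt_vec8 v1 none
    rw [← hsum, dotInt_add_right', dotInt_self, nv1, hd1] at this
    omega
  obtain ⟨j, hj, hcase⟩ := eq_twoVec_of_entry_four v1 hv1L nv1 none h4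
  -- normalise the sign
  have c3 : Conj2 v w (twoVec none j 4) (twoVec none j (-4)) := by
    rcases hcase with h | h
    · have hw1' : w1 = twoVec none j (-4) := by
        have : w1 = vec8 none - v1 := by rw [← hsum]; abel
        rw [this, h, ← twoVec_add none j]; abel
      rw [← h, ← hw1']
      exact c2
    · have hw1' : w1 = twoVec none j 4 := by
        have : w1 = vec8 none - v1 := by rw [← hsum]; abel
        rw [this, h, ← twoVec_add none j]; abel
      obtain ⟨d, hdc, hd0, hd1'⟩ := Cfsg.Agent.S0398.sep_word none j hj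
      have c4 := conj2_sign hdc hv1L hw1L
      rw [h, hw1', signVec_twoVec hd0 hd1', signVec_twoVec hd0 hd1', neg_neg] at c4
      rw [h, hw1'] at c2
      exact c2.trans c4
  obtain ⟨σ, hσ, hσ1, hσ2⟩ := m24_two_trans hj (show (none : GolayPt) ≠ some 0 by decide)
  have c5 := conj2_perm hσ (twoVec_mem (i := none) (j := j) (Or.inl rfl))
    (twoVec_mem (i := none) (j := j) (Or.inr rfl))
  rw [permVec_twoVec, permVec_twoVec, hσ1, hσ2] at c5
  exact c3.trans c5

end Cfsg.Agent.Lib.Helper94
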