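import Mathlib
import Cfsg.Agent.Lib.Helper94.LeechPairs

/-! Normal forms for the pairs of lattice vectors of sum of squares 32 with inner product
`-8` or `-16`, under the automorphism group. -/

set_option autoImplicit false

namespace Cfsg.Agent.Lib.Helper94

open Cfsg
open Cfsg.Agent.Lib.Helper95
open Cfsg.Agent.Lib.Helper10 (permWord permWord_apply permWord_mem_of_mem_M24)

/-- Three triples of lattice vectors in one orbit of the automorphism group. -/
def Conj3 (x y z x' y' z' : GolayPt → ℤ) : Prop :=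
  ∃ g ∈ Co0, ∃ (hx : x ∈ leechLattice) (hy : y ∈ leechLattice) (hz : z ∈ leechLattice),
    ((g ⟨x, hx⟩ : leechLattice) : GolayPt → ℤ) = x' ∧
      ((g ⟨y, hy⟩ : leechLattice) : GolayPt → ℤ) = y' ∧
      ((g ⟨z, hz⟩ : leechLattice) : GolayPt → ℤ) = z'

lemma Conj3.c12 {x y z x' y' z' : GolayPt → ℤ} (h : Conj3 x y z x' y' z') : Conj2 x y x' y' := by
  obtain ⟨g, hg, hx, hy, hz, h1, h2, h3⟩ := h
  exact ⟨g, hg, hx, hy, h1, h2⟩

lemma Conj3.c13 {x y z x' y' z' : GolayPt → ℤ} (h : Conj3 x y z x' y' z') : Conj2 x z x' z' := by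
  obtain ⟨g, hg, hx, hy, hz, h1, h2, h3⟩ := h
  exact ⟨g, hg, hx, hz, h1, h3⟩

lemma Conj3.c23 {x y z x' y' z' : GolayPt → ℤ} (h : Conj3 x y z x' y' z') : Conj2 y z y' z' := by
  obtain ⟨g, hg, hx, hy, hz, h1, h2, h3⟩ := h
  exact ⟨g, hg, hy, hz, h2, h3⟩

/-- Extending an orbit relation on the first vector to triples. -/
lemma conj3_of_conj {x x' y z : GolayPt → ℤ} (h : Conj x x') (hy : y ∈ leechLattice)
    (hz : z ∈ leechLattice) : ∃ y' z', Conj3 x y z x' y' z' := by
  obtain ⟨g, hg, hx, h1⟩ := h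
  exact ⟨_, _, g, hg, hx, hy, hz, h1, rfl, rfl⟩

/-! ### Vectors with two entries `±4` -/

/-- The vector with `sa` at `a` and `sb` at `b`. -/
def gv (a b : GolayPt) (sa sb : ℤ) : GolayPt → ℤ := Pi.single a sa + Pi.single b sb

lemma gv_mem {a b : GolayPt} {sa sb : ℤ} (ha : sa = 4 ∨ sa = -4) (hb : sb = 4 ∨ sb = -4) :
    gv a b sa sb ∈ leechLattice := by
  apply mem_of_four_dvd
  · intro p
    unfold gv
    simp only [Pi.add_apply, Pi.single_apply]
    rcases ha with rfl | rfl <;> rcases hb with rfl | rfl <;> split_ifs <;> norm_num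
  · unfold gv
    simp only [Pi.add_apply, Finset.sum_add_distrib, Finset.sum_pi_single', Finset.mem_univ,
      if_true]
    rcases ha with rfl | rfl <;> rcases hb with rfl | rfl <;> norm_num

lemma dotInt_gv (x : GolayPt → ℤ) (a b : GolayPt) (sa sb : ℤ) :
    dotInt x (gv a b sa sb) = x a * sa + x b * sb := by
  unfold gv
  rw [dotInt_add_right', dotInt_single_right, dotInt_single_right]

lemma sqNorm_gv {a b : GolayPt} (hab : a ≠ b) {sa sb : ℤ} (ha : sa = 4 ∨ sa = -4)
    (hb : sb = 4 ∨ sb = -4) : sqNorm (gv a b sa sb) = 32 := by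
  rw [← dotInt_self, dotInt_gv]
  have h1 : gv a b sa sb a = sa := by unfold gv; simp [hab]
  have h2 : gv a b sa sb b = sb := by unfold gv; simp [hab.symm]
  rw [h1, h2]
  rcases ha with rfl | rfl <;> rcases hb with rfl | rfl <;> norm_num

/-- a sign with prescribed product -/
lemma exists_sign (z : ℤ) (hz : z ≠ 0) : ∃ s : ℤ, (s = 4 ∨ s = -4) ∧ z * s = -4 * |z| := by
  rcases lt_or_gt_of_ne hz with h | h
  · exact ⟨4, Or.inl rfl, by rw [abs_of_neg h]; ring⟩
  · exact ⟨-4, Or.inr rfl, by rw [abs_of_pos h]; ring⟩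

lemma dotInt_oa (x : GolayPt → ℤ) : dotInt oa x = 4 * x none + 4 * x (some 0) := by
  unfold oa
  rw [dotInt_comm', dotInt_twoVec]; ring

lemma oa_mem : oa ∈ leechLattice := twoVec_mem (Or.inl rfl)
lemma ob_mem : ob ∈ leechLattice := twoVec_mem (Or.inr rfl)
lemma sqNorm_oa : sqNorm oa = 32 := sqNorm_twoVec (by decide) (Or.inl rfl)
lemma sqNorm_ob : sqNorm ob = 32 := sqNorm_twoVec (by decide) (Or.inr rfl)

lemma v0_eq_oa : v0 = oa := by
  unfold v0 oa twoVec
  ext p
  rw [pmVec_apply]
  simp only [Pi.add_apply, Pi.single_apply, Finset.notMem_empty, if_false, Finset.mem_insert,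
    Finset.mem_singleton]
  by_cases h1 : p = none
  · subst h1; simp
  · by_cases h2 : p = some 0
    · subst h2; simp
    · simp [h1, h2]

/-- The vector `(-3, 1^23)`. -/
def om : GolayPt → ℤ := oneVec {none} (-3)

lemma om_mem : om ∈ leechLattice := by
  unfold om
  apply mem_of_one_mod_four
  · intro i; exact oneVec_mod _ (by decide) i
  · rw [sum_oneVec]; decide

lemma sqNorm_om : sqNorm om = 32 := by
  unfold om
  rw [sqNorm_oneVec]; simp

/-! ### Entries of the short vectors -/

lemma I1_abs (x : GolayPt → ℤ) (hx : x ∈ Cfsg.Agent.S0394.I1) :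
    ∃ p : GolayPt, ∃ c ∈ golayCode, x = signVec c (oneVec {p} (-3)) ∧ |x p| = 3 ∧
      ∀ q, q ≠ p → |x q| = 1 := by
  obtain ⟨s, hs, c, hc, rfl⟩ := (Cfsg.Agent.S0394.mem_I1 x).mp hx
  obtain ⟨p, rfl⟩ := Finset.card_eq_one.mp hs
  refine ⟨p, c, hc, rfl, ?_, ?_⟩
  · rw [abs_signVec, oneVec_apply, if_pos (Finset.mem_singleton_self p)]; norm_num
  · intro q hq
    rw [abs_signVec, oneVec_apply, if_neg (by simpa using hq)]; norm_num

/-- A lattice vector of sum of squares 32 with an entry `-3`. -/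
lemma eq_of_entry_neg_three (x : GolayPt → ℤ) (hx : x ∈ leechLattice) (hn : sqNorm x = 32)
    (i : GolayPt) (hi : x i = -3) :
    ∃ c ∈ golayCode, c i = 0 ∧ x = signVec c (oneVec {i} (-3)) := by
  rcases mem_I_of_norm32 x hx hn with h | h | h
  · obtain ⟨p, c, hc, hxe, h3, h1⟩ := I1_abs x h
    by_cases hip : i = p
    · subst hip
      refine ⟨c, hc, ?_, hxe⟩
      have := congrFun hxe i
      rw [hi, signVec_apply, oneVec_apply, if_pos (Finset.mem_singleton_self i)] at this
      unfold sgnOf at this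
      rcases Cfsg.Agent.S0391.zmod2_cases (c i) with h0 | h0
      · exact h0
      · rw [h0, ZMod.val_one] at this
        norm_num at this
    · have := h1 i hip
      rw [hi] at this
      norm_num at this
  · rcases I2_entries x h i with h' | h' | h' <;> omega
  · rcases I3_entries x h i with h' | h' | h' <;> omega

lemma signVec_twoVec_gen {d : GolayPt → ZMod 2} {i j : GolayPt} (hi : d i = 0) (hij : i ≠ j)
    (s : ℤ) : signVec d (twoVec i j s) = twoVec i j (sgnOf d j * s) := by
  ext p
  unfold twoVec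
  simp only [signVec_apply, Pi.add_apply, Pi.single_apply]
  by_cases h1 : p = i
  · subst h1
    have : sgnOf d p = 1 := by unfold sgnOf; rw [hi]; simp
    rw [this]
    simp [hij]
  · by_cases h2 : p = j
    · subst h2
      simp [h1]
    · simp [h1, h2]

lemma sgnOf_cases (d : GolayPt → ZMod 2) (i : GolayPt) : sgnOf d i = 1 ∨ sgnOf d i = -1 := by
  unfold sgnOf
  rcases Cfsg.Agent.S0391.zmod2_cases (d i) with h | h <;> rw [h]
  · left; simp
  · right; simp [ZMod.val_one]

/-- From a frame vector to the normal form: if `x` has sum of squares 64 and inner products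
`32` and `-24` with `v` and `w`, then `(v, w)` is in the orbit of a standard pair determined by the
inner product of `v` and `w`. -/
theorem conj2_of_frame (x v w : GolayPt → ℤ) (hx : x ∈ leechLattice) (hv : v ∈ leechLattice)
    (hw : w ∈ leechLattice) (nx : sqNorm x = 64) (nv : sqNorm v = 32) (nw : sqNorm w = 32)
    (hxv : dotInt x v = 32) (hxw : dotInt x w = -24) :
    ∃ s : ℤ, (s = 4 ∨ s = -4) ∧ dotInt v w = -12 + s ∧ Conj2 v w (twoVec none (some 0) s) om := by
  have c1 := conj_norm64 x hx nx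
  rw [e8_eq_vec8] at c1
  obtain ⟨v1, w1, c3⟩ := conj3_of_conj c1 hv hw
  have hv1L := c3.c12.right.mem_right
  have hw1L := c3.c13.right.mem_right
  have nv1 : sqNorm v1 = 32 := by rw [c3.c12.right.sqNorm_eq, nv]
  have nw1 : sqNorm w1 = 32 := by rw [c3.c13.right.sqNorm_eq, nw]
  have d1 : dotInt (vec8 none) v1 = 32 := by rw [c3.c12.dot_eq, hxv]
  have d2 : dotInt (vec8 none) w1 = -24 := by rw [c3.c13.dot_eq, hxw]
  have d3 : dotInt v1 w1 = dotInt v w := c3.c23.dot_eq
  rw [dotInt_comm', dotInt_vec8] at d1 d2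
  have e1 : v1 none = 4 := by omega
  have e2 : w1 none = -3 := by omega
  obtain ⟨j, hj, hcase⟩ := eq_twoVec_of_entry_four v1 hv1L nv1 none e1
  obtain ⟨c, hc, hc0, hw1e⟩ := eq_of_entry_neg_three w1 hw1L nw1 none e2
  -- remove the signs of the second vector
  have c4 := conj2_sign hc hv1L hw1L
  have hw2 : signVec c w1 = om := by rw [hw1e, signVec_signVec]; rfl
  obtain ⟨s, hs, hv2⟩ : ∃ s : ℤ, (s = 4 ∨ s = -4) ∧ signVec c v1 = twoVec none j s := by
    rcases hcase with h | h <;> rw [h, signVec_twoVec_gen hc0 hj] <;>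
      rcases sgnOf_cases c j with h' | h' <;> rw [h']
    · exact ⟨4, Or.inl rfl, by norm_num⟩
    · exact ⟨-4, Or.inr rfl, by norm_num⟩
    · exact ⟨-4, Or.inr rfl, by norm_num⟩
    · exact ⟨4, Or.inl rfl, by norm_num⟩
  rw [hw2, hv2] at c4
  have c5 : Conj2 v w (twoVec none j s) om := c3.c23.trans c4
  have d4 : dotInt v w = -12 + s := by
    rw [← c5.dot_eq, dotInt_comm', dotInt_twoVec]
    unfold om
    rw [oneVec_apply, oneVec_apply, if_pos (Finset.mem_singleton_self _),
      if_neg (by simpa using hj.symm)]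
    ring
  refine ⟨s, hs, d4, ?_⟩
  obtain ⟨σ, hσ, hσ1, hσ2⟩ := m24_two_trans hj (show (none : GolayPt) ≠ some 0 by decide)
  have c6 := conj2_perm hσ (twoVec_mem (i := none) (j := j) hs) om_mem
  have : permVec σ om = om := by
    unfold om
    rw [permVec_oneVec, Finset.image_singleton, hσ1]
  rw [permVec_twoVec, hσ1, hσ2, this] at c6
  exact c5.trans c6

/-- Existence of a frame vector for a pair with inner product `-8`. -/
lemma frame_m8 (w : GolayPt → ℤ) (hw : w ∈ leechLattice) (nw : sqNorm w = 32)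
    (hd : dotInt oa w = -8) :
    ∃ x ∈ leechLattice, sqNorm x = 64 ∧ dotInt x oa = 32 ∧ dotInt x w = -24 := by
  rw [dotInt_oa] at hd
  -- a vector orthogonal to `oa` with inner product `-16` with `w`
  obtain ⟨v', hv'L, nv', h1, h2⟩ : ∃ v' ∈ leechLattice, sqNorm v' = 32 ∧ dotInt oa v' = 0 ∧
      dotInt w v' = -16 := by
    have hgen : ∀ a b : GolayPt, a ≠ b → a ≠ none → a ≠ some 0 → b ≠ none → b ≠ some 0 →
        |w a| + |w b| = 4 → w a ≠ 0 → w b ≠ 0 → ∃ v' ∈ leechLattice, sqNorm v' = 32 ∧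
          dotInt oa v' = 0 ∧ dotInt w v' = -16 := by
      intro a b hab ha1 ha2 hb1 hb2 habs ha0 hb0
      obtain ⟨sa, hsa, hsa'⟩ := exists_sign (w a) ha0
      obtain ⟨sb, hsb, hsb'⟩ := exists_sign (w b) hb0
      refine ⟨gv a b sa sb, gv_mem hsa hsb, sqNorm_gv hab hsa hsb, ?_, ?_⟩
      · rw [dotInt_oa]
        unfold gv
        simp [Pi.single_apply, ha1.symm, ha2.symm, hb1.symm, hb2.symm]
      · rw [dotInt_gv, hsa', hsb']
        linarith
    rcases mem_I_of_norm32 w hw nw with h | h | h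
    · obtain ⟨p, c, hc, hwe, h3, h1⟩ := I1_abs w h
      by_cases hp1 : p = none
      · -- `w none = ±3`, `w (some 0) = ±1`, sum `-2`
        subst hp1
        have h1' := h1 (some 0) (by decide)
        have hn3 : w none = -3 := by
          rcases abs_eq (by norm_num : (0:ℤ) ≤ 3) |>.mp h3 with h' | h' <;>
            rcases abs_eq (by norm_num : (0:ℤ) ≤ 1) |>.mp h1' with h'' | h'' <;> omega
        have h01 : w (some 0) = 1 := by omega
        refine ⟨gv none (some 0) 4 (-4), gv_mem (Or.inl rfl) (Or.inr rfl),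
          sqNorm_gv (by decide) (Or.inl rfl) (Or.inr rfl), ?_, ?_⟩
        · rw [dotInt_oa]; unfold gv; simp [Pi.single_apply]
        · rw [dotInt_gv, hn3, h01]; norm_num
      · by_cases hp2 : p = some 0
        · subst hp2
          have h1' := h1 none (by decide)
          have hn3 : w (some 0) = -3 := by
            rcases abs_eq (by norm_num : (0:ℤ) ≤ 3) |>.mp h3 with h' | h' <;>
              rcases abs_eq (by norm_num : (0:ℤ) ≤ 1) |>.mp h1' with h'' | h'' <;> omega
          have h01 : w none = 1 := by omega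
          refine ⟨gv none (some 0) (-4) 4, gv_mem (Or.inr rfl) (Or.inl rfl),
            sqNorm_gv (by decide) (Or.inr rfl) (Or.inl rfl), ?_, ?_⟩
          · rw [dotInt_oa]; unfold gv; simp [Pi.single_apply]
          · rw [dotInt_gv, hn3, h01]; norm_num
        · -- the entry of absolute value 3 lies elsewhere
          obtain ⟨k, hk1, hk2, hk3⟩ : ∃ k : GolayPt, k ≠ none ∧ k ≠ some 0 ∧ k ≠ p := by
            by_cases h' : p = some 1
            · exact ⟨some 2, by decide, by decide, by rw [h']; decide⟩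
            · exact ⟨some 1, by decide, by decide, fun h'' => h' h''.symm⟩
          have hk := h1 k hk3
          apply hgen p k (Ne.symm hk3) hp1 hp2 hk1 hk2 (by rw [h3, hk]; norm_num)
          · intro h'; rw [h'] at h3; norm_num at h3
          · intro h'; rw [h'] at hk; norm_num at hk
    · obtain ⟨s, t, hs, hts, -, rfl⟩ := (Cfsg.Agent.S0394.mem_I2 _).mp h
      obtain ⟨c, hc, hc8, rfl⟩ := (mem_codeSupps 8 s).mp hs
      have hcard : (bsupp c).card = 8 := by rw [← hammingNorm_eq_card_bsupp, hc8]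
      have hval : ∀ q, q ∈ bsupp c → |pmVec 2 (bsupp c) t q| = 2 := by
        intro q hq
        have h0 := (pmVec_ne_zero_iff (a := 2) (by norm_num) hts q).mpr hq
        rcases pmVec_abs 2 (bsupp c) t q with h' | h' | h'
        · exact absurd h' h0
        · rw [h']; norm_num
        · rw [h']; norm_num
      -- two points of the octad away from the two base points
      have hbig : 2 ≤ ((bsupp c).erase none |>.erase (some 0)).card := by
        have h1 := Finset.pred_card_le_card_erase (s := bsupp c) (a := none)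
        have h2 := Finset.pred_card_le_card_erase (s := (bsupp c).erase none) (a := some 0)
        omega
      obtain ⟨a, ha, b, hb, hab⟩ := Finset.one_lt_card.mp
        (show 1 < ((bsupp c).erase none |>.erase (some 0)).card by omega)
      rw [Finset.mem_erase, Finset.mem_erase] at ha hb
      apply hgen a b hab ha.2.1 ha.1 hb.2.1 hb.1
      · rw [hval a ha.2.2, hval b hb.2.2]; norm_num
      · intro h'; have := hval a ha.2.2; rw [h'] at this; norm_num at this
      · intro h'; have := hval b hb.2.2; rw [h'] at this; norm_num at this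
    · exfalso
      rcases I3_entries _ h none with h' | h' | h' <;>
        rcases I3_entries _ h (some 0) with h'' | h'' | h'' <;> omega
  refine ⟨oa + v', leechLattice.add_mem oa_mem hv'L, ?_, ?_, ?_⟩
  · rw [sqNorm_add, sqNorm_oa, nv', h1]; norm_num
  · rw [dotInt_add_left', dotInt_self, sqNorm_oa, dotInt_comm' v' oa, h1]; norm_num
  · rw [dotInt_add_left', dotInt_comm' v' w, h2]
    rw [dotInt_oa]; omega

/-- Pairs with inner product `-8` lie in one orbit. -/
theorem conj2_m8 (v w : GolayPt → ℤ) (hv : v ∈ leechLattice) (hw : w ∈ leechLattice)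
    (nv : sqNorm v = 32) (nw : sqNorm w = 32) (hd : dotInt v w = -8) : Conj2 v w oa om := by
  have c1 := conj_norm32 v hv nv
  rw [v0_eq_oa] at c1
  obtain ⟨w1, c2⟩ := conj2_of_conj c1 hw
  have hw1L := c2.right.mem_right
  have nw1 : sqNorm w1 = 32 := by rw [c2.right.sqNorm_eq, nw]
  have hd1 : dotInt oa w1 = -8 := by rw [c2.dot_eq, hd]
  obtain ⟨x, hx, nx, hxv, hxw⟩ := frame_m8 w1 hw1L nw1 hd1
  obtain ⟨s, hs, hds, c3⟩ := conj2_of_frame x oa w1 hx oa_mem hw1L nx sqNorm_oa nw1 hxv hxw
  have : s = 4 := by omega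
  subst this
  exact c2.trans c3

end Cfsg.Agent.Lib.Helper94
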