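import Mathlib
import Cfsg.Agent.Lib.Helper94.LeechPairs2

/-! Normal form for the pairs of lattice vectors of sum of squares 32 with inner product `-16`. -/

set_option autoImplicit false

namespace Cfsg.Agent.Lib.Helper94

open Cfsg
open Cfsg.Agent.Lib.Helper95
open Cfsg.Agent.Lib.Helper10 (permWord permWord_apply permWord_mem_of_mem_M24)

/-- The code separates any three points. -/
lemma sep3 {i j k : GolayPt} (hij : i ≠ j) (hik : i ≠ k) (hjk : j ≠ k) :
    ∃ d ∈ golayCode, d i = 0 ∧ d j = 0 ∧ d k = 1 := by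
  obtain ⟨σ, hσ, h1, h2, h3⟩ := m24_three_trans (a := none) (b := some 1) (c := some 0)
    (by decide) (by decide) (by decide) hij hik hjk
  obtain ⟨e1, e0, e2, e3⟩ := d1_vals
  refine ⟨permWord σ d1, permWord_mem_of_mem_M24 hσ d1 d1_mem, ?_, ?_, ?_⟩
  · rw [permWord_apply, ← h1, Equiv.symm_apply_apply, e0]
  · rw [permWord_apply, ← h2, Equiv.symm_apply_apply, e2]
  · rw [permWord_apply, ← h3, Equiv.symm_apply_apply, e1]

/-- The pattern `(0, 1, ε)` at three points. -/
lemma sep3' {i j k : GolayPt} (hij : i ≠ j) (hik : i ≠ k) (hjk : j ≠ k) (ε : ZMod 2) :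
    ∃ d ∈ golayCode, d i = 0 ∧ d j = 1 ∧ d k = ε := by
  rcases Cfsg.Agent.S0391.zmod2_cases ε with rfl | rfl
  · obtain ⟨d, hd, h1, h2, h3⟩ := sep3 hik hij hjk.symm
    exact ⟨d, hd, h1, h3, h2⟩
  · obtain ⟨e, he, h1, h2, h3⟩ := sep3 hjk hij.symm hik.symm
    refine ⟨e + 1, golayCode.add_mem he golayCode_one_mem, ?_, ?_, ?_⟩
    · simp only [Pi.add_apply, Pi.one_apply, h3]; decide
    · simp only [Pi.add_apply, Pi.one_apply, h1]; decide
    · simp only [Pi.add_apply, Pi.one_apply, h2]; decide

lemma sgnOf_zero {d : GolayPt → ZMod 2} {i : GolayPt} (h : d i = 0) : sgnOf d i = 1 := by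
  unfold sgnOf; rw [h]; simp

lemma sgnOf_one {d : GolayPt → ZMod 2} {i : GolayPt} (h : d i = 1) : sgnOf d i = -1 := by
  unfold sgnOf; rw [h, ZMod.val_one]; norm_num

/-- Existence of a frame vector for a pair with inner product `-16`. -/
lemma frame_m16 (w : GolayPt → ℤ) (hw : w ∈ leechLattice) (nw : sqNorm w = 32)
    (hd : dotInt oa w = -16) :
    ∃ x ∈ leechLattice, sqNorm x = 64 ∧ dotInt x oa = 32 ∧ dotInt x w = -24 := by
  have hd0 := hd
  rw [dotInt_oa] at hd
  obtain ⟨v', hv'L, nv', h1, h2⟩ : ∃ v' ∈ leechLattice, sqNorm v' = 32 ∧ dotInt oa v' = 0 ∧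
      dotInt w v' = -8 := by
    rcases mem_I_of_norm32 w hw nw with h | h | h
    · obtain ⟨p, c, hc, hwe, h3, h1⟩ := I1_abs w h
      by_cases hp1 : p = none
      · subst hp1
        have h1' := h1 (some 0) (by decide)
        have hn3 : w none = -3 := by
          rcases abs_eq (by norm_num : (0:ℤ) ≤ 3) |>.mp h3 with h' | h' <;>
            rcases abs_eq (by norm_num : (0:ℤ) ≤ 1) |>.mp h1' with h'' | h'' <;> omega
        have h01 : w (some 0) = -1 := by omega
        refine ⟨gv none (some 0) 4 (-4), gv_mem (Or.inl rfl) (Or.inr rfl),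
          sqNorm_gv (by decide) (Or.inl rfl) (Or.inr rfl), ?_, ?_⟩
        · rw [dotInt_oa]; unfold gv; simp
        · rw [dotInt_gv, hn3, h01]; norm_num
      · by_cases hp2 : p = some 0
        · subst hp2
          have h1' := h1 none (by decide)
          have hn3 : w (some 0) = -3 := by
            rcases abs_eq (by norm_num : (0:ℤ) ≤ 3) |>.mp h3 with h' | h' <;>
              rcases abs_eq (by norm_num : (0:ℤ) ≤ 1) |>.mp h1' with h'' | h'' <;> omega
          have h01 : w none = -1 := by omega
          refine ⟨gv none (some 0) (-4) 4, gv_mem (Or.inr rfl) (Or.inl rfl),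
            sqNorm_gv (by decide) (Or.inr rfl) (Or.inl rfl), ?_, ?_⟩
          · rw [dotInt_oa]; unfold gv; simp
          · rw [dotInt_gv, hn3, h01]; norm_num
        · exfalso
          have e1 := h1 none (Ne.symm hp1)
          have e2 := h1 (some 0) (Ne.symm hp2)
          rcases abs_eq (by norm_num : (0:ℤ) ≤ 1) |>.mp e1 with h' | h' <;>
            rcases abs_eq (by norm_num : (0:ℤ) ≤ 1) |>.mp e2 with h'' | h'' <;> omega
    · obtain ⟨s, t, hs, hts, -, rfl⟩ := (Cfsg.Agent.S0394.mem_I2 _).mp h
      obtain ⟨c, hc, hc8, rfl⟩ := (mem_codeSupps 8 s).mp hs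
      have hcard : (bsupp c).card = 8 := by rw [← hammingNorm_eq_card_bsupp, hc8]
      have hval : ∀ q, q ∈ bsupp c → |pmVec 2 (bsupp c) t q| = 2 := by
        intro q hq
        have h0 := (pmVec_ne_zero_iff (a := 2) (by norm_num) hts q).mpr hq
        rcases pmVec_abs 2 (bsupp c) t q with h' | h' | h'
        · exact absurd h' h0
        · rw [h']; norm_num
        · rw [h']; norm_num
      have hzero : ∀ q, q ∉ bsupp c → pmVec 2 (bsupp c) t q = 0 := by
        intro q hq
        by_contra h0
        exact hq ((pmVec_ne_zero_iff (a := 2) (by norm_num) hts q).mp h0)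
      -- both base points lie in the octad
      have hin1 : none ∈ bsupp c := by
        by_contra h'
        have := hzero none h'
        rcases pmVec_abs 2 (bsupp c) t (some 0) with h'' | h'' | h'' <;> omega
      have hin2 : some 0 ∈ bsupp c := by
        by_contra h'
        have := hzero (some 0) h'
        rcases pmVec_abs 2 (bsupp c) t none with h'' | h'' | h'' <;> omega
      have hbig : 1 ≤ ((bsupp c).erase none |>.erase (some 0)).card := by
        have h1 := Finset.pred_card_le_card_erase (s := bsupp c) (a := none)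
        have h2 := Finset.pred_card_le_card_erase (s := (bsupp c).erase none) (a := some 0)
        omega
      obtain ⟨a, ha⟩ := Finset.card_pos.mp (show 0 < ((bsupp c).erase none |>.erase (some 0)).card
        by omega)
      rw [Finset.mem_erase, Finset.mem_erase] at ha
      obtain ⟨b, hb⟩ : ∃ b, b ∉ bsupp c := by
        by_contra h'
        push Not at h'
        have : bsupp c = Finset.univ := Finset.eq_univ_iff_forall.mpr h'
        rw [this, Finset.card_univ, golayPt_card] at hcard
        omega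
      have hb1 : b ≠ none := fun h' => hb (h' ▸ hin1)
      have hb2 : b ≠ some 0 := fun h' => hb (h' ▸ hin2)
      have hab : a ≠ b := fun h' => hb (h' ▸ ha.2.2)
      have ha0 : pmVec 2 (bsupp c) t a ≠ 0 := by
        intro h'; have := hval a ha.2.2; rw [h'] at this; norm_num at this
      obtain ⟨sa, hsa, hsa'⟩ := exists_sign _ ha0
      refine ⟨gv a b sa 4, gv_mem hsa (Or.inl rfl), sqNorm_gv hab hsa (Or.inl rfl), ?_, ?_⟩
      · rw [dotInt_oa]
        unfold gv
        simp [ha.1.symm, ha.2.1.symm, hb1.symm, hb2.symm]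
      · rw [dotInt_gv, hsa', hval a ha.2.2, hzero b hb]; norm_num
    · -- shape `(±4, ±4)`
      have hcase : (w none = -4 ∧ w (some 0) = 0) ∨ (w none = 0 ∧ w (some 0) = -4) := by
        rcases I3_entries _ h none with h' | h' | h' <;>
          rcases I3_entries _ h (some 0) with h'' | h'' | h'' <;> omega
      -- the points `a` (entry `-4`) and `a'` (entry `0`)
      obtain ⟨a, a', haa', hset, hwa, hwa'⟩ : ∃ a a' : GolayPt, a ≠ a' ∧
          ((a = none ∧ a' = some 0) ∨ (a = some 0 ∧ a' = none)) ∧ w a = -4 ∧ w a' = 0 := by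
        rcases hcase with h' | h'
        · exact ⟨none, some 0, by decide, Or.inl ⟨rfl, rfl⟩, h'.1, h'.2⟩
        · exact ⟨some 0, none, by decide, Or.inr ⟨rfl, rfl⟩, h'.2, h'.1⟩
      have hnw : sqNorm (-w) = 32 := by rw [sqNorm_neg', nw]
      obtain ⟨j, haj, hwj⟩ := eq_twoVec_of_entry_four (-w) (leechLattice.neg_mem hw) hnw a
        (by simp [hwa])
      have ha'j : a' ≠ j := by
        rintro rfl
        rcases hwj with h' | h' <;>
          · have := congrFun h' a'
            rw [twoVec_apply_right haj] at this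
            simp [hwa'] at this
      -- a third point
      obtain ⟨p, hpa, hpa', hpj⟩ : ∃ p : GolayPt, p ≠ a ∧ p ≠ a' ∧ p ≠ j := by
        by_cases h' : j = some 1
        · refine ⟨some 2, ?_, ?_, by rw [h']; decide⟩ <;>
            rcases hset with ⟨rfl, rfl⟩ | ⟨rfl, rfl⟩ <;> decide
        · refine ⟨some 1, ?_, ?_, fun h'' => h' h''.symm⟩ <;>
            rcases hset with ⟨rfl, rfl⟩ | ⟨rfl, rfl⟩ <;> decide
      have hbase : oneVec {p} (-3) ∈ leechLattice := by
        apply mem_of_one_mod_four
        · intro i; exact oneVec_mod _ (by decide) i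
        · rw [sum_oneVec, Finset.card_singleton]; decide
      have hoa : ∀ x : GolayPt → ℤ, dotInt oa x = 4 * x a + 4 * x a' := by
        intro x
        rw [dotInt_oa]
        rcases hset with ⟨rfl, rfl⟩ | ⟨rfl, rfl⟩ <;> ring
      have hone : ∀ q, q ≠ p → oneVec {p} (-3) q = 1 := by
        intro q hq
        rw [oneVec_apply, if_neg (by simpa using hq)]
      have hwdot : ∀ s : ℤ, -w = twoVec a j s → ∀ x : GolayPt → ℤ,
          dotInt w x = -(x a * 4 + x j * s) := by
        intro s hs x
        have : w = -twoVec a j s := by rw [← hs, neg_neg]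
        rw [this, dotInt_neg_left', dotInt_comm', dotInt_twoVec]
      rcases hwj with h' | h'
      · -- `w j = -4`: signs `(0, 1, 0)` at `(a, a', j)`
        obtain ⟨d, hd, d1, d2, d3⟩ := sep3' haa' haj ha'j 0
        refine ⟨signVec d (oneVec {p} (-3)), signVec_mem hd _ hbase, ?_, ?_, ?_⟩
        · rw [sqNorm_signVec, sqNorm_oneVec]; simp
        · rw [hoa, signVec_apply, signVec_apply, sgnOf_zero d1, sgnOf_one d2,
            hone a hpa.symm, hone a' hpa'.symm]
          norm_num
        · rw [hwdot 4 h', signVec_apply, signVec_apply, sgnOf_zero d1, sgnOf_zero d3,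
            hone a hpa.symm, hone j hpj.symm]
          norm_num
      · obtain ⟨d, hd, d1, d2, d3⟩ := sep3' haa' haj ha'j 1
        refine ⟨signVec d (oneVec {p} (-3)), signVec_mem hd _ hbase, ?_, ?_, ?_⟩
        · rw [sqNorm_signVec, sqNorm_oneVec]; simp
        · rw [hoa, signVec_apply, signVec_apply, sgnOf_zero d1, sgnOf_one d2,
            hone a hpa.symm, hone a' hpa'.symm]
          norm_num
        · rw [hwdot (-4) h', signVec_apply, signVec_apply, sgnOf_zero d1, sgnOf_one d3,
            hone a hpa.symm, hone j hpj.symm]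
          norm_num
  refine ⟨oa + v', leechLattice.add_mem oa_mem hv'L, ?_, ?_, ?_⟩
  · rw [sqNorm_add, sqNorm_oa, nv', h1]; norm_num
  · rw [dotInt_add_left', dotInt_self, sqNorm_oa, dotInt_comm' v' oa, h1]; norm_num
  · rw [dotInt_add_left', dotInt_comm' v' w, h2, hd0]; norm_num

/-- Pairs with inner product `-16` lie in one orbit. -/
theorem conj2_m16 (v w : GolayPt → ℤ) (hv : v ∈ leechLattice) (hw : w ∈ leechLattice)
    (nv : sqNorm v = 32) (nw : sqNorm w = 32) (hd : dotInt v w = -16) : Conj2 v w ob om := by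
  have c1 := conj_norm32 v hv nv
  rw [v0_eq_oa] at c1
  obtain ⟨w1, c2⟩ := conj2_of_conj c1 hw
  have hw1L := c2.right.mem_right
  have nw1 : sqNorm w1 = 32 := by rw [c2.right.sqNorm_eq, nw]
  have hd1 : dotInt oa w1 = -16 := by rw [c2.dot_eq, hd]
  obtain ⟨x, hx, nx, hxv, hxw⟩ := frame_m16 w1 hw1L nw1 hd1
  obtain ⟨s, hs, hds, c3⟩ := conj2_of_frame x oa w1 hx oa_mem hw1L nx sqNorm_oa nw1 hxv hxw
  have : s = -4 := by omega
  subst this
  exact c2.trans c3

end Cfsg.Agent.Lib.Helper94
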