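import Mathlib
import Cfsg.Agent.Lib.Helper94.LeechPairs3

/-! Normal form for the pairs `(u, z)` of lattice vectors of sums of squares 48 and 32 with inner
product `16`. -/

set_option autoImplicit false

namespace Cfsg.Agent.Lib.Helper94

open Cfsg
open Cfsg.Agent.Lib.Helper95

lemma u5_memL : u5 ∈ leechLattice :=
  ((norm48_iff u5).mpr (Or.inr (Or.inr (Or.inr u5_mem_J4)))).1

lemma sqNorm_u5 : sqNorm u5 = 48 :=
  ((norm48_iff u5).mpr (Or.inr (Or.inr (Or.inr u5_mem_J4)))).2

/-- Every vector of sum of squares 48 is in the orbit of `(5, 1^23)`. -/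
lemma conj_u5 (x : GolayPt → ℤ) (hx : x ∈ leechLattice) (hn : sqNorm x = 48) : Conj x u5 :=
  (conj_norm48 x hx hn).trans (conj_norm48 u5 u5_memL sqNorm_u5).symm

lemma negPerm_mem' : Equiv.neg leechLattice ∈ Co0 :=
  ⟨fun v w => neg_add v w, fun v => sqNorm_neg' v.1⟩

lemma Conj2.neg_right {x y x' y' : GolayPt → ℤ} (h : Conj2 x y x' y') :
    Conj2 x (-y) x' (-y') := by
  obtain ⟨g, hg, hx, hy, h1, h2⟩ := h
  refine ⟨g, hg, hx, leechLattice.neg_mem hy, h1, ?_⟩
  have : (⟨-y, leechLattice.neg_mem hy⟩ : leechLattice) = -⟨y, hy⟩ := rfl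
  rw [this, co0_neg g hg, ← h2]
  rfl

/-- A lattice vector of sum of squares 48 with an entry `5`. -/
lemma eq_of_entry_five (x : GolayPt → ℤ) (hx : x ∈ leechLattice) (hn : sqNorm x = 48)
    (i : GolayPt) (hi : x i = 5) :
    ∃ c ∈ golayCode, c i = 0 ∧ x = signVec c (oneVec {i} 5) := by
  rcases (norm48_iff x).mp ⟨hx, hn⟩ with h | h | h | h
  · rcases fam48_1_vals x h i with h' | h' | h' <;> omega
  · rcases (fam48_2_vals x h).1 i with h' | h' <;> rw [hi] at h' <;> norm_num at h'
  · rcases (fam48_3_vals x h).1 i with h' | h' | h' | h' | h' <;> omega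
  · obtain ⟨s, hs, c, hc, rfl⟩ := (mem_oddFam_oneVecs 1 5 x).mp h
    obtain ⟨p, rfl⟩ := Finset.card_eq_one.mp hs
    by_cases hip : i = p
    · subst hip
      refine ⟨c, hc, ?_, rfl⟩
      rw [signVec_apply, oneVec_apply, if_pos (Finset.mem_singleton_self i)] at hi
      rcases Cfsg.Agent.S0391.zmod2_cases (c i) with h0 | h0
      · exact h0
      · rw [sgnOf_one h0] at hi
        norm_num at hi
    · exfalso
      rw [signVec_apply, oneVec_apply, if_neg (by simpa using hip)] at hi
      rcases sgnOf_cases c i with h' | h' <;> rw [h'] at hi <;> norm_num at hi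

lemma dotInt_u5 (z : GolayPt → ℤ) : dotInt u5 z = (∑ q, z q) + 4 * z none := by
  have : u5 = 1 + Pi.single none 4 := by
    ext p
    unfold u5
    rw [oneVec_apply]
    simp only [Pi.add_apply, Pi.one_apply, Pi.single_apply, Finset.mem_singleton]
    split_ifs <;> norm_num
  rw [this, dotInt_comm', dotInt_add_right', dotInt_single_right]
  unfold dotInt
  simp only [Pi.one_apply, mul_one]
  ring

/-- From a frame vector to the normal form, for a vector of sum of squares 48 and one of 32. -/
theorem conj2_of_frame48 (y u z : GolayPt → ℤ) (hy : y ∈ leechLattice) (hu : u ∈ leechLattice)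
    (hz : z ∈ leechLattice) (ny : sqNorm y = 64) (nu : sqNorm u = 48) (nz : sqNorm z = 32)
    (hyu : dotInt y u = 40) (hyz : dotInt y z = 32) :
    ∃ s : ℤ, (s = 4 ∨ s = -4) ∧ dotInt u z = 20 + s ∧ Conj2 u z u5 (twoVec none (some 0) s) := by
  have c1 := conj_norm64 y hy ny
  rw [e8_eq_vec8] at c1
  obtain ⟨u1, z1, c3⟩ := conj3_of_conj c1 hu hz
  have hu1L := c3.c12.right.mem_right
  have hz1L := c3.c13.right.mem_right
  have nu1 : sqNorm u1 = 48 := by rw [c3.c12.right.sqNorm_eq, nu]
  have nz1 : sqNorm z1 = 32 := by rw [c3.c13.right.sqNorm_eq, nz]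
  have d1 : dotInt (vec8 none) u1 = 40 := by rw [c3.c12.dot_eq, hyu]
  have d2 : dotInt (vec8 none) z1 = 32 := by rw [c3.c13.dot_eq, hyz]
  rw [dotInt_comm', dotInt_vec8] at d1 d2
  have e1 : u1 none = 5 := by omega
  have e2 : z1 none = 4 := by omega
  obtain ⟨j, hj, hcase⟩ := eq_twoVec_of_entry_four z1 hz1L nz1 none e2
  obtain ⟨c, hc, hc0, hu1e⟩ := eq_of_entry_five u1 hu1L nu1 none e1
  have c4 := conj2_sign hc hu1L hz1L
  have hu2 : signVec c u1 = u5 := by rw [hu1e, signVec_signVec]; rfl
  obtain ⟨s, hs, hz2⟩ : ∃ s : ℤ, (s = 4 ∨ s = -4) ∧ signVec c z1 = twoVec none j s := by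
    rcases hcase with h | h <;> rw [h, signVec_twoVec_gen hc0 hj] <;>
      rcases sgnOf_cases c j with h' | h' <;> rw [h']
    · exact ⟨4, Or.inl rfl, by norm_num⟩
    · exact ⟨-4, Or.inr rfl, by norm_num⟩
    · exact ⟨-4, Or.inr rfl, by norm_num⟩
    · exact ⟨4, Or.inl rfl, by norm_num⟩
  rw [hu2, hz2] at c4
  have c5 : Conj2 u z u5 (twoVec none j s) := c3.c23.trans c4
  have d4 : dotInt u z = 20 + s := by
    rw [← c5.dot_eq, dotInt_twoVec]
    unfold u5
    rw [oneVec_apply, oneVec_apply, if_pos (Finset.mem_singleton_self _),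
      if_neg (by simpa using hj.symm)]
    ring
  refine ⟨s, hs, d4, ?_⟩
  obtain ⟨σ, hσ, hσ1, hσ2⟩ := m24_two_trans hj (show (none : GolayPt) ≠ some 0 by decide)
  have c6 := conj2_perm hσ u5_memL (twoVec_mem (i := none) (j := j) hs)
  have : permVec σ u5 = u5 := by
    unfold u5
    rw [permVec_oneVec, Finset.image_singleton, hσ1]
  rw [permVec_twoVec, hσ1, hσ2, this] at c6
  exact c5.trans c6

/-- A sum all of whose terms outside a finite set are constant. -/
lemma sum_eq_of_const (z : GolayPt → ℤ) (A : Finset GolayPt) (e : ℤ) (h : ∀ q, q ∉ A → z q = e) :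
    ∑ q, z q = ∑ q ∈ A, z q + e * (24 - (A.card : ℤ)) := by
  rw [← Finset.sum_add_sum_compl A z]
  congr 1
  rw [Finset.sum_congr rfl (fun q hq => h q (Finset.mem_compl.mp hq)), Finset.sum_const,
    Finset.card_compl, golayPt_card, nsmul_eq_mul, Nat.cast_sub (by
      have := Finset.card_le_univ A
      rw [golayPt_card] at this
      exact this)]
  push_cast
  ring

/-- Existence of a frame vector for `(5, 1^23)` and a vector of sum of squares 32 with inner
product `16`. -/
lemma frame_48 (z : GolayPt → ℤ) (hz : z ∈ leechLattice) (nz : sqNorm z = 32)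
    (hd : dotInt u5 z = 16) :
    ∃ y ∈ leechLattice, sqNorm y = 64 ∧ dotInt y u5 = 40 ∧ dotInt y z = 32 := by
  have hd0 := hd
  rw [dotInt_u5] at hd
  obtain ⟨z', hz'L, nz', h1, h2⟩ : ∃ z' ∈ leechLattice, sqNorm z' = 32 ∧ dotInt z z' = 0 ∧
      dotInt u5 z' = 24 := by
    -- first kind of solution
    have optA : ∀ k : GolayPt, k ≠ none → z k = -z none → ∃ z' ∈ leechLattice, sqNorm z' = 32 ∧
        dotInt z z' = 0 ∧ dotInt u5 z' = 24 := by
      intro k hk hzk
      refine ⟨gv none k 4 4, gv_mem (Or.inl rfl) (Or.inl rfl),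
        sqNorm_gv (Ne.symm hk) (Or.inl rfl) (Or.inl rfl), ?_, ?_⟩
      · rw [dotInt_gv, hzk]; ring
      · rw [dotInt_gv]
        unfold u5
        rw [oneVec_apply, oneVec_apply, if_pos (Finset.mem_singleton_self _),
          if_neg (by simpa using hk)]
        norm_num
    rcases mem_I_of_norm32 z hz nz with h | h | h
    · obtain ⟨p, c, hc, hze, h3, h1⟩ := I1_abs z h
      by_cases hp : p = none
      · subst hp
        -- `z none = ±3`
        rcases abs_eq (by norm_num : (0:ℤ) ≤ 3) |>.mp h3 with h' | h'
        · -- `z none = 3`, the sum is `4`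
          have hS : ∑ q, z q = 4 := by omega
          obtain ⟨k, hk, hzk⟩ : ∃ k : GolayPt, k ≠ none ∧ z k = 1 := by
            by_contra hno
            push Not at hno
            have hall : ∀ q, q ∉ ({none} : Finset GolayPt) → z q = -1 := by
              intro q hq
              have hq' : q ≠ none := by simpa using hq
              rcases abs_eq (by norm_num : (0:ℤ) ≤ 1) |>.mp (h1 q hq') with h'' | h''
              · exact absurd h'' (hno q hq')
              · exact h''
            have := sum_eq_of_const z {none} (-1) hall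
            rw [Finset.sum_singleton, Finset.card_singleton, h'] at this
            omega
          refine ⟨oneVec {k} (-3), ?_, ?_, ?_, ?_⟩
          · apply mem_of_one_mod_four
            · intro i; exact oneVec_mod _ (by decide) i
            · rw [sum_oneVec, Finset.card_singleton]; decide
          · rw [sqNorm_oneVec, Finset.card_singleton]; norm_num
          · have : oneVec {k} (-3) = 1 + Pi.single k (-4) := by
              ext q
              rw [oneVec_apply]
              simp only [Pi.add_apply, Pi.one_apply, Pi.single_apply, Finset.mem_singleton]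
              split_ifs <;> norm_num
            rw [this, dotInt_add_right', dotInt_single_right]
            unfold dotInt
            simp only [Pi.one_apply, mul_one]
            rw [hS, hzk]; norm_num
          · rw [dotInt_u5, sum_oneVec, Finset.card_singleton, oneVec_apply,
              if_neg (by simpa using hk.symm)]
            norm_num
        · -- `z none = -3` is impossible
          exfalso
          have hall : ∀ q, z q ≤ 1 := by
            intro q
            by_cases hq : q = none
            · rw [hq, h']; norm_num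
            · have := h1 q hq
              have := abs_le.mp (le_of_eq this)
              exact this.2
          have : ∑ q, z q ≤ ∑ _q : GolayPt, (1 : ℤ) := Finset.sum_le_sum (fun q _ => hall q)
          rw [Finset.sum_const, Finset.card_univ, golayPt_card] at this
          have h24 : (24 : ℕ) • (1 : ℤ) = 24 := by norm_num
          rw [h24] at this
          omega
      · -- `z none = ±1`
        have hn1 := h1 none (Ne.symm hp)
        by_contra hno
        have hno' : ∀ k : GolayPt, k ≠ none → z k ≠ -z none := by
          intro k hk hzk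
          exact hno (optA k hk hzk)
        have hall : ∀ q, q ∉ ({none, p} : Finset GolayPt) → z q = z none := by
          intro q hq
          have hq1 : q ≠ none := by
            intro h'; apply hq; rw [h']; simp
          have hq2 : q ≠ p := by
            intro h'; apply hq; rw [h']; simp
          have e1 := h1 q hq2
          have e2 := hno' q hq1
          rcases abs_eq (by norm_num : (0:ℤ) ≤ 1) |>.mp e1 with h'' | h'' <;>
            rcases abs_eq (by norm_num : (0:ℤ) ≤ 1) |>.mp hn1 with h''' | h''' <;> omega
        have := sum_eq_of_const z {none, p} (z none) hall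
        rw [Finset.sum_pair (Ne.symm hp), Finset.card_pair (Ne.symm hp)] at this
        rcases abs_eq (by norm_num : (0:ℤ) ≤ 1) |>.mp hn1 with h'' | h'' <;>
          rcases abs_eq (by norm_num : (0:ℤ) ≤ 3) |>.mp h3 with h''' | h''' <;>
          · rw [h'', h'''] at this
            push_cast at this
            omega
    · obtain ⟨s, t, hs, hts, hte, rfl⟩ := (Cfsg.Agent.S0394.mem_I2 _).mp h
      obtain ⟨c, hc, hc8, rfl⟩ := (mem_codeSupps 8 s).mp hs
      have hcard : (bsupp c).card = 8 := by rw [← hammingNorm_eq_card_bsupp, hc8]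
      have hsum := sum_pmVec 2 hts
      rw [hcard] at hsum
      rw [hsum] at hd
      push_cast at hd
      have hzero : ∀ q, q ∉ bsupp c → pmVec 2 (bsupp c) t q = 0 := by
        intro q hq
        by_contra h0
        exact hq ((pmVec_ne_zero_iff (a := 2) (by norm_num) hts q).mp h0)
      by_cases hin : none ∈ bsupp c
      · by_cases hnt : none ∈ t
        · -- entry `-2` at the base point: impossible
          exfalso
          have : pmVec 2 (bsupp c) t none = -2 := by rw [pmVec_apply, if_pos hnt]
          rw [this] at hd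
          have : (0 : ℤ) ≤ t.card := Nat.cast_nonneg _
          omega
        · have hv : pmVec 2 (bsupp c) t none = 2 := by
            rw [pmVec_apply, if_neg hnt, if_pos hin]
          rw [hv] at hd
          have htc : t.card = 2 := by omega
          obtain ⟨k, hk⟩ := Finset.card_pos.mp (show 0 < t.card by omega)
          have hkn : k ≠ none := fun h' => hnt (h' ▸ hk)
          apply optA k hkn
          rw [hv, pmVec_apply, if_pos hk]
      · have hv := hzero none hin
        -- a point outside the octad other than the base point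
        obtain ⟨k, hk1, hk2⟩ : ∃ k, k ∉ bsupp c ∧ k ≠ none := by
          by_contra h'
          push Not at h'
          have : (Finset.univ : Finset GolayPt) ⊆ insert none (bsupp c) := by
            intro q _
            by_cases hq : q ∈ bsupp c
            · exact Finset.mem_insert_of_mem hq
            · rw [h' q hq]; exact Finset.mem_insert_self _ _
          have := Finset.card_le_card this
          rw [Finset.card_univ, golayPt_card, Finset.card_insert_of_notMem hin, hcard] at this
          omega
        apply optA k hk2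
        rw [hv, hzero k hk1]; norm_num
    · obtain ⟨s, t, hs, hts, -, rfl⟩ := (Cfsg.Agent.S0394.mem_I3 _).mp h
      have hcard := (Finset.mem_powersetCard.mp hs).2
      have hsum := sum_pmVec 4 hts
      rw [hcard] at hsum
      rw [hsum] at hd
      push_cast at hd
      have htc : t.card ≤ 2 := by
        have := Finset.card_le_card hts
        omega
      have h4 : pmVec 4 s t none = 4 := by
        rcases pmVec_abs 4 s t none with h' | h' | h'
        · rw [h'] at hd; omega
        · exact h'
        · rw [h'] at hd; omega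
      obtain ⟨j, hj, hcase⟩ := eq_twoVec_of_entry_four _ hz nz none h4
      rw [h4] at hd
      have ht1 : t.card = 1 := by omega
      apply optA j (Ne.symm hj)
      rcases hcase with h' | h'
      · exfalso
        have := sum_pmVec 4 hts
        rw [h'] at this
        unfold twoVec at this
        simp only [Pi.add_apply, Finset.sum_add_distrib, Finset.sum_pi_single', Finset.mem_univ,
          if_true] at this
        rw [hcard, ht1] at this
        norm_num at this
      · rw [h4, h', twoVec_apply_right hj]
  refine ⟨z + z', leechLattice.add_mem hz hz'L, ?_, ?_, ?_⟩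
  · rw [sqNorm_add, nz, nz', h1]; norm_num
  · rw [dotInt_add_left', dotInt_comm' z u5, dotInt_comm' z' u5, hd0, h2]; norm_num
  · rw [dotInt_add_left', dotInt_self, nz, dotInt_comm' z' z, h1]; norm_num

/-- Pairs of a vector of sum of squares 48 and one of sum of squares 32 with inner product `16`
lie in one orbit. -/
theorem conj2_48 (u z : GolayPt → ℤ) (hu : u ∈ leechLattice) (hz : z ∈ leechLattice)
    (nu : sqNorm u = 48) (nz : sqNorm z = 32) (hd : dotInt u z = 16) : Conj2 u z u5 ob := by
  have c1 := conj_u5 u hu nu
  obtain ⟨z1, c2⟩ := conj2_of_conj c1 hz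
  have hz1L := c2.right.mem_right
  have nz1 : sqNorm z1 = 32 := by rw [c2.right.sqNorm_eq, nz]
  have hd1 : dotInt u5 z1 = 16 := by rw [c2.dot_eq, hd]
  obtain ⟨y, hy, ny, hyu, hyz⟩ := frame_48 z1 hz1L nz1 hd1
  obtain ⟨s, hs, hds, c3⟩ := conj2_of_frame48 y u5 z1 hy u5_memL hz1L ny sqNorm_u5 nz1 hyu hyz
  have : s = -4 := by omega
  subst this
  exact c2.trans c3

end Cfsg.Agent.Lib.Helper94

namespace Cfsg.Agent.Lib.Helper94

open Cfsg

lemma Conj2.swap {x y x' y' : GolayPt → ℤ} (h : Conj2 x y x' y') : Conj2 y x y' x' := by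
  obtain ⟨g, hg, hx, hy, h1, h2⟩ := h
  exact ⟨g, hg, hy, hx, h2, h1⟩

lemma Conj2.sub_right {x y x' y' : GolayPt → ℤ} (h : Conj2 x y x' y') :
    Conj2 x (y - x) x' (y' - x') := by
  obtain ⟨g, hg, hx, hy, h1, h2⟩ := h
  refine ⟨g, hg, hx, leechLattice.sub_mem hy hx, h1, ?_⟩
  have : (⟨y - x, leechLattice.sub_mem hy hx⟩ : leechLattice) = ⟨y, hy⟩ - ⟨x, hx⟩ := rfl
  rw [this, co0_sub g hg, ← h1, ← h2]
  rfl

lemma conj2_neg {x y : GolayPt → ℤ} (hx : x ∈ leechLattice) (hy : y ∈ leechLattice) :
    Conj2 x y (-x) (-y) :=
  ⟨Equiv.neg leechLattice, negPerm_mem', hx, hy, rfl, rfl⟩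

/-- The second vector of the standard pair of vectors of sum of squares 48 with inner
product `-32`. -/
def w5 : GolayPt → ℤ := -oneVec {some 0} 5

lemma ob_sub_u5 : ob - u5 = w5 := by
  unfold ob u5 w5 twoVec
  ext p
  simp only [Pi.sub_apply, Pi.add_apply, Pi.neg_apply, Pi.single_apply, oneVec_apply,
    Finset.mem_singleton]
  by_cases h1 : p = none
  · subst h1; simp
  · by_cases h2 : p = some 0
    · subst h2; simp
    · simp [h1, h2]

/-- Two vectors of sum of squares 48 with inner product `-32` are in the orbit of the standard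
pair. -/
theorem conj2_hs (v w : GolayPt → ℤ) (hv : v ∈ leechLattice) (hw : w ∈ leechLattice)
    (nv : sqNorm v = 48) (nw : sqNorm w = 48) (hd : dotInt v w = -32) : Conj2 v w u5 w5 := by
  have nt : sqNorm (v + w) = 32 := by rw [sqNorm_add, nv, nw, hd]; norm_num
  have dt : dotInt v (v + w) = 16 := by rw [dotInt_add_right', dotInt_self, nv, hd]; norm_num
  have c1 := (conj2_48 v (v + w) hv (leechLattice.add_mem hv hw) nv nt dt).sub_right
  rw [ob_sub_u5, add_sub_cancel_left] at c1
  exact c1

/-- The standard pair is exchanged by an automorphism. -/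
lemma conj2_hs_swap : Conj2 u5 w5 w5 u5 := by
  obtain ⟨σ, hσ, h1, h2⟩ := m24_two_trans (a := none) (b := some 0) (c := some 0) (d := none)
    (by decide) (by decide)
  have hw5 : w5 ∈ leechLattice := by
    rw [← ob_sub_u5]; exact leechLattice.sub_mem ob_mem u5_memL
  have c1 := conj2_perm hσ u5_memL hw5
  have e1 : permVec σ u5 = -w5 := by
    unfold u5 w5
    rw [permVec_oneVec, Finset.image_singleton, h1, neg_neg]
  have e2 : permVec σ w5 = -u5 := by
    unfold u5 w5
    have : permVec σ (-oneVec {some 0} 5) = -permVec σ (oneVec {some 0} 5) := by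
      ext p; simp [permVec_apply]
    rw [this, permVec_oneVec, Finset.image_singleton, h2]
  rw [e1, e2] at c1
  have c2 := conj2_neg c1.left.mem_right c1.right.mem_right
  rw [neg_neg, neg_neg] at c2
  exact c1.trans c2

end Cfsg.Agent.Lib.Helper94
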