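import Mathlib
import Cfsg.Agent.Lib.Helper94.LeechPairs4
import Cfsg.Agent.Lib.Helper09.Steiner
import Cfsg.Agent.Lib.Helper10.Octad

/-! Octads through a given set of points, sums of entries of the short vectors of odd type. -/

set_option autoImplicit false

namespace Cfsg.Agent.Lib.Helper94

open Cfsg
open Cfsg.Agent.Lib.Helper95
open Cfsg.Agent.Lib.Helper09 (blocks mem_blocks card_blocks_through_eq)

lemma octads_st : Cfsg.IsSteinerSystem 5 8 Cfsg.octads :=
  g24_isSteinerSystem golayPt_card Cfsg.golayCode golayCode_finrank golayCode_hmin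

lemma codeSupps_eight_eq : codeSupps 8 = blocks Cfsg.octads := by
  ext o
  rw [mem_codeSupps, mem_blocks, Cfsg.Agent.Lib.Helper10.mem_octads_iff]
  constructor
  · rintro ⟨c, hc, h8, rfl⟩
    exact ⟨c, hc, support₂_eq_bsupp c, by rw [← hammingNorm_eq_card_bsupp, h8]⟩
  · rintro ⟨c, hc, rfl, h8⟩
    rw [support₂_eq_bsupp] at h8 ⊢
    exact ⟨c, hc, by rw [hammingNorm_eq_card_bsupp, h8], rfl⟩

/-- The octads containing a given set of points. -/
noncomputable def octThrough (I : Finset GolayPt) : Finset (Finset GolayPt) :=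
  (codeSupps 8).filter (I ⊆ ·)

lemma mem_octThrough (I o : Finset GolayPt) : o ∈ octThrough I ↔ o ∈ codeSupps 8 ∧ I ⊆ o := by
  unfold octThrough
  rw [Finset.mem_filter]

lemma card_octThrough_one (a : GolayPt) : (octThrough {a}).card = 253 := by
  unfold octThrough
  rw [codeSupps_eight_eq]
  exact card_blocks_through_eq octads_st 1 253 (by norm_num) (by decide)
    (by rw [golayPt_card]; decide) {a} (Finset.card_singleton a)

lemma card_octThrough_two {a b : GolayPt} (hab : a ≠ b) : (octThrough {a, b}).card = 77 := by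
  unfold octThrough
  rw [codeSupps_eight_eq]
  exact card_blocks_through_eq octads_st 2 77 (by norm_num) (by decide)
    (by rw [golayPt_card]; decide) {a, b} (Finset.card_pair hab)

lemma card_codeSupps_eight : (codeSupps 8).card = 759 := by
  have : codeSupps 8 = octThrough ∅ := by
    unfold octThrough
    rw [Finset.filter_true_of_mem (fun _ _ => Finset.empty_subset _)]
  rw [this]
  unfold octThrough
  rw [codeSupps_eight_eq]
  exact card_blocks_through_eq octads_st 0 759 (by norm_num) (by decide)
    (by rw [golayPt_card]; decide) ∅ Finset.card_empty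

/-- The sum of the entries of a signed vector of shape `(b, 1^23)`. -/
lemma sum_signVec_oneVec (c : GolayPt → ZMod 2) (p : GolayPt) (b : ℤ) :
    ∑ q, signVec c (oneVec {p} b) q =
      (23 + b) - 2 * ((hammingNorm c : ℤ) + (b - 1) * ((c p).val : ℤ)) := by
  have h1 : ∀ q, signVec c (oneVec {p} b) q =
      (1 - 2 * ((c q).val : ℤ)) + (Pi.single p ((b - 1) * (1 - 2 * ((c p).val : ℤ))) : GolayPt → ℤ) q := by
    intro q
    rw [signVec_apply, oneVec_apply, Pi.single_apply]
    unfold sgnOf
    by_cases h : q = p
    · subst h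
      rw [if_pos (Finset.mem_singleton_self q), if_pos rfl]; ring
    · rw [if_neg (by simpa using h), if_neg h]; ring
  rw [Finset.sum_congr rfl (fun q _ => h1 q), Finset.sum_add_distrib, Finset.sum_pi_single',
    if_pos (Finset.mem_univ _), Finset.sum_sub_distrib, ← Finset.mul_sum,
    Cfsg.Agent.S0391.sum_val_eq, Finset.sum_const, Finset.card_univ, golayPt_card]
  simp only [nsmul_eq_mul, Nat.cast_ofNat, mul_one]
  ring

lemma dotInt_one5 (p : GolayPt) (z : GolayPt → ℤ) :
    dotInt (oneVec {p} 5) z = (∑ q, z q) + 4 * z p := by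
  have : oneVec {p} 5 = 1 + Pi.single p 4 := by
    ext q
    rw [oneVec_apply]
    simp only [Pi.add_apply, Pi.one_apply, Pi.single_apply, Finset.mem_singleton]
    split_ifs <;> norm_num
  rw [this, dotInt_comm', dotInt_add_right', dotInt_single_right]
  unfold dotInt
  simp only [Pi.one_apply, mul_one]
  ring

lemma dotInt_w5 (z : GolayPt → ℤ) : dotInt w5 z = -((∑ q, z q) + 4 * z (some 0)) := by
  unfold w5
  rw [dotInt_neg_left', dotInt_one5]

end Cfsg.Agent.Lib.Helper94
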