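import Mathlib
import Cfsg.Agent.Lib.Helper94.LeechDot

/-! Transport of counts along a lattice automorphism. -/

set_option autoImplicit false

namespace Cfsg.Agent.Lib.Helper94

open Cfsg

/-- Counting a set of lattice vectors through its image under an automorphism. -/
lemma ncard_transfer (g : Equiv.Perm leechLattice) (P : leechLattice → Prop)
    (Q : (GolayPt → ℤ) → Prop) (h : ∀ x : leechLattice, P x ↔ Q ((g x : leechLattice) : GolayPt → ℤ))
    (hQ : ∀ y, Q y → y ∈ leechLattice) :
    {x : leechLattice | P x}.ncard = {y : GolayPt → ℤ | Q y}.ncard := by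
  have hinj : Function.Injective
      (fun x : leechLattice => ((g x : leechLattice) : GolayPt → ℤ)) := by
    intro a b hab
    exact g.injective (Subtype.ext hab)
  rw [← Set.ncard_image_of_injective _ hinj]
  congr 1
  ext y
  constructor
  · rintro ⟨x, hx, rfl⟩
    exact (h x).mp hx
  · intro hy
    refine ⟨g.symm ⟨y, hQ y hy⟩, ?_, ?_⟩
    · show P _
      rw [h, Equiv.apply_symm_apply]
      exact hy
    · show ((g (g.symm ⟨y, hQ y hy⟩) : leechLattice) : GolayPt → ℤ) = y
      rw [Equiv.apply_symm_apply]

end Cfsg.Agent.Lib.Helper94
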