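import Mathlib
import Cfsg.Agent.Lib.Helper94.LeechOct
import Cfsg.Agent.Lib.Helper94.LeechTransfer

/-! The 552 vectors of sum of squares 32 with inner product 24 with `(5, 1^23)`. -/

set_option autoImplicit false

namespace Cfsg.Agent.Lib.Helper94

open Cfsg
open Cfsg.Agent.Lib.Helper95

/-- The 552 vectors. -/
def set552 : Set (GolayPt → ℤ) :=
  {x | x ∈ leechLattice ∧ sqNorm x = 32 ∧ dotInt u5 x = 24}

noncomputable def f552A : Finset (GolayPt → ℤ) :=
  (Finset.univ.filter fun j : GolayPt => j ≠ none).image fun j => twoVec none j 4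

noncomputable def f552B : Finset (GolayPt → ℤ) :=
  (octThrough {none}).image fun o => pmVec 2 o ∅

noncomputable def f552C : Finset (GolayPt → ℤ) :=
  ((codeWords 8).filter fun c => c none = 1).image fun c => signVec c (oneVec {none} (-3))

noncomputable def f552D : Finset (GolayPt → ℤ) :=
  (Finset.univ.filter fun j : GolayPt => j ≠ none).image fun j => oneVec {j} (-3)

lemma card_f552A : f552A.card = 23 := by
  unfold f552A
  rw [Finset.card_image_of_injOn]
  · decide
  · intro j hj j' hj' h
    simp only [Finset.coe_filter, Finset.mem_univ, true_and, Set.mem_setOf_eq] at hj hj'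
    by_contra hne
    have := congrFun h j
    simp only [] at this
    rw [twoVec_apply_right (Ne.symm hj)] at this
    unfold twoVec at this
    simp [Pi.single_apply, hj, hne] at this

lemma card_f552B : f552B.card = 253 := by
  unfold f552B
  rw [Finset.card_image_of_injOn, card_octThrough_one]
  intro o _ o' _ h
  exact (pmVec_inj (a := 2) (by norm_num) (Finset.empty_subset _) (Finset.empty_subset _) h).1

lemma card_words_through : ((codeWords 8).filter fun c => c none = 1).card = 253 := by
  rw [← card_octThrough_one none, ← Finset.card_image_of_injective _ bsupp_injective]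
  congr 1
  ext o
  rw [Finset.mem_image, mem_octThrough, mem_codeSupps]
  constructor
  · rintro ⟨c, hc, rfl⟩
    rw [Finset.mem_filter, mem_codeWords] at hc
    refine ⟨⟨c, hc.1.1, hc.1.2, rfl⟩, ?_⟩
    intro q hq
    rw [Finset.mem_singleton] at hq
    rw [hq, mem_bsupp]
    exact hc.2
  · rintro ⟨⟨c, hc, h8, rfl⟩, hsub⟩
    refine ⟨c, ?_, rfl⟩
    rw [Finset.mem_filter, mem_codeWords]
    exact ⟨⟨hc, h8⟩, (mem_bsupp c none).mp (hsub (Finset.mem_singleton_self _))⟩

lemma card_f552C : f552C.card = 253 := by
  unfold f552C
  rw [Finset.card_image_of_injOn, card_words_through]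
  intro c _ c' _ h
  exact (signVec_inj_of_one_mod_four (fun i => oneVec_mod _ (by decide) i)
    (fun i => oneVec_mod _ (by decide) i) h).1

lemma card_f552D : f552D.card = 23 := by
  unfold f552D
  rw [Finset.card_image_of_injOn]
  · decide
  · intro p _ p' _ h
    have := oneVec_inj (b := -3) (by norm_num) h
    exact Finset.singleton_injective this

lemma val_f552A (x : GolayPt → ℤ) (hx : x ∈ f552A) : x none = 4 := by
  unfold f552A at hx
  rw [Finset.mem_image] at hx
  obtain ⟨j, hj, rfl⟩ := hx
  rw [Finset.mem_filter] at hj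
  exact twoVec_apply_left (Ne.symm hj.2) _

lemma val_f552B (x : GolayPt → ℤ) (hx : x ∈ f552B) : x none = 2 := by
  unfold f552B at hx
  rw [Finset.mem_image] at hx
  obtain ⟨o, ho, rfl⟩ := hx
  rw [mem_octThrough] at ho
  rw [pmVec_apply, if_neg (Finset.notMem_empty _), if_pos (ho.2 (by simp))]

lemma val_f552C (x : GolayPt → ℤ) (hx : x ∈ f552C) : x none = 3 := by
  unfold f552C at hx
  rw [Finset.mem_image] at hx
  obtain ⟨c, hc, rfl⟩ := hx
  rw [Finset.mem_filter] at hc
  rw [signVec_apply, sgnOf_one hc.2, oneVec_apply, if_pos (Finset.mem_singleton_self _)]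
  norm_num

lemma val_f552D (x : GolayPt → ℤ) (hx : x ∈ f552D) : x none = 1 := by
  unfold f552D at hx
  rw [Finset.mem_image] at hx
  obtain ⟨j, hj, rfl⟩ := hx
  rw [Finset.mem_filter] at hj
  rw [oneVec_apply, if_neg (by simpa using hj.2.symm)]

/-- The union of the four families. -/
noncomputable def f552 : Finset (GolayPt → ℤ) := f552A ∪ f552B ∪ f552C ∪ f552D

lemma card_f552 : f552.card = 552 := by
  unfold f552
  rw [Finset.card_union_of_disjoint, Finset.card_union_of_disjoint,
    Finset.card_union_of_disjoint, card_f552A, card_f552B, card_f552C, card_f552D]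
  · rw [Finset.disjoint_left]
    intro x hx hx'
    have := val_f552A x hx
    have := val_f552B x hx'
    omega
  · rw [Finset.disjoint_left]
    intro x hx hx'
    have h3 := val_f552C x hx'
    rw [Finset.mem_union] at hx
    rcases hx with hx | hx
    · have := val_f552A x hx; omega
    · have := val_f552B x hx; omega
  · rw [Finset.disjoint_left]
    intro x hx hx'
    have h3 := val_f552D x hx'
    rw [Finset.mem_union, Finset.mem_union] at hx
    rcases hx with (hx | hx) | hx
    · have := val_f552A x hx; omega
    · have := val_f552B x hx; omega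
    · have := val_f552C x hx; omega

lemma set552_sub (x : GolayPt → ℤ) (hx : x ∈ set552) : x ∈ f552 := by
  obtain ⟨hxL, nx, h1⟩ := hx
  rw [dotInt_u5] at h1
  unfold f552
  rw [Finset.mem_union, Finset.mem_union, Finset.mem_union]
  rcases mem_I_of_norm32 x hxL nx with h | h | h
  · obtain ⟨p, c, hc, hxe, h3, h1'⟩ := I1_abs x h
    have hS := sum_signVec_oneVec c p (-3)
    rw [← hxe] at hS
    have hW : c ≠ 0 → (8 : ℤ) ≤ (hammingNorm c : ℤ) := by
      intro hne
      exact_mod_cast golayCode_hmin c hc hne
    by_cases hp : p = none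
    · subst hp
      left; right
      have hx0 : x none = sgnOf c none * (-3) := by
        rw [hxe, signVec_apply, oneVec_apply, if_pos (Finset.mem_singleton_self _)]
      have hκ : c none = 1 := by
        rcases Cfsg.Agent.S0391.zmod2_cases (c none) with h0 | h0
        · exfalso
          rw [sgnOf_zero h0] at hx0
          rw [h0, ZMod.val_zero] at hS
          push_cast at hS
          have : (0 : ℤ) ≤ (hammingNorm c : ℤ) := Nat.cast_nonneg _
          omega
        · exact h0
      have hx0' : x none = 3 := by rw [hx0, sgnOf_one hκ]; norm_num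
      rw [hκ, ZMod.val_one] at hS
      push_cast at hS
      have hw8 : hammingNorm c = 8 := by
        have : (hammingNorm c : ℤ) = 8 := by omega
        exact_mod_cast this
      unfold f552C
      rw [Finset.mem_image]
      refine ⟨c, ?_, hxe.symm⟩
      rw [Finset.mem_filter, mem_codeWords]
      exact ⟨⟨hc, hw8⟩, hκ⟩
    · right
      have hx0 : x none = sgnOf c none := by
        rw [hxe, signVec_apply, oneVec_apply, if_neg (by simpa using Ne.symm hp)]
        ring
      have hc0 : c = 0 := by
        by_contra hne
        have hw' := hW hne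
        rcases Cfsg.Agent.S0391.val_le_one (c p) with hv | hv <;>
          rcases sgnOf_cases c none with h'' | h'' <;>
          · rw [hv] at hS
            rw [h''] at hx0
            push_cast at hS
            omega
      unfold f552D
      rw [Finset.mem_image]
      refine ⟨p, by rw [Finset.mem_filter]; exact ⟨Finset.mem_univ _, hp⟩, ?_⟩
      rw [hxe, hc0, signVec_zero]
  · left; left; right
    obtain ⟨s, t, hs, hts, hte, rfl⟩ := (Cfsg.Agent.S0394.mem_I2 _).mp h
    obtain ⟨c, hc, hc8, rfl⟩ := (mem_codeSupps 8 s).mp hs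
    have hcard : (bsupp c).card = 8 := by rw [← hammingNorm_eq_card_bsupp, hc8]
    have hsum := sum_pmVec 2 hts
    rw [hcard] at hsum
    rw [hsum] at h1
    push_cast at h1
    have htn : (0 : ℤ) ≤ t.card := Nat.cast_nonneg _
    have e1 : pmVec 2 (bsupp c) t none = 2 := by
      rcases pmVec_abs 2 (bsupp c) t none with h' | h' | h' <;> omega
    have ht0 : t = ∅ := by
      rw [e1] at h1
      have : t.card = 0 := by omega
      exact Finset.card_eq_zero.mp this
    subst ht0
    have hin1 : none ∈ bsupp c :=
      (pmVec_ne_zero_iff (a := 2) (by norm_num) hts none).mp (by rw [e1]; norm_num)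
    unfold f552B
    rw [Finset.mem_image]
    refine ⟨bsupp c, ?_, rfl⟩
    rw [mem_octThrough]
    refine ⟨hs, ?_⟩
    intro q hq
    rw [Finset.mem_singleton] at hq
    rw [hq]; exact hin1
  · left; left; left
    obtain ⟨s, t, hs, hts, -, rfl⟩ := (Cfsg.Agent.S0394.mem_I3 _).mp h
    have hcard := (Finset.mem_powersetCard.mp hs).2
    have hsum := sum_pmVec 4 hts
    rw [hcard] at hsum
    rw [hsum] at h1
    push_cast at h1
    have htn : (0 : ℤ) ≤ t.card := Nat.cast_nonneg _
    have e1 : pmVec 4 s t none = 4 := by
      rcases pmVec_abs 4 s t none with h' | h' | h' <;> omega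
    rw [e1] at h1
    have ht0 : t.card = 0 := by omega
    obtain ⟨j, hj, hcase⟩ := eq_twoVec_of_entry_four _ hxL nx none e1
    unfold f552A
    rw [Finset.mem_image]
    refine ⟨j, by rw [Finset.mem_filter]; exact ⟨Finset.mem_univ _, Ne.symm hj⟩, ?_⟩
    rcases hcase with h' | h'
    · exact h'.symm
    · exfalso
      have := sum_pmVec 4 hts
      rw [h'] at this
      unfold twoVec at this
      simp only [Pi.add_apply, Finset.sum_add_distrib, Finset.sum_pi_single', Finset.mem_univ,
        if_true] at this
      rw [hcard, ht0] at this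
      norm_num at this

lemma f552_sub (x : GolayPt → ℤ) (hx : x ∈ f552) : x ∈ set552 := by
  unfold f552 at hx
  rw [Finset.mem_union, Finset.mem_union, Finset.mem_union] at hx
  rcases hx with ((hx | hx) | hx) | hx
  · unfold f552A at hx
    rw [Finset.mem_image] at hx
    obtain ⟨j, hj, rfl⟩ := hx
    rw [Finset.mem_filter] at hj
    refine ⟨twoVec_mem (Or.inl rfl), sqNorm_twoVec (Ne.symm hj.2) (Or.inl rfl), ?_⟩
    rw [dotInt_twoVec]
    unfold u5
    rw [oneVec_apply, oneVec_apply, if_pos (Finset.mem_singleton_self _),
      if_neg (by simpa using hj.2)]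
    norm_num
  · unfold f552B at hx
    rw [Finset.mem_image] at hx
    obtain ⟨o, ho, rfl⟩ := hx
    rw [mem_octThrough] at ho
    obtain ⟨c, hc, hc8, rfl⟩ := (mem_codeSupps 8 o).mp ho.1
    have hcard : (bsupp c).card = 8 := by rw [← hammingNorm_eq_card_bsupp, hc8]
    have hsum := sum_pmVec 2 (Finset.empty_subset (bsupp c))
    rw [hcard, Finset.card_empty] at hsum
    have hin1 : none ∈ bsupp c := ho.2 (by simp)
    refine ⟨pmVec_two_mem hc (Finset.empty_subset _) (by rw [hcard]; norm_num), ?_, ?_⟩
    · rw [sqNorm_pmVec 2 (Finset.empty_subset _), hcard]; norm_num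
    · rw [dotInt_u5, hsum, pmVec_apply, if_neg (Finset.notMem_empty _), if_pos hin1]; norm_num
  · have hv := val_f552C x hx
    unfold f552C at hx
    rw [Finset.mem_image] at hx
    obtain ⟨c, hc, rfl⟩ := hx
    rw [Finset.mem_filter, mem_codeWords] at hc
    have hbase : oneVec {none} (-3) ∈ leechLattice := by
      apply mem_of_one_mod_four
      · intro i; exact oneVec_mod _ (by decide) i
      · rw [sum_oneVec, Finset.card_singleton]; decide
    refine ⟨signVec_mem hc.1.1 _ hbase, ?_, ?_⟩
    · rw [sqNorm_signVec, sqNorm_oneVec, Finset.card_singleton]; norm_num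
    · rw [dotInt_u5, sum_signVec_oneVec, hv, hc.1.2, hc.2, ZMod.val_one]
      norm_num
  · unfold f552D at hx
    rw [Finset.mem_image] at hx
    obtain ⟨j, hj, rfl⟩ := hx
    rw [Finset.mem_filter] at hj
    refine ⟨?_, ?_, ?_⟩
    · apply mem_of_one_mod_four
      · intro i; exact oneVec_mod _ (by decide) i
      · rw [sum_oneVec, Finset.card_singleton]; decide
    · rw [sqNorm_oneVec, Finset.card_singleton]; norm_num
    · rw [dotInt_u5, sum_oneVec, Finset.card_singleton, oneVec_apply,
        if_neg (by simpa using hj.2.symm)]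
      norm_num

theorem ncard_set552 : set552.ncard = 552 := by
  have : set552 = ↑f552 := by
    ext x
    exact ⟨fun h => set552_sub x h, fun h => f552_sub x h⟩
  rw [this, Set.ncard_coe_finset, card_f552]

end Cfsg.Agent.Lib.Helper94
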