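import Mathlib
import Cfsg.Agent.Lib.Helper94.Leech552
import Cfsg.Agent.Lib.Helper94.LeechPairs4
import Cfsg.Agent.Lib.Helper94.LeechClasses

/-! Census of the vectors of sum of squares 32 by inner product with a fixed one. -/

set_option autoImplicit false

namespace Cfsg.Agent.Lib.Helper94

open Cfsg
open Cfsg.Agent.Lib.Helper95

/-- The number of lattice vectors of sum of squares `N` having inner product `k` with `u`. -/
noncomputable def cntG (u : GolayPt → ℤ) (N k : ℤ) : ℕ :=
  {w : GolayPt → ℤ | w ∈ leechLattice ∧ sqNorm w = N ∧ dotInt u w = k}.ncard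

lemma cntG_conj {u u' : GolayPt → ℤ} (h : Conj u u') (N k : ℤ) : cntG u N k = cntG u' N k := by
  obtain ⟨g, hg, hu, rfl⟩ := h
  unfold cntG
  have h1 : {w : GolayPt → ℤ | w ∈ leechLattice ∧ sqNorm w = N ∧ dotInt u w = k} =
      Subtype.val '' {x : leechLattice | sqNorm x.1 = N ∧ dotInt u x.1 = k} := by
    ext w
    constructor
    · rintro ⟨hw, h1, h2⟩
      exact ⟨⟨w, hw⟩, ⟨h1, h2⟩, rfl⟩
    · rintro ⟨x, ⟨h1, h2⟩, rfl⟩
      exact ⟨x.2, h1, h2⟩
  rw [h1, Set.ncard_image_of_injective _ Subtype.val_injective]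
  apply ncard_transfer g
  · intro x
    rw [hg.2, co0_dot g hg ⟨u, hu⟩ x]
    exact ⟨fun h => ⟨(g x).2, h⟩, fun h => h.2⟩
  · intro y hy
    exact hy.1

/-- The finite sets of short vectors. -/
noncomputable def A4 : Finset (GolayPt → ℤ) := shortSet32_finite.toFinset
noncomputable def A6 : Finset (GolayPt → ℤ) := shortSet48_finite.toFinset
noncomputable def A8 : Finset (GolayPt → ℤ) := shortSet64_finite.toFinset

lemma mem_A4 (x : GolayPt → ℤ) : x ∈ A4 ↔ x ∈ leechLattice ∧ sqNorm x = 32 :=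
  Set.Finite.mem_toFinset _
lemma mem_A6 (x : GolayPt → ℤ) : x ∈ A6 ↔ x ∈ leechLattice ∧ sqNorm x = 48 :=
  Set.Finite.mem_toFinset _
lemma mem_A8 (x : GolayPt → ℤ) : x ∈ A8 ↔ x ∈ leechLattice ∧ sqNorm x = 64 :=
  Set.Finite.mem_toFinset _

lemma card_A4 : A4.card = 196560 := by
  unfold A4
  rw [← shortSet32_ncard, Set.ncard_eq_toFinset_card _ shortSet32_finite]
lemma card_A6 : A6.card = 16773120 := by
  unfold A6
  rw [← shortSet48_ncard, Set.ncard_eq_toFinset_card _ shortSet48_finite]
lemma card_A8 : A8.card = 398034000 := by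
  unfold A8
  rw [← shortSet64_ncard, Set.ncard_eq_toFinset_card _ shortSet64_finite]

lemma cntG_eq_card (u : GolayPt → ℤ) (k : ℤ) :
    cntG u 32 k = (A4.filter fun w => dotInt u w = k).card := by
  unfold cntG
  rw [← Set.ncard_coe_finset]
  congr 1
  ext w
  simp only [Set.mem_ofPred_eq, Finset.coe_filter, mem_A4]
  tauto

lemma decomp_iff (u v' : GolayPt → ℤ) (hu : u ∈ leechLattice) (hv' : v' ∈ A4) (M : ℤ)
    (nu : sqNorm u = M) : u - v' ∈ A4 ↔ 2 * dotInt u v' = M := by
  rw [mem_A4] at hv' ⊢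
  rw [sqNorm_sub, nu, hv'.2]
  constructor
  · rintro ⟨-, h⟩; linarith
  · intro h
    exact ⟨leechLattice.sub_mem hu hv'.1, by linarith⟩

lemma card_above (u : GolayPt → ℤ) (hu : u ∈ leechLattice) (M k : ℤ) (nu : sqNorm u = M)
    (hk : 2 * k = M) : (A4.filter fun v' => u - v' ∈ A4).card = cntG u 32 k := by
  rw [cntG_eq_card]
  congr 1
  apply Finset.filter_congr
  intro v' hv'
  rw [decomp_iff u v' hu hv' M nu]
  constructor <;> intro h <;> linarith

/-- Decompositions counted from the side of the short vector. -/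
lemma card_below (A : Finset (GolayPt → ℤ)) (M k : ℤ)
    (hA : ∀ x, x ∈ A ↔ x ∈ leechLattice ∧ sqNorm x = M) (hk : 64 + 2 * k = M)
    (v' : GolayPt → ℤ) (hv' : v' ∈ A4) :
    (A.filter fun u => u - v' ∈ A4).card = cntG v' 32 k := by
  rw [cntG_eq_card]
  have hv := (mem_A4 v').mp hv'
  rw [← Finset.card_image_of_injective (A4.filter fun w => dotInt v' w = k)
    (add_right_injective v')]
  congr 1
  ext u
  rw [Finset.mem_filter, Finset.mem_image]
  constructor
  · rintro ⟨h1, h2⟩
    refine ⟨u - v', ?_, by abel⟩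
    rw [Finset.mem_filter]
    refine ⟨h2, ?_⟩
    have h3 := (hA u).mp h1
    have h4 := (mem_A4 _).mp h2
    have : u = v' + (u - v') := by abel
    have h5 := sqNorm_add v' (u - v')
    rw [← this, h3.2, hv.2, h4.2] at h5
    linarith
  · rintro ⟨w, hw, rfl⟩
    rw [Finset.mem_filter] at hw
    have h4 := (mem_A4 _).mp hw.1
    refine ⟨?_, by rw [add_sub_cancel_left]; exact hw.1⟩
    rw [hA]
    refine ⟨leechLattice.add_mem hv.1 h4.1, ?_⟩
    rw [sqNorm_add, hv.2, h4.2, hw.2]
    linarith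

lemma cnt552 : cntG u5 32 24 = 552 := ncard_set552

/-- The 46 short vectors with inner product 32 with `8 e_∞`. -/
lemma cnt46 : cntG (vec8 none) 32 32 = 46 := by
  unfold cntG
  have : {w : GolayPt → ℤ | w ∈ leechLattice ∧ sqNorm w = 32 ∧ dotInt (vec8 none) w = 32} =
      ↑(((Finset.univ.filter fun j : GolayPt => j ≠ none) ×ˢ ({4, -4} : Finset ℤ)).image
        fun p : GolayPt × ℤ => twoVec none p.1 p.2) := by
    ext w
    simp only [Set.mem_ofPred_eq, Finset.coe_image, Set.mem_image, Finset.mem_coe,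
      Finset.mem_product, Finset.mem_filter, Finset.mem_univ, true_and, Finset.mem_insert,
      Finset.mem_singleton, Prod.exists]
    constructor
    · rintro ⟨hw, nw, hd⟩
      rw [dotInt_comm', dotInt_vec8] at hd
      obtain ⟨j, hj, hcase⟩ := eq_twoVec_of_entry_four w hw nw none (by omega)
      rcases hcase with h | h
      · exact ⟨j, 4, ⟨Ne.symm hj, Or.inl rfl⟩, h.symm⟩
      · exact ⟨j, -4, ⟨Ne.symm hj, Or.inr rfl⟩, h.symm⟩
    · rintro ⟨j, s, ⟨hj, hs⟩, rfl⟩
      refine ⟨twoVec_mem hs, sqNorm_twoVec (Ne.symm hj) hs, ?_⟩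
      rw [dotInt_comm', dotInt_vec8, twoVec_apply_left (Ne.symm hj)]
      norm_num
  rw [this, Set.ncard_coe_finset, Finset.card_image_of_injOn, Finset.card_product]
  · decide
  · rintro ⟨j, s⟩ hp ⟨j', s'⟩ hp' h
    simp only [Finset.coe_product, Finset.coe_filter, Finset.mem_univ, true_and, Finset.coe_insert,
      Finset.coe_singleton, Set.mem_prod, Set.mem_setOf_eq, Set.mem_insert_iff,
      Set.mem_singleton_iff] at hp hp'
    simp only [] at h
    have hs0 : s ≠ 0 := by rcases hp.2 with h' | h' <;> rw [h'] <;> norm_num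
    have e1 := congrFun h j
    rw [twoVec_apply_right (Ne.symm hp.1)] at e1
    have hjj : j = j' := by
      by_contra hne
      unfold twoVec at e1
      simp [Pi.single_apply, hp.1, hne] at e1
      exact hs0 e1
    subst hjj
    rw [twoVec_apply_right (Ne.symm hp.1)] at e1
    rw [e1]

/-- The count of inner product `-8`. -/
theorem cnt_m8 (v : GolayPt → ℤ) (hv : v ∈ leechLattice) (nv : sqNorm v = 32) :
    cntG v 32 (-8) = 47104 := by
  classical
  have hdc := Finset.sum_card_bipartiteAbove_eq_sum_card_bipartiteBelow (s := A6) (t := A4)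
    (fun u v' => u - v' ∈ A4)
  have hL : ∀ u ∈ A6, (A4.bipartiteAbove (fun u v' => u - v' ∈ A4) u).card = 552 := by
    intro u hu
    have hu' := (mem_A6 u).mp hu
    show (A4.filter fun v' => u - v' ∈ A4).card = 552
    rw [card_above u hu'.1 48 24 hu'.2 (by norm_num), cntG_conj (conj_u5 u hu'.1 hu'.2), cnt552]
  have hR : ∀ v' ∈ A4, (A6.bipartiteBelow (fun u v' => u - v' ∈ A4) v').card = cntG v 32 (-8) := by
    intro v' hv'
    have hv'' := (mem_A4 v').mp hv'
    show (A6.filter fun u => u - v' ∈ A4).card = _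
    rw [card_below A6 48 (-8) mem_A6 (by norm_num) v' hv']
    exact cntG_conj ((conj_norm32 v' hv''.1 hv''.2).trans (conj_norm32 v hv nv).symm) _ _
  rw [Finset.sum_congr rfl hL, Finset.sum_congr rfl hR, Finset.sum_const, Finset.sum_const,
    card_A6, card_A4] at hdc
  simp only [smul_eq_mul] at hdc
  omega

/-- The count of inner product `0`. -/
theorem cnt_zero (v : GolayPt → ℤ) (hv : v ∈ leechLattice) (nv : sqNorm v = 32) :
    cntG v 32 0 = 93150 := by
  classical
  have hdc := Finset.sum_card_bipartiteAbove_eq_sum_card_bipartiteBelow (s := A8) (t := A4)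
    (fun u v' => u - v' ∈ A4)
  have hL : ∀ u ∈ A8, (A4.bipartiteAbove (fun u v' => u - v' ∈ A4) u).card = 46 := by
    intro u hu
    have hu' := (mem_A8 u).mp hu
    show (A4.filter fun v' => u - v' ∈ A4).card = 46
    have c1 := conj_norm64 u hu'.1 hu'.2
    rw [e8_eq_vec8] at c1
    rw [card_above u hu'.1 64 32 hu'.2 (by norm_num), cntG_conj c1, cnt46]
  have hR : ∀ v' ∈ A4, (A8.bipartiteBelow (fun u v' => u - v' ∈ A4) v').card = cntG v 32 0 := by
    intro v' hv'
    have hv'' := (mem_A4 v').mp hv'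
    show (A8.filter fun u => u - v' ∈ A4).card = _
    rw [card_below A8 64 0 mem_A8 (by norm_num) v' hv']
    exact cntG_conj ((conj_norm32 v' hv''.1 hv''.2).trans (conj_norm32 v hv nv).symm) _ _
  rw [Finset.sum_congr rfl hL, Finset.sum_congr rfl hR, Finset.sum_const, Finset.sum_const,
    card_A8, card_A4] at hdc
  simp only [smul_eq_mul] at hdc
  omega

end Cfsg.Agent.Lib.Helper94

namespace Cfsg.Agent.Lib.Helper94

open Cfsg

lemma dot_vals (v w : GolayPt → ℤ) (hv : v ∈ leechLattice) (nv : sqNorm v = 32)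
    (hw : w ∈ leechLattice) (nw : sqNorm w = 32) :
    (dotInt v w = 32 ∧ w = v) ∨ (dotInt v w = -32 ∧ w = -v) ∨ dotInt v w = 16 ∨
      dotInt v w = -16 ∨ dotInt v w = 8 ∨ dotInt v w = -8 ∨ dotInt v w = 0 := by
  obtain ⟨t, ht⟩ := eight_dvd_dot hv hw
  by_cases h1 : w = v
  · left
    refine ⟨?_, h1⟩
    rw [h1, dotInt_self, nv]
  by_cases h2 : w = -v
  · right; left
    refine ⟨?_, h2⟩
    rw [h2, dotInt_neg_right', dotInt_self, nv]
  have e1 := Cfsg.Agent.S0391.result (v - w) (leechLattice.sub_mem hv hw)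
    (fun h => h1 (by rw [sub_eq_zero] at h; exact h.symm))
  have e2 := Cfsg.Agent.S0391.result (v + w) (leechLattice.add_mem hv hw)
    (fun h => h2 (by rw [add_eq_zero_iff_eq_neg] at h; rw [h, neg_neg]))
  rw [sqNorm_sub, nv, nw] at e1
  rw [sqNorm_add, nv, nw] at e2
  right; right
  omega

lemma cntG_neg (v : GolayPt → ℤ) (k : ℤ) : cntG v 32 (-k) = cntG v 32 k := by
  rw [cntG_eq_card, cntG_eq_card]
  apply Finset.card_bij (fun w _ => -w)
  · intro w hw
    rw [Finset.mem_filter, mem_A4] at hw ⊢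
    refine ⟨⟨leechLattice.neg_mem hw.1.1, by rw [sqNorm_neg', hw.1.2]⟩, ?_⟩
    rw [dotInt_neg_right', hw.2, neg_neg]
  · intro w _ w' _ h
    exact neg_injective h
  · intro w hw
    rw [Finset.mem_filter, mem_A4] at hw
    refine ⟨-w, ?_, neg_neg w⟩
    rw [Finset.mem_filter, mem_A4]
    refine ⟨⟨leechLattice.neg_mem hw.1.1, by rw [sqNorm_neg', hw.1.2]⟩, ?_⟩
    rw [dotInt_neg_right', hw.2]

lemma cnt_32 (v : GolayPt → ℤ) (hv : v ∈ leechLattice) (nv : sqNorm v = 32) :
    cntG v 32 32 = 1 := by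
  rw [cntG_eq_card]
  have : (A4.filter fun w => dotInt v w = 32) = {v} := by
    ext w
    rw [Finset.mem_filter, Finset.mem_singleton, mem_A4]
    constructor
    · rintro ⟨⟨hw, nw⟩, hd⟩
      rcases dot_vals v w hv nv hw nw with h | h | h | h | h | h | h
      · exact h.2
      all_goals omega
    · rintro rfl
      exact ⟨⟨hv, nv⟩, by rw [dotInt_self, nv]⟩
  rw [this, Finset.card_singleton]

/-- The count of inner product `-16`. -/
theorem cnt_m16 (v : GolayPt → ℤ) (hv : v ∈ leechLattice) (nv : sqNorm v = 32) :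
    cntG v 32 (-16) = 4600 := by
  classical
  have hvals : ∀ w ∈ A4, dotInt v w ∈ ({-32, -16, -8, 0, 8, 16, 32} : Finset ℤ) := by
    intro w hw
    rw [mem_A4] at hw
    simp only [Finset.mem_insert, Finset.mem_singleton]
    rcases dot_vals v w hv nv hw.1 hw.2 with h | h | h | h | h | h | h
    · omega
    · omega
    all_goals omega
  have hpart := Finset.card_eq_sum_card_fiberwise (f := fun w => dotInt v w) (s := A4)
    (t := ({-32, -16, -8, 0, 8, 16, 32} : Finset ℤ)) hvals
  rw [Finset.sum_insert (by decide), Finset.sum_insert (by decide), Finset.sum_insert (by decide),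
    Finset.sum_insert (by decide), Finset.sum_insert (by decide), Finset.sum_insert (by decide),
    Finset.sum_singleton, card_A4] at hpart
  simp only [← cntG_eq_card] at hpart
  have h1 := cnt_32 v hv nv
  have h2 := cntG_neg v 32
  have h3 := cntG_neg v 16
  have h4 := cntG_neg v 8
  have h5 := cnt_m8 v hv nv
  have h6 := cnt_zero v hv nv
  omega

end Cfsg.Agent.Lib.Helper94
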