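import Mathlib
import Cfsg.Agent.Lib.Helper94.LeechPairs4

/-! Triples `(v, w, x)`: two vectors of sum of squares 48 with inner product `-32` and a vector of
sum of squares 32 with inner products `24` and `-24` with them. -/

set_option autoImplicit false

namespace Cfsg.Agent.Lib.Helper94

open Cfsg
open Cfsg.Agent.Lib.Helper95

lemma Conj3.trans {x y z x' y' z' x'' y'' z'' : GolayPt → ℤ} (h : Conj3 x y z x' y' z')
    (h' : Conj3 x' y' z' x'' y'' z'') : Conj3 x y z x'' y'' z'' := by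
  obtain ⟨g, hg, hx, hy, hz, rfl, rfl, rfl⟩ := h
  obtain ⟨g', hg', hx', hy', hz', rfl, rfl, rfl⟩ := h'
  exact ⟨g' * g, Co0.mul_mem hg' hg, hx, hy, hz, rfl, rfl, rfl⟩

lemma Conj3.symm {x y z x' y' z' : GolayPt → ℤ} (h : Conj3 x y z x' y' z') :
    Conj3 x' y' z' x y z := by
  obtain ⟨g, hg, hx, hy, hz, rfl, rfl, rfl⟩ := h
  refine ⟨g⁻¹, Co0.inv_mem hg, (g ⟨x, hx⟩).2, (g ⟨y, hy⟩).2, (g ⟨z, hz⟩).2, ?_, ?_, ?_⟩ <;> simp

lemma conj3_perm {σ : Equiv.Perm GolayPt} (hσ : σ ∈ M24) {x y z : GolayPt → ℤ}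
    (hx : x ∈ leechLattice) (hy : y ∈ leechLattice) (hz : z ∈ leechLattice) :
    Conj3 x y z (permVec σ x) (permVec σ y) (permVec σ z) :=
  ⟨permPerm σ hσ, permPerm_mem σ hσ, hx, hy, hz, rfl, rfl, rfl⟩

lemma conj3_sign {d : GolayPt → ZMod 2} (hd : d ∈ golayCode) {x y z : GolayPt → ℤ}
    (hx : x ∈ leechLattice) (hy : y ∈ leechLattice) (hz : z ∈ leechLattice) :
    Conj3 x y z (signVec d x) (signVec d y) (signVec d z) :=
  ⟨signPerm d hd, signPerm_mem d hd, hx, hy, hz, rfl, rfl, rfl⟩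

/-- The orbit relation on triples in the form of the statements. -/
lemma conj3_iff (v w x v' w' x' : leechLattice) :
    Conj3 v.1 w.1 x.1 v'.1 w'.1 x'.1 ↔ ∃ g : Co0, g • v = v' ∧ g • w = w' ∧ g • x = x' := by
  constructor
  · rintro ⟨g, hg, hx, hy, hz, h1, h2, h3⟩
    exact ⟨⟨g, hg⟩, Subtype.ext h1, Subtype.ext h2, Subtype.ext h3⟩
  · rintro ⟨⟨g, hg⟩, h1, h2, h3⟩
    exact ⟨g, hg, v.2, w.2, x.2, congrArg Subtype.val h1, congrArg Subtype.val h2,
      congrArg Subtype.val h3⟩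

/-- A linear combination under a triple relation. -/
lemma Conj3.comb {x y z x' y' z' : GolayPt → ℤ} (h : Conj3 x y z x' y' z') :
    Conj3 y (x - z - y) z y' (x' - z' - y') z' := by
  obtain ⟨g, hg, hx, hy, hz, h1, h2, h3⟩ := h
  have hm : x - z - y ∈ leechLattice := leechLattice.sub_mem (leechLattice.sub_mem hx hz) hy
  refine ⟨g, hg, hy, hm, hz, h2, ?_, h3⟩
  have : (⟨x - z - y, hm⟩ : leechLattice) = ⟨x, hx⟩ - ⟨z, hz⟩ - ⟨y, hy⟩ := rfl
  rw [this, co0_sub g hg, co0_sub g hg, ← h1, ← h2, ← h3]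
  rfl

lemma signVec_vec8 {d : GolayPt → ZMod 2} {i : GolayPt} (hi : d i = 0) :
    signVec d (vec8 i) = vec8 i := by
  ext p
  rw [signVec_apply]
  unfold vec8
  by_cases h : p = i
  · subst h; rw [sgnOf_zero hi]; simp
  · simp [h]

lemma permVec_vec8 (σ : Equiv.Perm GolayPt) (i : GolayPt) : permVec σ (vec8 i) = vec8 (σ i) := by
  rw [vec8_eq_single', vec8_eq_single', permVec_single]

/-- From a frame vector to the normal form, keeping track of the frame vector. -/
theorem conj3_of_frame48 (y u z : GolayPt → ℤ) (hy : y ∈ leechLattice) (hu : u ∈ leechLattice)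
    (hz : z ∈ leechLattice) (ny : sqNorm y = 64) (nu : sqNorm u = 48) (nz : sqNorm z = 32)
    (hyu : dotInt y u = 40) (hyz : dotInt y z = 32) :
    ∃ s : ℤ, (s = 4 ∨ s = -4) ∧ dotInt u z = 20 + s ∧
      Conj3 y u z (vec8 none) u5 (twoVec none (some 0) s) := by
  have c1 := conj_norm64 y hy ny
  rw [e8_eq_vec8] at c1
  obtain ⟨u1, z1, c3⟩ := conj3_of_conj c1 hu hz
  have hu1L := c3.c12.right.mem_right
  have hz1L := c3.c13.right.mem_right
  have nu1 : sqNorm u1 = 48 := by rw [c3.c12.right.sqNorm_eq, nu]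
  have nz1 : sqNorm z1 = 32 := by rw [c3.c13.right.sqNorm_eq, nz]
  have d1 : dotInt (vec8 none) u1 = 40 := by rw [c3.c12.dot_eq, hyu]
  have d2 : dotInt (vec8 none) z1 = 32 := by rw [c3.c13.dot_eq, hyz]
  rw [dotInt_comm', dotInt_vec8] at d1 d2
  have e1 : u1 none = 5 := by omega
  have e2 : z1 none = 4 := by omega
  obtain ⟨j, hj, hcase⟩ := eq_twoVec_of_entry_four z1 hz1L nz1 none e2
  obtain ⟨c, hc, hc0, hu1e⟩ := eq_of_entry_five u1 hu1L nu1 none e1
  have c4 := conj3_sign hc (vec8_mem none) hu1L hz1L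
  have hu2 : signVec c u1 = u5 := by rw [hu1e, signVec_signVec]; rfl
  obtain ⟨s, hs, hz2⟩ : ∃ s : ℤ, (s = 4 ∨ s = -4) ∧ signVec c z1 = twoVec none j s := by
    rcases hcase with h | h <;> rw [h, signVec_twoVec_gen hc0 hj] <;>
      rcases sgnOf_cases c j with h' | h' <;> rw [h']
    · exact ⟨4, Or.inl rfl, by norm_num⟩
    · exact ⟨-4, Or.inr rfl, by norm_num⟩
    · exact ⟨-4, Or.inr rfl, by norm_num⟩
    · exact ⟨4, Or.inl rfl, by norm_num⟩
  rw [hu2, hz2, signVec_vec8 hc0] at c4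
  have c5 : Conj3 y u z (vec8 none) u5 (twoVec none j s) := c3.trans c4
  have d4 : dotInt u z = 20 + s := by
    rw [← c5.c23.dot_eq, dotInt_twoVec]
    unfold u5
    rw [oneVec_apply, oneVec_apply, if_pos (Finset.mem_singleton_self _),
      if_neg (by simpa using hj.symm)]
    ring
  refine ⟨s, hs, d4, ?_⟩
  obtain ⟨σ, hσ, hσ1, hσ2⟩ := m24_two_trans hj (show (none : GolayPt) ≠ some 0 by decide)
  have c6 := conj3_perm hσ (vec8_mem none) u5_memL (twoVec_mem (i := none) (j := j) hs)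
  have : permVec σ u5 = u5 := by
    unfold u5
    rw [permVec_oneVec, Finset.image_singleton, hσ1]
  rw [permVec_twoVec, permVec_vec8, hσ1, hσ2, this] at c6
  exact c5.trans c6

lemma vec8_sub_oa_sub_u5 : vec8 none - oa - u5 = w5 := by
  unfold oa u5 w5 twoVec
  rw [vec8_eq_single']
  ext p
  simp only [Pi.sub_apply, Pi.add_apply, Pi.neg_apply, Pi.single_apply, oneVec_apply,
    Finset.mem_singleton]
  by_cases h1 : p = none
  · subst h1; simp
  · by_cases h2 : p = some 0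
    · subst h2; simp
    · simp [h1, h2]

/-- The triples `(v, w, x)` of the Higman–Sims configuration lie in one orbit. -/
theorem conj3_hs (v w x : GolayPt → ℤ) (hv : v ∈ leechLattice) (hw : w ∈ leechLattice)
    (hx : x ∈ leechLattice) (nv : sqNorm v = 48) (nw : sqNorm w = 48) (nx : sqNorm x = 32)
    (hvw : dotInt v w = -32) (hvx : dotInt v x = 24) (hwx : dotInt w x = -24) :
    Conj3 v w x u5 w5 oa := by
  set y := x + v + w with hy
  have hyL : y ∈ leechLattice := leechLattice.add_mem (leechLattice.add_mem hx hv) hw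
  have hxv : dotInt x v = 24 := by rw [dotInt_comm', hvx]
  have hxw : dotInt x w = -24 := by rw [dotInt_comm', hwx]
  have hwv : dotInt w v = -32 := by rw [dotInt_comm', hvw]
  have ny : sqNorm y = 64 := by
    rw [hy, sqNorm_add, sqNorm_add, nx, nv, nw, dotInt_add_left', hxv, hxw, hvw]; norm_num
  have hyv : dotInt y v = 40 := by
    rw [hy, dotInt_add_left', dotInt_add_left', hxv, dotInt_self, nv, hwv]; norm_num
  have hyx : dotInt y x = 32 := by
    rw [hy, dotInt_add_left', dotInt_add_left', dotInt_self, nx, hvx, hwx]; norm_num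
  obtain ⟨s, hs, hds, c3⟩ := conj3_of_frame48 y v x hyL hv hx ny nv nx hyv hyx
  have : s = 4 := by omega
  subst this
  have c4 := c3.comb
  have e1 : y - x - v = w := by rw [hy]; abel
  rw [e1] at c4
  have e2 : vec8 none - twoVec none (some 0) 4 - u5 = w5 := vec8_sub_oa_sub_u5
  rw [e2] at c4
  exact c4

end Cfsg.Agent.Lib.Helper94
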