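import Mathlib
import Cfsg.Agent.Lib.Helper94.LeechHS
import Cfsg.Agent.Lib.Helper94.LeechOct

/-! The hundred vectors of the Higman–Sims configuration for the standard pair. -/

set_option autoImplicit false

namespace Cfsg.Agent.Lib.Helper94

open Cfsg
open Cfsg.Agent.Lib.Helper95

/-- The hundred vectors. -/
def hsSet : Set (GolayPt → ℤ) :=
  {x | x ∈ leechLattice ∧ sqNorm x = 32 ∧ dotInt u5 x = 24 ∧ dotInt w5 x = -24}

/-- The three families. -/
noncomputable def hsFam : Finset (GolayPt → ℤ) :=
  {oa} ∪ ((octThrough {none, some 0}).image fun o => pmVec 2 o ∅) ∪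
    ((Finset.univ.filter fun p : GolayPt => p ≠ none ∧ p ≠ some 0).image
      fun p => oneVec {p} (-3))

lemma sum_oa : ∑ q, oa q = 8 := by
  unfold oa twoVec
  simp only [Pi.add_apply, Finset.sum_add_distrib, Finset.sum_pi_single', Finset.mem_univ,
    if_true]
  norm_num

lemma hsSet_sub (x : GolayPt → ℤ) (hx : x ∈ hsSet) : x ∈ hsFam := by
  obtain ⟨hxL, nx, h1, h2⟩ := hx
  rw [dotInt_u5] at h1
  rw [dotInt_w5] at h2
  unfold hsFam
  rw [Finset.mem_union, Finset.mem_union]
  rcases mem_I_of_norm32 x hxL nx with h | h | h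
  · -- odd type
    right
    obtain ⟨p, c, hc, hxe, h3, h1'⟩ := I1_abs x h
    have hS := sum_signVec_oneVec c p (-3)
    rw [← hxe] at hS
    have hpn : p ≠ none := by
      rintro rfl
      have e0 := h1' (some 0) (by decide)
      rcases abs_eq (by norm_num : (0:ℤ) ≤ 3) |>.mp h3 with h' | h' <;>
        rcases abs_eq (by norm_num : (0:ℤ) ≤ 1) |>.mp e0 with h'' | h'' <;> omega
    have hp0 : p ≠ some 0 := by
      rintro rfl
      have e0 := h1' none (by decide)
      rcases abs_eq (by norm_num : (0:ℤ) ≤ 3) |>.mp h3 with h' | h' <;>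
        rcases abs_eq (by norm_num : (0:ℤ) ≤ 1) |>.mp e0 with h'' | h'' <;> omega
    have en := h1' none (Ne.symm hpn)
    have hc0 : c = 0 := by
      by_contra hne
      have hw : 8 ≤ hammingNorm c := golayCode_hmin c hc hne
      have hw' : (8 : ℤ) ≤ (hammingNorm c : ℤ) := by exact_mod_cast hw
      rcases Cfsg.Agent.S0391.val_le_one (c p) with hv | hv <;>
        rcases abs_eq (by norm_num : (0:ℤ) ≤ 1) |>.mp en with h'' | h'' <;>
        · rw [hv] at hS
          push_cast at hS
          omega
    rw [Finset.mem_image]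
    refine ⟨p, by rw [Finset.mem_filter]; exact ⟨Finset.mem_univ _, hpn, hp0⟩, ?_⟩
    rw [hxe, hc0, signVec_zero]
  · -- octad type
    left; right
    obtain ⟨s, t, hs, hts, hte, rfl⟩ := (Cfsg.Agent.S0394.mem_I2 _).mp h
    obtain ⟨c, hc, hc8, rfl⟩ := (mem_codeSupps 8 s).mp hs
    have hcard : (bsupp c).card = 8 := by rw [← hammingNorm_eq_card_bsupp, hc8]
    have hsum := sum_pmVec 2 hts
    rw [hcard] at hsum
    rw [hsum] at h1 h2
    push_cast at h1 h2
    have htn : (0 : ℤ) ≤ t.card := Nat.cast_nonneg _
    have e1 : pmVec 2 (bsupp c) t none = 2 := by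
      rcases pmVec_abs 2 (bsupp c) t none with h' | h' | h' <;> omega
    have e2 : pmVec 2 (bsupp c) t (some 0) = 2 := by
      rcases pmVec_abs 2 (bsupp c) t (some 0) with h' | h' | h' <;> omega
    have ht0 : t = ∅ := by
      rw [e1] at h1
      have : t.card = 0 := by omega
      exact Finset.card_eq_zero.mp this
    subst ht0
    have hin1 : none ∈ bsupp c :=
      (pmVec_ne_zero_iff (a := 2) (by norm_num) hts none).mp (by rw [e1]; norm_num)
    have hin2 : some 0 ∈ bsupp c :=
      (pmVec_ne_zero_iff (a := 2) (by norm_num) hts (some 0)).mp (by rw [e2]; norm_num)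
    rw [Finset.mem_image]
    refine ⟨bsupp c, ?_, rfl⟩
    rw [mem_octThrough]
    refine ⟨hs, ?_⟩
    intro q hq
    rw [Finset.mem_insert, Finset.mem_singleton] at hq
    rcases hq with rfl | rfl
    · exact hin1
    · exact hin2
  · -- shape `(4, 4)`
    left; left
    rw [Finset.mem_singleton]
    obtain ⟨s, t, hs, hts, -, rfl⟩ := (Cfsg.Agent.S0394.mem_I3 _).mp h
    have hcard := (Finset.mem_powersetCard.mp hs).2
    have hsum := sum_pmVec 4 hts
    rw [hcard] at hsum
    rw [hsum] at h1 h2
    push_cast at h1 h2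
    have htn : (0 : ℤ) ≤ t.card := Nat.cast_nonneg _
    have e1 : pmVec 4 s t none = 4 := by
      rcases pmVec_abs 4 s t none with h' | h' | h' <;> omega
    have e2 : pmVec 4 s t (some 0) = 4 := by
      rcases pmVec_abs 4 s t (some 0) with h' | h' | h' <;> omega
    obtain ⟨j, hj, hcase⟩ := eq_twoVec_of_entry_four _ hxL nx none e1
    have hj0 : j = some 0 := by
      by_contra hne
      rcases hcase with h' | h' <;>
        · have := congrFun h' (some 0)
          rw [e2] at this
          unfold twoVec at this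
          simp [Pi.single_apply, Ne.symm hne] at this
    subst hj0
    rcases hcase with h' | h'
    · rw [h']; rfl
    · exfalso
      have := congrFun h' (some 0)
      rw [e2, twoVec_apply_right hj] at this
      norm_num at this

lemma hsFam_sub (x : GolayPt → ℤ) (hx : x ∈ hsFam) : x ∈ hsSet := by
  unfold hsFam at hx
  rw [Finset.mem_union, Finset.mem_union, Finset.mem_singleton, Finset.mem_image,
    Finset.mem_image] at hx
  rcases hx with (rfl | ⟨o, ho, rfl⟩) | ⟨p, hp, rfl⟩
  · refine ⟨oa_mem, sqNorm_oa, ?_, ?_⟩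
    · rw [dotInt_u5, sum_oa]; unfold oa; rw [twoVec_apply_left (by decide)]; norm_num
    · rw [dotInt_w5, sum_oa]; unfold oa; rw [twoVec_apply_right (by decide)]; norm_num
  · rw [mem_octThrough] at ho
    obtain ⟨c, hc, hc8, rfl⟩ := (mem_codeSupps 8 o).mp ho.1
    have hcard : (bsupp c).card = 8 := by rw [← hammingNorm_eq_card_bsupp, hc8]
    have hsum := sum_pmVec 2 (Finset.empty_subset (bsupp c))
    rw [hcard, Finset.card_empty] at hsum
    have hin1 : none ∈ bsupp c := ho.2 (by simp)
    have hin2 : some 0 ∈ bsupp c := ho.2 (by simp)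
    refine ⟨pmVec_two_mem hc (Finset.empty_subset _) (by rw [hcard]; norm_num), ?_, ?_, ?_⟩
    · rw [sqNorm_pmVec 2 (Finset.empty_subset _), hcard]; norm_num
    · rw [dotInt_u5, hsum, pmVec_apply, if_neg (Finset.notMem_empty _), if_pos hin1]; norm_num
    · rw [dotInt_w5, hsum, pmVec_apply, if_neg (Finset.notMem_empty _), if_pos hin2]; norm_num
  · rw [Finset.mem_filter] at hp
    refine ⟨?_, ?_, ?_, ?_⟩
    · apply mem_of_one_mod_four
      · intro i; exact oneVec_mod _ (by decide) i
      · rw [sum_oneVec, Finset.card_singleton]; decide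
    · rw [sqNorm_oneVec, Finset.card_singleton]; norm_num
    · rw [dotInt_u5, sum_oneVec, Finset.card_singleton, oneVec_apply,
        if_neg (by simpa using hp.2.1.symm)]
      norm_num
    · rw [dotInt_w5, sum_oneVec, Finset.card_singleton, oneVec_apply,
        if_neg (by simpa using hp.2.2.symm)]
      norm_num

lemma card_hsFam : hsFam.card = 100 := by
  unfold hsFam
  have hB : ((octThrough {none, some 0}).image fun o => pmVec 2 o ∅).card = 77 := by
    rw [Finset.card_image_of_injOn, card_octThrough_two (by decide)]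
    intro o _ o' _ h
    exact (pmVec_inj (a := 2) (by norm_num) (Finset.empty_subset _) (Finset.empty_subset _) h).1
  have hC : ((Finset.univ.filter fun p : GolayPt => p ≠ none ∧ p ≠ some 0).image
      fun p => oneVec {p} (-3)).card = 22 := by
    rw [Finset.card_image_of_injOn]
    · decide
    · intro p _ p' _ h
      have := oneVec_inj (b := -3) (by norm_num) h
      exact Finset.singleton_injective this
  have hvalB : ∀ x ∈ ((octThrough {none, some 0}).image fun o => pmVec 2 o ∅), x none = 2 := by
    intro x hx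
    rw [Finset.mem_image] at hx
    obtain ⟨o, ho, rfl⟩ := hx
    rw [mem_octThrough] at ho
    rw [pmVec_apply, if_neg (Finset.notMem_empty _), if_pos (ho.2 (by simp))]
  have hvalC : ∀ x ∈ ((Finset.univ.filter fun p : GolayPt => p ≠ none ∧ p ≠ some 0).image
      fun p => oneVec {p} (-3)), x none = 1 := by
    intro x hx
    rw [Finset.mem_image] at hx
    obtain ⟨p, hp, rfl⟩ := hx
    rw [Finset.mem_filter] at hp
    rw [oneVec_apply, if_neg (by simpa using hp.2.1.symm)]
  have hvalA : oa none = 4 := by unfold oa; exact twoVec_apply_left (by decide) _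
  rw [Finset.card_union_of_disjoint, Finset.card_union_of_disjoint, Finset.card_singleton, hB, hC]
  · rw [Finset.disjoint_singleton_left]
    intro h
    have := hvalB _ h
    omega
  · rw [Finset.disjoint_left]
    intro x hx hx'
    rw [Finset.mem_union, Finset.mem_singleton] at hx
    have := hvalC x hx'
    rcases hx with rfl | hx
    · omega
    · have := hvalB x hx
      omega

theorem ncard_hsSet : hsSet.ncard = 100 := by
  have : hsSet = ↑hsFam := by
    ext x
    exact ⟨fun h => hsSet_sub x h, fun h => hsFam_sub x h⟩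
  rw [this, Set.ncard_coe_finset, card_hsFam]

end Cfsg.Agent.Lib.Helper94
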