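import Mathlib
import Cfsg.Agent.Lib.Helper94.LeechHS2

/-! The point stabiliser in the Higman–Sims configuration: the two suborbits. -/

set_option autoImplicit false

namespace Cfsg.Agent.Lib.Helper94

open Cfsg
open Cfsg.Agent.Lib.Helper95
open Cfsg.Agent.Lib.Helper10 (permWord permWord_apply permWord_mem_of_mem_M24)

lemma m24_five_trans {a b c d e a' b' c' d' e' : GolayPt} (h : [a, b, c, d, e].Nodup)
    (h' : [a', b', c', d', e'].Nodup) :
    ∃ σ ∈ M24, σ a = a' ∧ σ b = b' ∧ σ c = c' ∧ σ d = d' ∧ σ e = e' := by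
  simp only [List.nodup_cons, List.mem_cons, List.not_mem_nil, not_or, or_false, List.nodup_nil,
    and_true, not_false_eq_true] at h h'
  let x : Fin 5 ↪ GolayPt := ⟨![a, b, c, d, e], by
    intro i j hij
    fin_cases i <;> fin_cases j <;> simp_all⟩
  let y : Fin 5 ↪ GolayPt := ⟨![a', b', c', d', e'], by
    intro i j hij
    fin_cases i <;> fin_cases j <;> simp_all⟩
  obtain ⟨σ, hσ, hxy⟩ := m24_emb_trans (le_refl 5) x y
  exact ⟨σ, hσ, hxy 0, hxy 1, hxy 2, hxy 3, hxy 4⟩

lemma bsupp_permWord (σ : Equiv.Perm GolayPt) (c : GolayPt → ZMod 2) :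
    bsupp (permWord σ c) = (bsupp c).image σ := by
  ext q
  rw [mem_bsupp, permWord_apply, Finset.mem_image]
  constructor
  · intro h
    exact ⟨σ.symm q, (mem_bsupp c _).mpr h, by simp⟩
  · rintro ⟨p, hp, rfl⟩
    rw [Equiv.symm_apply_apply]
    exact (mem_bsupp c p).mp hp

lemma image_mem_codeSupps {σ : Equiv.Perm GolayPt} (hσ : σ ∈ M24) {k : ℕ} {o : Finset GolayPt}
    (ho : o ∈ codeSupps k) : o.image σ ∈ codeSupps k := by
  obtain ⟨c, hc, hk, rfl⟩ := (mem_codeSupps k o).mp ho
  rw [mem_codeSupps]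
  refine ⟨permWord σ c, permWord_mem_of_mem_M24 hσ c hc, ?_, bsupp_permWord σ c⟩
  rw [hammingNorm_eq_card_bsupp, bsupp_permWord, Finset.card_image_of_injective _ σ.injective,
    ← hammingNorm_eq_card_bsupp, hk]

lemma mem_octads_of_codeSupps {o : Finset GolayPt} (ho : o ∈ codeSupps 8) : o ∈ Cfsg.octads := by
  rw [codeSupps_eight_eq, Cfsg.Agent.Lib.Helper09.mem_blocks] at ho
  exact ho

/-- The stabiliser of two points is transitive on the octads through them. -/
lemma octThrough_two_trans {a b : GolayPt} (hab : a ≠ b) {o o' : Finset GolayPt}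
    (ho : o ∈ octThrough {a, b}) (ho' : o' ∈ octThrough {a, b}) :
    ∃ σ ∈ M24, σ a = a ∧ σ b = b ∧ o.image σ = o' := by
  rw [mem_octThrough] at ho ho'
  have three : ∀ o : Finset GolayPt, o ∈ codeSupps 8 → ({a, b} : Finset GolayPt) ⊆ o →
      ∃ c d e, c ∈ o ∧ d ∈ o ∧ e ∈ o ∧ [a, b, c, d, e].Nodup := by
    intro o ho hab'
    obtain ⟨w, hw, hw8, rfl⟩ := (mem_codeSupps 8 o).mp ho
    have hcard : (bsupp w).card = 8 := by rw [← hammingNorm_eq_card_bsupp, hw8]
    have hbig : 3 ≤ ((bsupp w).erase a |>.erase b).card := by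
      have h1 := Finset.pred_card_le_card_erase (s := bsupp w) (a := a)
      have h2 := Finset.pred_card_le_card_erase (s := (bsupp w).erase a) (a := b)
      omega
    obtain ⟨u, hu, hu3⟩ := Finset.exists_subset_card_eq hbig
    obtain ⟨c, d, e, hcd, hce, hde, rfl⟩ := Finset.card_eq_three.mp hu3
    have hc := hu (show c ∈ ({c, d, e} : Finset GolayPt) by simp)
    have hd := hu (show d ∈ ({c, d, e} : Finset GolayPt) by simp)
    have he := hu (show e ∈ ({c, d, e} : Finset GolayPt) by simp)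
    rw [Finset.mem_erase, Finset.mem_erase] at hc hd he
    refine ⟨c, d, e, hc.2.2, hd.2.2, he.2.2, ?_⟩
    simp only [List.nodup_cons, List.mem_cons, List.not_mem_nil, not_or, or_false,
      List.nodup_nil, and_true, not_false_eq_true]
    exact ⟨⟨hab, hc.2.1.symm, hd.2.1.symm, he.2.1.symm⟩, ⟨hc.1.symm, hd.1.symm, he.1.symm⟩,
      ⟨hcd, hce⟩, hde⟩
  obtain ⟨c, d, e, hc, hd, he, hnd⟩ := three o ho.1 ho.2
  obtain ⟨c', d', e', hc', hd', he', hnd'⟩ := three o' ho'.1 ho'.2
  obtain ⟨σ, hσ, h1, h2, h3, h4, h5⟩ := m24_five_trans hnd hnd'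
  refine ⟨σ, hσ, h1, h2, ?_⟩
  apply Cfsg.Agent.Lib.Helper10.octad_eq_of_inter_ge
    (mem_octads_of_codeSupps (image_mem_codeSupps hσ ho.1)) (mem_octads_of_codeSupps ho'.1)
  have hsub : ({a, b, c', d', e'} : Finset GolayPt) ⊆ o.image σ ∩ o' := by
    intro q hq
    simp only [Finset.mem_insert, Finset.mem_singleton] at hq
    rw [Finset.mem_inter, Finset.mem_image]
    rcases hq with rfl | rfl | rfl | rfl | rfl
    · exact ⟨⟨q, ho.2 (by simp), h1⟩, ho'.2 (by simp)⟩
    · exact ⟨⟨q, ho.2 (by simp), h2⟩, ho'.2 (by simp)⟩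
    · exact ⟨⟨c, hc, h3⟩, hc'⟩
    · exact ⟨⟨d, hd, h4⟩, hd'⟩
    · exact ⟨⟨e, he, h5⟩, he'⟩
  have h5card : ({a, b, c', d', e'} : Finset GolayPt).card = 5 := by
    have := List.toFinset_card_of_nodup hnd'
    simpa using this
  calc 5 = ({a, b, c', d', e'} : Finset GolayPt).card := h5card.symm
    _ ≤ _ := Finset.card_le_card hsub

/-- The octad vectors among the hundred. -/
noncomputable def hsB : Finset (GolayPt → ℤ) :=
  (octThrough {none, some 0}).image fun o => pmVec 2 o ∅

/-- The vectors of odd type among the hundred. -/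
noncomputable def hsC : Finset (GolayPt → ℤ) :=
  (Finset.univ.filter fun p : GolayPt => p ≠ none ∧ p ≠ some 0).image fun p => oneVec {p} (-3)

lemma mem_hsSet_iff (y : GolayPt → ℤ) : y ∈ hsSet ↔ y = oa ∨ y ∈ hsB ∨ y ∈ hsC := by
  constructor
  · intro h
    have := hsSet_sub y h
    unfold hsFam at this
    rw [Finset.mem_union, Finset.mem_union, Finset.mem_singleton] at this
    rcases this with (h | h) | h
    · exact Or.inl h
    · exact Or.inr (Or.inl h)
    · exact Or.inr (Or.inr h)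
  · intro h
    apply hsFam_sub
    unfold hsFam
    rw [Finset.mem_union, Finset.mem_union, Finset.mem_singleton]
    rcases h with h | h | h
    · exact Or.inl (Or.inl h)
    · exact Or.inl (Or.inr h)
    · exact Or.inr h

lemma card_hsB : hsB.card = 77 := by
  unfold hsB
  rw [Finset.card_image_of_injOn, card_octThrough_two (by decide)]
  intro o _ o' _ h
  exact (pmVec_inj (a := 2) (by norm_num) (Finset.empty_subset _) (Finset.empty_subset _) h).1

lemma card_hsC : hsC.card = 22 := by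
  unfold hsC
  rw [Finset.card_image_of_injOn]
  · decide
  · intro p _ p' _ h
    have := oneVec_inj (b := -3) (by norm_num) h
    exact Finset.singleton_injective this

lemma dot_oa_hsB (y : GolayPt → ℤ) (hy : y ∈ hsB) : dotInt oa y = 16 := by
  unfold hsB at hy
  rw [Finset.mem_image] at hy
  obtain ⟨o, ho, rfl⟩ := hy
  rw [mem_octThrough] at ho
  rw [dotInt_oa, pmVec_apply, pmVec_apply, if_neg (Finset.notMem_empty _),
    if_neg (Finset.notMem_empty _), if_pos (ho.2 (by simp)), if_pos (ho.2 (by simp))]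
  norm_num

lemma dot_oa_hsC (y : GolayPt → ℤ) (hy : y ∈ hsC) : dotInt oa y = 8 := by
  unfold hsC at hy
  rw [Finset.mem_image] at hy
  obtain ⟨p, hp, rfl⟩ := hy
  rw [Finset.mem_filter] at hp
  rw [dotInt_oa, oneVec_apply, oneVec_apply, if_neg (by simpa using hp.2.1.symm),
    if_neg (by simpa using hp.2.2.symm)]
  norm_num

lemma dot_oa_oa : dotInt oa oa = 32 := by rw [dotInt_self, sqNorm_oa]

theorem ncard_hs_22 : {y : GolayPt → ℤ | y ∈ hsSet ∧ dotInt oa y = 8}.ncard = 22 := by
  have : {y : GolayPt → ℤ | y ∈ hsSet ∧ dotInt oa y = 8} = ↑hsC := by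
    ext y
    simp only [Set.mem_setOf_eq, Finset.mem_coe]
    rw [mem_hsSet_iff]
    constructor
    · rintro ⟨h | h | h, hd⟩
      · rw [h, dot_oa_oa] at hd; omega
      · rw [dot_oa_hsB y h] at hd; omega
      · exact h
    · intro h
      exact ⟨Or.inr (Or.inr h), dot_oa_hsC y h⟩
  rw [this, Set.ncard_coe_finset, card_hsC]

theorem ncard_hs_77 :
    {y : GolayPt → ℤ | y ∈ hsSet ∧ y ≠ oa ∧ dotInt oa y ≠ 8}.ncard = 77 := by
  have : {y : GolayPt → ℤ | y ∈ hsSet ∧ y ≠ oa ∧ dotInt oa y ≠ 8} = ↑hsB := by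
    ext y
    simp only [Set.mem_setOf_eq, Finset.mem_coe]
    rw [mem_hsSet_iff]
    constructor
    · rintro ⟨h | h | h, hne, hd⟩
      · exact absurd h hne
      · exact h
      · exact absurd (dot_oa_hsC y h) hd
    · intro h
      refine ⟨Or.inr (Or.inl h), ?_, ?_⟩
      · rintro rfl
        have := dot_oa_hsB _ h
        rw [dot_oa_oa] at this; omega
      · rw [dot_oa_hsB y h]; norm_num
  rw [this, Set.ncard_coe_finset, card_hsB]

/-- Transitivity of the monomial point stabiliser on each of the two families. -/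
theorem hs_rank3 (y y' : GolayPt → ℤ) (hy : y ∈ hsSet) (hy' : y' ∈ hsSet) (hne : y ≠ oa)
    (hne' : y' ≠ oa) (h : dotInt oa y = 8 ↔ dotInt oa y' = 8) :
    ∃ σ ∈ M24, σ none = none ∧ σ (some 0) = some 0 ∧ permVec σ y = y' := by
  rw [mem_hsSet_iff] at hy hy'
  rcases hy with hy | hy | hy
  · exact absurd hy hne
  · rcases hy' with hy' | hy' | hy'
    · exact absurd hy' hne'
    · unfold hsB at hy hy'
      rw [Finset.mem_image] at hy hy'
      obtain ⟨o, ho, rfl⟩ := hy
      obtain ⟨o', ho', rfl⟩ := hy'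
      obtain ⟨σ, hσ, h1, h2, h3⟩ := octThrough_two_trans (by decide) ho ho'
      refine ⟨σ, hσ, h1, h2, ?_⟩
      rw [permVec_pmVec, h3, Finset.image_empty]
    · exfalso
      have e1 := dot_oa_hsB _ hy
      have e2 := dot_oa_hsC _ hy'
      rw [e1, e2] at h
      have := h.mpr rfl
      omega
  · rcases hy' with hy' | hy' | hy'
    · exact absurd hy' hne'
    · exfalso
      have e1 := dot_oa_hsC _ hy
      have e2 := dot_oa_hsB _ hy'
      rw [e1, e2] at h
      have := h.mp rfl
      omega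
    · unfold hsC at hy hy'
      rw [Finset.mem_image] at hy hy'
      obtain ⟨p, hp, rfl⟩ := hy
      obtain ⟨p', hp', rfl⟩ := hy'
      rw [Finset.mem_filter] at hp hp'
      obtain ⟨σ, hσ, h1, h2, h3⟩ := m24_three_trans (a := none) (b := some 0) (c := p)
        (a' := none) (b' := some 0) (c' := p') (by decide) hp.2.1.symm hp.2.2.symm (by decide)
        hp'.2.1.symm hp'.2.2.symm
      refine ⟨σ, hσ, h1, h2, ?_⟩
      rw [permVec_oneVec, Finset.image_singleton, h3]

lemma hs_perm_fix {σ : Equiv.Perm GolayPt} (h1 : σ none = none) (h2 : σ (some 0) = some 0) :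
    permVec σ u5 = u5 ∧ permVec σ w5 = w5 ∧ permVec σ oa = oa := by
  refine ⟨?_, ?_, ?_⟩
  · unfold u5
    rw [permVec_oneVec, Finset.image_singleton, h1]
  · unfold w5
    have : permVec σ (-oneVec {some 0} 5) = -permVec σ (oneVec {some 0} 5) := by
      ext p; simp [permVec_apply]
    rw [this, permVec_oneVec, Finset.image_singleton, h2]
  · unfold oa
    rw [permVec_twoVec, h1, h2]

end Cfsg.Agent.Lib.Helper94
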