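import Mathlib
import Cfsg.Agent.Lib.Helper94.LeechCensus
import Cfsg.Agent.Lib.Helper94.LeechHS3

/-! The 11178 vectors of sum of squares 32 with inner product 16 with `(5, 1^23)`. -/

set_option autoImplicit false

namespace Cfsg.Agent.Lib.Helper94

open Cfsg
open Cfsg.Agent.Lib.Helper95

/-- The number of lattice vectors of sum of squares `N` with prescribed inner products with two
vectors. -/
noncomputable def cnt2 (a b : GolayPt → ℤ) (N ka kb : ℤ) : ℕ :=
  {w : GolayPt → ℤ | w ∈ leechLattice ∧ sqNorm w = N ∧ dotInt a w = ka ∧ dotInt b w = kb}.ncard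

lemma cnt2_conj {a b a' b' : GolayPt → ℤ} (h : Conj2 a b a' b') (N ka kb : ℤ) :
    cnt2 a b N ka kb = cnt2 a' b' N ka kb := by
  obtain ⟨g, hg, ha, hb, rfl, rfl⟩ := h
  unfold cnt2
  have h1 : {w : GolayPt → ℤ | w ∈ leechLattice ∧ sqNorm w = N ∧ dotInt a w = ka ∧
      dotInt b w = kb} =
      Subtype.val '' {x : leechLattice | sqNorm x.1 = N ∧ dotInt a x.1 = ka ∧
        dotInt b x.1 = kb} := by
    ext w
    constructor
    · rintro ⟨hw, h1, h2, h3⟩
      exact ⟨⟨w, hw⟩, ⟨h1, h2, h3⟩, rfl⟩
    · rintro ⟨x, ⟨h1, h2, h3⟩, rfl⟩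
      exact ⟨x.2, h1, h2, h3⟩
  rw [h1, Set.ncard_image_of_injective _ Subtype.val_injective]
  apply ncard_transfer g
  · intro x
    rw [hg.2, co0_dot g hg ⟨a, ha⟩ x, co0_dot g hg ⟨b, hb⟩ x]
    exact ⟨fun h => ⟨(g x).2, h⟩, fun h => h.2⟩
  · intro y hy
    exact hy.1

lemma cntG_eq_card' (A : Finset (GolayPt → ℤ)) (N : ℤ)
    (hA : ∀ x, x ∈ A ↔ x ∈ leechLattice ∧ sqNorm x = N) (u : GolayPt → ℤ) (k : ℤ) :
    cntG u N k = (A.filter fun w => dotInt u w = k).card := by
  unfold cntG
  rw [← Set.ncard_coe_finset]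
  congr 1
  ext w
  simp only [Set.mem_ofPred_eq, Finset.coe_filter, hA]
  tauto

lemma cnt2_eq_card (A : Finset (GolayPt → ℤ)) (N : ℤ)
    (hA : ∀ x, x ∈ A ↔ x ∈ leechLattice ∧ sqNorm x = N) (a b : GolayPt → ℤ) (ka kb : ℤ) :
    cnt2 a b N ka kb = (A.filter fun w => dotInt a w = ka ∧ dotInt b w = kb).card := by
  unfold cnt2
  rw [← Set.ncard_coe_finset]
  congr 1
  ext w
  simp only [Set.mem_ofPred_eq, Finset.coe_filter, hA]
  tauto

lemma cntG_neg' (u : GolayPt → ℤ) (N k : ℤ) : cntG u N (-k) = cntG u N k := by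
  unfold cntG
  apply Set.ncard_congr (fun w _ => -w)
  · rintro w ⟨hw, h1, h2⟩
    exact ⟨leechLattice.neg_mem hw, by rw [sqNorm_neg', h1], by rw [dotInt_neg_right', h2, neg_neg]⟩
  · intro w w' _ _ h
    exact neg_injective h
  · rintro w ⟨hw, h1, h2⟩
    exact ⟨-w, ⟨leechLattice.neg_mem hw, by rw [sqNorm_neg', h1],
      by rw [dotInt_neg_right', h2]⟩, neg_neg w⟩

/-- Half of the code words vanish at a given point. -/
lemma card_code_zero_at : (codeAll.filter fun c => c none = 0).card = 2048 := by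
  have h1 := Finset.card_filter_add_card_filter_not (s := codeAll) (fun c => c none = 0)
  rw [card_codeAll] at h1
  have h2 : (codeAll.filter fun c => ¬ c none = 0).card =
      (codeAll.filter fun c => c none = 0).card := by
    apply Finset.card_bij (fun c _ => c + 1)
    · intro c hc
      rw [Finset.mem_filter, mem_codeAll] at hc ⊢
      refine ⟨golayCode.add_mem hc.1 golayCode_one_mem, ?_⟩
      rcases Cfsg.Agent.S0391.zmod2_cases (c none) with h | h
      · exact absurd h hc.2
      · simp only [Pi.add_apply, Pi.one_apply, h]; decide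
    · intro c _ c' _ h
      exact add_right_cancel h
    · intro c hc
      rw [Finset.mem_filter, mem_codeAll] at hc
      refine ⟨c + 1, ?_, ?_⟩
      · rw [Finset.mem_filter, mem_codeAll]
        refine ⟨golayCode.add_mem hc.1 golayCode_one_mem, ?_⟩
        simp only [Pi.add_apply, Pi.one_apply, hc.2]; decide
      · ext q
        simp only [Pi.add_apply, Pi.one_apply]
        rcases Cfsg.Agent.S0391.zmod2_cases (c q) with h | h <;> rw [h] <;> decide
  omega

/-- The vectors of sum of squares 48 with entry 5 at the base point. -/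
lemma cnt2048 : cntG (vec8 none) 48 40 = 2048 := by
  unfold cntG
  have : {w : GolayPt → ℤ | w ∈ leechLattice ∧ sqNorm w = 48 ∧ dotInt (vec8 none) w = 40} =
      ↑((codeAll.filter fun c => c none = 0).image fun c => signVec c u5) := by
    ext w
    simp only [Set.mem_ofPred_eq, Finset.coe_image, Set.mem_image, Finset.mem_coe,
      Finset.mem_filter, mem_codeAll]
    constructor
    · rintro ⟨hw, nw, hd⟩
      rw [dotInt_comm', dotInt_vec8] at hd
      obtain ⟨c, hc, hc0, he⟩ := eq_of_entry_five w hw nw none (by omega)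
      exact ⟨c, ⟨hc, hc0⟩, he.symm⟩
    · rintro ⟨c, ⟨hc, hc0⟩, rfl⟩
      refine ⟨signVec_mem hc _ u5_memL, by rw [sqNorm_signVec, sqNorm_u5], ?_⟩
      rw [dotInt_comm', dotInt_vec8, signVec_apply, sgnOf_zero hc0]
      unfold u5
      rw [oneVec_apply, if_pos (Finset.mem_singleton_self _)]
      norm_num
  rw [this, Set.ncard_coe_finset, Finset.card_image_of_injOn, card_code_zero_at]
  intro c _ c' _ h
  exact (signVec_inj_of_one_mod_four (fun i => oneVec_mod _ (by decide) i)
    (fun i => oneVec_mod _ (by decide) i) h).1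

/-- The number of frame vectors with inner product 40 with a vector of sum of squares 48. -/
theorem cnt48600 : cntG u5 64 40 = 48600 := by
  classical
  have hdc := Finset.sum_card_bipartiteAbove_eq_sum_card_bipartiteBelow (s := A6) (t := A8)
    (fun u y => dotInt u y = 40)
  have hL : ∀ u ∈ A6, (A8.bipartiteAbove (fun u y => dotInt u y = 40) u).card = cntG u5 64 40 := by
    intro u hu
    have hu' := (mem_A6 u).mp hu
    show (A8.filter fun y => dotInt u y = 40).card = _
    rw [← cntG_eq_card' A8 64 mem_A8, cntG_conj (conj_u5 u hu'.1 hu'.2)]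
  have hR : ∀ y ∈ A8, (A6.bipartiteBelow (fun u y => dotInt u y = 40) y).card = 2048 := by
    intro y hy
    have hy' := (mem_A8 y).mp hy
    show (A6.filter fun u => dotInt u y = 40).card = _
    have c1 := conj_norm64 y hy'.1 hy'.2
    rw [e8_eq_vec8] at c1
    rw [← cnt2048, ← cntG_conj c1, cntG_eq_card' A6 48 mem_A6]
    congr 1
    apply Finset.filter_congr
    intro u _
    rw [dotInt_comm']
  rw [Finset.sum_congr rfl hL, Finset.sum_congr rfl hR, Finset.sum_const, Finset.sum_const,
    card_A6, card_A8] at hdc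
  simp only [smul_eq_mul] at hdc
  omega

/-- A frame vector and a vector of sum of squares 48 with inner product 40: normal form. -/
lemma conj2_frame40 (y u : GolayPt → ℤ) (hy : y ∈ leechLattice) (hu : u ∈ leechLattice)
    (ny : sqNorm y = 64) (nu : sqNorm u = 48) (hd : dotInt y u = 40) :
    Conj2 y u (vec8 none) u5 := by
  have c1 := conj_norm64 y hy ny
  rw [e8_eq_vec8] at c1
  obtain ⟨u1, c2⟩ := conj2_of_conj c1 hu
  have hu1L := c2.right.mem_right
  have nu1 : sqNorm u1 = 48 := by rw [c2.right.sqNorm_eq, nu]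
  have d1 : dotInt (vec8 none) u1 = 40 := by rw [c2.dot_eq, hd]
  rw [dotInt_comm', dotInt_vec8] at d1
  obtain ⟨c, hc, hc0, hu1e⟩ := eq_of_entry_five u1 hu1L nu1 none (by omega)
  have c4 := conj2_sign hc (vec8_mem none) hu1L
  have hu2 : signVec c u1 = u5 := by rw [hu1e, signVec_signVec]; rfl
  rw [hu2, signVec_vec8 hc0] at c4
  exact c2.trans c4

/-- For the standard pair of a frame vector and `(5, 1^23)`: the 23 vectors. -/
lemma cnt23 : cnt2 (vec8 none) u5 32 32 24 = 23 := by
  unfold cnt2
  have : {w : GolayPt → ℤ | w ∈ leechLattice ∧ sqNorm w = 32 ∧ dotInt (vec8 none) w = 32 ∧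
      dotInt u5 w = 24} = ↑f552A := by
    ext w
    simp only [Set.mem_ofPred_eq, Finset.mem_coe]
    constructor
    · rintro ⟨hw, nw, hd, hd'⟩
      rw [dotInt_comm', dotInt_vec8] at hd
      obtain ⟨j, hj, hcase⟩ := eq_twoVec_of_entry_four w hw nw none (by omega)
      unfold f552A
      rw [Finset.mem_image]
      refine ⟨j, by rw [Finset.mem_filter]; exact ⟨Finset.mem_univ _, Ne.symm hj⟩, ?_⟩
      rcases hcase with h | h
      · exact h.symm
      · exfalso
        rw [h, dotInt_twoVec] at hd'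
        unfold u5 at hd'
        rw [oneVec_apply, oneVec_apply, if_pos (Finset.mem_singleton_self _),
          if_neg (by simpa using hj.symm)] at hd'
        norm_num at hd'
    · intro hw
      have h1 := f552_sub w (by
        unfold f552
        rw [Finset.mem_union, Finset.mem_union, Finset.mem_union]
        exact Or.inl (Or.inl (Or.inl hw)))
      refine ⟨h1.1, h1.2.1, ?_, h1.2.2⟩
      rw [dotInt_comm', dotInt_vec8, val_f552A w hw]
      norm_num
  rw [this, Set.ncard_coe_finset, card_f552A]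

/-- For the standard pair `((5, 1^23), (4, -4, 0, …))`: the hundred vectors. -/
lemma cnt100 : cnt2 u5 ob 32 24 0 = 100 := by
  unfold cnt2
  rw [← ncard_hsSet]
  congr 1
  ext w
  unfold hsSet
  simp only [Set.mem_ofPred_eq]
  have : dotInt w5 w = dotInt ob w - dotInt u5 w := by
    rw [← ob_sub_u5, dotInt_sub_left']
  rw [this]
  constructor
  · rintro ⟨a, b, c, d⟩
    exact ⟨a, b, c, by rw [c, d]; norm_num⟩
  · rintro ⟨a, b, c, d⟩
    exact ⟨a, b, c, by rw [c] at d; linarith⟩

/-- The count of inner product 16 with `(5, 1^23)`. -/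
theorem cnt11178 : cntG u5 32 16 = 11178 := by
  classical
  set FZ := A4.filter fun z => dotInt u5 z = 16 with hFZ
  set F' := A4.filter fun z' => dotInt u5 z' = 24 with hF'
  set FY := A8.filter fun y => dotInt u5 y = 40 with hFY
  have hN : FZ.card = cntG u5 32 16 := (cntG_eq_card' A4 32 mem_A4 u5 16).symm
  have hD : FY.card = 48600 := by rw [← cnt48600]; exact (cntG_eq_card' A8 64 mem_A8 u5 40).symm
  have dc1 := Finset.sum_card_bipartiteAbove_eq_sum_card_bipartiteBelow (s := FZ) (t := F')
    (fun z z' => dotInt z z' = 0)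
  have dc2 := Finset.sum_card_bipartiteAbove_eq_sum_card_bipartiteBelow (s := FY) (t := F')
    (fun y z' => dotInt y z' = 32)
  -- each `z` has a hundred partners
  have h1 : ∀ z ∈ FZ, (F'.bipartiteAbove (fun z z' => dotInt z z' = 0) z).card = 100 := by
    intro z hz
    rw [hFZ, Finset.mem_filter, mem_A4] at hz
    show (F'.filter fun z' => dotInt z z' = 0).card = 100
    rw [hF', Finset.filter_filter, ← cnt2_eq_card A4 32 mem_A4 u5 z 24 0,
      cnt2_conj (conj2_48 u5 z u5_memL hz.1.1 sqNorm_u5 hz.1.2 hz.2), cnt100]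
  -- each `y` has 23 partners
  have h2 : ∀ y ∈ FY, (F'.bipartiteAbove (fun y z' => dotInt y z' = 32) y).card = 23 := by
    intro y hy
    rw [hFY, Finset.mem_filter, mem_A8] at hy
    show (F'.filter fun z' => dotInt y z' = 32).card = 23
    rw [hF', Finset.filter_filter]
    have c1 := conj2_frame40 y u5 hy.1.1 u5_memL hy.1.2 sqNorm_u5 (by rw [dotInt_comm']; exact hy.2)
    refine Eq.trans ?_ cnt23
    rw [← cnt2_conj c1, cnt2_eq_card A4 32 mem_A4]
    congr 1
    apply Finset.filter_congr
    intro w _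
    tauto
  -- the two fibres over `z'` correspond
  have h3 : ∀ z' ∈ F', (FZ.bipartiteBelow (fun z z' => dotInt z z' = 0) z').card =
      (FY.bipartiteBelow (fun y z' => dotInt y z' = 32) z').card := by
    intro z' hz'
    rw [hF', Finset.mem_filter, mem_A4] at hz'
    show (FZ.filter fun z => dotInt z z' = 0).card = (FY.filter fun y => dotInt y z' = 32).card
    rw [← Finset.card_image_of_injective (FZ.filter fun z => dotInt z z' = 0)
      (add_left_injective z')]
    congr 1
    ext y
    rw [Finset.mem_image, Finset.mem_filter, hFY, Finset.mem_filter, mem_A8]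
    constructor
    · rintro ⟨z, hz, rfl⟩
      rw [Finset.mem_filter, hFZ, Finset.mem_filter, mem_A4] at hz
      refine ⟨⟨⟨leechLattice.add_mem hz.1.1.1 hz'.1.1, ?_⟩, ?_⟩, ?_⟩
      · rw [sqNorm_add, hz.1.1.2, hz'.1.2, hz.2]; norm_num
      · rw [dotInt_add_right', hz.1.2, hz'.2]; norm_num
      · rw [dotInt_add_left', hz.2, dotInt_self, hz'.1.2]; norm_num
    · rintro ⟨⟨⟨hyL, ny⟩, hd⟩, hd'⟩
      refine ⟨y - z', ?_, by abel⟩
      rw [Finset.mem_filter, hFZ, Finset.mem_filter, mem_A4]
      refine ⟨⟨⟨leechLattice.sub_mem hyL hz'.1.1, ?_⟩, ?_⟩, ?_⟩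
      · rw [sqNorm_sub, ny, hz'.1.2, hd']; norm_num
      · rw [dotInt_sub_right', hd, hz'.2]; norm_num
      · rw [dotInt_sub_left', hd', dotInt_self, hz'.1.2]; norm_num
  rw [Finset.sum_congr rfl h1, Finset.sum_const, smul_eq_mul] at dc1
  rw [Finset.sum_congr rfl h2, Finset.sum_const, smul_eq_mul] at dc2
  rw [Finset.sum_congr rfl h3, ← dc2, hD, hN] at dc1
  omega

end Cfsg.Agent.Lib.Helper94
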