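import Mathlib
import Cfsg.Agent.Lib.Helper94.Leech11178

/-! Octads meeting a given octad in four points or not at all. -/

set_option autoImplicit false

namespace Cfsg.Agent.Lib.Helper94

open Cfsg
open Cfsg.Agent.Lib.Helper95
open Cfsg.Agent.Lib.Helper09 (blocks mem_blocks card_blocks_through_eq)

lemma card_octThrough_four (S : Finset GolayPt) (hS : S.card = 4) : (octThrough S).card = 5 := by
  unfold octThrough
  rw [codeSupps_eight_eq]
  exact card_blocks_through_eq octads_st 4 5 (by norm_num) (by decide)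
    (by rw [golayPt_card]; decide) S hS

lemma card_octThrough_five (S : Finset GolayPt) (hS : S.card = 5) : (octThrough S).card = 1 := by
  unfold octThrough
  rw [codeSupps_eight_eq]
  exact card_blocks_through_eq octads_st 5 1 (by norm_num) (by decide)
    (by rw [golayPt_card]; decide) S hS

lemma card_of_codeSupps {k : ℕ} {o : Finset GolayPt} (ho : o ∈ codeSupps k) : o.card = k := by
  obtain ⟨c, -, hk, rfl⟩ := (mem_codeSupps k o).mp ho
  rw [← hammingNorm_eq_card_bsupp, hk]

/-- Two different octads through a set of four points meet exactly in it. -/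
lemma inter_eq_of_four {S o o' : Finset GolayPt} (hS : S.card = 4) (ho : o ∈ octThrough S)
    (ho' : o' ∈ octThrough S) (hne : o ≠ o') : o ∩ o' = S := by
  rw [mem_octThrough] at ho ho'
  have hsub : S ⊆ o ∩ o' := Finset.subset_inter ho.2 ho'.2
  have hle : (o ∩ o').card ≤ 4 := by
    by_contra h
    push Not at h
    exact hne (Cfsg.Agent.Lib.Helper10.octad_eq_of_inter_ge (mem_octads_of_codeSupps ho.1)
      (mem_octads_of_codeSupps ho'.1) h)
  exact (Finset.eq_of_subset_of_card_le hsub (by rw [hS]; exact hle)).symm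

/-- An octad meeting a given octad in exactly four points and avoiding two of its points. -/
lemma exists_octad_meet_four {o : Finset GolayPt} (ho : o ∈ codeSupps 8) {a b : GolayPt}
    (hab : a ≠ b) (ha : a ∈ o) (hb : b ∈ o) :
    ∃ o' ∈ codeSupps 8, (o ∩ o').card = 4 ∧ a ∉ o' ∧ b ∉ o' := by
  have hcard := card_of_codeSupps ho
  have h6 : ((o.erase a).erase b).card = 6 := by
    rw [Finset.card_erase_of_mem (Finset.mem_erase.mpr ⟨Ne.symm hab, hb⟩),
      Finset.card_erase_of_mem ha, hcard]
  obtain ⟨S, hSsub, hS⟩ := Finset.exists_subset_card_eq (s := (o.erase a).erase b) (n := 4)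
    (by rw [h6]; norm_num)
  have hSo : S ⊆ o := fun q hq => Finset.mem_of_mem_erase (Finset.mem_of_mem_erase (hSsub hq))
  have hoS : o ∈ octThrough S := (mem_octThrough S o).mpr ⟨ho, hSo⟩
  obtain ⟨o', ho', hne⟩ := Finset.exists_mem_ne (by rw [card_octThrough_four S hS]; norm_num) o
  have hint := inter_eq_of_four hS hoS ho' (Ne.symm hne)
  refine ⟨o', ((mem_octThrough S o').mp ho').1, by rw [hint, hS], ?_, ?_⟩
  · intro h
    have : a ∈ S := by rw [← hint]; exact Finset.mem_inter.mpr ⟨ha, h⟩
    have := hSsub this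
    simp at this
  · intro h
    have : b ∈ S := by rw [← hint]; exact Finset.mem_inter.mpr ⟨hb, h⟩
    have := hSsub this
    simp at this

/-- An octad disjoint from a given octad and avoiding a given point. -/
lemma exists_octad_disjoint {o : Finset GolayPt} (ho : o ∈ codeSupps 8) {p : GolayPt}
    (hp : p ∉ o) : ∃ o' ∈ codeSupps 8, Disjoint o o' ∧ p ∉ o' := by
  classical
  have hcard := card_of_codeSupps ho
  obtain ⟨S, hSo, hS⟩ := Finset.exists_subset_card_eq (s := o) (n := 4) (by rw [hcard]; norm_num)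
  have hoS : o ∈ octThrough S := (mem_octThrough S o).mpr ⟨ho, hSo⟩
  have hpS : p ∉ S := fun h => hp (hSo h)
  set E := (octThrough S).erase o with hE
  have hEc : E.card = 4 := by rw [hE, Finset.card_erase_of_mem hoS, card_octThrough_four S hS]
  have hle : (E.filter fun o' => p ∈ o').card ≤ 1 := by
    rw [← card_octThrough_five (insert p S) (by rw [Finset.card_insert_of_notMem hpS, hS])]
    apply Finset.card_le_card
    intro o' ho'
    rw [Finset.mem_filter, hE, Finset.mem_erase, mem_octThrough] at ho'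
    rw [mem_octThrough]
    exact ⟨ho'.1.2.1, Finset.insert_subset ho'.2 ho'.1.2.2⟩
  have hsum := Finset.card_filter_add_card_filter_not (s := E) (fun o' => p ∈ o')
  have h2 : 1 < (E.filter fun o' => ¬ p ∈ o').card := by omega
  obtain ⟨o1, ho1, o2, ho2, h12⟩ := Finset.one_lt_card.mp h2
  rw [Finset.mem_filter, hE, Finset.mem_erase] at ho1 ho2
  have i1 := inter_eq_of_four hS hoS ho1.1.2 (Ne.symm ho1.1.1)
  have i2 := inter_eq_of_four hS hoS ho2.1.2 (Ne.symm ho2.1.1)
  have i12 := inter_eq_of_four hS ho1.1.2 ho2.1.2 h12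
  obtain ⟨c1, hc1, hn1, hb1⟩ := (mem_codeSupps 8 o1).mp ((mem_octThrough S o1).mp ho1.1.2).1
  obtain ⟨c2, hc2, hn2, hb2⟩ := (mem_codeSupps 8 o2).mp ((mem_octThrough S o2).mp ho2.1.2).1
  refine ⟨bsupp (c1 + c2), ?_, ?_, ?_⟩
  · rw [mem_codeSupps]
    refine ⟨c1 + c2, golayCode.add_mem hc1 hc2, ?_, rfl⟩
    have := hammingNorm_add_zmod2 c1 c2
    rw [hb1, hb2, i12, hS, hn1, hn2] at this
    omega
  · rw [Finset.disjoint_left]
    intro q hqo hq
    rw [bsupp_add, hb1, hb2, Finset.mem_symmDiff] at hq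
    rcases hq with ⟨h1, h2⟩ | ⟨h1, h2⟩
    · have : q ∈ S := by rw [← i1]; exact Finset.mem_inter.mpr ⟨hqo, h1⟩
      exact h2 (((mem_octThrough S o2).mp ho2.1.2).2 this)
    · have : q ∈ S := by rw [← i2]; exact Finset.mem_inter.mpr ⟨hqo, h1⟩
      exact h2 (((mem_octThrough S o1).mp ho1.1.2).2 this)
  · intro hq
    rw [bsupp_add, hb1, hb2, Finset.mem_symmDiff] at hq
    rcases hq with ⟨h1, -⟩ | ⟨h1, -⟩
    · exact ho1.2 h1
    · exact ho2.2 h1

end Cfsg.Agent.Lib.Helper94
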