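import Mathlib
import Cfsg.Agent.Lib.Helper94.LeechMcL

/-! The 275 vectors of the McLaughlin configuration for the standard pair. -/

set_option autoImplicit false

namespace Cfsg.Agent.Lib.Helper94

open Cfsg
open Cfsg.Agent.Lib.Helper95

/-- The 275 vectors. -/
def mcSet : Set (GolayPt → ℤ) :=
  {x | x ∈ leechLattice ∧ sqNorm x = 32 ∧ dotInt u5 x = 24 ∧ dotInt oa x = 16}

noncomputable def mcA : Finset (GolayPt → ℤ) :=
  (Finset.univ.filter fun j : GolayPt => j ≠ none ∧ j ≠ some 0).image fun j => twoVec none j 4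

noncomputable def mcC : Finset (GolayPt → ℤ) :=
  ((codeWords 8).filter fun c => c none = 1 ∧ c (some 0) = 0).image
    fun c => signVec c (oneVec {none} (-3))

lemma mcA_sub {x : GolayPt → ℤ} (hx : x ∈ mcA) : x ∈ f552A := by
  unfold mcA at hx
  unfold f552A
  rw [Finset.mem_image] at hx ⊢
  obtain ⟨j, hj, rfl⟩ := hx
  rw [Finset.mem_filter] at hj
  exact ⟨j, by rw [Finset.mem_filter]; exact ⟨Finset.mem_univ _, hj.2.1⟩, rfl⟩

lemma hsB_sub {x : GolayPt → ℤ} (hx : x ∈ hsB) : x ∈ f552B := by
  unfold hsB at hx
  unfold f552B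
  rw [Finset.mem_image] at hx ⊢
  obtain ⟨o, ho, rfl⟩ := hx
  rw [mem_octThrough] at ho
  refine ⟨o, ?_, rfl⟩
  rw [mem_octThrough]
  exact ⟨ho.1, fun q hq => ho.2 (by rw [Finset.mem_singleton] at hq; rw [hq]; simp)⟩

lemma mcC_sub {x : GolayPt → ℤ} (hx : x ∈ mcC) : x ∈ f552C := by
  unfold mcC at hx
  unfold f552C
  rw [Finset.mem_image] at hx ⊢
  obtain ⟨c, hc, rfl⟩ := hx
  rw [Finset.mem_filter] at hc
  exact ⟨c, by rw [Finset.mem_filter]; exact ⟨hc.1, hc.2.1⟩, rfl⟩

lemma mem_set552_iff (x : GolayPt → ℤ) : x ∈ set552 ↔ x ∈ f552 :=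
  ⟨fun h => set552_sub x h, fun h => f552_sub x h⟩

lemma mem_mcSet_iff (x : GolayPt → ℤ) : x ∈ mcSet ↔ x ∈ mcA ∨ x ∈ hsB ∨ x ∈ mcC := by
  constructor
  · rintro ⟨hxL, nx, h1, h2⟩
    have hx : x ∈ f552 := set552_sub x ⟨hxL, nx, h1⟩
    rw [dotInt_oa] at h2
    unfold f552 at hx
    rw [Finset.mem_union, Finset.mem_union, Finset.mem_union] at hx
    rcases hx with ((hx | hx) | hx) | hx
    · left
      have hv := val_f552A x hx
      unfold f552A at hx
      unfold mcA
      rw [Finset.mem_image] at hx ⊢
      obtain ⟨j, hj, rfl⟩ := hx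
      rw [Finset.mem_filter] at hj
      refine ⟨j, ?_, rfl⟩
      rw [Finset.mem_filter]
      refine ⟨Finset.mem_univ _, hj.2, ?_⟩
      rintro rfl
      rw [twoVec_apply_right (by decide)] at h2
      omega
    · right; left
      have hv := val_f552B x hx
      unfold f552B at hx
      unfold hsB
      rw [Finset.mem_image] at hx ⊢
      obtain ⟨o, ho, rfl⟩ := hx
      rw [mem_octThrough] at ho
      refine ⟨o, ?_, rfl⟩
      rw [mem_octThrough]
      refine ⟨ho.1, ?_⟩
      have h0 : some 0 ∈ o := by
        by_contra hn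
        rw [hv, pmVec_apply, if_neg (Finset.notMem_empty _), if_neg hn] at h2
        omega
      intro q hq
      rw [Finset.mem_insert, Finset.mem_singleton] at hq
      rcases hq with rfl | rfl
      · exact ho.2 (Finset.mem_singleton_self _)
      · exact h0
    · right; right
      have hv := val_f552C x hx
      unfold f552C at hx
      unfold mcC
      rw [Finset.mem_image] at hx ⊢
      obtain ⟨c, hc, rfl⟩ := hx
      rw [Finset.mem_filter] at hc
      refine ⟨c, ?_, rfl⟩
      rw [Finset.mem_filter]
      refine ⟨hc.1, hc.2, ?_⟩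
      rcases Cfsg.Agent.S0391.zmod2_cases (c (some 0)) with h0 | h0
      · exact h0
      · exfalso
        rw [hv, signVec_apply, sgnOf_one h0, oneVec_apply,
          if_neg (by simp)] at h2
        omega
    · exfalso
      have hv := val_f552D x hx
      unfold f552D at hx
      rw [Finset.mem_image] at hx
      obtain ⟨j, hj, rfl⟩ := hx
      rw [hv, oneVec_apply] at h2
      split_ifs at h2 <;> omega
  · intro h
    rcases h with h | h | h
    · have h5 := f552_sub x (by
        unfold f552
        rw [Finset.mem_union, Finset.mem_union, Finset.mem_union]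
        exact Or.inl (Or.inl (Or.inl (mcA_sub h))))
      refine ⟨h5.1, h5.2.1, h5.2.2, ?_⟩
      rw [dotInt_oa, val_f552A x (mcA_sub h)]
      unfold mcA at h
      rw [Finset.mem_image] at h
      obtain ⟨j, hj, rfl⟩ := h
      rw [Finset.mem_filter] at hj
      unfold twoVec
      simp [Pi.single_apply, hj.2.2.symm]
    · have h5 := f552_sub x (by
        unfold f552
        rw [Finset.mem_union, Finset.mem_union, Finset.mem_union]
        exact Or.inl (Or.inl (Or.inr (hsB_sub h))))
      exact ⟨h5.1, h5.2.1, h5.2.2, dot_oa_hsB x h⟩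
    · have h5 := f552_sub x (by
        unfold f552
        rw [Finset.mem_union, Finset.mem_union, Finset.mem_union]
        exact Or.inl (Or.inr (mcC_sub h)))
      refine ⟨h5.1, h5.2.1, h5.2.2, ?_⟩
      rw [dotInt_oa, val_f552C x (mcC_sub h)]
      unfold mcC at h
      rw [Finset.mem_image] at h
      obtain ⟨c, hc, rfl⟩ := h
      rw [Finset.mem_filter] at hc
      rw [signVec_apply, sgnOf_zero hc.2.2, oneVec_apply, if_neg (by simp)]
      norm_num

lemma card_mcA : mcA.card = 22 := by
  unfold mcA
  rw [Finset.card_image_of_injOn]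
  · decide
  · intro j hj j' hj' h
    simp only [Finset.coe_filter, Finset.mem_univ, true_and, Set.mem_ofPred_eq] at hj hj'
    by_contra hne
    have := congrFun h j
    simp only [] at this
    rw [twoVec_apply_right (Ne.symm hj.1)] at this
    unfold twoVec at this
    simp [Pi.single_apply, hj.1, hne] at this

lemma card_words_through_two :
    ((codeWords 8).filter fun c => c none = 1 ∧ c (some 0) = 1).card = 77 := by
  rw [← card_octThrough_two (show (none : GolayPt) ≠ some 0 by decide),
    ← Finset.card_image_of_injective _ bsupp_injective]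
  congr 1
  ext o
  rw [Finset.mem_image, mem_octThrough, mem_codeSupps]
  constructor
  · rintro ⟨c, hc, rfl⟩
    rw [Finset.mem_filter, mem_codeWords] at hc
    refine ⟨⟨c, hc.1.1, hc.1.2, rfl⟩, ?_⟩
    intro q hq
    rw [Finset.mem_insert, Finset.mem_singleton] at hq
    rcases hq with rfl | rfl
    · rw [mem_bsupp]; exact hc.2.1
    · rw [mem_bsupp]; exact hc.2.2
  · rintro ⟨⟨c, hc, h8, rfl⟩, hsub⟩
    refine ⟨c, ?_, rfl⟩
    rw [Finset.mem_filter, mem_codeWords]
    exact ⟨⟨hc, h8⟩, (mem_bsupp c none).mp (hsub (by simp)),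
      (mem_bsupp c (some 0)).mp (hsub (by simp))⟩

lemma card_mcC : mcC.card = 176 := by
  classical
  unfold mcC
  rw [Finset.card_image_of_injOn]
  · have h1 := card_words_through
    have h2 := card_words_through_two
    have h3 := Finset.card_filter_add_card_filter_not
      (s := (codeWords 8).filter fun c => c none = 1) (fun c => c (some 0) = 0)
    rw [Finset.filter_filter, Finset.filter_filter, h1] at h3
    have h4 : ((codeWords 8).filter fun c => c none = 1 ∧ ¬ c (some 0) = 0) =
        (codeWords 8).filter fun c => c none = 1 ∧ c (some 0) = 1 := by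
      apply Finset.filter_congr
      intro c _
      rcases Cfsg.Agent.S0391.zmod2_cases (c (some 0)) with h0 | h0 <;> simp [h0]
    rw [h4, h2] at h3
    omega
  · intro c _ c' _ h
    exact (signVec_inj_of_one_mod_four (fun i => oneVec_mod _ (by decide) i)
      (fun i => oneVec_mod _ (by decide) i) h).1

/-- The union of the three families. -/
noncomputable def mcFam : Finset (GolayPt → ℤ) := mcA ∪ hsB ∪ mcC

lemma mem_mcFam (x : GolayPt → ℤ) : x ∈ mcFam ↔ x ∈ mcSet := by
  unfold mcFam
  rw [mem_mcSet_iff, Finset.mem_union, Finset.mem_union, or_assoc]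

lemma card_mcFam : mcFam.card = 275 := by
  unfold mcFam
  rw [Finset.card_union_of_disjoint, Finset.card_union_of_disjoint, card_mcA, card_hsB, card_mcC]
  · rw [Finset.disjoint_left]
    intro x hx hx'
    have := val_f552A x (mcA_sub hx)
    have := val_f552B x (hsB_sub hx')
    omega
  · rw [Finset.disjoint_left]
    intro x hx hx'
    have h3 := val_f552C x (mcC_sub hx')
    rw [Finset.mem_union] at hx
    rcases hx with hx | hx
    · have := val_f552A x (mcA_sub hx); omega
    · have := val_f552B x (hsB_sub hx); omega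

theorem ncard_mcSet : mcSet.ncard = 275 := by
  have : mcSet = ↑mcFam := by
    ext x
    rw [Finset.mem_coe, mem_mcFam]
  rw [this, Set.ncard_coe_finset, card_mcFam]

end Cfsg.Agent.Lib.Helper94
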