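import Mathlib
import Cfsg.Agent.Lib.Helper94.LeechMcL2

/-! Normal forms for the McLaughlin configuration and transitivity on the 275 vectors. -/

set_option autoImplicit false

namespace Cfsg.Agent.Lib.Helper94

open Cfsg
open Cfsg.Agent.Lib.Helper95

/-- The third standard vector. -/
def oc : GolayPt → ℤ := twoVec none (some 1) 4

lemma Conj2.add_right {x y x' y' : GolayPt → ℤ} (h : Conj2 x y x' y') :
    Conj2 x (y + x) x' (y' + x') := by
  obtain ⟨g, hg, hx, hy, h1, h2⟩ := h
  refine ⟨g, hg, hx, leechLattice.add_mem hy hx, h1, ?_⟩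
  have : (⟨y + x, leechLattice.add_mem hy hx⟩ : leechLattice) = ⟨y, hy⟩ + ⟨x, hx⟩ := rfl
  rw [this, hg.1, ← h1, ← h2]
  rfl

lemma permVec_u5 {σ : Equiv.Perm GolayPt} (h : σ none = none) : permVec σ u5 = u5 := by
  unfold u5
  rw [permVec_oneVec, Finset.image_singleton, h]

lemma twoVec_comm (i j : GolayPt) : twoVec i j 4 = twoVec j i 4 := by
  unfold twoVec
  rw [add_comm]

lemma oa_add_om : om + oa = oneVec {some 0} 5 := by
  unfold oa om twoVec
  ext p
  simp only [Pi.add_apply, Pi.single_apply, oneVec_apply, Finset.mem_singleton]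
  by_cases h1 : p = none
  · subst h1; simp
  · by_cases h2 : p = some 0
    · subst h2; simp
    · simp [h1, h2]

/-- Normal form of a pair `(u, v)` of sums of squares 48 and 32 with inner product 24. -/
theorem conj2_mcl (u v : GolayPt → ℤ) (hu : u ∈ leechLattice) (hv : v ∈ leechLattice)
    (nu : sqNorm u = 48) (nv : sqNorm v = 32) (hd : dotInt u v = 24) : Conj2 u v u5 oa := by
  have hw : u - v ∈ leechLattice := leechLattice.sub_mem hu hv
  have nw : sqNorm (u - v) = 32 := by rw [sqNorm_sub, nu, nv, hd]; norm_num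
  have hdw : dotInt v (u - v) = -8 := by
    rw [dotInt_sub_right', dotInt_self, nv, dotInt_comm', hd]; norm_num
  have c1 := (conj2_m8 v (u - v) hv hw nv nw hdw).add_right
  have e1 : u - v + v = u := by abel
  rw [e1, oa_add_om] at c1
  have c2 := c1.swap
  obtain ⟨σ, hσ, hσ1, hσ2⟩ := m24_two_trans (show (none : GolayPt) ≠ some 0 by decide)
    (show (some 0 : GolayPt) ≠ none by decide)
  have c3 := conj2_perm hσ c2.left.mem_right oa_mem
  have e2 : permVec σ (oneVec {some 0} 5) = u5 := by
    unfold u5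
    rw [permVec_oneVec, Finset.image_singleton, hσ2]
  have e3 : permVec σ oa = oa := by
    unfold oa
    rw [permVec_twoVec, hσ1, hσ2, twoVec_comm]
  rw [e2, e3] at c3
  exact c2.trans c3

lemma dotInt_u5_oa : dotInt u5 oa = 24 := by
  rw [dotInt_u5, sum_oa]
  unfold oa
  rw [twoVec_apply_left (by decide)]
  norm_num

/-- From a frame vector to the normal form of the triple. -/
theorem conj3_of_frame_mcl (y u v x : GolayPt → ℤ) (hyL : y ∈ leechLattice)
    (huL : u ∈ leechLattice) (hvL : v ∈ leechLattice) (hxL : x ∈ leechLattice)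
    (ny : sqNorm y = 64) (nu : sqNorm u = 48) (nv : sqNorm v = 32) (nx : sqNorm x = 32)
    (hyu : dotInt y u = 40) (hyv : dotInt y v = 32) (hyx : dotInt y x = 32)
    (huv : dotInt u v = 24) (hux : dotInt u x = 24) (hvx : dotInt v x = 16) :
    Conj3 u v x u5 oa oc := by
  obtain ⟨s, hs, hds, c3⟩ := conj3_of_frame48 y u v hyL huL hvL ny nu nv hyu hyv
  have hs4 : s = 4 := by omega
  subst hs4
  obtain ⟨g, hg, hy', hu', hv', e1, e2, e3⟩ := c3
  set x' : leechLattice := g ⟨x, hxL⟩ with hx'
  have nx' : sqNorm x'.1 = 32 := by rw [hx', hg.2]; exact nx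
  have d1 : dotInt (vec8 none) x'.1 = 32 := by rw [← e1, hx', co0_dot g hg]; exact hyx
  have d2 : dotInt u5 x'.1 = 24 := by rw [← e2, hx', co0_dot g hg]; exact hux
  have d3 : dotInt oa x'.1 = 16 := by
    unfold oa
    rw [← e3, hx', co0_dot g hg]; exact hvx
  rw [dotInt_comm', dotInt_vec8] at d1
  have e4 : x'.1 none = 4 := by omega
  obtain ⟨k, hk, hcase⟩ := eq_twoVec_of_entry_four x'.1 x'.2 nx' none e4
  have hcase' : x'.1 = twoVec none k 4 := by
    rcases hcase with h | h
    · exact h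
    · exfalso
      rw [h, dotInt_twoVec] at d2
      unfold u5 at d2
      rw [oneVec_apply, oneVec_apply, if_pos (Finset.mem_singleton_self _),
        if_neg (by simpa using hk.symm)] at d2
      norm_num at d2
  have hk0 : k ≠ some 0 := by
    rintro rfl
    rw [hcase', dotInt_oa, twoVec_apply_left (by decide), twoVec_apply_right (by decide)] at d3
    norm_num at d3
  obtain ⟨σ, hσ, hσ1, hσ2, hσ3⟩ := m24_three_trans (show (none : GolayPt) ≠ some 0 by decide)
    hk (Ne.symm hk0) (show (none : GolayPt) ≠ some 0 by decide)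
    (show (none : GolayPt) ≠ some 1 by decide) (show (some 0 : GolayPt) ≠ some 1 by decide)
  have c4 : Conj3 u v x u5 oa x'.1 := ⟨g, hg, huL, hvL, hxL, e2, e3, rfl⟩
  have c5 := conj3_perm hσ u5_memL oa_mem x'.2
  have e5 : permVec σ oa = oa := by
    unfold oa
    rw [permVec_twoVec, hσ1, hσ2]
  have e6 : permVec σ x'.1 = oc := by
    unfold oc
    rw [hcase', permVec_twoVec, hσ1, hσ3]
  rw [permVec_u5 hσ1, e5, e6] at c5
  exact c4.trans c5

/-- The inner product with an octad vector. -/
lemma dotInt_pmVec_two (o : Finset GolayPt) (x : GolayPt → ℤ) :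
    dotInt (pmVec 2 o ∅) x = 2 * ∑ q ∈ o, x q := by
  unfold dotInt
  rw [Finset.mul_sum, ← Finset.sum_filter_add_sum_filter_not Finset.univ (fun q => q ∈ o)]
  have h1 : ∑ q ∈ Finset.univ.filter (fun q => ¬ q ∈ o), pmVec 2 o ∅ q * x q = 0 := by
    apply Finset.sum_eq_zero
    intro q hq
    rw [Finset.mem_filter] at hq
    rw [pmVec_apply, if_neg (Finset.notMem_empty _), if_neg hq.2, zero_mul]
  rw [h1, add_zero]
  have h2 : Finset.univ.filter (fun q => q ∈ o) = o := by
    ext q; simp
  rw [h2]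
  apply Finset.sum_congr rfl
  intro q hq
  rw [pmVec_apply, if_neg (Finset.notMem_empty _), if_pos hq]

/-- A frame vector built from an octad avoiding the first two points. -/
theorem conj3_of_octad (x : GolayPt → ℤ) (hx : x ∈ mcSet) (o' : Finset GolayPt)
    (ho' : o' ∈ codeSupps 8) (h1 : none ∉ o') (h2 : some 0 ∉ o')
    (hd : dotInt (pmVec 2 o' ∅) x = 16) : Conj3 u5 oa x u5 oa oc := by
  obtain ⟨hxL, nx, hux, hvx⟩ := hx
  obtain ⟨c, hc, hc8, rfl⟩ := (mem_codeSupps 8 o').mp ho'
  have hcard : (bsupp c).card = 8 := by rw [← hammingNorm_eq_card_bsupp, hc8]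
  set z := pmVec 2 (bsupp c) ∅ with hz
  have hzL : z ∈ leechLattice :=
    pmVec_two_mem hc (Finset.empty_subset _) (by rw [hcard]; norm_num)
  have nz : sqNorm z = 32 := by
    rw [hz, sqNorm_pmVec 2 (Finset.empty_subset _), hcard]; norm_num
  have zn : z none = 0 := by
    rw [hz, pmVec_apply, if_neg (Finset.notMem_empty _), if_neg h1]
  have z0 : z (some 0) = 0 := by
    rw [hz, pmVec_apply, if_neg (Finset.notMem_empty _), if_neg h2]
  have hsum : ∑ q, z q = 16 := by
    rw [hz, sum_pmVec 2 (Finset.empty_subset _), hcard, Finset.card_empty]; norm_num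
  have d1 : dotInt oa z = 0 := by rw [dotInt_oa, zn, z0]; norm_num
  have d2 : dotInt u5 z = 16 := by rw [dotInt_u5, hsum, zn]; norm_num
  have hyL : oa + z ∈ leechLattice := leechLattice.add_mem oa_mem hzL
  apply conj3_of_frame_mcl (oa + z) u5 oa x hyL u5_memL oa_mem hxL _ sqNorm_u5 sqNorm_oa nx _ _ _
    dotInt_u5_oa hux hvx
  · rw [sqNorm_add, sqNorm_oa, nz, d1]; norm_num
  · rw [dotInt_comm', dotInt_add_right', dotInt_u5_oa, d2]; norm_num
  · rw [dotInt_add_left', dotInt_self, sqNorm_oa, dotInt_comm', d1]; norm_num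
  · rw [dotInt_add_left', hvx, hd]; norm_num

/-- All the 275 vectors are in one orbit of the stabiliser of the standard pair. -/
theorem conj3_mcSet (x : GolayPt → ℤ) (hx : x ∈ mcSet) : Conj3 u5 oa x u5 oa oc := by
  have hx' := hx
  rw [mem_mcSet_iff] at hx'
  obtain ⟨hxL, nx, hux, hvx⟩ := hx
  rcases hx' with h | h | h
  · -- the frame vector is `(8, 0, …)`
    have hv := val_f552A x (mcA_sub h)
    apply conj3_of_frame_mcl (vec8 none) u5 oa x (vec8_mem none) u5_memL oa_mem hxL _ sqNorm_u5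
      sqNorm_oa nx _ _ _ dotInt_u5_oa hux hvx
    · rw [← dotInt_self, dotInt_vec8]; unfold vec8; simp
    · rw [dotInt_comm', dotInt_vec8]; unfold u5
      rw [oneVec_apply, if_pos (Finset.mem_singleton_self _)]; norm_num
    · rw [dotInt_comm', dotInt_vec8]; unfold oa
      rw [twoVec_apply_left (by decide)]; norm_num
    · rw [dotInt_comm', dotInt_vec8, hv]; norm_num
  · unfold hsB at h
    rw [Finset.mem_image] at h
    obtain ⟨o, ho, rfl⟩ := h
    rw [mem_octThrough] at ho
    obtain ⟨o', ho', hint, ha, hb⟩ := exists_octad_meet_four ho.1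
      (show (none : GolayPt) ≠ some 0 by decide) (ho.2 (by simp)) (ho.2 (by simp))
    apply conj3_of_octad _ ⟨hxL, nx, hux, hvx⟩ o' ho' ha hb
    rw [dotInt_pmVec_two]
    have : ∑ q ∈ o', pmVec 2 o ∅ q = ∑ q ∈ o', if q ∈ o then (2 : ℤ) else 0 := by
      apply Finset.sum_congr rfl
      intro q _
      rw [pmVec_apply, if_neg (Finset.notMem_empty _)]
    rw [this, Finset.sum_ite_mem, Finset.sum_const, Finset.inter_comm, hint]
    norm_num
  · unfold mcC at h
    rw [Finset.mem_image] at h
    obtain ⟨c, hc, rfl⟩ := h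
    rw [Finset.mem_filter, mem_codeWords] at hc
    have ho : bsupp c ∈ codeSupps 8 := (mem_codeSupps 8 _).mpr ⟨c, hc.1.1, hc.1.2, rfl⟩
    have hp : some 0 ∉ bsupp c := (notMem_bsupp c (some 0)).mpr hc.2.2
    have hn : none ∈ bsupp c := (mem_bsupp c none).mpr hc.2.1
    obtain ⟨o', ho', hdisj, hp'⟩ := exists_octad_disjoint ho hp
    have hn' : none ∉ o' := fun h => (Finset.disjoint_left.mp hdisj) hn h
    apply conj3_of_octad _ ⟨hxL, nx, hux, hvx⟩ o' ho' hn' hp'
    rw [dotInt_pmVec_two]
    have : ∑ q ∈ o', signVec c (oneVec {none} (-3)) q = ∑ q ∈ o', (1 : ℤ) := by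
      apply Finset.sum_congr rfl
      intro q hq
      have hq1 : q ∉ bsupp c := fun h => (Finset.disjoint_left.mp hdisj) h hq
      have hq2 : q ≠ none := fun h => hn' (h ▸ hq)
      rw [signVec_apply, sgnOf_zero ((notMem_bsupp c q).mp hq1), oneVec_apply,
        if_neg (by simpa using hq2)]
      norm_num
    rw [this, Finset.sum_const, card_of_codeSupps ho']
    norm_num

end Cfsg.Agent.Lib.Helper94
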