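import Mathlib
import Cfsg.Agent.Lib.Helper94.LeechMcL3
import Cfsg.Agent.Lib.Helper35.OctadSplit
import Cfsg.Agent.S0362

/-! Quadruples of lattice vectors under the automorphism group, and auxiliary octads for the
rank three action of the McLaughlin group. -/

set_option autoImplicit false

namespace Cfsg.Agent.Lib.Helper94

open Cfsg
open Cfsg.Agent.Lib.Helper95

/-- The orbit relation on quadruples of lattice vectors. -/
def Conj4 (a b c d a' b' c' d' : GolayPt → ℤ) : Prop :=
  ∃ g ∈ Co0, ∃ (ha : a ∈ leechLattice) (hb : b ∈ leechLattice) (hc : c ∈ leechLattice)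
    (hd : d ∈ leechLattice),
    ((g ⟨a, ha⟩ : leechLattice) : GolayPt → ℤ) = a' ∧
      ((g ⟨b, hb⟩ : leechLattice) : GolayPt → ℤ) = b' ∧
      ((g ⟨c, hc⟩ : leechLattice) : GolayPt → ℤ) = c' ∧
      ((g ⟨d, hd⟩ : leechLattice) : GolayPt → ℤ) = d'

lemma Conj4.trans {a b c d a' b' c' d' a'' b'' c'' d'' : GolayPt → ℤ}
    (h : Conj4 a b c d a' b' c' d') (h' : Conj4 a' b' c' d' a'' b'' c'' d'') :
    Conj4 a b c d a'' b'' c'' d'' := by
  obtain ⟨g, hg, ha, hb, hc, hd, rfl, rfl, rfl, rfl⟩ := h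
  obtain ⟨g', hg', ha', hb', hc', hd', rfl, rfl, rfl, rfl⟩ := h'
  exact ⟨g' * g, Co0.mul_mem hg' hg, ha, hb, hc, hd, rfl, rfl, rfl, rfl⟩

lemma Conj4.symm {a b c d a' b' c' d' : GolayPt → ℤ} (h : Conj4 a b c d a' b' c' d') :
    Conj4 a' b' c' d' a b c d := by
  obtain ⟨g, hg, ha, hb, hc, hd, rfl, rfl, rfl, rfl⟩ := h
  refine ⟨g⁻¹, Co0.inv_mem hg, (g ⟨a, ha⟩).2, (g ⟨b, hb⟩).2, (g ⟨c, hc⟩).2, (g ⟨d, hd⟩).2,
    ?_, ?_, ?_, ?_⟩ <;> simp

lemma conj4_perm {σ : Equiv.Perm GolayPt} (hσ : σ ∈ M24) {a b c d : GolayPt → ℤ}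
    (ha : a ∈ leechLattice) (hb : b ∈ leechLattice) (hc : c ∈ leechLattice)
    (hd : d ∈ leechLattice) :
    Conj4 a b c d (permVec σ a) (permVec σ b) (permVec σ c) (permVec σ d) :=
  ⟨permPerm σ hσ, permPerm_mem σ hσ, ha, hb, hc, hd, rfl, rfl, rfl, rfl⟩

/-- The orbit relation on quadruples in the form of the statements. -/
lemma conj4_iff (a b c d a' b' c' d' : leechLattice) :
    Conj4 a.1 b.1 c.1 d.1 a'.1 b'.1 c'.1 d'.1 ↔
      ∃ g : Co0, g • a = a' ∧ g • b = b' ∧ g • c = c' ∧ g • d = d' := by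
  constructor
  · rintro ⟨g, hg, ha, hb, hc, hd, h1, h2, h3, h4⟩
    exact ⟨⟨g, hg⟩, Subtype.ext h1, Subtype.ext h2, Subtype.ext h3, Subtype.ext h4⟩
  · rintro ⟨⟨g, hg⟩, h1, h2, h3, h4⟩
    exact ⟨g, hg, a.2, b.2, c.2, d.2, congrArg Subtype.val h1, congrArg Subtype.val h2,
      congrArg Subtype.val h3, congrArg Subtype.val h4⟩

lemma dotInt_oc (x : GolayPt → ℤ) : dotInt oc x = 4 * x none + 4 * x (some 1) := by
  unfold oc
  rw [dotInt_comm', dotInt_twoVec]; ring

lemma oc_mem : oc ∈ leechLattice := twoVec_mem (Or.inl rfl)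
lemma sqNorm_oc : sqNorm oc = 32 := sqNorm_twoVec (by decide) (Or.inl rfl)

lemma oc_mem_mcSet : oc ∈ mcSet := by
  refine ⟨oc_mem, sqNorm_oc, ?_, ?_⟩
  · unfold oc
    rw [dotInt_twoVec]
    unfold u5
    rw [oneVec_apply, oneVec_apply, if_pos (Finset.mem_singleton_self _), if_neg (by simp)]
    norm_num
  · rw [dotInt_oa]
    unfold oc
    rw [twoVec_apply_left (by decide)]
    have : twoVec none (some 1) 4 (some 0) = 0 := by
      unfold twoVec
      rw [Pi.add_apply, Pi.single_eq_of_ne (by decide), Pi.single_eq_of_ne (by decide)]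
      norm_num
    rw [this]
    norm_num

/-- From a frame vector to the normal form of the triple, keeping track of the frame vector. -/
theorem conj4_of_frame_mcl (y u v x : GolayPt → ℤ) (hyL : y ∈ leechLattice)
    (huL : u ∈ leechLattice) (hvL : v ∈ leechLattice) (hxL : x ∈ leechLattice)
    (ny : sqNorm y = 64) (nu : sqNorm u = 48) (nv : sqNorm v = 32) (nx : sqNorm x = 32)
    (hyu : dotInt y u = 40) (hyv : dotInt y v = 32) (hyx : dotInt y x = 32)
    (huv : dotInt u v = 24) (hux : dotInt u x = 24) (hvx : dotInt v x = 16) :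
    Conj4 y u v x (vec8 none) u5 oa oc := by
  obtain ⟨s, hs, hds, c3⟩ := conj3_of_frame48 y u v hyL huL hvL ny nu nv hyu hyv
  have hs4 : s = 4 := by omega
  subst hs4
  obtain ⟨g, hg, hy', hu', hv', e1, e2, e3⟩ := c3
  set x' : leechLattice := g ⟨x, hxL⟩ with hx'
  have nx' : sqNorm x'.1 = 32 := by rw [hx', hg.2]; exact nx
  have d1 : dotInt (vec8 none) x'.1 = 32 := by rw [← e1, hx', co0_dot g hg]; exact hyx
  have d2 : dotInt u5 x'.1 = 24 := by rw [← e2, hx', co0_dot g hg]; exact hux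
  have d3 : dotInt oa x'.1 = 16 := by
    unfold oa
    rw [← e3, hx', co0_dot g hg]; exact hvx
  rw [dotInt_comm', dotInt_vec8] at d1
  have e4 : x'.1 none = 4 := by omega
  obtain ⟨k, hk, hcase⟩ := eq_twoVec_of_entry_four x'.1 x'.2 nx' none e4
  have hcase' : x'.1 = twoVec none k 4 := by
    rcases hcase with h | h
    · exact h
    · exfalso
      rw [h, dotInt_twoVec] at d2
      unfold u5 at d2
      rw [oneVec_apply, oneVec_apply, if_pos (Finset.mem_singleton_self _),
        if_neg (by simpa using hk.symm)] at d2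
      norm_num at d2
  have hk0 : k ≠ some 0 := by
    rintro rfl
    rw [hcase', dotInt_oa, twoVec_apply_left (by decide), twoVec_apply_right (by decide)] at d3
    norm_num at d3
  obtain ⟨σ, hσ, hσ1, hσ2, hσ3⟩ := m24_three_trans (show (none : GolayPt) ≠ some 0 by decide)
    hk (Ne.symm hk0) (show (none : GolayPt) ≠ some 0 by decide)
    (show (none : GolayPt) ≠ some 1 by decide) (show (some 0 : GolayPt) ≠ some 1 by decide)
  have c4 : Conj4 y u v x (vec8 none) u5 oa x'.1 := ⟨g, hg, hyL, huL, hvL, hxL, e1, e2, e3, rfl⟩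
  have c5 := conj4_perm hσ (vec8_mem none) u5_memL oa_mem x'.2
  have e5 : permVec σ oa = oa := by
    unfold oa
    rw [permVec_twoVec, hσ1, hσ2]
  have e6 : permVec σ x'.1 = oc := by
    unfold oc
    rw [hcase', permVec_twoVec, hσ1, hσ3]
  rw [permVec_u5 hσ1, e5, e6, permVec_vec8, hσ1] at c5
  exact c4.trans c5

/-- Reduction along a frame vector: a further vector of the 275 is moved to one whose first
entry is read off from the inner product with the frame vector. -/
theorem frame_reduce (z y : GolayPt → ℤ) (hzL : z ∈ leechLattice) (nz : sqNorm z = 64)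
    (hzu : dotInt z u5 = 40) (hza : dotInt z oa = 32) (hzc : dotInt z oc = 32)
    (hy : y ∈ mcSet) :
    ∃ y', Conj4 u5 oa oc y u5 oa oc y' ∧ y' ∈ mcSet ∧ 8 * y' none = dotInt z y ∧
      dotInt oc y' = dotInt oc y := by
  have hc := oc_mem_mcSet
  obtain ⟨g, hg, h1, h2, h3, h4, e1, e2, e3, e4⟩ := conj4_of_frame_mcl z u5 oa oc hzL u5_memL
    oa_mem oc_mem nz sqNorm_u5 sqNorm_oa sqNorm_oc hzu hza hzc dotInt_u5_oa hc.2.2.1 hc.2.2.2
  obtain ⟨hyL, ny, hyu, hya⟩ := hy
  set y' : leechLattice := g ⟨y, hyL⟩ with hy'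
  refine ⟨y'.1, ⟨g, hg, h2, h3, h4, hyL, e2, e3, e4, rfl⟩, ⟨y'.2, ?_, ?_, ?_⟩, ?_, ?_⟩
  · rw [hy', hg.2]; exact ny
  · rw [← e2, hy', co0_dot g hg]; exact hyu
  · rw [← e3, hy', co0_dot g hg]; exact hya
  · have : dotInt (vec8 none) y'.1 = dotInt z y := by rw [← e1, hy', co0_dot g hg]
    rw [← this, dotInt_comm', dotInt_vec8]; ring
  · have h := co0_dot g hg ⟨oc, h4⟩ ⟨y, hyL⟩
    rw [e4] at h
    exact h

/-! ### Octads -/

open Cfsg.Agent.Lib.Helper35 in
/-- The stabiliser of three points is transitive on the octads through the first two that avoid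
the third. -/
lemma octThrough_two_out_trans {a b r : GolayPt} (hab : a ≠ b) {o o' : Finset GolayPt}
    (ho : o ∈ octThrough {a, b}) (ho' : o' ∈ octThrough {a, b}) (hr : r ∉ o) (hr' : r ∉ o') :
    ∃ σ ∈ M24, σ a = a ∧ σ b = b ∧ σ r = r ∧ o.image σ = o' := by
  obtain ⟨σ, hσ, h1, h2, h3⟩ := octThrough_two_trans hab ho ho'
  have hσr : σ r ∉ o' := by
    rw [← h3, Finset.mem_image]
    rintro ⟨q, hq, hqr⟩
    exact hr (σ.injective hqr ▸ hq)
  rw [mem_octThrough] at ho'
  obtain ⟨k, hk, hkr⟩ := octFix_trans (mem_octads_of_codeSupps ho'.1) hσr hr'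
  rw [mem_octFix] at hk
  refine ⟨k * σ, M24.mul_mem hk.1 hσ, ?_, ?_, ?_, ?_⟩
  · rw [Equiv.Perm.mul_apply, h1]; exact hk.2 a (ho'.2 (by simp))
  · rw [Equiv.Perm.mul_apply, h2]; exact hk.2 b (ho'.2 (by simp))
  · rw [Equiv.Perm.mul_apply, hkr]
  · ext q
    rw [← h3]
    simp only [Finset.mem_image, Equiv.Perm.mul_apply]
    constructor
    · rintro ⟨p, hp, rfl⟩
      refine ⟨p, hp, ?_⟩
      have : σ p ∈ o' := by rw [← h3]; exact Finset.mem_image_of_mem _ hp
      exact (hk.2 _ this).symm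
    · rintro ⟨p, hp, rfl⟩
      refine ⟨p, hp, ?_⟩
      have : σ p ∈ o' := by rw [← h3]; exact Finset.mem_image_of_mem _ hp
      exact hk.2 _ this

lemma card_octThrough_three {a b c : GolayPt} (hab : a ≠ b) (hac : a ≠ c) (hbc : b ≠ c) :
    (octThrough {a, b, c}).card = 21 := by
  unfold octThrough
  rw [codeSupps_eight_eq]
  exact Cfsg.Agent.Lib.Helper09.card_blocks_through_eq octads_st 3 21 (by norm_num) (by decide)
    (by rw [golayPt_card]; decide) {a, b, c} (Finset.card_eq_three.mpr ⟨a, b, c, hab, hac, hbc, rfl⟩)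

/-- The supports of two words of the code meet evenly. -/
lemma even_inter_codeSupps {k l : ℕ} {o o' : Finset GolayPt} (ho : o ∈ codeSupps k)
    (ho' : o' ∈ codeSupps l) : Even (o ∩ o').card := by
  obtain ⟨c, hc, -, rfl⟩ := (mem_codeSupps k o).mp ho
  obtain ⟨c', hc', -, rfl⟩ := (mem_codeSupps l o').mp ho'
  exact even_card_inter_of_orth c c' (Cfsg.Agent.S0362.result c c' hc hc')

/-- The octad through five points. -/
lemma exists_octThrough_five (S : Finset GolayPt) (hS : S.card = 5) : ∃ o, o ∈ octThrough S := by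
  have := card_octThrough_five S hS
  exact Finset.card_pos.mp (by omega)

/-- Two further points of an octad. -/
lemma exists_two_in {o : Finset GolayPt} (ho : o ∈ codeSupps 8) (a b : GolayPt) :
    ∃ s t, s ∈ o ∧ t ∈ o ∧ s ≠ t ∧ s ≠ a ∧ s ≠ b ∧ t ≠ a ∧ t ≠ b := by
  have hcard := card_of_codeSupps ho
  have hbig : 2 ≤ ((o.erase a).erase b).card := by
    have h1 := Finset.pred_card_le_card_erase (s := o) (a := a)
    have h2 := Finset.pred_card_le_card_erase (s := o.erase a) (a := b)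
    omega
  obtain ⟨u, hu, hu2⟩ := Finset.exists_subset_card_eq hbig
  obtain ⟨s, t, hst, rfl⟩ := Finset.card_eq_two.mp hu2
  have hs := hu (show s ∈ ({s, t} : Finset GolayPt) by simp)
  have ht := hu (show t ∈ ({s, t} : Finset GolayPt) by simp)
  rw [Finset.mem_erase, Finset.mem_erase] at hs ht
  exact ⟨s, t, hs.2.2, ht.2.2, hst, hs.2.1, hs.1, ht.2.1, ht.1⟩

/-- For an octad through the first point avoiding the next two: an octad through those two,
avoiding the first point and meeting the given octad in four points. -/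
lemma exists_octad_E2 {o : Finset GolayPt} (ho : o ∈ codeSupps 8) (h1 : none ∈ o)
    (h2 : some 0 ∉ o) (h3 : some 1 ∉ o) :
    ∃ d ∈ codeSupps 8, none ∉ d ∧ some 0 ∈ d ∧ some 1 ∈ d ∧ (d ∩ o).card = 4 ∧
      (d \ o).card = 4 := by
  obtain ⟨s, t, hs, ht, hst, hsn, -, htn, -⟩ := exists_two_in ho none none
  have hs0 : s ≠ some 0 := fun h => h2 (h ▸ hs)
  have hs1 : s ≠ some 1 := fun h => h3 (h ▸ hs)
  have ht0 : t ≠ some 0 := fun h => h2 (h ▸ ht)
  have ht1 : t ≠ some 1 := fun h => h3 (h ▸ ht)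
  have hS : ({none, some 0, some 1, s, t} : Finset GolayPt).card = 5 := by
    rw [Finset.card_insert_of_notMem, Finset.card_insert_of_notMem, Finset.card_insert_of_notMem,
      Finset.card_pair hst]
    · simp only [Finset.mem_insert, Finset.mem_singleton, not_or]
      exact ⟨hs1.symm, ht1.symm⟩
    · simp only [Finset.mem_insert, Finset.mem_singleton, not_or]
      exact ⟨by decide, hs0.symm, ht0.symm⟩
    · simp only [Finset.mem_insert, Finset.mem_singleton, not_or]
      exact ⟨by decide, by decide, hsn.symm, htn.symm⟩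
  obtain ⟨o1, ho1⟩ := exists_octThrough_five _ hS
  rw [mem_octThrough] at ho1
  have m0 : none ∈ o1 := ho1.2 (by simp)
  have m1 : some 0 ∈ o1 := ho1.2 (by simp)
  have m2 : some 1 ∈ o1 := ho1.2 (by simp)
  have m3 : s ∈ o1 := ho1.2 (by simp)
  have m4 : t ∈ o1 := ho1.2 (by simp)
  have hne : o ≠ o1 := fun h => h2 (h ▸ m1)
  have hle : (o ∩ o1).card ≤ 4 := by
    by_contra h
    push Not at h
    exact hne (Cfsg.Agent.Lib.Helper10.octad_eq_of_inter_ge (mem_octads_of_codeSupps ho)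
      (mem_octads_of_codeSupps ho1.1) h)
  have hge : 3 ≤ (o ∩ o1).card := by
    have hsub : ({none, s, t} : Finset GolayPt) ⊆ o ∩ o1 := by
      intro q hq
      simp only [Finset.mem_insert, Finset.mem_singleton] at hq
      rw [Finset.mem_inter]
      rcases hq with rfl | rfl | rfl
      · exact ⟨h1, m0⟩
      · exact ⟨hs, m3⟩
      · exact ⟨ht, m4⟩
    have h3card : ({none, s, t} : Finset GolayPt).card = 3 :=
      Finset.card_eq_three.mpr ⟨none, s, t, hsn.symm, htn.symm, hst, rfl⟩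
    calc 3 = ({none, s, t} : Finset GolayPt).card := h3card.symm
      _ ≤ _ := Finset.card_le_card hsub
  have heven := even_inter_codeSupps ho ho1.1
  have h4 : (o ∩ o1).card = 4 := by
    obtain ⟨m, hm⟩ := heven
    omega
  obtain ⟨c, hc, hn, hb⟩ := (mem_codeSupps 8 o).mp ho
  obtain ⟨c1, hc1, hn1, hb1⟩ := (mem_codeSupps 8 o1).mp ho1.1
  have hd : bsupp (c + c1) = symmDiff o o1 := by rw [bsupp_add, hb, hb1]
  have hcard := card_of_codeSupps ho
  have hdo : symmDiff o o1 ∩ o = o \ o1 := by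
    ext q
    simp only [Finset.mem_inter, Finset.mem_symmDiff, Finset.mem_sdiff]
    tauto
  have hdo' : symmDiff o o1 \ o = o1 \ o := by
    ext q
    simp only [Finset.mem_symmDiff, Finset.mem_sdiff]
    tauto
  have k1 := Finset.card_sdiff_add_card_inter o o1
  have k2 := Finset.card_sdiff_add_card_inter o1 o
  rw [Finset.inter_comm o1 o] at k2
  have hcard1 := card_of_codeSupps ho1.1
  refine ⟨bsupp (c + c1), ?_, ?_, ?_, ?_, ?_, ?_⟩
  · rw [mem_codeSupps]
    refine ⟨c + c1, golayCode.add_mem hc hc1, ?_, rfl⟩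
    have := hammingNorm_add_zmod2 c c1
    rw [hb, hb1, h4, hn, hn1] at this
    omega
  · rw [hd, Finset.mem_symmDiff]; tauto
  · rw [hd, Finset.mem_symmDiff]; tauto
  · rw [hd, Finset.mem_symmDiff]; tauto
  · rw [hd, hdo]; omega
  · rw [hd, hdo']; omega

/-- For an octad through the first and third points avoiding the second: an octad through all
three meeting it in four points, and a further point of it. -/
lemma exists_octad_E3 {o : Finset GolayPt} (ho : o ∈ codeSupps 8) (h1 : none ∈ o)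
    (h2 : some 0 ∉ o) (h3 : some 1 ∈ o) :
    ∃ o' ∈ codeSupps 8, none ∈ o' ∧ some 0 ∈ o' ∧ some 1 ∈ o' ∧ (o' ∩ o).card = 4 ∧
      (o' \ o).card = 4 ∧ ∃ k ∈ o', k ∉ o ∧ k ≠ some 0 := by
  obtain ⟨s, t, hs, ht, hst, hsn, hs1, htn, ht1⟩ := exists_two_in ho none (some 1)
  have hs0 : s ≠ some 0 := fun h => h2 (h ▸ hs)
  have ht0 : t ≠ some 0 := fun h => h2 (h ▸ ht)
  have hS : ({none, some 0, some 1, s, t} : Finset GolayPt).card = 5 := by
    rw [Finset.card_insert_of_notMem, Finset.card_insert_of_notMem, Finset.card_insert_of_notMem,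
      Finset.card_pair hst]
    · simp only [Finset.mem_insert, Finset.mem_singleton, not_or]
      exact ⟨hs1.symm, ht1.symm⟩
    · simp only [Finset.mem_insert, Finset.mem_singleton, not_or]
      exact ⟨by decide, hs0.symm, ht0.symm⟩
    · simp only [Finset.mem_insert, Finset.mem_singleton, not_or]
      exact ⟨by decide, by decide, hsn.symm, htn.symm⟩
  obtain ⟨o1, ho1⟩ := exists_octThrough_five _ hS
  rw [mem_octThrough] at ho1
  have m0 : none ∈ o1 := ho1.2 (by simp)
  have m1 : some 0 ∈ o1 := ho1.2 (by simp)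
  have m2 : some 1 ∈ o1 := ho1.2 (by simp)
  have m3 : s ∈ o1 := ho1.2 (by simp)
  have m4 : t ∈ o1 := ho1.2 (by simp)
  have hne : o ≠ o1 := fun h => h2 (h ▸ m1)
  have hle : (o ∩ o1).card ≤ 4 := by
    by_contra h
    push Not at h
    exact hne (Cfsg.Agent.Lib.Helper10.octad_eq_of_inter_ge (mem_octads_of_codeSupps ho)
      (mem_octads_of_codeSupps ho1.1) h)
  have hge : 4 ≤ (o ∩ o1).card := by
    have hsub : ({none, some 1, s, t} : Finset GolayPt) ⊆ o ∩ o1 := by
      intro q hq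
      simp only [Finset.mem_insert, Finset.mem_singleton] at hq
      rw [Finset.mem_inter]
      rcases hq with rfl | rfl | rfl | rfl
      · exact ⟨h1, m0⟩
      · exact ⟨h3, m2⟩
      · exact ⟨hs, m3⟩
      · exact ⟨ht, m4⟩
    have h4card : ({none, some 1, s, t} : Finset GolayPt).card = 4 := by
      rw [Finset.card_insert_of_notMem, Finset.card_insert_of_notMem, Finset.card_pair hst]
      · simp only [Finset.mem_insert, Finset.mem_singleton, not_or]
        exact ⟨hs1.symm, ht1.symm⟩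
      · simp only [Finset.mem_insert, Finset.mem_singleton, not_or]
        exact ⟨by decide, hsn.symm, htn.symm⟩
    calc 4 = ({none, some 1, s, t} : Finset GolayPt).card := h4card.symm
      _ ≤ _ := Finset.card_le_card hsub
  have h4 : (o1 ∩ o).card = 4 := by rw [Finset.inter_comm]; omega
  have k2 := Finset.card_sdiff_add_card_inter o1 o
  have hcard1 := card_of_codeSupps ho1.1
  have h4' : (o1 \ o).card = 4 := by omega
  obtain ⟨k, hk, hk0⟩ := Finset.exists_mem_ne (s := o1 \ o) (by omega) (some 0)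
  rw [Finset.mem_sdiff] at hk
  exact ⟨o1, ho1.1, m0, m1, m2, h4, h4', k, hk.1, hk.2, hk0⟩

end Cfsg.Agent.Lib.Helper94
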