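import Mathlib
import Cfsg.Agent.Lib.Helper94.LeechMcL4

/-! The suborbits of lengths 112 and 162 among the 275 vectors. -/

set_option autoImplicit false

namespace Cfsg.Agent.Lib.Helper94

open Cfsg
open Cfsg.Agent.Lib.Helper95

/-- The 112 vectors. -/
def mc8 : Set (GolayPt → ℤ) := {y | y ∈ mcSet ∧ dotInt oc y = 8}

/-- The 162 vectors. -/
def mc16 : Set (GolayPt → ℤ) := {y | y ∈ mcSet ∧ y ≠ oc ∧ dotInt oc y = 16}

lemma dot_oc_oc : dotInt oc oc = 32 := by rw [dotInt_self, sqNorm_oc]

lemma twoVec_apply_other {i j p : GolayPt} (hi : p ≠ i) (hj : p ≠ j) (s : ℤ) :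
    twoVec i j s p = 0 := by
  unfold twoVec
  rw [Pi.add_apply, Pi.single_eq_of_ne hi, Pi.single_eq_of_ne hj]
  norm_num

lemma dot_oc_mcA (y : GolayPt → ℤ) (hy : y ∈ mcA) : y = oc ∨ dotInt oc y = 16 := by
  unfold mcA at hy
  rw [Finset.mem_image] at hy
  obtain ⟨j, hj, rfl⟩ := hy
  rw [Finset.mem_filter] at hj
  by_cases h : j = some 1
  · left; rw [h]; rfl
  · right
    rw [dotInt_oc, twoVec_apply_left (Ne.symm hj.2.1), twoVec_apply_other (by decide) (Ne.symm h)]
    norm_num

lemma dot_oc_pm (o : Finset GolayPt) (h : none ∈ o) :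
    dotInt oc (pmVec 2 o ∅) = if some 1 ∈ o then 16 else 8 := by
  rw [dotInt_oc, pmVec_apply, pmVec_apply, if_neg (Finset.notMem_empty _),
    if_neg (Finset.notMem_empty _), if_pos h]
  split_ifs <;> norm_num

lemma dot_oc_odd (c : GolayPt → ZMod 2) (h : c none = 1) :
    dotInt oc (signVec c (oneVec {none} (-3))) = if c (some 1) = 1 then 8 else 16 := by
  rw [dotInt_oc, signVec_apply, signVec_apply, sgnOf_one h, oneVec_apply, oneVec_apply,
    if_pos (Finset.mem_singleton_self _), if_neg (by simp)]
  rcases Cfsg.Agent.S0391.zmod2_cases (c (some 1)) with h0 | h0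
  · rw [sgnOf_zero h0, h0]; norm_num
  · rw [sgnOf_one h0, h0]; norm_num

/-- The values of the inner product with the third standard vector on the 275 vectors. -/
lemma dot_oc_vals (y : GolayPt → ℤ) (hy : y ∈ mcSet) :
    y = oc ∨ dotInt oc y = 8 ∨ dotInt oc y = 16 := by
  rw [mem_mcSet_iff] at hy
  rcases hy with h | h | h
  · rcases dot_oc_mcA y h with h' | h'
    · exact Or.inl h'
    · exact Or.inr (Or.inr h')
  · unfold hsB at h
    rw [Finset.mem_image] at h
    obtain ⟨o, ho, rfl⟩ := h
    rw [mem_octThrough] at ho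
    rw [dot_oc_pm o (ho.2 (by simp))]
    right
    split_ifs
    · exact Or.inr rfl
    · exact Or.inl rfl
  · unfold mcC at h
    rw [Finset.mem_image] at h
    obtain ⟨c, hc, rfl⟩ := h
    rw [Finset.mem_filter] at hc
    rw [dot_oc_odd c hc.2.1]
    right
    split_ifs
    · exact Or.inl rfl
    · exact Or.inr rfl

lemma disj_mcA_hsB : Disjoint mcA hsB := by
  rw [Finset.disjoint_left]
  intro x hx hx'
  have := val_f552A x (mcA_sub hx)
  have := val_f552B x (hsB_sub hx')
  omega

lemma disj_mcAB_mcC : Disjoint (mcA ∪ hsB) mcC := by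
  rw [Finset.disjoint_left]
  intro x hx hx'
  have h3 := val_f552C x (mcC_sub hx')
  rw [Finset.mem_union] at hx
  rcases hx with hx | hx
  · have := val_f552A x (mcA_sub hx); omega
  · have := val_f552B x (hsB_sub hx); omega

lemma card_filter_mcFam (P : (GolayPt → ℤ) → Prop) [DecidablePred P] :
    (mcFam.filter P).card = (mcA.filter P).card + (hsB.filter P).card + (mcC.filter P).card := by
  unfold mcFam
  rw [Finset.filter_union, Finset.filter_union, Finset.card_union_of_disjoint,
    Finset.card_union_of_disjoint]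
  · exact Finset.disjoint_filter_filter disj_mcA_hsB
  · rw [← Finset.filter_union]
    exact Finset.disjoint_filter_filter disj_mcAB_mcC

lemma pm_injective : Function.Injective fun o : Finset GolayPt => pmVec 2 o ∅ := by
  intro o o' h
  exact (pmVec_inj (a := 2) (by norm_num) (Finset.empty_subset _) (Finset.empty_subset _) h).1

lemma odd_injective :
    Function.Injective fun c : GolayPt → ZMod 2 => signVec c (oneVec {none} (-3)) := by
  intro c c' h
  exact (signVec_inj_of_one_mod_four (fun i => oneVec_mod _ (by decide) i)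
    (fun i => oneVec_mod _ (by decide) i) h).1

/-- Octads through two points avoiding a third. -/
lemma card_octThrough_two_out {a b c : GolayPt} (hab : a ≠ b) (hac : a ≠ c) (hbc : b ≠ c) :
    ((octThrough {a, b}).filter fun o => c ∉ o).card = 56 := by
  classical
  have h1 := Finset.card_filter_add_card_filter_not (s := octThrough {a, b}) (fun o => c ∈ o)
  have h2 : ((octThrough {a, b}).filter fun o => c ∈ o) = octThrough {a, b, c} := by
    ext o
    rw [Finset.mem_filter, mem_octThrough, mem_octThrough]
    simp only [Finset.insert_subset_iff, Finset.singleton_subset_iff]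
    tauto
  rw [h2, card_octThrough_three hab hac hbc, card_octThrough_two hab] at h1
  omega

/-- Words of weight eight through two points avoiding a third. -/
lemma card_words_two_out {a b d : GolayPt} (hab : a ≠ b) (had : a ≠ d) (hbd : b ≠ d) :
    ((codeWords 8).filter fun c => c a = 1 ∧ c b = 1 ∧ c d = 0).card = 56 := by
  rw [← card_octThrough_two_out hab had hbd, ← Finset.card_image_of_injective _ bsupp_injective]
  congr 1
  ext o
  rw [Finset.mem_image, Finset.mem_filter, mem_octThrough, mem_codeSupps]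
  constructor
  · rintro ⟨c, hc, rfl⟩
    rw [Finset.mem_filter, mem_codeWords] at hc
    refine ⟨⟨⟨c, hc.1.1, hc.1.2, rfl⟩, ?_⟩, (notMem_bsupp c d).mpr hc.2.2.2⟩
    intro q hq
    rw [Finset.mem_insert, Finset.mem_singleton] at hq
    rcases hq with rfl | rfl
    · rw [mem_bsupp]; exact hc.2.1
    · rw [mem_bsupp]; exact hc.2.2.1
  · rintro ⟨⟨⟨c, hc, h8, rfl⟩, hsub⟩, hd⟩
    refine ⟨c, ?_, rfl⟩
    rw [Finset.mem_filter, mem_codeWords]
    exact ⟨⟨hc, h8⟩, (mem_bsupp c a).mp (hsub (by simp)),
      (mem_bsupp c b).mp (hsub (by simp)), (notMem_bsupp c d).mp hd⟩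

lemma card_filter8_hsB : (hsB.filter fun y => dotInt oc y = 8).card = 56 := by
  classical
  unfold hsB
  rw [Finset.filter_image, Finset.card_image_of_injective _ pm_injective,
    ← card_octThrough_two_out (show (none : GolayPt) ≠ some 0 by decide)
      (show (none : GolayPt) ≠ some 1 by decide) (show (some 0 : GolayPt) ≠ some 1 by decide)]
  congr 1
  apply Finset.filter_congr
  intro o ho
  rw [mem_octThrough] at ho
  rw [dot_oc_pm o (ho.2 (by simp))]
  split_ifs with h <;> simp [h]

lemma card_filter8_mcC : (mcC.filter fun y => dotInt oc y = 8).card = 56 := by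
  unfold mcC
  rw [Finset.filter_image, Finset.card_image_of_injective _ odd_injective, Finset.filter_filter,
    ← card_words_two_out (show (none : GolayPt) ≠ some 1 by decide)
      (show (none : GolayPt) ≠ some 0 by decide) (show (some 1 : GolayPt) ≠ some 0 by decide)]
  congr 1
  apply Finset.filter_congr
  intro c _
  constructor
  · rintro ⟨⟨a, b⟩, d⟩
    rw [dot_oc_odd c a] at d
    refine ⟨a, ?_, b⟩
    by_contra hne
    rw [if_neg hne] at d
    norm_num at d
  · rintro ⟨a, b, d⟩
    refine ⟨⟨a, d⟩, ?_⟩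
    rw [dot_oc_odd c a, if_pos b]

lemma card_filter8_mcA : (mcA.filter fun y => dotInt oc y = 8).card = 0 := by
  rw [Finset.card_eq_zero, Finset.filter_eq_empty_iff]
  intro y hy h
  rcases dot_oc_mcA y hy with h' | h'
  · rw [h', dot_oc_oc] at h; norm_num at h
  · rw [h'] at h; norm_num at h

theorem ncard_mc8 : mc8.ncard = 112 := by
  classical
  have : mc8 = ↑(mcFam.filter fun y => dotInt oc y = 8) := by
    ext y
    unfold mc8
    rw [Finset.coe_filter]
    simp only [Set.mem_ofPred_eq, mem_mcFam]
  rw [this, Set.ncard_coe_finset, card_filter_mcFam, card_filter8_mcA, card_filter8_hsB,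
    card_filter8_mcC]

theorem ncard_mc16 : mc16.ncard = 162 := by
  classical
  have : mc16 = ↑((mcFam.filter fun y => ¬ dotInt oc y = 8).erase oc) := by
    ext y
    unfold mc16
    rw [Finset.coe_erase, Finset.coe_filter]
    simp only [Set.mem_ofPred_eq, mem_mcFam, Set.mem_sdiff, Set.mem_singleton_iff]
    constructor
    · rintro ⟨a, b, c⟩
      exact ⟨⟨a, by rw [c]; norm_num⟩, b⟩
    · rintro ⟨⟨a, b⟩, c⟩
      refine ⟨a, c, ?_⟩
      rcases dot_oc_vals y a with h | h | h
      · exact absurd h c
      · exact absurd h b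
      · exact h
  have h1 := Finset.card_filter_add_card_filter_not (s := mcFam) (fun y => dotInt oc y = 8)
  have h2 : (mcFam.filter fun y => dotInt oc y = 8).card = 112 := by
    rw [card_filter_mcFam, card_filter8_mcA, card_filter8_hsB, card_filter8_mcC]
  have h3 : oc ∈ mcFam.filter fun y => ¬ dotInt oc y = 8 := by
    rw [Finset.mem_filter, mem_mcFam]
    exact ⟨oc_mem_mcSet, by rw [dot_oc_oc]; norm_num⟩
  rw [this, Set.ncard_coe_finset, Finset.card_erase_of_mem h3]
  rw [card_mcFam, h2] at h1
  omega

end Cfsg.Agent.Lib.Helper94
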