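import Mathlib
import Cfsg.Agent.Lib.Helper94.LeechMcL5

/-! Transitivity of the stabiliser of the standard triple on the suborbits of lengths 112 and
162. -/

set_option autoImplicit false

namespace Cfsg.Agent.Lib.Helper94

open Cfsg
open Cfsg.Agent.Lib.Helper95

/-- The fourth standard vector. -/
def od : GolayPt → ℤ := twoVec none (some 2) 4

/-- Frame vectors adapted to the standard triple. -/
def IsFrame (z : GolayPt → ℤ) : Prop :=
  z ∈ leechLattice ∧ sqNorm z = 64 ∧ dotInt z u5 = 40 ∧ dotInt z oa = 32 ∧ dotInt z oc = 32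

lemma u5_apply_none : u5 none = 5 := by
  unfold u5; rw [oneVec_apply, if_pos (Finset.mem_singleton_self _)]

lemma u5_apply_ne {k : GolayPt} (hk : k ≠ none) : u5 k = 1 := by
  unfold u5; rw [oneVec_apply, if_neg (by simpa using hk)]

lemma isFrame_vec8 : IsFrame (vec8 none) := by
  refine ⟨vec8_mem none, ?_, ?_, ?_, ?_⟩
  · rw [← dotInt_self, dotInt_vec8]; unfold vec8; simp
  · rw [dotInt_comm', dotInt_vec8, u5_apply_none]; norm_num
  · rw [dotInt_comm', dotInt_vec8]; unfold oa
    rw [twoVec_apply_left (by decide)]; norm_num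
  · rw [dotInt_comm', dotInt_vec8]; unfold oc
    rw [twoVec_apply_left (by decide)]; norm_num

lemma dotInt_vec8_left (x : GolayPt → ℤ) : dotInt (vec8 none) x = 8 * x none := by
  rw [dotInt_comm', dotInt_vec8]; ring

/-- The entries of a vector of odd type. -/
lemma odd_apply (c : GolayPt → ZMod 2) (hc1 : c none = 1) (q : GolayPt) :
    signVec c (oneVec {none} (-3)) q =
      (if q ∈ bsupp c then (-1 : ℤ) else 1) + (if q = none then 4 else 0) := by
  rw [signVec_apply, oneVec_apply]
  by_cases hq : q = none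
  · subst hq
    rw [sgnOf_one hc1, if_pos (Finset.mem_singleton_self _), if_pos ((mem_bsupp c none).mpr hc1),
      if_pos rfl]
    norm_num
  · rw [if_neg (by simpa using hq), if_neg hq]
    by_cases hb : q ∈ bsupp c
    · rw [if_pos hb, sgnOf_one ((mem_bsupp c q).mp hb)]; norm_num
    · rw [if_neg hb, sgnOf_zero ((notMem_bsupp c q).mp hb)]; norm_num

/-- The sum of the entries of a vector of odd type over a set of points. -/
lemma sum_odd_over (c : GolayPt → ZMod 2) (hc1 : c none = 1) (S : Finset GolayPt) :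
    ∑ q ∈ S, signVec c (oneVec {none} (-3)) q =
      ((S \ bsupp c).card : ℤ) - ((S ∩ bsupp c).card : ℤ) + (if none ∈ S then 4 else 0) := by
  rw [Finset.sum_congr rfl (fun q _ => odd_apply c hc1 q), Finset.sum_add_distrib,
    Finset.sum_ite_eq', Finset.sum_ite, Finset.filter_mem_eq_inter, Finset.filter_notMem_eq_sdiff,
    Finset.sum_const, Finset.sum_const]
  simp only [nsmul_eq_mul, mul_neg, mul_one]
  ring

/-- A frame vector of shape `(6, 2^6, -2)`. -/
lemma isFrame_oct {o : Finset GolayPt} (ho : o ∈ codeSupps 8) (h0 : none ∈ o) (h1 : some 0 ∈ o)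
    (h2 : some 1 ∈ o) {k : GolayPt} (hk : k ∈ o) (hkn : k ≠ none) (hk0 : k ≠ some 0)
    (hk1 : k ≠ some 1) : IsFrame (pmVec 2 o ∅ + twoVec none k (-4)) := by
  obtain ⟨c, hc, hc8, rfl⟩ := (mem_codeSupps 8 o).mp ho
  have hcard : (bsupp c).card = 8 := by rw [← hammingNorm_eq_card_bsupp, hc8]
  set p := pmVec 2 (bsupp c) ∅ with hp
  set t := twoVec none k (-4) with ht
  have hpL : p ∈ leechLattice :=
    pmVec_two_mem hc (Finset.empty_subset _) (by rw [hcard]; norm_num)
  have htL : t ∈ leechLattice := twoVec_mem (Or.inr rfl)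
  have np : sqNorm p = 32 := by
    rw [hp, sqNorm_pmVec 2 (Finset.empty_subset _), hcard]; norm_num
  have nt : sqNorm t = 32 := sqNorm_twoVec (Ne.symm hkn) (Or.inr rfl)
  have pv : ∀ q ∈ bsupp c, p q = 2 := by
    intro q hq
    rw [hp, pmVec_apply, if_neg (Finset.notMem_empty _), if_pos hq]
  have hsum : ∑ q, p q = 16 := by
    rw [hp, sum_pmVec 2 (Finset.empty_subset _), hcard, Finset.card_empty]; norm_num
  have hpt : dotInt p t = 0 := by
    rw [ht, dotInt_twoVec, pv none h0, pv k hk]; norm_num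
  have tn : t none = 4 := twoVec_apply_left (Ne.symm hkn) _
  have t0 : t (some 0) = 0 := twoVec_apply_other (by decide) (Ne.symm hk0) _
  have t1 : t (some 1) = 0 := twoVec_apply_other (by decide) (Ne.symm hk1) _
  refine ⟨leechLattice.add_mem hpL htL, ?_, ?_, ?_, ?_⟩
  · rw [sqNorm_add, np, nt, hpt]; norm_num
  · rw [dotInt_comm', dotInt_add_right', dotInt_u5, hsum, pv none h0, ht, dotInt_twoVec,
      u5_apply_none, u5_apply_ne hkn]
    norm_num
  · rw [dotInt_comm', dotInt_add_right', dotInt_oa, dotInt_oa, pv none h0, pv _ h1, tn, t0]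
    norm_num
  · rw [dotInt_comm', dotInt_add_right', dotInt_oc, dotInt_oc, pv none h0, pv _ h2, tn, t1]
    norm_num

/-- A further point of an octad through the three standard points. -/
lemma exists_fourth {o : Finset GolayPt} (ho : o ∈ codeSupps 8) :
    ∃ k ∈ o, k ≠ none ∧ k ≠ some 0 ∧ k ≠ some 1 := by
  have hcard := card_of_codeSupps ho
  have hbig : 0 < (((o.erase none).erase (some 0)).erase (some 1)).card := by
    have h1 := Finset.pred_card_le_card_erase (s := o) (a := none)
    have h2 := Finset.pred_card_le_card_erase (s := o.erase none) (a := some 0)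
    have h3 := Finset.pred_card_le_card_erase (s := (o.erase none).erase (some 0)) (a := some 1)
    omega
  obtain ⟨k, hk⟩ := Finset.card_pos.mp hbig
  rw [Finset.mem_erase, Finset.mem_erase, Finset.mem_erase] at hk
  exact ⟨k, hk.2.2.2, hk.2.2.1, hk.2.1, hk.1⟩

/-- Frame vectors for the 162 vectors. -/
theorem frame16 (y : GolayPt → ℤ) (hy : y ∈ mc16) : ∃ z, IsFrame z ∧ dotInt z y = 32 := by
  obtain ⟨hyS, hne, hd⟩ := hy
  have hyS' := hyS
  rw [mem_mcSet_iff] at hyS'
  obtain ⟨hyL, ny, hyu, hya⟩ := hyS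
  rcases hyS' with h | h | h
  · refine ⟨vec8 none, isFrame_vec8, ?_⟩
    rw [dotInt_vec8_left, val_f552A y (mcA_sub h)]; norm_num
  · unfold hsB at h
    rw [Finset.mem_image] at h
    obtain ⟨o, ho, rfl⟩ := h
    rw [mem_octThrough] at ho
    have h0 : none ∈ o := ho.2 (by simp)
    have h1 : some 0 ∈ o := ho.2 (by simp)
    have h2 : some 1 ∈ o := by
      by_contra hn
      rw [dot_oc_pm o h0, if_neg hn] at hd
      norm_num at hd
    obtain ⟨k, hk, hkn, hk0, hk1⟩ := exists_fourth ho.1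
    refine ⟨_, isFrame_oct ho.1 h0 h1 h2 hk hkn hk0 hk1, ?_⟩
    rw [dotInt_add_left', dotInt_self, ny, dotInt_comm', dotInt_twoVec, pmVec_apply, pmVec_apply,
      if_neg (Finset.notMem_empty _), if_neg (Finset.notMem_empty _), if_pos h0, if_pos hk]
    norm_num
  · unfold mcC at h
    rw [Finset.mem_image] at h
    obtain ⟨c, hc, rfl⟩ := h
    rw [Finset.mem_filter, mem_codeWords] at hc
    obtain ⟨⟨hcG, hc8⟩, hc1, hc0⟩ := hc
    have hc2 : c (some 1) = 0 := by
      rcases Cfsg.Agent.S0391.zmod2_cases (c (some 1)) with h0 | h0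
      · exact h0
      · rw [dot_oc_odd c hc1, if_pos h0] at hd
        norm_num at hd
    have ho : bsupp c ∈ codeSupps 8 := (mem_codeSupps 8 _).mpr ⟨c, hcG, hc8, rfl⟩
    obtain ⟨d, hdS, d0, d1, d2, dint, dsd⟩ := exists_octad_E2 ho ((mem_bsupp c none).mpr hc1)
      ((notMem_bsupp c _).mpr hc0) ((notMem_bsupp c _).mpr hc2)
    obtain ⟨c', hc', hc'8, rfl⟩ := (mem_codeSupps 8 d).mp hdS
    have hcard : (bsupp c').card = 8 := by rw [← hammingNorm_eq_card_bsupp, hc'8]
    set y := signVec c (oneVec {none} (-3)) with hyy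
    set p := pmVec 2 (bsupp c') ∅ with hp
    set t := twoVec (some 0) (some 1) 4 with ht
    have hpL : p ∈ leechLattice :=
      pmVec_two_mem hc' (Finset.empty_subset _) (by rw [hcard]; norm_num)
    have htL : t ∈ leechLattice := twoVec_mem (Or.inl rfl)
    have np : sqNorm p = 32 := by
      rw [hp, sqNorm_pmVec 2 (Finset.empty_subset _), hcard]; norm_num
    have nt : sqNorm t = 32 := sqNorm_twoVec (by decide) (Or.inl rfl)
    have pn : p none = 0 := by
      rw [hp, pmVec_apply, if_neg (Finset.notMem_empty _), if_neg d0]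
    have p0 : p (some 0) = 2 := by
      rw [hp, pmVec_apply, if_neg (Finset.notMem_empty _), if_pos d1]
    have p1 : p (some 1) = 2 := by
      rw [hp, pmVec_apply, if_neg (Finset.notMem_empty _), if_pos d2]
    have hsum : ∑ q, p q = 16 := by
      rw [hp, sum_pmVec 2 (Finset.empty_subset _), hcard, Finset.card_empty]; norm_num
    have tn : t none = 0 := twoVec_apply_other (by decide) (by decide) _
    have t0 : t (some 0) = 4 := twoVec_apply_left (by decide) _
    have t1 : t (some 1) = 4 := twoVec_apply_right (by decide) _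
    have hup : dotInt u5 p = 16 := by rw [dotInt_u5, hsum, pn]; norm_num
    have hut : dotInt u5 t = 8 := by
      rw [ht, dotInt_twoVec, u5_apply_ne (by decide), u5_apply_ne (by decide)]; norm_num
    have hpt : dotInt p t = 16 := by rw [ht, dotInt_twoVec, p0, p1]; norm_num
    have hap : dotInt oa p = 8 := by rw [dotInt_oa, pn, p0]; norm_num
    have hat : dotInt oa t = 16 := by rw [dotInt_oa, tn, t0]; norm_num
    have hcp : dotInt oc p = 8 := by rw [dotInt_oc, pn, p1]; norm_num
    have hct : dotInt oc t = 16 := by rw [dotInt_oc, tn, t1]; norm_num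
    have hpy : dotInt p y = 0 := by
      rw [hp, dotInt_pmVec_two, hyy, sum_odd_over c hc1, if_neg d0, dint, dsd]; norm_num
    have hty : dotInt t y = 8 := by
      rw [dotInt_comm', ht, dotInt_twoVec, hyy, odd_apply c hc1, odd_apply c hc1,
        if_neg ((notMem_bsupp c _).mpr hc0), if_neg ((notMem_bsupp c _).mpr hc2),
        if_neg (by decide), if_neg (by decide)]
      norm_num
    refine ⟨u5 - p + t, ⟨leechLattice.add_mem (leechLattice.sub_mem u5_memL hpL) htL, ?_, ?_, ?_,
      ?_⟩, ?_⟩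
    · rw [sqNorm_add, sqNorm_sub, sqNorm_u5, np, nt, dotInt_sub_left', hup, hut, hpt]; norm_num
    · rw [dotInt_add_left', dotInt_sub_left', dotInt_self, sqNorm_u5, dotInt_comm' p, hup,
        dotInt_comm' t, hut]
      norm_num
    · rw [dotInt_add_left', dotInt_sub_left', dotInt_u5_oa, dotInt_comm' p, hap, dotInt_comm' t,
        hat]
      norm_num
    · rw [dotInt_add_left', dotInt_sub_left', dotInt_comm' p, hcp, dotInt_comm' t, hct,
        dotInt_comm' u5, dotInt_oc, u5_apply_none, u5_apply_ne (by decide)]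
      norm_num
    · rw [dotInt_add_left', dotInt_sub_left', hyu, hpy, hty]; norm_num

/-- Frame vectors for the 112 vectors. -/
theorem frame8 (y : GolayPt → ℤ) (hy : y ∈ mc8) : ∃ z, IsFrame z ∧ dotInt z y = 16 := by
  obtain ⟨hyS, hd⟩ := hy
  have hyS' := hyS
  rw [mem_mcSet_iff] at hyS'
  obtain ⟨hyL, ny, hyu, hya⟩ := hyS
  rcases hyS' with h | h | h
  · exfalso
    rcases dot_oc_mcA y h with h' | h'
    · rw [h', dot_oc_oc] at hd; norm_num at hd
    · rw [h'] at hd; norm_num at hd
  · refine ⟨vec8 none, isFrame_vec8, ?_⟩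
    rw [dotInt_vec8_left, val_f552B y (hsB_sub h)]; norm_num
  · unfold mcC at h
    rw [Finset.mem_image] at h
    obtain ⟨c, hc, rfl⟩ := h
    rw [Finset.mem_filter, mem_codeWords] at hc
    obtain ⟨⟨hcG, hc8⟩, hc1, hc0⟩ := hc
    have hc2 : c (some 1) = 1 := by
      by_contra hn
      rw [dot_oc_odd c hc1, if_neg hn] at hd
      norm_num at hd
    have ho : bsupp c ∈ codeSupps 8 := (mem_codeSupps 8 _).mpr ⟨c, hcG, hc8, rfl⟩
    obtain ⟨o', ho', m0, m1, m2, hint, hsd, k, hk, hko, hk0⟩ := exists_octad_E3 ho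
      ((mem_bsupp c none).mpr hc1) ((notMem_bsupp c _).mpr hc0) ((mem_bsupp c _).mpr hc2)
    have hkn : k ≠ none := fun h => hko (h ▸ (mem_bsupp c none).mpr hc1)
    have hk1 : k ≠ some 1 := fun h => hko (h ▸ (mem_bsupp c _).mpr hc2)
    refine ⟨_, isFrame_oct ho' m0 m1 m2 hk hkn hk0 hk1, ?_⟩
    rw [dotInt_add_left', dotInt_pmVec_two, sum_odd_over c hc1, if_pos m0, hint, hsd,
      dotInt_comm', dotInt_twoVec, odd_apply c hc1, odd_apply c hc1,
      if_pos ((mem_bsupp c none).mpr hc1), if_pos rfl, if_neg hko, if_neg hkn]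
    norm_num

lemma permVec_oa {σ : Equiv.Perm GolayPt} (h1 : σ none = none) (h2 : σ (some 0) = some 0) :
    permVec σ oa = oa := by
  unfold oa
  rw [permVec_twoVec, h1, h2]

lemma permVec_oc {σ : Equiv.Perm GolayPt} (h1 : σ none = none) (h2 : σ (some 1) = some 1) :
    permVec σ oc = oc := by
  unfold oc
  rw [permVec_twoVec, h1, h2]

/-- The 162 vectors lie in one orbit of the stabiliser of the standard triple. -/
theorem conj4_mc16 (y : GolayPt → ℤ) (hy : y ∈ mc16) : Conj4 u5 oa oc y u5 oa oc od := by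
  obtain ⟨z, ⟨hzL, nz, hzu, hza, hzc⟩, hzy⟩ := frame16 y hy
  obtain ⟨y', c1, hy'S, hv, hd⟩ := frame_reduce z y hzL nz hzu hza hzc hy.1
  rw [hzy] at hv
  rw [hy.2.2] at hd
  have hv4 : y' none = 4 := by omega
  have hy'A : y' ∈ mcA := by
    rcases (mem_mcSet_iff y').mp hy'S with h | h | h
    · exact h
    · have := val_f552B y' (hsB_sub h); omega
    · have := val_f552C y' (mcC_sub h); omega
  unfold mcA at hy'A
  rw [Finset.mem_image] at hy'A
  obtain ⟨j, hj, rfl⟩ := hy'A
  rw [Finset.mem_filter] at hj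
  have hj1 : j ≠ some 1 := by
    rintro rfl
    have : dotInt oc (twoVec none (some 1) 4) = 32 := dot_oc_oc
    omega
  obtain ⟨σ, hσ, hσ1, hσ2, hσ3, hσ4⟩ := m24_four_trans
    (show (none : GolayPt) ≠ some 0 by decide) (show (none : GolayPt) ≠ some 1 by decide)
    (Ne.symm hj.2.1) (show (some 0 : GolayPt) ≠ some 1 by decide) (Ne.symm hj.2.2) (Ne.symm hj1)
    (show (none : GolayPt) ≠ some 0 by decide) (show (none : GolayPt) ≠ some 1 by decide)
    (show (none : GolayPt) ≠ some 2 by decide) (show (some 0 : GolayPt) ≠ some 1 by decide)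
    (show (some 0 : GolayPt) ≠ some 2 by decide) (show (some 1 : GolayPt) ≠ some 2 by decide)
  have c2 := conj4_perm hσ u5_memL oa_mem oc_mem hy'S.1
  rw [permVec_u5 hσ1, permVec_oa hσ1 hσ2, permVec_oc hσ1 hσ3, permVec_twoVec, hσ1, hσ4] at c2
  exact c1.trans c2

/-- Reduction of one of the 112 vectors to an octad vector. -/
theorem conj4_mc8_red (y : GolayPt → ℤ) (hy : y ∈ mc8) :
    ∃ o ∈ octThrough {none, some 0}, some 1 ∉ o ∧ Conj4 u5 oa oc y u5 oa oc (pmVec 2 o ∅) := by
  obtain ⟨z, ⟨hzL, nz, hzu, hza, hzc⟩, hzy⟩ := frame8 y hy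
  obtain ⟨y', c1, hy'S, hv, hd⟩ := frame_reduce z y hzL nz hzu hza hzc hy.1
  rw [hzy] at hv
  rw [hy.2] at hd
  have hv2 : y' none = 2 := by omega
  have hy'B : y' ∈ hsB := by
    rcases (mem_mcSet_iff y').mp hy'S with h | h | h
    · have := val_f552A y' (mcA_sub h); omega
    · exact h
    · have := val_f552C y' (mcC_sub h); omega
  unfold hsB at hy'B
  rw [Finset.mem_image] at hy'B
  obtain ⟨o, ho, rfl⟩ := hy'B
  refine ⟨o, ho, ?_, c1⟩
  rw [mem_octThrough] at ho
  intro h1
  rw [dot_oc_pm o (ho.2 (by simp)), if_pos h1] at hd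
  norm_num at hd

/-- The 112 vectors lie in one orbit of the stabiliser of the standard triple. -/
theorem conj4_mc8 (y y' : GolayPt → ℤ) (hy : y ∈ mc8) (hy' : y' ∈ mc8) :
    Conj4 u5 oa oc y u5 oa oc y' := by
  obtain ⟨o, ho, h1, c1⟩ := conj4_mc8_red y hy
  obtain ⟨o', ho', h1', c1'⟩ := conj4_mc8_red y' hy'
  obtain ⟨σ, hσ, hσ1, hσ2, hσ3, himg⟩ := octThrough_two_out_trans
    (show (none : GolayPt) ≠ some 0 by decide) ho ho' h1 h1'
  have hpL : pmVec 2 o ∅ ∈ leechLattice := by
    obtain ⟨g, hg, m1, m2, m3, m4, -, -, -, e4⟩ := c1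
    rw [← e4]; exact (g ⟨y, m4⟩).2
  have c2 := conj4_perm hσ u5_memL oa_mem oc_mem hpL
  rw [permVec_u5 hσ1, permVec_oa hσ1 hσ2, permVec_oc hσ1 hσ3, permVec_pmVec, himg,
    Finset.image_empty] at c2
  exact (c1.trans c2).trans c1'.symm

end Cfsg.Agent.Lib.Helper94
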