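import Mathlib
import Cfsg.Agent.Lib.Helper94.LeechMcL6

/-! The 2025 vectors of sum of squares 32 orthogonal to `(4, 4, 0, …)` with inner product 16 with
`(5, 1^23)`: explicit families. -/

set_option autoImplicit false

namespace Cfsg.Agent.Lib.Helper94

open Cfsg
open Cfsg.Agent.Lib.Helper95

/-- The 2025 vectors. -/
def mlSet : Set (GolayPt → ℤ) :=
  {x | x ∈ leechLattice ∧ sqNorm x = 32 ∧ dotInt oa x = 0 ∧ dotInt u5 x = 16}

lemma dotInt_ob (x : GolayPt → ℤ) : dotInt ob x = 4 * x none - 4 * x (some 0) := by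
  unfold ob
  rw [dotInt_comm', dotInt_twoVec]
  ring

/-- Octad vectors avoiding the two base points. -/
noncomputable def mlB : Finset (GolayPt → ℤ) :=
  ((codeSupps 8).filter fun o => none ∉ o ∧ some 0 ∉ o).image fun o => pmVec 2 o ∅

/-- Index set of the second family. -/
noncomputable def mlCidx : Finset (Finset GolayPt × GolayPt) :=
  ((octThrough {none, some 0}) ×ˢ (Finset.univ : Finset GolayPt)).filter
    fun p => p.2 ∈ p.1 ∧ p.2 ≠ none ∧ p.2 ≠ some 0

/-- Octad vectors through the two base points with two minus signs. -/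
noncomputable def mlC : Finset (GolayPt → ℤ) :=
  mlCidx.image fun p => pmVec 2 p.1 {some 0, p.2}

/-- Index set of the third family. -/
noncomputable def mlDidx : Finset (GolayPt × (GolayPt → ZMod 2)) :=
  ((Finset.univ : Finset GolayPt) ×ˢ codeWords 8).filter
    fun p => p.1 ≠ none ∧ p.1 ≠ some 0 ∧ p.2 none = 0 ∧ p.2 (some 0) = 1 ∧ p.2 p.1 = 1

/-- Vectors of odd type. -/
noncomputable def mlD : Finset (GolayPt → ℤ) :=
  mlDidx.image fun p => signVec p.2 (oneVec {p.1} (-3))

lemma mem_mlCidx (p : Finset GolayPt × GolayPt) : p ∈ mlCidx ↔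
    p.1 ∈ octThrough {none, some 0} ∧ p.2 ∈ p.1 ∧ p.2 ≠ none ∧ p.2 ≠ some 0 := by
  unfold mlCidx
  rw [Finset.mem_filter, Finset.mem_product]
  simp only [Finset.mem_univ, and_true]

lemma mem_mlDidx (p : GolayPt × (GolayPt → ZMod 2)) : p ∈ mlDidx ↔
    p.2 ∈ codeWords 8 ∧ p.1 ≠ none ∧ p.1 ≠ some 0 ∧ p.2 none = 0 ∧ p.2 (some 0) = 1 ∧
      p.2 p.1 = 1 := by
  unfold mlDidx
  rw [Finset.mem_filter, Finset.mem_product]
  simp only [Finset.mem_univ, true_and]

lemma sum_ob : ∑ q, ob q = 0 := by
  unfold ob twoVec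
  simp only [Pi.add_apply, Finset.sum_add_distrib, Finset.sum_pi_single', Finset.mem_univ,
    if_true]
  norm_num

lemma ob_none : ob none = 4 := by
  unfold ob
  exact twoVec_apply_left (by decide) _

lemma ob_zero : ob (some 0) = -4 := by
  unfold ob
  exact twoVec_apply_right (by decide) _

lemma ob_mem_mlSet : ob ∈ mlSet := by
  refine ⟨ob_mem, sqNorm_ob, ?_, ?_⟩
  · rw [dotInt_oa, ob_none, ob_zero]; norm_num
  · rw [dotInt_u5, sum_ob, ob_none]; norm_num

lemma val_mlB (x : GolayPt → ℤ) (hx : x ∈ mlB) : x none = 0 ∧ x (some 0) = 0 := by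
  unfold mlB at hx
  rw [Finset.mem_image] at hx
  obtain ⟨o, ho, rfl⟩ := hx
  rw [Finset.mem_filter] at ho
  constructor
  · rw [pmVec_apply, if_neg (Finset.notMem_empty _), if_neg ho.2.1]
  · rw [pmVec_apply, if_neg (Finset.notMem_empty _), if_neg ho.2.2]

lemma val_mlC (x : GolayPt → ℤ) (hx : x ∈ mlC) : x none = 2 ∧ x (some 0) = -2 := by
  unfold mlC at hx
  rw [Finset.mem_image] at hx
  obtain ⟨p, hp, rfl⟩ := hx
  rw [mem_mlCidx, mem_octThrough] at hp
  constructor
  · rw [pmVec_apply, if_neg, if_pos (hp.1.2 (by simp))]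
    rw [Finset.mem_insert, Finset.mem_singleton]
    rintro (h | h)
    · exact absurd h (by decide)
    · exact hp.2.2.1 h.symm
  · rw [pmVec_apply, if_pos (by simp)]

lemma val_mlD (x : GolayPt → ℤ) (hx : x ∈ mlD) : x none = 1 ∧ x (some 0) = -1 := by
  unfold mlD at hx
  rw [Finset.mem_image] at hx
  obtain ⟨p, hp, rfl⟩ := hx
  rw [mem_mlDidx] at hp
  constructor
  · rw [signVec_apply, sgnOf_zero hp.2.2.2.1, oneVec_apply,
      if_neg (by simpa using hp.2.1.symm)]
    norm_num
  · rw [signVec_apply, sgnOf_one hp.2.2.2.2.1, oneVec_apply,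
      if_neg (by simpa using hp.2.2.1.symm)]
    norm_num

lemma mlB_sub (x : GolayPt → ℤ) (hx : x ∈ mlB) : x ∈ mlSet := by
  have hv := val_mlB x hx
  unfold mlB at hx
  rw [Finset.mem_image] at hx
  obtain ⟨o, ho, rfl⟩ := hx
  rw [Finset.mem_filter] at ho
  obtain ⟨c, hc, hc8, rfl⟩ := (mem_codeSupps 8 o).mp ho.1
  have hcard : (bsupp c).card = 8 := by rw [← hammingNorm_eq_card_bsupp, hc8]
  have hsum := sum_pmVec 2 (Finset.empty_subset (bsupp c))
  rw [hcard, Finset.card_empty] at hsum
  refine ⟨pmVec_two_mem hc (Finset.empty_subset _) (by rw [hcard]; norm_num), ?_, ?_, ?_⟩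
  · rw [sqNorm_pmVec 2 (Finset.empty_subset _), hcard]; norm_num
  · rw [dotInt_oa, hv.1, hv.2]; norm_num
  · rw [dotInt_u5, hsum, hv.1]; norm_num

lemma mlC_sub (x : GolayPt → ℤ) (hx : x ∈ mlC) : x ∈ mlSet := by
  have hv := val_mlC x hx
  unfold mlC at hx
  rw [Finset.mem_image] at hx
  obtain ⟨p, hp, rfl⟩ := hx
  rw [mem_mlCidx, mem_octThrough] at hp
  obtain ⟨⟨ho, hsub⟩, hk, hkn, hk0⟩ := hp
  obtain ⟨c, hc, hc8, hco⟩ := (mem_codeSupps 8 p.1).mp ho
  have hcard : p.1.card = 8 := by rw [← hco, ← hammingNorm_eq_card_bsupp, hc8]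
  have hts : ({some 0, p.2} : Finset GolayPt) ⊆ p.1 := by
    intro q hq
    rw [Finset.mem_insert, Finset.mem_singleton] at hq
    rcases hq with rfl | rfl
    · exact hsub (by simp)
    · exact hk
  have htc : ({some 0, p.2} : Finset GolayPt).card = 2 := Finset.card_pair (Ne.symm hk0)
  have hsum := sum_pmVec 2 hts
  rw [hcard, htc] at hsum
  refine ⟨?_, ?_, ?_, ?_⟩
  · have := pmVec_two_mem hc (t := {some 0, p.2}) (by rw [hco]; exact hts)
      (by rw [hco, hcard, htc]; norm_num)
    rw [hco] at this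
    exact this
  · rw [sqNorm_pmVec 2 hts, hcard]; norm_num
  · rw [dotInt_oa, hv.1, hv.2]; norm_num
  · rw [dotInt_u5, hsum, hv.1]; norm_num

lemma mlD_sub (x : GolayPt → ℤ) (hx : x ∈ mlD) : x ∈ mlSet := by
  have hv := val_mlD x hx
  unfold mlD at hx
  rw [Finset.mem_image] at hx
  obtain ⟨p, hp, rfl⟩ := hx
  rw [mem_mlDidx, mem_codeWords] at hp
  have hbase : oneVec {p.1} (-3) ∈ leechLattice := by
    apply mem_of_one_mod_four
    · intro i; exact oneVec_mod _ (by decide) i
    · rw [sum_oneVec, Finset.card_singleton]; decide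
  refine ⟨signVec_mem hp.1.1 _ hbase, ?_, ?_, ?_⟩
  · rw [sqNorm_signVec, sqNorm_oneVec, Finset.card_singleton]; norm_num
  · rw [dotInt_oa, hv.1, hv.2]; norm_num
  · rw [dotInt_u5, sum_signVec_oneVec, hv.1, hp.1.2, hp.2.2.2.2.2, ZMod.val_one]
    norm_num

lemma mlSet_sub (x : GolayPt → ℤ) (hx : x ∈ mlSet) :
    x = ob ∨ x ∈ mlB ∨ x ∈ mlC ∨ x ∈ mlD := by
  obtain ⟨hxL, nx, h0, h1⟩ := hx
  rw [dotInt_oa] at h0
  rw [dotInt_u5] at h1
  rcases mem_I_of_norm32 x hxL nx with h | h | h
  · right; right; right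
    obtain ⟨p, c, hc, hxe, h3, h1'⟩ := I1_abs x h
    have hS := sum_signVec_oneVec c p (-3)
    rw [← hxe] at hS
    have hW : c ≠ 0 → (8 : ℤ) ≤ (hammingNorm c : ℤ) := by
      intro hne
      exact_mod_cast golayCode_hmin c hc hne
    have hpn : p ≠ none := by
      rintro rfl
      have h4 := h1' (some 0) (by decide)
      rcases (abs_eq (by norm_num)).mp h3 with h5 | h5 <;>
        rcases (abs_eq (by norm_num)).mp h4 with h6 | h6 <;> omega
    have hp0 : p ≠ some 0 := by
      rintro rfl
      have h4 := h1' none (by decide)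
      rcases (abs_eq (by norm_num)).mp h3 with h5 | h5 <;>
        rcases (abs_eq (by norm_num)).mp h4 with h6 | h6 <;> omega
    have hxn : x none = sgnOf c none := by
      rw [hxe, signVec_apply, oneVec_apply, if_neg (by simpa using Ne.symm hpn)]
      ring
    have hx0 : x (some 0) = sgnOf c (some 0) := by
      rw [hxe, signVec_apply, oneVec_apply, if_neg (by simpa using Ne.symm hp0)]
      ring
    have hnz : ∀ q, c q = 1 → c ≠ 0 := by
      intro q hq hc0
      rw [hc0] at hq
      simp at hq
    rcases Cfsg.Agent.S0391.zmod2_cases (c none) with hn | hn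
    · rw [sgnOf_zero hn] at hxn
      rcases Cfsg.Agent.S0391.zmod2_cases (c (some 0)) with hz | hz
      · rw [sgnOf_zero hz] at hx0
        omega
      · have hw' := hW (hnz _ hz)
        rcases Cfsg.Agent.S0391.zmod2_cases (c p) with hv | hv
        · exfalso
          rw [hv, ZMod.val_zero] at hS
          push_cast at hS
          omega
        · rw [hv, ZMod.val_one] at hS
          push_cast at hS
          have hw8 : hammingNorm c = 8 := by
            have : (hammingNorm c : ℤ) = 8 := by omega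
            exact_mod_cast this
          unfold mlD
          rw [Finset.mem_image]
          refine ⟨(p, c), ?_, hxe.symm⟩
          rw [mem_mlDidx, mem_codeWords]
          exact ⟨⟨hc, hw8⟩, hpn, hp0, hn, hz, hv⟩
    · exfalso
      rw [sgnOf_one hn] at hxn
      have hw' := hW (hnz _ hn)
      rcases Cfsg.Agent.S0391.val_le_one (c p) with hv | hv
      · rw [hv] at hS
        push_cast at hS
        omega
      · rw [hv] at hS
        push_cast at hS
        omega
  · obtain ⟨s, t, hs, hts, hte, rfl⟩ := (Cfsg.Agent.S0394.mem_I2 _).mp h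
    have hcard := card_of_codeSupps hs
    have hsum := sum_pmVec 2 hts
    rw [hcard] at hsum
    rw [hsum] at h1
    push_cast at h1
    have htn : (0 : ℤ) ≤ t.card := Nat.cast_nonneg _
    rcases pmVec_abs 2 s t none with e1 | e1 | e1
    · right; left
      have ht0 : t = ∅ := by
        rw [e1] at h1
        have : t.card = 0 := by omega
        exact Finset.card_eq_zero.mp this
      subst ht0
      have e2 : pmVec 2 s ∅ (some 0) = 0 := by omega
      have hn : none ∉ s := by
        intro hin
        exact (pmVec_ne_zero_iff (a := 2) (by norm_num) hts none).mpr hin e1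
      have hz : some 0 ∉ s := by
        intro hin
        exact (pmVec_ne_zero_iff (a := 2) (by norm_num) hts (some 0)).mpr hin e2
      unfold mlB
      rw [Finset.mem_image]
      refine ⟨s, ?_, rfl⟩
      rw [Finset.mem_filter]
      exact ⟨hs, hn, hz⟩
    · right; right; left
      have htc : t.card = 2 := by
        rw [e1] at h1
        omega
      have e2 : pmVec 2 s t (some 0) = -2 := by omega
      have hzt : some 0 ∈ t := by
        by_contra hnt
        rw [pmVec_apply, if_neg hnt] at e2
        split_ifs at e2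
      have hnt : none ∉ t := by
        intro hin
        rw [pmVec_apply, if_pos hin] at e1
        omega
      have hns : none ∈ s :=
        (pmVec_ne_zero_iff (a := 2) (by norm_num) hts none).mp (by rw [e1]; norm_num)
      obtain ⟨a, b, hab, htab⟩ := Finset.card_eq_two.mp htc
      have hk : ∃ k, k ≠ some 0 ∧ t = {some 0, k} := by
        rw [htab, Finset.mem_insert, Finset.mem_singleton] at hzt
        rcases hzt with rfl | rfl
        · exact ⟨b, Ne.symm hab, htab⟩
        · exact ⟨a, hab, by rw [htab, Finset.pair_comm]⟩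
      obtain ⟨k, hk0, htk⟩ := hk
      have hkt : k ∈ t := by rw [htk]; simp
      unfold mlC
      rw [Finset.mem_image]
      refine ⟨(s, k), ?_, by rw [htk]⟩
      rw [mem_mlCidx, mem_octThrough]
      refine ⟨⟨hs, ?_⟩, hts hkt, ?_, hk0⟩
      · intro q hq
        rw [Finset.mem_insert, Finset.mem_singleton] at hq
        rcases hq with rfl | rfl
        · exact hns
        · exact hts hzt
      · rintro rfl
        exact hnt hkt
    · exfalso
      rw [e1] at h1
      omega
  · left
    obtain ⟨s, t, hs, hts, -, rfl⟩ := (Cfsg.Agent.S0394.mem_I3 _).mp h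
    have hcard := (Finset.mem_powersetCard.mp hs).2
    have hsum := sum_pmVec 4 hts
    rw [hcard] at hsum
    rw [hsum] at h1
    push_cast at h1
    have htn : (0 : ℤ) ≤ t.card := Nat.cast_nonneg _
    have e1 : pmVec 4 s t none = 4 := by
      rcases pmVec_abs 4 s t none with h' | h' | h' <;> omega
    have e2 : pmVec 4 s t (some 0) = -4 := by omega
    obtain ⟨j, hj, hcase⟩ := eq_twoVec_of_entry_four _ hxL nx none e1
    have hj0 : j = some 0 := by
      by_contra hne
      rcases hcase with h' | h' <;>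
      · rw [h', twoVec_apply_other (by decide) (Ne.symm hne)] at e2
        omega
    subst hj0
    rcases hcase with h' | h'
    · exfalso
      rw [h', twoVec_apply_right (by decide)] at e2
      omega
    · exact h'

lemma mem_mlSet_iff (x : GolayPt → ℤ) : x ∈ mlSet ↔ x = ob ∨ x ∈ mlB ∨ x ∈ mlC ∨ x ∈ mlD := by
  constructor
  · exact mlSet_sub x
  · rintro (h | h | h | h)
    · rw [h]; exact ob_mem_mlSet
    · exact mlB_sub x h
    · exact mlC_sub x h
    · exact mlD_sub x h

end Cfsg.Agent.Lib.Helper94
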