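import Mathlib
import Cfsg.Agent.Lib.Helper94.LeechML1

/-! Counting the 2025 vectors and the three classes. -/

set_option autoImplicit false

namespace Cfsg.Agent.Lib.Helper94

open Cfsg
open Cfsg.Agent.Lib.Helper95

lemma card_oct_avoid_two :
    ((codeSupps 8).filter fun o => (none : GolayPt) ∉ o ∧ (some 0 : GolayPt) ∉ o).card = 330 := by
  classical
  have h1 := Finset.card_filter_add_card_filter_not (s := codeSupps 8)
    (fun o => (none : GolayPt) ∈ o)
  have e1 : ((codeSupps 8).filter fun o => (none : GolayPt) ∈ o) = octThrough {none} := by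
    ext o
    rw [Finset.mem_filter, mem_octThrough, Finset.singleton_subset_iff]
  rw [e1, card_octThrough_one, card_codeSupps_eight] at h1
  have h2 := Finset.card_filter_add_card_filter_not (s := octThrough {(some 0 : GolayPt)})
    (fun o => (none : GolayPt) ∈ o)
  have e2 : ((octThrough {(some 0 : GolayPt)}).filter fun o => (none : GolayPt) ∈ o) =
      octThrough {none, some 0} := by
    ext o
    rw [Finset.mem_filter, mem_octThrough, mem_octThrough]
    simp only [Finset.insert_subset_iff, Finset.singleton_subset_iff]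
    tauto
  rw [e2, card_octThrough_two (by decide), card_octThrough_one] at h2
  have h3 := Finset.card_filter_add_card_filter_not
    (s := (codeSupps 8).filter fun o => ¬ (none : GolayPt) ∈ o)
    (fun o => (some 0 : GolayPt) ∈ o)
  rw [Finset.filter_filter, Finset.filter_filter] at h3
  have e3 : ((codeSupps 8).filter fun o => ¬ (none : GolayPt) ∈ o ∧ (some 0 : GolayPt) ∈ o) =
      (octThrough {(some 0 : GolayPt)}).filter fun o => ¬ (none : GolayPt) ∈ o := by
    ext o
    rw [Finset.mem_filter, Finset.mem_filter, mem_octThrough, Finset.singleton_subset_iff]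
    tauto
  rw [e3] at h3
  omega

lemma card_mlB : mlB.card = 330 := by
  unfold mlB
  rw [Finset.card_image_of_injective _ pm_injective, card_oct_avoid_two]

lemma card_mlCidx : mlCidx.card = 462 := by
  classical
  rw [Finset.card_eq_sum_card_fiberwise (f := Prod.fst) (t := octThrough {none, some 0})]
  · have : ∀ o ∈ octThrough {(none : GolayPt), some 0},
        (mlCidx.filter fun p => p.1 = o).card = 6 := by
      intro o ho
      have e : (mlCidx.filter fun p => p.1 = o) =
          ((o.erase none).erase (some 0)).image fun k => (o, k) := by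
        ext p
        rw [Finset.mem_filter, mem_mlCidx, Finset.mem_image]
        constructor
        · rintro ⟨⟨-, h2, h3, h4⟩, rfl⟩
          refine ⟨p.2, ?_, rfl⟩
          rw [Finset.mem_erase, Finset.mem_erase]
          exact ⟨h4, h3, h2⟩
        · rintro ⟨k, hk, rfl⟩
          rw [Finset.mem_erase, Finset.mem_erase] at hk
          exact ⟨⟨ho, hk.2.2, hk.2.1, hk.1⟩, rfl⟩
      rw [e, Finset.card_image_of_injective _ (fun a b h => (Prod.mk.inj h).2)]
      rw [mem_octThrough] at ho
      have hc := card_of_codeSupps ho.1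
      rw [Finset.card_erase_of_mem, Finset.card_erase_of_mem (ho.2 (by simp)), hc]
      rw [Finset.mem_erase]
      exact ⟨by decide, ho.2 (by simp)⟩
    rw [Finset.sum_congr rfl this, Finset.sum_const, card_octThrough_two (by decide)]
    rfl
  · intro p hp
    rw [Finset.mem_coe] at hp ⊢
    rw [mem_mlCidx] at hp
    exact hp.1

lemma card_mlC : mlC.card = 462 := by
  unfold mlC
  rw [Finset.card_image_of_injOn, card_mlCidx]
  intro p hp p' hp' h
  rw [Finset.mem_coe, mem_mlCidx, mem_octThrough] at hp hp'
  have hts : ({some 0, p.2} : Finset GolayPt) ⊆ p.1 := by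
    intro q hq
    rw [Finset.mem_insert, Finset.mem_singleton] at hq
    rcases hq with rfl | rfl
    · exact hp.1.2 (by simp)
    · exact hp.2.1
  have hts' : ({some 0, p'.2} : Finset GolayPt) ⊆ p'.1 := by
    intro q hq
    rw [Finset.mem_insert, Finset.mem_singleton] at hq
    rcases hq with rfl | rfl
    · exact hp'.1.2 (by simp)
    · exact hp'.2.1
  obtain ⟨e1, e2⟩ := pmVec_inj (a := 2) (by norm_num) hts hts' h
  have : p.2 ∈ ({some 0, p'.2} : Finset GolayPt) := by rw [← e2]; simp
  rw [Finset.mem_insert, Finset.mem_singleton] at this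
  rcases this with h' | h'
  · exact absurd h' hp.2.2.2
  · exact Prod.ext e1 h'

lemma card_mlDidx : mlDidx.card = 1232 := by
  classical
  rw [Finset.card_eq_sum_card_fiberwise (f := Prod.fst)
    (t := Finset.univ.filter fun j : GolayPt => j ≠ none ∧ j ≠ some 0)]
  · have : ∀ j ∈ Finset.univ.filter (fun j : GolayPt => j ≠ none ∧ j ≠ some 0),
        (mlDidx.filter fun p => p.1 = j).card = 56 := by
      intro j hj
      rw [Finset.mem_filter] at hj
      have e : (mlDidx.filter fun p => p.1 = j) =
          ((codeWords 8).filter fun c => c (some 0) = 1 ∧ c j = 1 ∧ c none = 0).image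
            fun c => (j, c) := by
        ext p
        rw [Finset.mem_filter, mem_mlDidx, Finset.mem_image]
        constructor
        · rintro ⟨⟨h1, -, -, h4, h5, h6⟩, rfl⟩
          refine ⟨p.2, ?_, rfl⟩
          rw [Finset.mem_filter]
          exact ⟨h1, h5, h6, h4⟩
        · rintro ⟨c, hc, rfl⟩
          rw [Finset.mem_filter] at hc
          exact ⟨⟨hc.1, hj.2.1, hj.2.2, hc.2.2.2, hc.2.1, hc.2.2.1⟩, rfl⟩
      rw [e, Finset.card_image_of_injective _ (fun a b h => (Prod.mk.inj h).2)]
      exact card_words_two_out (Ne.symm hj.2.2) (by decide) hj.2.1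
    rw [Finset.sum_congr rfl this, Finset.sum_const]
    have : (Finset.univ.filter fun j : GolayPt => j ≠ none ∧ j ≠ some 0).card = 22 := by decide
    rw [this]
    rfl
  · intro p hp
    rw [Finset.mem_coe] at hp ⊢
    rw [mem_mlDidx] at hp
    rw [Finset.mem_filter]
    exact ⟨Finset.mem_univ _, hp.2.1, hp.2.2.1⟩

lemma card_mlD : mlD.card = 1232 := by
  unfold mlD
  rw [Finset.card_image_of_injOn, card_mlDidx]
  intro p _ p' _ h
  obtain ⟨e1, e2⟩ := signVec_inj_of_one_mod_four (fun i => oneVec_mod _ (by decide) i)
    (fun i => oneVec_mod _ (by decide) i) h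
  have := oneVec_inj (b := -3) (by norm_num) e2
  exact Prod.ext (Finset.singleton_injective this) e1

/-- The union of the families. -/
noncomputable def mlFam : Finset (GolayPt → ℤ) := insert ob (mlB ∪ mlC ∪ mlD)

lemma mem_mlFam (x : GolayPt → ℤ) : x ∈ mlFam ↔ x ∈ mlSet := by
  unfold mlFam
  rw [mem_mlSet_iff, Finset.mem_insert, Finset.mem_union, Finset.mem_union, or_assoc]

lemma card_mlFam : mlFam.card = 2025 := by
  unfold mlFam
  rw [Finset.card_insert_of_notMem, Finset.card_union_of_disjoint,
    Finset.card_union_of_disjoint, card_mlB, card_mlC, card_mlD]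
  · rw [Finset.disjoint_left]
    intro x hx hx'
    have := val_mlB x hx
    have := val_mlC x hx'
    omega
  · rw [Finset.disjoint_left]
    intro x hx hx'
    have h3 := val_mlD x hx'
    rw [Finset.mem_union] at hx
    rcases hx with hx | hx
    · have := val_mlB x hx; omega
    · have := val_mlC x hx; omega
  · rw [Finset.mem_union, Finset.mem_union]
    rintro ((h | h) | h)
    · have := val_mlB _ h; rw [ob_none] at this; omega
    · have := val_mlC _ h; rw [ob_none] at this; omega
    · have := val_mlD _ h; rw [ob_none] at this; omega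

theorem ncard_mlSet : mlSet.ncard = 2025 := by
  have : mlSet = ↑mlFam := by
    ext x
    rw [Finset.mem_coe, mem_mlFam]
  rw [this, Set.ncard_coe_finset, card_mlFam]

/-- The class of a vector, read off from the inner product with the base vector. -/
lemma mem_mlB_iff (y : GolayPt → ℤ) : y ∈ mlB ↔ y ∈ mlSet ∧ dotInt ob y = 0 := by
  constructor
  · intro h
    refine ⟨mlB_sub y h, ?_⟩
    have := val_mlB y h
    rw [dotInt_ob, this.1, this.2]; norm_num
  · rintro ⟨h, hd⟩
    rw [dotInt_ob] at hd
    rw [mem_mlSet_iff] at h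
    rcases h with h | h | h | h
    · rw [h, ob_none, ob_zero] at hd; omega
    · exact h
    · have := val_mlC y h; omega
    · have := val_mlD y h; omega

lemma mem_mlC_iff (y : GolayPt → ℤ) : y ∈ mlC ↔ y ∈ mlSet ∧ dotInt ob y = 16 := by
  constructor
  · intro h
    refine ⟨mlC_sub y h, ?_⟩
    have := val_mlC y h
    rw [dotInt_ob, this.1, this.2]; norm_num
  · rintro ⟨h, hd⟩
    rw [dotInt_ob] at hd
    rw [mem_mlSet_iff] at h
    rcases h with h | h | h | h
    · rw [h, ob_none, ob_zero] at hd; omega
    · have := val_mlB y h; omega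
    · exact h
    · have := val_mlD y h; omega

lemma mem_mlD_iff (y : GolayPt → ℤ) : y ∈ mlD ↔ y ∈ mlSet ∧ dotInt ob y = 8 := by
  constructor
  · intro h
    refine ⟨mlD_sub y h, ?_⟩
    have := val_mlD y h
    rw [dotInt_ob, this.1, this.2]; norm_num
  · rintro ⟨h, hd⟩
    rw [dotInt_ob] at hd
    rw [mem_mlSet_iff] at h
    rcases h with h | h | h | h
    · rw [h, ob_none, ob_zero] at hd; omega
    · have := val_mlB y h; omega
    · have := val_mlC y h; omega
    · exact h

end Cfsg.Agent.Lib.Helper94
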