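import Mathlib
import Cfsg.Agent.Lib.Helper94.LeechML2
import Cfsg.Agent.Lib.Helper94.M22Orb

/-! Transitivity statements for the 2025 vectors. -/

set_option autoImplicit false

namespace Cfsg.Agent.Lib.Helper94

open Cfsg
open Cfsg.Agent.Lib.Helper95
open scoped Pointwise

lemma supports_of_codeSupps {k : ℕ} {s : Finset GolayPt} (hs : s ∈ codeSupps k) :
    s ∈ supports (golayCode : Set (GolayPt → ZMod 2)) ∧ s.card = k := by
  refine ⟨?_, card_of_codeSupps hs⟩
  obtain ⟨c, hc, -, hcs⟩ := (mem_codeSupps k s).mp hs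
  exact ⟨c, hc, by rw [support₂_eq_bsupp]; exact hcs⟩

lemma mem_image_perm_inv (τ : Equiv.Perm GolayPt) (s : Finset GolayPt) (q : GolayPt) :
    q ∈ s.image (τ⁻¹ : Equiv.Perm GolayPt) ↔ τ q ∈ s := by
  rw [Finset.mem_image]
  constructor
  · rintro ⟨x, hx, rfl⟩
    simpa using hx
  · intro h
    exact ⟨τ q, h, by simp⟩

/-- The stabiliser of two points is transitive on the words of weight 8 or 12 with given
incidences with the two points. -/
theorem pp_trans {k : ℕ} (hk : k = 8 ∨ k = 12) {a b : GolayPt} (hab : a ≠ b)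
    {s s' : Finset GolayPt} (hs : s ∈ codeSupps k) (hs' : s' ∈ codeSupps k)
    (ha : a ∈ s ↔ a ∈ s') (hb : b ∈ s ↔ b ∈ s') :
    ∃ σ ∈ M24, σ a = a ∧ σ b = b ∧ s.image σ = s' := by
  obtain ⟨τ, hτ, t0, t1⟩ := m24_two_trans (a := some 0) (b := some 1) (c := a) (d := b)
    (by decide) hab
  have hτi : τ⁻¹ ∈ M24 := M24.inv_mem hτ
  have ht := supports_of_codeSupps (image_mem_codeSupps hτi hs)
  have ht' := supports_of_codeSupps (image_mem_codeSupps hτi hs')
  obtain ⟨g, hg, hgt⟩ := base_pp_trans hk ht.1 ht.2 ht'.1 ht'.2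
    (by rw [mem_image_perm_inv, mem_image_perm_inv, t0]; exact ha)
    (by rw [mem_image_perm_inv, mem_image_perm_inv, t1]; exact hb)
  have g0 : g (some 0) = some 0 := MulAction.mem_stabilizer_iff.mp hg.2.1
  have g1 : g (some 1) = some 1 := MulAction.mem_stabilizer_iff.mp hg.2.2
  have i0 : τ⁻¹ a = some 0 := by rw [← t0]; simp
  have i1 : τ⁻¹ b = some 1 := by rw [← t1]; simp
  refine ⟨τ * g * τ⁻¹, M24.mul_mem (M24.mul_mem hτ hg.1) hτi, ?_, ?_, ?_⟩
  · rw [Equiv.Perm.mul_apply, Equiv.Perm.mul_apply, i0, g0, t0]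
  · rw [Equiv.Perm.mul_apply, Equiv.Perm.mul_apply, i1, g1, t1]
  · have e1 : (s.image (τ⁻¹ : Equiv.Perm GolayPt)).image g = s'.image (τ⁻¹ : Equiv.Perm GolayPt) := by
      rw [← hgt, Finset.smul_finset_def]
      rfl
    have e2 : s.image (τ * g * τ⁻¹ : Equiv.Perm GolayPt) =
        ((s.image (τ⁻¹ : Equiv.Perm GolayPt)).image g).image τ := by
      rw [Finset.image_image, Finset.image_image]
      rfl
    rw [e2, e1, Finset.image_image]
    ext q
    rw [Finset.mem_image]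
    constructor
    · rintro ⟨x, hx, rfl⟩
      simpa using hx
    · intro h
      exact ⟨q, h, by simp⟩

/-- The stabiliser of two points is transitive on the pairs of an octad through them and a
further point of it. -/
lemma octThrough_three_trans {a b : GolayPt} (hab : a ≠ b) {o o' : Finset GolayPt}
    {k k' : GolayPt} (ho : o ∈ octThrough {a, b}) (ho' : o' ∈ octThrough {a, b})
    (hk : k ∈ o) (hk' : k' ∈ o') (hka : k ≠ a) (hkb : k ≠ b) (hka' : k' ≠ a) (hkb' : k' ≠ b) :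
    ∃ σ ∈ M24, σ a = a ∧ σ b = b ∧ σ k = k' ∧ o.image σ = o' := by
  rw [mem_octThrough] at ho ho'
  have two : ∀ (o : Finset GolayPt) (k : GolayPt), o ∈ codeSupps 8 →
      ({a, b} : Finset GolayPt) ⊆ o → k ∈ o → k ≠ a → k ≠ b →
      ∃ d e, d ∈ o ∧ e ∈ o ∧ [a, b, k, d, e].Nodup := by
    intro o k ho hab' hk hka hkb
    have hcard := card_of_codeSupps ho
    have hbig : 2 ≤ (((o.erase a).erase b).erase k).card := by
      have h1 := Finset.pred_card_le_card_erase (s := o) (a := a)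
      have h2 := Finset.pred_card_le_card_erase (s := o.erase a) (a := b)
      have h3 := Finset.pred_card_le_card_erase (s := (o.erase a).erase b) (a := k)
      omega
    obtain ⟨u, hu, hu2⟩ := Finset.exists_subset_card_eq hbig
    obtain ⟨d, e, hde, rfl⟩ := Finset.card_eq_two.mp hu2
    have hd := hu (show d ∈ ({d, e} : Finset GolayPt) by simp)
    have he := hu (show e ∈ ({d, e} : Finset GolayPt) by simp)
    rw [Finset.mem_erase, Finset.mem_erase, Finset.mem_erase] at hd he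
    refine ⟨d, e, hd.2.2.2, he.2.2.2, ?_⟩
    simp only [List.nodup_cons, List.mem_cons, List.not_mem_nil, not_or, or_false,
      List.nodup_nil, and_true, not_false_eq_true]
    exact ⟨⟨hab, hka.symm, hd.2.2.1.symm, he.2.2.1.symm⟩, ⟨hkb.symm, hd.2.1.symm, he.2.1.symm⟩,
      ⟨hd.1.symm, he.1.symm⟩, hde⟩
  obtain ⟨d, e, hd, he, hnd⟩ := two o k ho.1 ho.2 hk hka hkb
  obtain ⟨d', e', hd', he', hnd'⟩ := two o' k' ho'.1 ho'.2 hk' hka' hkb'
  obtain ⟨σ, hσ, h1, h2, h3, h4, h5⟩ := m24_five_trans hnd hnd'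
  refine ⟨σ, hσ, h1, h2, h3, ?_⟩
  apply Cfsg.Agent.Lib.Helper10.octad_eq_of_inter_ge
    (mem_octads_of_codeSupps (image_mem_codeSupps hσ ho.1)) (mem_octads_of_codeSupps ho'.1)
  have hsub : ({a, b, k', d', e'} : Finset GolayPt) ⊆ o.image σ ∩ o' := by
    intro q hq
    simp only [Finset.mem_insert, Finset.mem_singleton] at hq
    rw [Finset.mem_inter, Finset.mem_image]
    rcases hq with rfl | rfl | rfl | rfl | rfl
    · exact ⟨⟨q, ho.2 (by simp), h1⟩, ho'.2 (by simp)⟩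
    · exact ⟨⟨q, ho.2 (by simp), h2⟩, ho'.2 (by simp)⟩
    · exact ⟨⟨k, hk, h3⟩, hk'⟩
    · exact ⟨⟨d, hd, h4⟩, hd'⟩
    · exact ⟨⟨e, he, h5⟩, he'⟩
  have h5card : ({a, b, k', d', e'} : Finset GolayPt).card = 5 := by
    have := List.toFinset_card_of_nodup hnd'
    simpa using this
  calc 5 = ({a, b, k', d', e'} : Finset GolayPt).card := h5card.symm
    _ ≤ _ := Finset.card_le_card hsub

lemma Conj3.sub_first {x y z x' y' z' : GolayPt → ℤ} (h : Conj3 x y z x' y' z') :
    Conj3 y z (x - z) y' z' (x' - z') := by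
  obtain ⟨g, hg, hx, hy, hz, h1, h2, h3⟩ := h
  have hm : x - z ∈ leechLattice := leechLattice.sub_mem hx hz
  refine ⟨g, hg, hy, hz, hm, h2, h3, ?_⟩
  have : (⟨x - z, hm⟩ : leechLattice) = ⟨x, hx⟩ - ⟨z, hz⟩ := rfl
  rw [this, co0_sub g hg, ← h1, ← h3]
  rfl

lemma vec8_sub_oa : vec8 none - oa = ob := by
  unfold oa ob twoVec vec8
  ext p
  by_cases h1 : p = none
  · subst h1; simp
  · by_cases h2 : p = some 0
    · subst h2; simp
    · simp [Pi.single_apply, h1, h2]

/-- All the 2025 vectors are in one orbit of the stabiliser of the standard pair. -/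
theorem conj3_mlSet (x : GolayPt → ℤ) (hx : x ∈ mlSet) : Conj3 u5 oa x u5 oa ob := by
  obtain ⟨hxL, nx, hvx, hux⟩ := hx
  have hyL : x + oa ∈ leechLattice := leechLattice.add_mem hxL oa_mem
  have ny : sqNorm (x + oa) = 64 := by
    rw [sqNorm_add, sqNorm_oa, nx, dotInt_comm', hvx]; norm_num
  have hyu : dotInt (x + oa) u5 = 40 := by
    rw [dotInt_comm', dotInt_add_right', dotInt_u5_oa, hux]; norm_num
  have hyv : dotInt (x + oa) oa = 32 := by
    rw [dotInt_add_left', dotInt_self, sqNorm_oa, dotInt_comm', hvx]; norm_num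
  obtain ⟨s, hs, hds, c3⟩ := conj3_of_frame48 (x + oa) u5 oa hyL u5_memL oa_mem ny sqNorm_u5
    sqNorm_oa hyu hyv
  rw [dotInt_u5_oa] at hds
  have hs4 : s = 4 := by omega
  subst hs4
  have c4 := c3.sub_first
  have e1 : x + oa - oa = x := by abel
  have e2 : vec8 none - twoVec none (some 0) 4 = ob := vec8_sub_oa
  rw [e1, e2] at c4
  exact c4

end Cfsg.Agent.Lib.Helper94

namespace Cfsg.Agent.Lib.Helper94

open Cfsg
open Cfsg.Agent.Lib.Helper95

/-- Transitivity of the monomial point stabiliser on each of the three classes. -/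
theorem ml_rank4 (y y' : GolayPt → ℤ) (hy : y ∈ mlSet) (hy' : y' ∈ mlSet) (hne : y ≠ ob)
    (hne' : y' ≠ ob) (h : dotInt ob y = dotInt ob y') :
    ∃ σ ∈ M24, σ none = none ∧ σ (some 0) = some 0 ∧ permVec σ y = y' := by
  have hy0 := hy
  rw [mem_mlSet_iff] at hy0
  rcases hy0 with hy0 | hy0 | hy0 | hy0
  · exact absurd hy0 hne
  · -- octads avoiding the two points
    have d1 := ((mem_mlB_iff y).mp hy0).2
    have hy0' : y' ∈ mlB := (mem_mlB_iff y').mpr ⟨hy', by rw [← h]; exact d1⟩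
    unfold mlB at hy0 hy0'
    rw [Finset.mem_image] at hy0 hy0'
    obtain ⟨o, ho, rfl⟩ := hy0
    obtain ⟨o', ho', rfl⟩ := hy0'
    rw [Finset.mem_filter] at ho ho'
    obtain ⟨σ, hσ, h1, h2, h3⟩ := pp_trans (Or.inl rfl)
      (show (none : GolayPt) ≠ some 0 by decide) ho.1 ho'.1
      ⟨fun h => absurd h ho.2.1, fun h => absurd h ho'.2.1⟩
      ⟨fun h => absurd h ho.2.2, fun h => absurd h ho'.2.2⟩
    refine ⟨σ, hσ, h1, h2, ?_⟩
    rw [permVec_pmVec, h3, Finset.image_empty]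
  · have d1 := ((mem_mlC_iff y).mp hy0).2
    have hy0' : y' ∈ mlC := (mem_mlC_iff y').mpr ⟨hy', by rw [← h]; exact d1⟩
    unfold mlC at hy0 hy0'
    rw [Finset.mem_image] at hy0 hy0'
    obtain ⟨p, hp, rfl⟩ := hy0
    obtain ⟨p', hp', rfl⟩ := hy0'
    rw [mem_mlCidx] at hp hp'
    obtain ⟨σ, hσ, h1, h2, h3, h4⟩ := octThrough_three_trans
      (show (none : GolayPt) ≠ some 0 by decide) hp.1 hp'.1 hp.2.1 hp'.2.1 hp.2.2.1 hp.2.2.2
      hp'.2.2.1 hp'.2.2.2
    refine ⟨σ, hσ, h1, h2, ?_⟩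
    rw [permVec_pmVec, h4, Finset.image_insert, Finset.image_singleton, h2, h3]
  · have d1 := ((mem_mlD_iff y).mp hy0).2
    have hy0' : y' ∈ mlD := (mem_mlD_iff y').mpr ⟨hy', by rw [← h]; exact d1⟩
    unfold mlD at hy0 hy0'
    rw [Finset.mem_image] at hy0 hy0'
    obtain ⟨p, hp, rfl⟩ := hy0
    obtain ⟨p', hp', rfl⟩ := hy0'
    rw [mem_mlDidx, mem_codeWords] at hp hp'
    obtain ⟨⟨hc, hc8⟩, hpn, hp0, cn, c0, cp⟩ := hp
    obtain ⟨⟨hc', hc8'⟩, hpn', hp0', cn', c0', cp'⟩ := hp'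
    obtain ⟨σ1, hσ1, a1, a2, a3⟩ := m24_three_trans (a := none) (b := some 0) (c := p.1)
      (a' := none) (b' := some 0) (c' := p'.1) (by decide) hpn.symm hp0.symm (by decide)
      hpn'.symm hp0'.symm
    have ho : bsupp p.2 ∈ codeSupps 8 := (mem_codeSupps 8 _).mpr ⟨p.2, hc, hc8, rfl⟩
    have ho' : bsupp p'.2 ∈ codeSupps 8 := (mem_codeSupps 8 _).mpr ⟨p'.2, hc', hc8', rfl⟩
    have ho1 : (bsupp p.2).image σ1 ∈ octThrough {some 0, p'.1} := by
      rw [mem_octThrough]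
      refine ⟨image_mem_codeSupps hσ1 ho, ?_⟩
      intro q hq
      rw [Finset.mem_insert, Finset.mem_singleton] at hq
      rw [Finset.mem_image]
      rcases hq with rfl | rfl
      · exact ⟨some 0, (mem_bsupp _ _).mpr c0, a2⟩
      · exact ⟨p.1, (mem_bsupp _ _).mpr cp, a3⟩
    have ho2 : bsupp p'.2 ∈ octThrough {some 0, p'.1} := by
      rw [mem_octThrough]
      refine ⟨ho', ?_⟩
      intro q hq
      rw [Finset.mem_insert, Finset.mem_singleton] at hq
      rcases hq with rfl | rfl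
      · exact (mem_bsupp _ _).mpr c0'
      · exact (mem_bsupp _ _).mpr cp'
    have hr1 : none ∉ (bsupp p.2).image σ1 := by
      rw [Finset.mem_image]
      rintro ⟨q, hq, hq'⟩
      have : q = none := by
        apply σ1.injective
        rw [hq', a1]
      rw [this] at hq
      exact (notMem_bsupp _ _).mpr cn hq
    have hr2 : none ∉ bsupp p'.2 := (notMem_bsupp _ _).mpr cn'
    obtain ⟨σ2, hσ2, b1, b2, b3, b4⟩ := octThrough_two_out_trans (a := some 0) (b := p'.1)
      (r := none) (Ne.symm hp0') ho1 ho2 hr1 hr2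
    refine ⟨σ2 * σ1, M24.mul_mem hσ2 hσ1, ?_, ?_, ?_⟩
    · rw [Equiv.Perm.mul_apply, a1, b3]
    · rw [Equiv.Perm.mul_apply, a2, b1]
    · rw [permVec_signVec, permVec_oneVec, Finset.image_singleton, Equiv.Perm.mul_apply, a3, b2]
      congr 1
      apply bsupp_injective
      rw [bsupp_permWord, ← b4, Finset.image_image]
      rfl

end Cfsg.Agent.Lib.Helper94
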