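import Mathlib
import Cfsg.Agent.Lib.Helper94.LeechML3

/-! The 11178 vectors of sum of squares 32 with inner product 16 with `(5, 1^23)`: shapes and
frame reductions. -/

set_option autoImplicit false

namespace Cfsg.Agent.Lib.Helper94

open Cfsg
open Cfsg.Agent.Lib.Helper95

/-- The 11178 vectors. -/
def c3Set : Set (GolayPt → ℤ) :=
  {x | x ∈ leechLattice ∧ sqNorm x = 32 ∧ dotInt u5 x = 16}

theorem ncard_c3Set : c3Set.ncard = 11178 := cnt11178

lemma mem_mlSet_iff_c3 (x : GolayPt → ℤ) : x ∈ mlSet ↔ x ∈ c3Set ∧ dotInt oa x = 0 := by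
  constructor
  · rintro ⟨a, b, c, d⟩
    exact ⟨⟨a, b, d⟩, c⟩
  · rintro ⟨⟨a, b, d⟩, c⟩
    exact ⟨a, b, c, d⟩

lemma ob_mem_c3Set : ob ∈ c3Set := ((mem_mlSet_iff_c3 ob).mp ob_mem_mlSet).1

lemma sum_c3 {x : GolayPt → ℤ} (hx : x ∈ c3Set) : ∑ q, x q = 16 - 4 * x none := by
  have := hx.2.2
  rw [dotInt_u5] at this
  omega

lemma sqNorm_eq_zero {x : GolayPt → ℤ} (h : sqNorm x = 0) : x = 0 := by
  unfold sqNorm at h
  have h2 := (Finset.sum_eq_zero_iff_of_nonneg (fun i _ => sq_nonneg (x i))).mp h
  ext i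
  have := h2 i (Finset.mem_univ _)
  simpa using this

/-- A vector of the set having inner product 32 with the base vector is the base vector. -/
lemma eq_ob_of_dot {y : GolayPt → ℤ} (hy : y ∈ c3Set) (h : dotInt ob y = 32) : y = ob := by
  have h1 : sqNorm (y - ob) = 0 := by
    rw [sqNorm_sub, hy.2.1, sqNorm_ob, dotInt_comm', h]; norm_num
  have := sqNorm_eq_zero h1
  exact sub_eq_zero.mp this

/-- The shapes of the vectors of the set. -/
lemma c3_shape (x : GolayPt → ℤ) (hx : x ∈ c3Set) :
    (∃ j, j ≠ none ∧ x = twoVec none j (-4)) ∨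
    (∃ o ∈ codeSupps 8, none ∉ o ∧ x = pmVec 2 o ∅) ∨
    (∃ o ∈ codeSupps 8, ∃ k l, none ∈ o ∧ k ∈ o ∧ l ∈ o ∧ k ≠ l ∧ k ≠ none ∧ l ≠ none ∧
      x = pmVec 2 o {k, l}) ∨
    (∃ c ∈ codeWords 12, c none = 1 ∧ x = signVec c (oneVec {none} (-3))) ∨
    (∃ p, p ≠ none ∧ ∃ c ∈ codeWords 8, c none = 0 ∧ c p = 1 ∧
      x = signVec c (oneVec {p} (-3))) := by
  obtain ⟨hxL, nx, h1⟩ := hx
  rw [dotInt_u5] at h1
  rcases mem_I_of_norm32 x hxL nx with h | h | h
  · right; right; right
    obtain ⟨p, c, hc, hxe, h3, h1'⟩ := I1_abs x h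
    have hS := sum_signVec_oneVec c p (-3)
    rw [← hxe] at hS
    have hW : c ≠ 0 → (8 : ℤ) ≤ (hammingNorm c : ℤ) := by
      intro hne
      exact_mod_cast golayCode_hmin c hc hne
    have hnz : ∀ q, c q = 1 → c ≠ 0 := by
      intro q hq hc0
      rw [hc0] at hq
      simp at hq
    have hwn : (0 : ℤ) ≤ (hammingNorm c : ℤ) := Nat.cast_nonneg _
    by_cases hp : p = none
    · subst hp
      left
      have hxn : x none = sgnOf c none * (-3) := by
        rw [hxe, signVec_apply, oneVec_apply, if_pos (Finset.mem_singleton_self _)]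
      rcases Cfsg.Agent.S0391.zmod2_cases (c none) with hn | hn
      · exfalso
        rw [sgnOf_zero hn] at hxn
        rw [hn, ZMod.val_zero] at hS
        push_cast at hS
        omega
      · rw [sgnOf_one hn] at hxn
        rw [hn, ZMod.val_one] at hS
        push_cast at hS
        have hw12 : hammingNorm c = 12 := by
          have : (hammingNorm c : ℤ) = 12 := by omega
          exact_mod_cast this
        exact ⟨c, (mem_codeWords 12 c).mpr ⟨hc, hw12⟩, hn, hxe⟩
    · right
      have hxn : x none = sgnOf c none := by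
        rw [hxe, signVec_apply, oneVec_apply, if_neg (by simpa using Ne.symm hp)]
        ring
      rcases Cfsg.Agent.S0391.zmod2_cases (c none) with hn | hn
      · rw [sgnOf_zero hn] at hxn
        rcases Cfsg.Agent.S0391.zmod2_cases (c p) with hv | hv
        · exfalso
          rw [hv, ZMod.val_zero] at hS
          push_cast at hS
          by_cases hc0 : c = 0
          · have h0 : hammingNorm c = 0 := by rw [hc0]; exact hammingNorm_zero
            rw [h0] at hS
            push_cast at hS
            omega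
          · have := hW hc0
            omega
        · rw [hv, ZMod.val_one] at hS
          push_cast at hS
          have hw8 : hammingNorm c = 8 := by
            have : (hammingNorm c : ℤ) = 8 := by omega
            exact_mod_cast this
          exact ⟨p, hp, c, (mem_codeWords 8 c).mpr ⟨hc, hw8⟩, hn, hv, hxe⟩
      · exfalso
        rw [sgnOf_one hn] at hxn
        have hw' := hW (hnz _ hn)
        rcases Cfsg.Agent.S0391.val_le_one (c p) with hv | hv
        · rw [hv] at hS
          push_cast at hS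
          omega
        · rw [hv] at hS
          push_cast at hS
          omega
  · obtain ⟨s, t, hs, hts, hte, rfl⟩ := (Cfsg.Agent.S0394.mem_I2 _).mp h
    have hcard := card_of_codeSupps hs
    have hsum := sum_pmVec 2 hts
    rw [hcard] at hsum
    rw [hsum] at h1
    push_cast at h1
    have htn : (0 : ℤ) ≤ t.card := Nat.cast_nonneg _
    rcases pmVec_abs 2 s t none with e1 | e1 | e1
    · right; left
      have ht0 : t = ∅ := by
        rw [e1] at h1
        have : t.card = 0 := by omega
        exact Finset.card_eq_zero.mp this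
      subst ht0
      have hn : none ∉ s := by
        intro hin
        exact (pmVec_ne_zero_iff (a := 2) (by norm_num) hts none).mpr hin e1
      exact ⟨s, hs, hn, rfl⟩
    · right; right; left
      have htc : t.card = 2 := by
        rw [e1] at h1
        omega
      have hnt : none ∉ t := by
        intro hin
        rw [pmVec_apply, if_pos hin] at e1
        omega
      have hns : none ∈ s :=
        (pmVec_ne_zero_iff (a := 2) (by norm_num) hts none).mp (by rw [e1]; norm_num)
      obtain ⟨a, b, hab, htab⟩ := Finset.card_eq_two.mp htc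
      have ha : a ∈ t := by rw [htab]; simp
      have hb : b ∈ t := by rw [htab]; simp
      refine ⟨s, hs, a, b, hns, hts ha, hts hb, hab, ?_, ?_, by rw [htab]⟩
      · rintro rfl; exact hnt ha
      · rintro rfl; exact hnt hb
    · exfalso
      rw [e1] at h1
      omega
  · left
    obtain ⟨s, t, hs, hts, -, rfl⟩ := (Cfsg.Agent.S0394.mem_I3 _).mp h
    have hcard := (Finset.mem_powersetCard.mp hs).2
    have hsum := sum_pmVec 4 hts
    rw [hcard] at hsum
    have hsum' := hsum
    rw [hsum] at h1
    push_cast at h1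
    have htn : (0 : ℤ) ≤ t.card := Nat.cast_nonneg _
    have e1 : pmVec 4 s t none = 4 := by
      rcases pmVec_abs 4 s t none with h' | h' | h' <;> omega
    have htc : (t.card : ℤ) = 1 := by rw [e1] at h1; omega
    obtain ⟨j, hj, hcase⟩ := eq_twoVec_of_entry_four _ hxL nx none e1
    refine ⟨j, Ne.symm hj, ?_⟩
    rcases hcase with h' | h'
    · exfalso
      rw [h'] at hsum'
      unfold twoVec at hsum'
      simp only [Pi.add_apply, Finset.sum_add_distrib, Finset.sum_pi_single', Finset.mem_univ,
        if_true] at hsum'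
      rw [htc] at hsum'
      norm_num at hsum'
    · exact h'

lemma dotInt_oneVec (p : GolayPt) (b : ℤ) (z : GolayPt → ℤ) :
    dotInt (oneVec {p} b) z = (∑ q, z q) + (b - 1) * z p := by
  have : oneVec {p} b = 1 + Pi.single p (b - 1) := by
    ext q
    rw [oneVec_apply]
    simp only [Pi.add_apply, Pi.one_apply, Pi.single_apply, Finset.mem_singleton]
    split_ifs <;> ring
  rw [this, dotInt_comm', dotInt_add_right', dotInt_single_right]
  unfold dotInt
  simp only [Pi.one_apply, mul_one]
  ring

lemma oneVec_neg3_mem (j : GolayPt) : oneVec {j} (-3) ∈ leechLattice := by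
  apply mem_of_one_mod_four
  · intro i; exact oneVec_mod _ (by decide) i
  · rw [sum_oneVec, Finset.card_singleton]; decide

/-- Reduction along the frame vector `(5, -3, 1, …, -3, …, 1)`. -/
theorem c3_frame_reduce (y : GolayPt → ℤ) (hy : y ∈ c3Set) (j : GolayPt) (hjn : j ≠ none)
    (hj0 : j ≠ some 0) :
    ∃ y', Conj3 u5 ob y u5 ob y' ∧ y' ∈ c3Set ∧ dotInt ob y' = dotInt ob y ∧
      8 * y' none = 16 - 4 * y (some 0) - 4 * y j := by
  obtain ⟨hyL, ny, hyu⟩ := hy
  set z := oneVec {j} (-3) with hz
  have hzL : z ∈ leechLattice := oneVec_neg3_mem j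
  have nz : sqNorm z = 32 := by
    rw [hz, sqNorm_oneVec, Finset.card_singleton]; norm_num
  have zn : z none = 1 := by
    rw [hz, oneVec_apply, if_neg (by simpa using hjn.symm)]
  have z0 : z (some 0) = 1 := by
    rw [hz, oneVec_apply, if_neg (by simpa using hj0.symm)]
  have hsum : ∑ q, z q = 20 := by
    rw [hz, sum_oneVec, Finset.card_singleton]; norm_num
  have d1 : dotInt ob z = 0 := by rw [dotInt_ob, zn, z0]; norm_num
  have d2 : dotInt u5 z = 24 := by rw [dotInt_u5, hsum, zn]; norm_num
  have d3 : dotInt u5 ob = 16 := ob_mem_c3Set.2.2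
  have hfL : ob + z ∈ leechLattice := leechLattice.add_mem ob_mem hzL
  have nf : sqNorm (ob + z) = 64 := by
    rw [sqNorm_add, sqNorm_ob, nz, d1]; norm_num
  have hfu : dotInt (ob + z) u5 = 40 := by
    rw [dotInt_comm', dotInt_add_right', d3, d2]; norm_num
  have hfb : dotInt (ob + z) ob = 32 := by
    rw [dotInt_add_left', dotInt_self, sqNorm_ob, dotInt_comm', d1]; norm_num
  obtain ⟨s, hs, hds, c3⟩ := conj3_of_frame48 (ob + z) u5 ob hfL u5_memL ob_mem nf sqNorm_u5
    sqNorm_ob hfu hfb
  rw [d3] at hds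
  have hs4 : s = -4 := by omega
  subst hs4
  obtain ⟨g, hg, h1, h2, h3, e1, e2, e3⟩ := c3
  have e3' : ((g ⟨ob, h3⟩ : leechLattice) : GolayPt → ℤ) = ob := e3
  set y' : leechLattice := g ⟨y, hyL⟩ with hy'
  refine ⟨y'.1, ⟨g, hg, h2, h3, hyL, e2, e3', rfl⟩, ⟨y'.2, ?_, ?_⟩, ?_, ?_⟩
  · rw [hy', hg.2]; exact ny
  · rw [← e2, hy', co0_dot g hg]; exact hyu
  · have h := co0_dot g hg ⟨ob, h3⟩ ⟨y, hyL⟩
    rw [e3'] at h
    exact h
  · have : dotInt (vec8 none) y'.1 = dotInt (ob + z) y := by rw [← e1, hy', co0_dot g hg]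
    rw [dotInt_comm', dotInt_vec8, dotInt_add_left', dotInt_ob, hz, dotInt_oneVec] at this
    have hsy : ∑ q, y q = 16 - 4 * y none := sum_c3 ⟨hyL, ny, hyu⟩
    rw [hsy] at this
    linarith

end Cfsg.Agent.Lib.Helper94
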