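import Mathlib
import Cfsg.Agent.Lib.Helper94.LeechC3a

/-! The stabiliser of `(5, 1^23)` and `(4, -4, 0, …)` on the 11178 vectors: the orbits are the
classes given by the inner product with `(4, -4, 0, …)`. -/

set_option autoImplicit false

namespace Cfsg.Agent.Lib.Helper94

open Cfsg
open Cfsg.Agent.Lib.Helper95

lemma Conj3.refl' {x y z : GolayPt → ℤ} (hx : x ∈ leechLattice) (hy : y ∈ leechLattice)
    (hz : z ∈ leechLattice) : Conj3 x y z x y z :=
  ⟨1, Co0.one_mem, hx, hy, hz, rfl, rfl, rfl⟩

/-- Reduction to one of the 2025 vectors. -/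
lemma c3_reduce_ml (y : GolayPt → ℤ) (hy : y ∈ c3Set) (j : GolayPt) (hjn : j ≠ none)
    (hj0 : j ≠ some 0) (hyj : y j = 4 - y none) :
    ∃ y', Conj3 u5 ob y u5 ob y' ∧ y' ∈ c3Set ∧ dotInt ob y' = dotInt ob y ∧ y' ∈ mlSet := by
  obtain ⟨y', c, hy', hd, h8⟩ := c3_frame_reduce y hy j hjn hj0
  refine ⟨y', c, hy', hd, (mem_mlSet_iff_c3 y').mpr ⟨hy', ?_⟩⟩
  rw [dotInt_ob, dotInt_ob] at hd
  rw [dotInt_oa]
  omega

lemma exists_notMem_of_small (s : Finset GolayPt) (hs : s.card < 24) : ∃ j, j ∉ s := by
  have h24 : (Finset.univ : Finset GolayPt).card = 24 := by decide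
  obtain ⟨j, -, hj⟩ := Finset.exists_mem_notMem_of_card_lt_card (s := s) (t := Finset.univ)
    (by rw [h24]; exact hs)
  exact ⟨j, hj⟩

/-- Normal form of a vector of the set under the stabiliser of the standard pair. -/
theorem c3_normal (y : GolayPt → ℤ) (hy : y ∈ c3Set) (hne : y ≠ ob) :
    ∃ y', Conj3 u5 ob y u5 ob y' ∧ y' ∈ c3Set ∧ dotInt ob y' = dotInt ob y ∧
      (y' ∈ mlSet ∨ (y' none = 1 ∧ y' (some 0) = 3)) := by
  have hself : Conj3 u5 ob y u5 ob y := Conj3.refl' u5_memL ob_mem hy.1
  rcases c3_shape y hy with ⟨j0, hj0, rfl⟩ | ⟨o, ho, hno, rfl⟩ |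
      ⟨o, ho, k, l, hno, hk, hl, hkl, hkn, hln, rfl⟩ | ⟨c, hc, hcn, rfl⟩ |
      ⟨p, hp, c, hc, hcn, hcp, rfl⟩
  · -- shape `(4, -4, 0, …)`
    have hj00 : j0 ≠ some 0 := by
      rintro rfl
      exact hne rfl
    set j : GolayPt := if j0 = some 1 then some 2 else some 1 with hj
    have hjj0 : j ≠ j0 := by
      rw [hj]
      split_ifs with h
      · rw [h]; decide
      · exact Ne.symm h
    have hjn : j ≠ none := by rw [hj]; split_ifs <;> decide
    have hjz : j ≠ some 0 := by rw [hj]; split_ifs <;> decide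
    obtain ⟨y', c, h1, h2, h3⟩ := c3_reduce_ml _ hy j hjn hjz (by
      rw [twoVec_apply_left (Ne.symm hj0), twoVec_apply_other hjn hjj0]; norm_num)
    exact ⟨y', c, h1, h2, Or.inl h3⟩
  · -- octad vectors avoiding the first point
    by_cases h0 : some 0 ∈ o
    · have hins : (insert none o).card < 24 := by
        have := Finset.card_insert_le (none : GolayPt) o
        rw [card_of_codeSupps ho] at this
        omega
      obtain ⟨j, hj⟩ := exists_notMem_of_small _ hins
      rw [Finset.mem_insert, not_or] at hj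
      have hj0 : j ≠ some 0 := by
        rintro rfl
        exact hj.2 h0
      obtain ⟨y', c, hy', hd, h8⟩ := c3_frame_reduce _ hy j hj.1 hj0
      refine ⟨y', c, hy', hd, Or.inr ?_⟩
      rw [pmVec_apply, pmVec_apply, if_neg (Finset.notMem_empty _), if_neg (Finset.notMem_empty _),
        if_pos h0, if_neg hj.2] at h8
      rw [dotInt_ob, dotInt_ob, pmVec_apply, pmVec_apply, if_neg (Finset.notMem_empty _),
        if_neg (Finset.notMem_empty _), if_pos h0, if_neg hno] at hd
      constructor <;> omega
    · refine ⟨_, hself, hy, rfl, Or.inl ?_⟩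
      apply mlB_sub
      unfold mlB
      rw [Finset.mem_image]
      exact ⟨o, by rw [Finset.mem_filter]; exact ⟨ho, hno, h0⟩, rfl⟩
  · -- octad vectors through the first point
    have hbig : 1 ≤ ((((o.erase none).erase (some 0)).erase k).erase l).card := by
      have h1 := Finset.pred_card_le_card_erase (s := o) (a := none)
      have h2 := Finset.pred_card_le_card_erase (s := o.erase none) (a := some 0)
      have h3 := Finset.pred_card_le_card_erase (s := (o.erase none).erase (some 0)) (a := k)
      have h4 := Finset.pred_card_le_card_erase (s := ((o.erase none).erase (some 0)).erase k)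
        (a := l)
      have := card_of_codeSupps ho
      omega
    obtain ⟨j, hj⟩ := Finset.card_pos.mp hbig
    rw [Finset.mem_erase, Finset.mem_erase, Finset.mem_erase, Finset.mem_erase] at hj
    obtain ⟨hjl, hjk, hj0, hjn, hjo⟩ := hj
    have hjt : j ∉ ({k, l} : Finset GolayPt) := by
      rw [Finset.mem_insert, Finset.mem_singleton]
      rintro (h | h)
      · exact hjk h
      · exact hjl h
    have hnt : none ∉ ({k, l} : Finset GolayPt) := by
      rw [Finset.mem_insert, Finset.mem_singleton]
      rintro (h | h)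
      · exact hkn h.symm
      · exact hln h.symm
    obtain ⟨y', c, h1, h2, h3⟩ := c3_reduce_ml _ hy j hjn hj0 (by
      rw [pmVec_apply, pmVec_apply, if_neg hjt, if_pos hjo, if_neg hnt, if_pos hno]; norm_num)
    exact ⟨y', c, h1, h2, Or.inl h3⟩
  · -- odd type with `3` at the first point
    rw [mem_codeWords] at hc
    have hcard : (bsupp c).card = 12 := by rw [← hammingNorm_eq_card_bsupp, hc.2]
    have hins : (insert (some 0) (bsupp c)).card < 24 := by
      have := Finset.card_insert_le (some 0 : GolayPt) (bsupp c)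
      omega
    obtain ⟨j, hj⟩ := exists_notMem_of_small _ hins
    rw [Finset.mem_insert, not_or] at hj
    have hjn : j ≠ none := by
      rintro rfl
      exact hj.2 ((mem_bsupp c none).mpr hcn)
    obtain ⟨y', c', h1, h2, h3⟩ := c3_reduce_ml _ hy j hjn hj.1 (by
      rw [signVec_apply, signVec_apply, sgnOf_zero ((notMem_bsupp c j).mp hj.2), sgnOf_one hcn,
        oneVec_apply, oneVec_apply, if_neg (by simpa using hjn),
        if_pos (Finset.mem_singleton_self _)]
      norm_num)
    exact ⟨y', c', h1, h2, Or.inl h3⟩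
  · -- odd type with `3` elsewhere
    by_cases hp0 : p = some 0
    · subst hp0
      refine ⟨_, hself, hy, rfl, Or.inr ⟨?_, ?_⟩⟩
      · rw [signVec_apply, sgnOf_zero hcn, oneVec_apply, if_neg (by simp)]
        norm_num
      · rw [signVec_apply, sgnOf_one hcp, oneVec_apply, if_pos (Finset.mem_singleton_self _)]
        norm_num
    · obtain ⟨y', c', h1, h2, h3⟩ := c3_reduce_ml _ hy p hp hp0 (by
        rw [signVec_apply, signVec_apply, sgnOf_zero hcn, sgnOf_one hcp, oneVec_apply,
          oneVec_apply, if_pos (Finset.mem_singleton_self _), if_neg (by simpa using hp.symm)]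
        norm_num)
      exact ⟨y', c', h1, h2, Or.inl h3⟩

/-- The inner product with the base vector on the 2025 vectors. -/
lemma dot_ob_mlSet (y : GolayPt → ℤ) (hy : y ∈ mlSet) :
    dotInt ob y = 32 ∨ dotInt ob y = 0 ∨ dotInt ob y = 16 ∨ dotInt ob y = 8 := by
  have h := hy
  rw [mem_mlSet_iff] at h
  rcases h with h | h | h | h
  · left; rw [h, dot_ob_ob']
  · right; left; exact ((mem_mlB_iff y).mp h).2
  · right; right; left; exact ((mem_mlC_iff y).mp h).2
  · right; right; right; exact ((mem_mlD_iff y).mp h).2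
where dot_ob_ob' : dotInt ob ob = 32 := by rw [dotInt_self, sqNorm_ob]

/-- The shape of the vectors with entries `1` and `3` at the first two points. -/
lemma c3_shape13 (y : GolayPt → ℤ) (hy : y ∈ c3Set) (h1 : y none = 1) (h3 : y (some 0) = 3) :
    ∃ c ∈ codeWords 8, c none = 0 ∧ c (some 0) = 1 ∧ y = signVec c (oneVec {some 0} (-3)) := by
  rcases c3_shape y hy with ⟨j0, hj0, rfl⟩ | ⟨o, ho, hno, rfl⟩ |
      ⟨o, ho, k, l, hno, hk, hl, hkl, hkn, hln, rfl⟩ | ⟨c, hc, hcn, rfl⟩ |
      ⟨p, hp, c, hc, hcn, hcp, rfl⟩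
  · exfalso
    rw [twoVec_apply_left (Ne.symm hj0)] at h1
    norm_num at h1
  · exfalso
    rw [pmVec_apply, if_neg (Finset.notMem_empty _), if_neg hno] at h1
    norm_num at h1
  · exfalso
    rcases pmVec_abs 2 o {k, l} none with h | h | h <;> omega
  · exfalso
    rw [signVec_apply, sgnOf_one hcn, oneVec_apply, if_pos (Finset.mem_singleton_self _)] at h1
    norm_num at h1
  · by_cases hp0 : p = some 0
    · subst hp0
      exact ⟨c, hc, hcn, hcp, rfl⟩
    · exfalso
      rw [signVec_apply, oneVec_apply, if_neg (by simpa using Ne.symm hp0)] at h3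
      rcases sgnOf_cases c (some 0) with h | h <;> rw [h] at h3 <;> norm_num at h3

/-- The orbits of the stabiliser of the standard pair on the 11178 vectors are the classes. -/
theorem c3_rank5 (y y' : GolayPt → ℤ) (hy : y ∈ c3Set) (hy' : y' ∈ c3Set) (hne : y ≠ ob)
    (hne' : y' ≠ ob) (h : dotInt ob y = dotInt ob y') : Conj3 u5 ob y u5 ob y' := by
  obtain ⟨z, cz, hz, dz, az⟩ := c3_normal y hy hne
  obtain ⟨z', cz', hz', dz', az'⟩ := c3_normal y' hy' hne'
  have hzz : dotInt ob z = dotInt ob z' := by rw [dz, dz', h]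
  have nz : z ≠ ob := by
    rintro rfl
    apply hne
    apply eq_ob_of_dot hy
    rw [← dz, dotInt_self, sqNorm_ob]
  have nz' : z' ≠ ob := by
    rintro rfl
    apply hne'
    apply eq_ob_of_dot hy'
    rw [← dz', dotInt_self, sqNorm_ob]
  have not13 : ∀ w : GolayPt → ℤ, w ∈ mlSet → dotInt ob w ≠ -8 := by
    intro w hw h8
    rcases dot_ob_mlSet w hw with h | h | h | h <;> omega
  have key : Conj3 u5 ob z u5 ob z' := by
    rcases az with az | az
    · rcases az' with az' | az'
      · obtain ⟨σ, hσ, s1, s2, s3⟩ := ml_rank4 z z' az az' nz nz' hzz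
        have c := conj3_perm hσ u5_memL ob_mem hz.1
        have e3 : permVec σ ob = ob := by
          unfold ob
          rw [permVec_twoVec, s1, s2]
        rw [permVec_u5 s1, e3, s3] at c
        exact c
      · exfalso
        apply not13 z az
        rw [hzz, dotInt_ob, az'.1, az'.2]; norm_num
    · rcases az' with az' | az'
      · exfalso
        apply not13 z' az'
        rw [← hzz, dotInt_ob, az.1, az.2]; norm_num
      · obtain ⟨c, hc, cn, c0, rfl⟩ := c3_shape13 z hz az.1 az.2
        obtain ⟨c', hc', cn', c0', rfl⟩ := c3_shape13 z' hz' az'.1 az'.2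
        rw [mem_codeWords] at hc hc'
        have ho : bsupp c ∈ codeSupps 8 := (mem_codeSupps 8 _).mpr ⟨c, hc.1, hc.2, rfl⟩
        have ho' : bsupp c' ∈ codeSupps 8 := (mem_codeSupps 8 _).mpr ⟨c', hc'.1, hc'.2, rfl⟩
        obtain ⟨σ, hσ, s1, s2, s3⟩ := pp_trans (Or.inl rfl)
          (show (none : GolayPt) ≠ some 0 by decide) ho ho'
          ⟨fun h => absurd h ((notMem_bsupp c none).mpr cn),
            fun h => absurd h ((notMem_bsupp c' none).mpr cn')⟩
          ⟨fun _ => (mem_bsupp c' (some 0)).mpr c0', fun _ => (mem_bsupp c (some 0)).mpr c0⟩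
        have cc := conj3_perm hσ u5_memL ob_mem hz.1
        have e3 : permVec σ ob = ob := by
          unfold ob
          rw [permVec_twoVec, s1, s2]
        have e4 : permVec σ (signVec c (oneVec {some 0} (-3))) =
            signVec c' (oneVec {some 0} (-3)) := by
          rw [permVec_signVec, permVec_oneVec, Finset.image_singleton, s2]
          congr 1
          apply bsupp_injective
          rw [bsupp_permWord, s3]
        rw [permVec_u5 s1, e3, e4] at cc
        exact cc
  exact (cz.trans key).trans cz'.symm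

end Cfsg.Agent.Lib.Helper94
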