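import Mathlib
import Cfsg.Agent.Lib.Helper94.LeechC3b
import Cfsg.Agent.Lib.Helper35.Counting

/-! Counting the classes of the 11178 vectors. -/

set_option autoImplicit false

namespace Cfsg.Agent.Lib.Helper94

open Cfsg
open Cfsg.Agent.Lib.Helper95

/-! ### The families -/

noncomputable def c3F22 : Finset (GolayPt → ℤ) :=
  (Finset.univ.filter fun j : GolayPt => j ≠ none ∧ j ≠ some 0).image fun j => twoVec none j (-4)

noncomputable def c3F616 : Finset (GolayPt → ℤ) :=
  ((codeWords 12).filter fun c => c none = 1 ∧ c (some 0) = 1).image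
    fun c => signVec c (oneVec {none} (-3))

noncomputable def c3I1155 : Finset (Finset GolayPt × Finset GolayPt) :=
  ((octThrough {none, some 0}) ×ˢ
    ((Finset.univ : Finset GolayPt).powersetCard 2)).filter
    fun p => p.2 ⊆ (p.1.erase none).erase (some 0)

noncomputable def c3F1155 : Finset (GolayPt → ℤ) := c3I1155.image fun p => pmVec 2 p.1 p.2

noncomputable def c3I2640 : Finset (GolayPt × (GolayPt → ZMod 2)) :=
  ((Finset.univ : Finset GolayPt) ×ˢ codeWords 8).filter
    fun p => p.2 none = 0 ∧ p.2 (some 0) = 0 ∧ p.2 p.1 = 1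

noncomputable def c3F2640 : Finset (GolayPt → ℤ) :=
  c3I2640.image fun p => signVec p.2 (oneVec {p.1} (-3))

noncomputable def c3F176a : Finset (GolayPt → ℤ) :=
  ((codeSupps 8).filter fun o => none ∉ o ∧ some 0 ∈ o).image fun o => pmVec 2 o ∅

noncomputable def c3F176b : Finset (GolayPt → ℤ) :=
  ((codeWords 8).filter fun c => c none = 0 ∧ c (some 0) = 1).image
    fun c => signVec c (oneVec {some 0} (-3))

lemma mem_c3I1155 (p : Finset GolayPt × Finset GolayPt) : p ∈ c3I1155 ↔
    p.1 ∈ octThrough {none, some 0} ∧ p.2.card = 2 ∧ p.2 ⊆ (p.1.erase none).erase (some 0) := by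
  unfold c3I1155
  rw [Finset.mem_filter, Finset.mem_product, Finset.mem_powersetCard]
  simp only [Finset.subset_univ, true_and, and_assoc]

lemma mem_c3I2640 (p : GolayPt × (GolayPt → ZMod 2)) : p ∈ c3I2640 ↔
    p.2 ∈ codeWords 8 ∧ p.2 none = 0 ∧ p.2 (some 0) = 0 ∧ p.2 p.1 = 1 := by
  unfold c3I2640
  rw [Finset.mem_filter, Finset.mem_product]
  simp only [Finset.mem_univ, true_and]

lemma sum_twoVec {i j : GolayPt} (s : ℤ) : ∑ q, twoVec i j s q = 4 + s := by
  unfold twoVec
  simp only [Pi.add_apply, Finset.sum_add_distrib, Finset.sum_pi_single', Finset.mem_univ,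
    if_true]

/-- Properties of the first family. -/
lemma c3F22_prop (y : GolayPt → ℤ) (hy : y ∈ c3F22) :
    y ∈ c3Set ∧ y none = 4 ∧ y (some 0) = 0 := by
  unfold c3F22 at hy
  rw [Finset.mem_image] at hy
  obtain ⟨j, hj, rfl⟩ := hy
  rw [Finset.mem_filter] at hj
  have e1 : twoVec none j (-4) none = 4 := twoVec_apply_left (Ne.symm hj.2.1) _
  have e2 : twoVec none j (-4) (some 0) = 0 := twoVec_apply_other (by decide) (Ne.symm hj.2.2) _
  refine ⟨⟨twoVec_mem (Or.inr rfl), sqNorm_twoVec (Ne.symm hj.2.1) (Or.inr rfl), ?_⟩, e1, e2⟩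
  rw [dotInt_u5, sum_twoVec, e1]; norm_num

lemma c3F616_prop (y : GolayPt → ℤ) (hy : y ∈ c3F616) :
    y ∈ c3Set ∧ y none = 3 ∧ y (some 0) = -1 := by
  unfold c3F616 at hy
  rw [Finset.mem_image] at hy
  obtain ⟨c, hc, rfl⟩ := hy
  rw [Finset.mem_filter, mem_codeWords] at hc
  have e1 : signVec c (oneVec {none} (-3)) none = 3 := by
    rw [signVec_apply, sgnOf_one hc.2.1, oneVec_apply, if_pos (Finset.mem_singleton_self _)]
    norm_num
  have e2 : signVec c (oneVec {none} (-3)) (some 0) = -1 := by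
    rw [signVec_apply, sgnOf_one hc.2.2, oneVec_apply, if_neg (by simp)]
    norm_num
  refine ⟨⟨signVec_mem hc.1.1 _ (oneVec_neg3_mem none), ?_, ?_⟩, e1, e2⟩
  · rw [sqNorm_signVec, sqNorm_oneVec, Finset.card_singleton]; norm_num
  · rw [dotInt_u5, sum_signVec_oneVec, e1, hc.1.2, hc.2.1, ZMod.val_one]; norm_num

lemma c3F1155_prop (y : GolayPt → ℤ) (hy : y ∈ c3F1155) :
    y ∈ c3Set ∧ y none = 2 ∧ y (some 0) = 2 := by
  unfold c3F1155 at hy
  rw [Finset.mem_image] at hy
  obtain ⟨p, hp, rfl⟩ := hy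
  rw [mem_c3I1155, mem_octThrough] at hp
  obtain ⟨⟨ho, hsub⟩, hc2, hs⟩ := hp
  obtain ⟨c, hc, hc8, hco⟩ := (mem_codeSupps 8 p.1).mp ho
  have hcard : p.1.card = 8 := by rw [← hco, ← hammingNorm_eq_card_bsupp, hc8]
  have hts : p.2 ⊆ p.1 := fun q hq => Finset.mem_of_mem_erase (Finset.mem_of_mem_erase (hs hq))
  have hn : none ∉ p.2 := fun h => by
    have := hs h
    rw [Finset.mem_erase, Finset.mem_erase] at this
    exact this.2.1 rfl
  have h0 : some 0 ∉ p.2 := fun h => by
    have := hs h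
    rw [Finset.mem_erase] at this
    exact this.1 rfl
  have e1 : pmVec 2 p.1 p.2 none = 2 := by
    rw [pmVec_apply, if_neg hn, if_pos (hsub (by simp))]
  have e2 : pmVec 2 p.1 p.2 (some 0) = 2 := by
    rw [pmVec_apply, if_neg h0, if_pos (hsub (by simp))]
  have hsum := sum_pmVec 2 hts
  rw [hcard, hc2] at hsum
  refine ⟨⟨?_, ?_, ?_⟩, e1, e2⟩
  · have := pmVec_two_mem hc (t := p.2) (by rw [hco]; exact hts)
      (by rw [hco, hcard, hc2]; norm_num)
    rw [hco] at this
    exact this
  · rw [sqNorm_pmVec 2 hts, hcard]; norm_num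
  · rw [dotInt_u5, hsum, e1]; norm_num

lemma c3F2640_prop (y : GolayPt → ℤ) (hy : y ∈ c3F2640) :
    y ∈ c3Set ∧ y none = 1 ∧ y (some 0) = 1 := by
  unfold c3F2640 at hy
  rw [Finset.mem_image] at hy
  obtain ⟨p, hp, rfl⟩ := hy
  rw [mem_c3I2640, mem_codeWords] at hp
  obtain ⟨⟨hc, hc8⟩, cn, c0, cp⟩ := hp
  have hpn : p.1 ≠ none := by
    intro h; rw [h, cn] at cp; exact zero_ne_one cp
  have hp0 : p.1 ≠ some 0 := by
    intro h; rw [h, c0] at cp; exact zero_ne_one cp
  have e1 : signVec p.2 (oneVec {p.1} (-3)) none = 1 := by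
    rw [signVec_apply, sgnOf_zero cn, oneVec_apply, if_neg (by simpa using hpn.symm)]
    norm_num
  have e2 : signVec p.2 (oneVec {p.1} (-3)) (some 0) = 1 := by
    rw [signVec_apply, sgnOf_zero c0, oneVec_apply, if_neg (by simpa using hp0.symm)]
    norm_num
  refine ⟨⟨signVec_mem hc _ (oneVec_neg3_mem p.1), ?_, ?_⟩, e1, e2⟩
  · rw [sqNorm_signVec, sqNorm_oneVec, Finset.card_singleton]; norm_num
  · rw [dotInt_u5, sum_signVec_oneVec, e1, hc8, cp, ZMod.val_one]; norm_num

lemma c3F176a_prop (y : GolayPt → ℤ) (hy : y ∈ c3F176a) :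
    y ∈ c3Set ∧ y none = 0 ∧ y (some 0) = 2 := by
  unfold c3F176a at hy
  rw [Finset.mem_image] at hy
  obtain ⟨o, ho, rfl⟩ := hy
  rw [Finset.mem_filter] at ho
  obtain ⟨c, hc, hc8, rfl⟩ := (mem_codeSupps 8 o).mp ho.1
  have hcard : (bsupp c).card = 8 := by rw [← hammingNorm_eq_card_bsupp, hc8]
  have hsum := sum_pmVec 2 (Finset.empty_subset (bsupp c))
  rw [hcard, Finset.card_empty] at hsum
  have e1 : pmVec 2 (bsupp c) ∅ none = 0 := by
    rw [pmVec_apply, if_neg (Finset.notMem_empty _), if_neg ho.2.1]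
  have e2 : pmVec 2 (bsupp c) ∅ (some 0) = 2 := by
    rw [pmVec_apply, if_neg (Finset.notMem_empty _), if_pos ho.2.2]
  refine ⟨⟨pmVec_two_mem hc (Finset.empty_subset _) (by rw [hcard]; norm_num), ?_, ?_⟩, e1, e2⟩
  · rw [sqNorm_pmVec 2 (Finset.empty_subset _), hcard]; norm_num
  · rw [dotInt_u5, hsum, e1]; norm_num

lemma c3F176b_prop (y : GolayPt → ℤ) (hy : y ∈ c3F176b) :
    y ∈ c3Set ∧ y none = 1 ∧ y (some 0) = 3 := by
  unfold c3F176b at hy
  rw [Finset.mem_image] at hy
  obtain ⟨c, hc, rfl⟩ := hy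
  rw [Finset.mem_filter, mem_codeWords] at hc
  have e1 : signVec c (oneVec {some 0} (-3)) none = 1 := by
    rw [signVec_apply, sgnOf_zero hc.2.1, oneVec_apply, if_neg (by simp)]
    norm_num
  have e2 : signVec c (oneVec {some 0} (-3)) (some 0) = 3 := by
    rw [signVec_apply, sgnOf_one hc.2.2, oneVec_apply, if_pos (Finset.mem_singleton_self _)]
    norm_num
  refine ⟨⟨signVec_mem hc.1.1 _ (oneVec_neg3_mem _), ?_, ?_⟩, e1, e2⟩
  · rw [sqNorm_signVec, sqNorm_oneVec, Finset.card_singleton]; norm_num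
  · rw [dotInt_u5, sum_signVec_oneVec, e1, hc.1.2, hc.2.2, ZMod.val_one]; norm_num

/-- The classification of the vectors of the set. -/
theorem c3_classify (y : GolayPt → ℤ) (hy : y ∈ c3Set) :
    y = ob ∨ y ∈ c3F22 ∨ y ∈ mlC ∨ y ∈ c3F616 ∨ y ∈ mlB ∨ y ∈ c3F1155 ∨ y ∈ c3F2640 ∨
      y ∈ c3F176a ∨ y ∈ c3F176b ∨ dotInt ob y = 8 := by
  rcases c3_shape y hy with ⟨j0, hj0, rfl⟩ | ⟨o, ho, hno, rfl⟩ |
      ⟨o, ho, k, l, hno, hk, hl, hkl, hkn, hln, rfl⟩ | ⟨c, hc, hcn, rfl⟩ |
      ⟨p, hp, c, hc, hcn, hcp, rfl⟩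
  · by_cases h : j0 = some 0
    · left; rw [h]; rfl
    · right; left
      unfold c3F22
      rw [Finset.mem_image]
      exact ⟨j0, by rw [Finset.mem_filter]; exact ⟨Finset.mem_univ _, hj0, h⟩, rfl⟩
  · by_cases h0 : some 0 ∈ o
    · right; right; right; right; right; right; right; left
      unfold c3F176a
      rw [Finset.mem_image]
      exact ⟨o, by rw [Finset.mem_filter]; exact ⟨ho, hno, h0⟩, rfl⟩
    · right; right; right; right; left
      unfold mlB
      rw [Finset.mem_image]
      exact ⟨o, by rw [Finset.mem_filter]; exact ⟨ho, hno, h0⟩, rfl⟩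
  · have hnt : none ∉ ({k, l} : Finset GolayPt) := by
      rw [Finset.mem_insert, Finset.mem_singleton]
      rintro (h | h)
      · exact hkn h.symm
      · exact hln h.symm
    by_cases h0 : some 0 ∈ o
    · by_cases h0t : some 0 ∈ ({k, l} : Finset GolayPt)
      · right; right; left
        have hform : ∃ m, m ∈ o ∧ m ≠ none ∧ m ≠ some 0 ∧
            ({k, l} : Finset GolayPt) = {some 0, m} := by
          rw [Finset.mem_insert, Finset.mem_singleton] at h0t
          rcases h0t with h | h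
          · exact ⟨l, hl, hln, fun hl0 => hkl (by rw [← h, hl0]), by rw [h]⟩
          · exact ⟨k, hk, hkn, fun hk0 => hkl (by rw [← h, hk0]), by rw [h, Finset.pair_comm]⟩
        obtain ⟨m, hm, hmn, hm0, hkm⟩ := hform
        unfold mlC
        rw [Finset.mem_image]
        refine ⟨(o, m), ?_, by rw [hkm]⟩
        rw [mem_mlCidx, mem_octThrough]
        refine ⟨⟨ho, ?_⟩, hm, hmn, hm0⟩
        intro q hq
        rw [Finset.mem_insert, Finset.mem_singleton] at hq
        rcases hq with rfl | rfl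
        · exact hno
        · exact h0
      · right; right; right; right; right; left
        unfold c3F1155
        rw [Finset.mem_image]
        refine ⟨(o, {k, l}), ?_, rfl⟩
        rw [mem_c3I1155, mem_octThrough]
        refine ⟨⟨ho, ?_⟩, Finset.card_pair hkl, ?_⟩
        · intro q hq
          rw [Finset.mem_insert, Finset.mem_singleton] at hq
          rcases hq with rfl | rfl
          · exact hno
          · exact h0
        · intro q hq
          rw [Finset.mem_erase, Finset.mem_erase]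
          refine ⟨fun h => h0t (h ▸ hq), fun h => hnt (h ▸ hq), ?_⟩
          rw [Finset.mem_insert, Finset.mem_singleton] at hq
          rcases hq with rfl | rfl
          · exact hk
          · exact hl
    · right; right; right; right; right; right; right; right; right
      have h0t : some 0 ∉ ({k, l} : Finset GolayPt) := by
        rw [Finset.mem_insert, Finset.mem_singleton]
        rintro (h | h)
        · exact h0 (h ▸ hk)
        · exact h0 (h ▸ hl)
      rw [dotInt_ob, pmVec_apply, pmVec_apply, if_neg hnt, if_pos hno, if_neg h0t, if_neg h0]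
      norm_num
  · rcases Cfsg.Agent.S0391.zmod2_cases (c (some 0)) with h0 | h0
    · right; right; right; right; right; right; right; right; right
      rw [dotInt_ob, signVec_apply, signVec_apply, sgnOf_one hcn, sgnOf_zero h0, oneVec_apply,
        oneVec_apply, if_pos (Finset.mem_singleton_self _), if_neg (by simp)]
      norm_num
    · right; right; right; left
      unfold c3F616
      rw [Finset.mem_image]
      exact ⟨c, by rw [Finset.mem_filter]; exact ⟨hc, hcn, h0⟩, rfl⟩
  · by_cases hp0 : p = some 0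
    · subst hp0
      right; right; right; right; right; right; right; right; left
      unfold c3F176b
      rw [Finset.mem_image]
      exact ⟨c, by rw [Finset.mem_filter]; exact ⟨hc, hcn, hcp⟩, rfl⟩
    · rcases Cfsg.Agent.S0391.zmod2_cases (c (some 0)) with h0 | h0
      · right; right; right; right; right; right; left
        unfold c3F2640
        rw [Finset.mem_image]
        exact ⟨(p, c), by rw [mem_c3I2640]; exact ⟨hc, hcn, h0, hcp⟩, rfl⟩
      · right; right; right; right; right; right; right; right; right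
        have : signVec c (oneVec {p} (-3)) ∈ mlD := by
          unfold mlD
          rw [Finset.mem_image]
          exact ⟨(p, c), by rw [mem_mlDidx]; exact ⟨hc, hp, hp0, hcn, h0, hcp⟩, rfl⟩
        exact ((mem_mlD_iff _).mp this).2

end Cfsg.Agent.Lib.Helper94
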