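import Mathlib
import Cfsg.Agent.Lib.Helper94.LeechC3c

/-! Counting the classes of the 11178 vectors: the numbers. -/

set_option autoImplicit false

namespace Cfsg.Agent.Lib.Helper94

open Cfsg
open Cfsg.Agent.Lib.Helper95

lemma card_c3F22 : c3F22.card = 22 := by
  unfold c3F22
  rw [Finset.card_image_of_injOn]
  · decide
  · intro j hj j' hj' h
    simp only [Finset.coe_filter, Finset.mem_univ, true_and, Set.mem_ofPred_eq] at hj hj'
    by_contra hne
    have := congrFun h j
    simp only [] at this
    rw [twoVec_apply_right (Ne.symm hj.1), twoVec_apply_other hj.1 hne] at this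
    norm_num at this

/-- Transfer of counts from code words to their supports. -/
lemma card_filter_words (k : ℕ) (P : Finset GolayPt → Prop) [DecidablePred P] :
    ((codeWords k).filter fun c => P (bsupp c)).card = ((codeSupps k).filter P).card := by
  unfold codeSupps
  rw [Finset.filter_image, Finset.card_image_of_injective _ bsupp_injective]

lemma mem_codeSupps_iff_supports (k : ℕ) (s : Finset GolayPt) :
    s ∈ codeSupps k ↔ s ∈ supports (golayCode : Set (GolayPt → ZMod 2)) ∧ s.card = k := by
  constructor
  · exact supports_of_codeSupps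
  · rintro ⟨⟨c, hc, hcs⟩, hk⟩
    rw [support₂_eq_bsupp] at hcs
    rw [mem_codeSupps]
    exact ⟨c, hc, by rw [hammingNorm_eq_card_bsupp, hcs, hk], hcs⟩

/-- The condition on masks: weight 12 through the two base points. -/
def dodCond (m : ℕ) : Bool :=
  Cfsg.Agent.Lib.Helper35.popc 24 m == 12 && m.testBit 23 && m.testBit 0

theorem dodCount : ((List.range 4096).filter
    (fun k => dodCond (Cfsg.Agent.Lib.Helper10.enc k))).length = 616 := by
  decide +kernel

open Cfsg.Agent.Lib.Helper35 in
lemma card_dod_two :
    ((codeSupps 12).filter fun s => (none : GolayPt) ∈ s ∧ (some 0 : GolayPt) ∈ s).card = 616 := by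
  classical
  have h := (ncard_supports_filter dodCond).trans dodCount
  rw [← h, ← Set.ncard_coe_finset]
  congr 1
  ext s
  simp only [Finset.coe_filter, Set.mem_ofPred_eq, dodCond, Bool.and_eq_true, beq_iff_eq]
  rw [mem_codeSupps_iff_supports, ← card_eq_popc_gmask]
  have e1 : (gmask s).testBit 23 = decide ((none : GolayPt) ∈ s) :=
    testBit_maskOf_idx Cfsg.Agent.Lib.Helper10.idx_injective s none
  have e2 : (gmask s).testBit 0 = decide ((some 0 : GolayPt) ∈ s) :=
    testBit_maskOf_idx Cfsg.Agent.Lib.Helper10.idx_injective s (some 0)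
  rw [e1, e2]
  simp only [decide_eq_true_eq]
  tauto

lemma card_c3F616 : c3F616.card = 616 := by
  classical
  unfold c3F616
  rw [Finset.card_image_of_injective _ odd_injective, ← card_dod_two,
    ← card_filter_words 12 (fun s => (none : GolayPt) ∈ s ∧ (some 0 : GolayPt) ∈ s)]
  congr 1
  apply Finset.filter_congr
  intro c _
  rw [mem_bsupp, mem_bsupp]

lemma card_oct_in_out :
    ((codeSupps 8).filter fun o => (none : GolayPt) ∉ o ∧ (some 0 : GolayPt) ∈ o).card = 176 := by
  classical
  have h2 := Finset.card_filter_add_card_filter_not (s := octThrough {(some 0 : GolayPt)})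
    (fun o => (none : GolayPt) ∈ o)
  have e2 : ((octThrough {(some 0 : GolayPt)}).filter fun o => (none : GolayPt) ∈ o) =
      octThrough {none, some 0} := by
    ext o
    rw [Finset.mem_filter, mem_octThrough, mem_octThrough]
    simp only [Finset.insert_subset_iff, Finset.singleton_subset_iff]
    tauto
  rw [e2, card_octThrough_two (by decide), card_octThrough_one] at h2
  have e3 : ((codeSupps 8).filter fun o => (none : GolayPt) ∉ o ∧ (some 0 : GolayPt) ∈ o) =
      (octThrough {(some 0 : GolayPt)}).filter fun o => ¬ (none : GolayPt) ∈ o := by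
    ext o
    rw [Finset.mem_filter, Finset.mem_filter, mem_octThrough, Finset.singleton_subset_iff]
    tauto
  rw [e3]
  omega

lemma card_c3F176a : c3F176a.card = 176 := by
  unfold c3F176a
  rw [Finset.card_image_of_injective _ pm_injective, card_oct_in_out]

lemma card_c3F176b : c3F176b.card = 176 := by
  classical
  unfold c3F176b
  rw [Finset.card_image_of_injOn]
  · rw [← card_oct_in_out,
      ← card_filter_words 8 (fun s => (none : GolayPt) ∉ s ∧ (some 0 : GolayPt) ∈ s)]
    congr 1
    apply Finset.filter_congr
    intro c _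
    rw [notMem_bsupp, mem_bsupp]
  · intro c _ c' _ h
    exact (signVec_inj_of_one_mod_four (fun i => oneVec_mod _ (by decide) i)
      (fun i => oneVec_mod _ (by decide) i) h).1

lemma card_c3I1155 : c3I1155.card = 1155 := by
  classical
  rw [Finset.card_eq_sum_card_fiberwise (f := Prod.fst) (t := octThrough {none, some 0})]
  · have : ∀ o ∈ octThrough {(none : GolayPt), some 0},
        (c3I1155.filter fun p => p.1 = o).card = 15 := by
      intro o ho
      have e : (c3I1155.filter fun p => p.1 = o) =
          (((o.erase none).erase (some 0)).powersetCard 2).image fun s => (o, s) := by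
        ext p
        rw [Finset.mem_filter, mem_c3I1155, Finset.mem_image]
        constructor
        · rintro ⟨⟨-, h2, h3⟩, rfl⟩
          exact ⟨p.2, Finset.mem_powersetCard.mpr ⟨h3, h2⟩, rfl⟩
        · rintro ⟨s, hs, rfl⟩
          rw [Finset.mem_powersetCard] at hs
          exact ⟨⟨ho, hs.2, hs.1⟩, rfl⟩
      rw [e, Finset.card_image_of_injective _ (fun a b h => (Prod.mk.inj h).2),
        Finset.card_powersetCard]
      rw [mem_octThrough] at ho
      have hc := card_of_codeSupps ho.1
      have : ((o.erase none).erase (some 0)).card = 6 := by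
        rw [Finset.card_erase_of_mem, Finset.card_erase_of_mem (ho.2 (by simp)), hc]
        rw [Finset.mem_erase]
        exact ⟨by decide, ho.2 (by simp)⟩
      rw [this]
      rfl
    rw [Finset.sum_congr rfl this, Finset.sum_const, card_octThrough_two (by decide)]
    rfl
  · intro p hp
    rw [Finset.mem_coe] at hp ⊢
    rw [mem_c3I1155] at hp
    exact hp.1

lemma card_c3F1155 : c3F1155.card = 1155 := by
  unfold c3F1155
  rw [Finset.card_image_of_injOn, card_c3I1155]
  intro p hp p' hp' h
  rw [Finset.mem_coe, mem_c3I1155] at hp hp'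
  have hts : p.2 ⊆ p.1 := fun q hq =>
    Finset.mem_of_mem_erase (Finset.mem_of_mem_erase (hp.2.2 hq))
  have hts' : p'.2 ⊆ p'.1 := fun q hq =>
    Finset.mem_of_mem_erase (Finset.mem_of_mem_erase (hp'.2.2 hq))
  obtain ⟨e1, e2⟩ := pmVec_inj (a := 2) (by norm_num) hts hts' h
  exact Prod.ext e1 e2

lemma card_words_avoid_two :
    ((codeWords 8).filter fun c => c none = 0 ∧ c (some 0) = 0).card = 330 := by
  classical
  rw [← card_oct_avoid_two,
    ← card_filter_words 8 (fun s => (none : GolayPt) ∉ s ∧ (some 0 : GolayPt) ∉ s)]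
  congr 1
  apply Finset.filter_congr
  intro c _
  rw [notMem_bsupp, notMem_bsupp]

lemma card_c3I2640 : c3I2640.card = 2640 := by
  classical
  rw [Finset.card_eq_sum_card_fiberwise (f := Prod.snd)
    (t := (codeWords 8).filter fun c => c none = 0 ∧ c (some 0) = 0)]
  · have : ∀ c ∈ (codeWords 8).filter (fun c => c none = 0 ∧ c (some 0) = 0),
        (c3I2640.filter fun p => p.2 = c).card = 8 := by
      intro c hc
      rw [Finset.mem_filter] at hc
      have e : (c3I2640.filter fun p => p.2 = c) = (bsupp c).image fun q => (q, c) := by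
        ext p
        rw [Finset.mem_filter, mem_c3I2640, Finset.mem_image]
        constructor
        · rintro ⟨⟨-, -, -, h4⟩, rfl⟩
          exact ⟨p.1, (mem_bsupp _ _).mpr h4, rfl⟩
        · rintro ⟨q, hq, rfl⟩
          exact ⟨⟨hc.1, hc.2.1, hc.2.2, (mem_bsupp _ _).mp hq⟩, rfl⟩
      rw [e, Finset.card_image_of_injective _ (fun a b h => (Prod.mk.inj h).1),
        ← hammingNorm_eq_card_bsupp]
      exact ((mem_codeWords 8 c).mp hc.1).2
    rw [Finset.sum_congr rfl this, Finset.sum_const, card_words_avoid_two]
    rfl
  · intro p hp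
    rw [Finset.mem_coe] at hp ⊢
    rw [mem_c3I2640] at hp
    rw [Finset.mem_filter]
    exact ⟨hp.1, hp.2.1, hp.2.2.1⟩

lemma card_c3F2640 : c3F2640.card = 2640 := by
  unfold c3F2640
  rw [Finset.card_image_of_injOn, card_c3I2640]
  intro p _ p' _ h
  obtain ⟨e1, e2⟩ := signVec_inj_of_one_mod_four (fun i => oneVec_mod _ (by decide) i)
    (fun i => oneVec_mod _ (by decide) i) h
  have := oneVec_inj (b := -3) (by norm_num) e2
  exact Prod.ext (Finset.singleton_injective this) e1

end Cfsg.Agent.Lib.Helper94
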