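import Mathlib
import Cfsg.Agent.Lib.Helper94.LeechC3d

/-! The sizes of the classes of the 11178 vectors. -/

set_option autoImplicit false

namespace Cfsg.Agent.Lib.Helper94

open Cfsg
open Cfsg.Agent.Lib.Helper95

/-- The classes. -/
def c3Cls (t : ℤ) : Set (GolayPt → ℤ) := {y | y ∈ c3Set ∧ dotInt ob y = t}

lemma mlC_c3 (y : GolayPt → ℤ) (hy : y ∈ mlC) : y ∈ c3Set ∧ y none = 2 ∧ y (some 0) = -2 :=
  ⟨((mem_mlSet_iff_c3 y).mp (mlC_sub y hy)).1, val_mlC y hy⟩

lemma mlB_c3 (y : GolayPt → ℤ) (hy : y ∈ mlB) : y ∈ c3Set ∧ y none = 0 ∧ y (some 0) = 0 :=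
  ⟨((mem_mlSet_iff_c3 y).mp (mlB_sub y hy)).1, val_mlB y hy⟩

lemma dot_ob_ob'' : dotInt ob ob = 32 := by rw [dotInt_self, sqNorm_ob]

/-- The value of the inner product with the base vector, by family. -/
lemma c3_dot_vals (y : GolayPt → ℤ) (hy : y ∈ c3Set) :
    (y = ob ∧ dotInt ob y = 32) ∨
    ((y ∈ c3F22 ∨ y ∈ mlC ∨ y ∈ c3F616) ∧ dotInt ob y = 16) ∨
    ((y ∈ mlB ∨ y ∈ c3F1155 ∨ y ∈ c3F2640) ∧ dotInt ob y = 0) ∨
    ((y ∈ c3F176a ∨ y ∈ c3F176b) ∧ dotInt ob y = -8) ∨ dotInt ob y = 8 := by
  rcases c3_classify y hy with h | h | h | h | h | h | h | h | h | h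
  · left; exact ⟨h, by rw [h, dot_ob_ob'']⟩
  · right; left
    have := c3F22_prop y h
    exact ⟨Or.inl h, by rw [dotInt_ob, this.2.1, this.2.2]; norm_num⟩
  · right; left
    have := mlC_c3 y h
    exact ⟨Or.inr (Or.inl h), by rw [dotInt_ob, this.2.1, this.2.2]; norm_num⟩
  · right; left
    have := c3F616_prop y h
    exact ⟨Or.inr (Or.inr h), by rw [dotInt_ob, this.2.1, this.2.2]; norm_num⟩
  · right; right; left
    have := mlB_c3 y h
    exact ⟨Or.inl h, by rw [dotInt_ob, this.2.1, this.2.2]; norm_num⟩
  · right; right; left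
    have := c3F1155_prop y h
    exact ⟨Or.inr (Or.inl h), by rw [dotInt_ob, this.2.1, this.2.2]; norm_num⟩
  · right; right; left
    have := c3F2640_prop y h
    exact ⟨Or.inr (Or.inr h), by rw [dotInt_ob, this.2.1, this.2.2]; norm_num⟩
  · right; right; right; left
    have := c3F176a_prop y h
    exact ⟨Or.inl h, by rw [dotInt_ob, this.2.1, this.2.2]; norm_num⟩
  · right; right; right; left
    have := c3F176b_prop y h
    exact ⟨Or.inr h, by rw [dotInt_ob, this.2.1, this.2.2]; norm_num⟩
  · right; right; right; right; exact h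

theorem ncard_c3Cls16 : (c3Cls 16).ncard = 1100 := by
  classical
  have : c3Cls 16 = ↑(c3F22 ∪ mlC ∪ c3F616) := by
    ext y
    rw [Finset.mem_coe, Finset.mem_union, Finset.mem_union]
    constructor
    · rintro ⟨hy, hd⟩
      rcases c3_dot_vals y hy with h | h | h | h | h
      · omega
      · rcases h.1 with h' | h' | h'
        · exact Or.inl (Or.inl h')
        · exact Or.inl (Or.inr h')
        · exact Or.inr h'
      · omega
      · omega
      · omega
    · rintro ((h | h) | h)
      · have := c3F22_prop y h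
        exact ⟨this.1, by rw [dotInt_ob, this.2.1, this.2.2]; norm_num⟩
      · have := mlC_c3 y h
        exact ⟨this.1, by rw [dotInt_ob, this.2.1, this.2.2]; norm_num⟩
      · have := c3F616_prop y h
        exact ⟨this.1, by rw [dotInt_ob, this.2.1, this.2.2]; norm_num⟩
  rw [this, Set.ncard_coe_finset, Finset.card_union_of_disjoint, Finset.card_union_of_disjoint,
    card_c3F22, card_mlC, card_c3F616]
  · rw [Finset.disjoint_left]
    intro x hx hx'
    have := c3F22_prop x hx
    have := mlC_c3 x hx'
    omega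
  · rw [Finset.disjoint_left]
    intro x hx hx'
    have h3 := c3F616_prop x hx'
    rw [Finset.mem_union] at hx
    rcases hx with hx | hx
    · have := c3F22_prop x hx; omega
    · have := mlC_c3 x hx; omega

theorem ncard_c3Cls0 : (c3Cls 0).ncard = 4125 := by
  classical
  have : c3Cls 0 = ↑(mlB ∪ c3F1155 ∪ c3F2640) := by
    ext y
    rw [Finset.mem_coe, Finset.mem_union, Finset.mem_union]
    constructor
    · rintro ⟨hy, hd⟩
      rcases c3_dot_vals y hy with h | h | h | h | h
      · omega
      · omega
      · rcases h.1 with h' | h' | h'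
        · exact Or.inl (Or.inl h')
        · exact Or.inl (Or.inr h')
        · exact Or.inr h'
      · omega
      · omega
    · rintro ((h | h) | h)
      · have := mlB_c3 y h
        exact ⟨this.1, by rw [dotInt_ob, this.2.1, this.2.2]; norm_num⟩
      · have := c3F1155_prop y h
        exact ⟨this.1, by rw [dotInt_ob, this.2.1, this.2.2]; norm_num⟩
      · have := c3F2640_prop y h
        exact ⟨this.1, by rw [dotInt_ob, this.2.1, this.2.2]; norm_num⟩
  rw [this, Set.ncard_coe_finset, Finset.card_union_of_disjoint, Finset.card_union_of_disjoint,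
    card_mlB, card_c3F1155, card_c3F2640]
  · rw [Finset.disjoint_left]
    intro x hx hx'
    have := mlB_c3 x hx
    have := c3F1155_prop x hx'
    omega
  · rw [Finset.disjoint_left]
    intro x hx hx'
    have h3 := c3F2640_prop x hx'
    rw [Finset.mem_union] at hx
    rcases hx with hx | hx
    · have := mlB_c3 x hx; omega
    · have := c3F1155_prop x hx; omega

theorem ncard_c3ClsNeg : (c3Cls (-8)).ncard = 352 := by
  classical
  have : c3Cls (-8) = ↑(c3F176a ∪ c3F176b) := by
    ext y
    rw [Finset.mem_coe, Finset.mem_union]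
    constructor
    · rintro ⟨hy, hd⟩
      rcases c3_dot_vals y hy with h | h | h | h | h
      · omega
      · omega
      · omega
      · exact h.1
      · omega
    · rintro (h | h)
      · have := c3F176a_prop y h
        exact ⟨this.1, by rw [dotInt_ob, this.2.1, this.2.2]; norm_num⟩
      · have := c3F176b_prop y h
        exact ⟨this.1, by rw [dotInt_ob, this.2.1, this.2.2]; norm_num⟩
  rw [this, Set.ncard_coe_finset, Finset.card_union_of_disjoint, card_c3F176a, card_c3F176b]
  rw [Finset.disjoint_left]
  intro x hx hx'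
  have := c3F176a_prop x hx
  have := c3F176b_prop x hx'
  omega

theorem ncard_c3Cls8 : (c3Cls 8).ncard = 5600 := by
  classical
  have hfin : c3Set.Finite := Set.finite_of_ncard_ne_zero (by rw [ncard_c3Set]; norm_num)
  set F := hfin.toFinset with hF
  have hFc : F.card = 11178 := by
    rw [← ncard_c3Set, Set.ncard_eq_toFinset_card c3Set hfin]
  have hcls : ∀ t : ℤ, (c3Cls t).ncard = (F.filter fun y => dotInt ob y = t).card := by
    intro t
    have : c3Cls t = ↑(F.filter fun y => dotInt ob y = t) := by
      ext y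
      rw [Finset.coe_filter]
      simp only [hF, Set.Finite.mem_toFinset, Set.mem_ofPred_eq]
      rfl
    rw [this, Set.ncard_coe_finset]
  have h32 : (F.filter fun y => dotInt ob y = 32).card = 1 := by
    have : (F.filter fun y => dotInt ob y = 32) = {ob} := by
      ext y
      rw [Finset.mem_filter, Finset.mem_singleton, hF, Set.Finite.mem_toFinset]
      constructor
      · rintro ⟨hy, hd⟩
        exact eq_ob_of_dot hy hd
      · rintro rfl
        exact ⟨ob_mem_c3Set, dot_ob_ob''⟩
    rw [this, Finset.card_singleton]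
  have hsum := Finset.card_eq_sum_card_fiberwise (f := fun y => dotInt ob y) (s := F)
    (t := ({32, 16, 8, 0, -8} : Finset ℤ)) (by
      intro y hy
      rw [Finset.mem_coe, hF, Set.Finite.mem_toFinset] at hy
      simp only [Finset.coe_insert, Finset.coe_singleton, Set.mem_insert_iff,
        Set.mem_singleton_iff]
      rcases c3_dot_vals y hy with h | h | h | h | h
      · exact Or.inl h.2
      · exact Or.inr (Or.inl h.2)
      · exact Or.inr (Or.inr (Or.inr (Or.inl h.2)))
      · exact Or.inr (Or.inr (Or.inr (Or.inr h.2)))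
      · exact Or.inr (Or.inr (Or.inl h)))
  rw [Finset.sum_insert (by decide), Finset.sum_insert (by decide), Finset.sum_insert (by decide),
    Finset.sum_insert (by decide), Finset.sum_singleton, hFc, h32, ← hcls 16, ← hcls 8,
    ← hcls 0, ← hcls (-8), ncard_c3Cls16, ncard_c3Cls0, ncard_c3ClsNeg] at hsum
  omega

end Cfsg.Agent.Lib.Helper94
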