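import Mathlib
import Cfsg.Agent.Lib.Helper94.LeechHS3
import Cfsg.Agent.Lib.Helper94.LeechOrder
import Cfsg.Agent.Lib.Helper94.LeechTransfer

/-! The point stabiliser in the standard Higman–Sims configuration. -/

set_option autoImplicit false

namespace Cfsg.Agent.Lib.Helper94

open Cfsg
open Cfsg.Agent.Lib.Helper95

lemma w5_memL : w5 ∈ leechLattice := by
  rw [← ob_sub_u5]; exact leechLattice.sub_mem ob_mem u5_memL

lemma sqNorm_w5 : sqNorm w5 = 48 := by
  unfold w5
  rw [sqNorm_neg', sqNorm_oneVec, Finset.card_singleton]; norm_num

lemma dotInt_u5_w5 : dotInt u5 w5 = -32 := by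
  rw [dotInt_comm', dotInt_w5]
  unfold u5
  rw [sum_oneVec, Finset.card_singleton, oneVec_apply, if_neg (by simp)]
  norm_num

/-- The standard vectors as elements of the lattice. -/
def U5 : leechLattice := ⟨u5, u5_memL⟩
def W5 : leechLattice := ⟨w5, w5_memL⟩
def OA : leechLattice := ⟨oa, oa_mem⟩

lemma permVec_mul (σ τ : Equiv.Perm GolayPt) (x : GolayPt → ℤ) :
    permVec (σ * τ) x = permVec σ (permVec τ x) := by
  ext i
  simp [permVec_apply, Equiv.Perm.mul_def]

lemma u5_apply (j : GolayPt) : u5 j = if j = none then 5 else 1 := by
  unfold u5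
  rw [oneVec_apply]
  simp

/-- An automorphism fixing the three standard vectors is a coordinate permutation. -/
theorem hs_point_stab (g : ↥Co0) (h1 : g • U5 = U5) (h2 : g • W5 = W5) (h3 : g • OA = OA) :
    ∃ (σ : Equiv.Perm GolayPt) (hσ : σ ∈ M24), σ none = none ∧ σ (some 0) = some 0 ∧
      g.1 = permPerm σ hσ := by
  -- `g` fixes the frame vector
  have hE : g • E8 none = E8 none := by
    have e1 : E8 none = OA + OA + W5 + U5 - OA := by
      apply Subtype.ext
      show vec8 none = oa + oa + w5 + u5 - oa
      rw [← ob_sub_u5, ← twoVec_add none (some 0)]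
      unfold oa ob
      abel
    have hadd : ∀ a b : leechLattice, g • (a + b) = g • a + g • b := fun a b => g.2.1 a b
    have hsub : ∀ a b : leechLattice, g • (a - b) = g • a - g • b := by
      intro a b
      have := hadd (a - b) b
      rw [sub_add_cancel] at this
      rw [this, add_sub_cancel_right]
    rw [e1, hsub, hadd, hadd, hadd, h1, h2, h3]
  have hq : g ∈ MulAction.stabilizer ↥Co0 q0 := by
    rw [MulAction.mem_stabilizer_iff]
    have : q0 = cls (E8 none).1 := (cls_vec8 none).symm
    rw [this, smul_cls, hE]
  obtain ⟨σ, hσ, d, hd, hform⟩ := Cfsg.Agent.S1571.structure_of_stab g ((stabilizer_iff g).mp hq)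
  have f1 : ∀ j, u5 j = sgnOf d j * u5 (σ.symm j) := by
    intro j
    have := hform U5 j
    have e : (g.1 U5) = U5 := h1
    rw [e] at this
    exact this
  have f3 : ∀ j, oa j = sgnOf d j * oa (σ.symm j) := by
    intro j
    have := hform OA j
    have e : (g.1 OA) = OA := h3
    rw [e] at this
    exact this
  have hs0 : σ.symm none = none := by
    have := f1 none
    rw [u5_apply, u5_apply, if_pos rfl] at this
    by_contra hne
    rw [if_neg hne] at this
    rcases sgnOf_cases d none with h | h <;> rw [h] at this <;> norm_num at this
  have hsgn : ∀ j, sgnOf d j = 1 := by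
    intro j
    have := f1 j
    rw [u5_apply, u5_apply] at this
    by_cases hj : j = none
    · subst hj
      rw [if_pos rfl, if_pos hs0] at this
      rcases sgnOf_cases d none with h | h
      · exact h
      · rw [h] at this; norm_num at this
    · have hj' : σ.symm j ≠ none := by
        intro h
        apply hj
        have := σ.symm.injective (h.trans hs0.symm)
        exact this
      rw [if_neg hj, if_neg hj'] at this
      rcases sgnOf_cases d j with h | h
      · exact h
      · rw [h] at this; norm_num at this
  have hσn : σ none = none := by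
    have := congrArg σ hs0
    rw [Equiv.apply_symm_apply] at this
    exact this.symm
  have hs1 : σ.symm (some 0) = some 0 := by
    have := f3 (some 0)
    rw [hsgn, one_mul] at this
    unfold oa at this
    rw [twoVec_apply_right (by decide)] at this
    by_contra hne
    have hne' : σ.symm (some 0) ≠ none := by
      intro h
      have := σ.symm.injective (h.trans hs0.symm)
      exact absurd this (by decide)
    unfold twoVec at this
    rw [Pi.add_apply, Pi.single_eq_of_ne hne', Pi.single_eq_of_ne hne] at this
    norm_num at this
  have hσ0 : σ (some 0) = some 0 := by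
    have := congrArg σ hs1
    rw [Equiv.apply_symm_apply] at this
    exact this.symm
  refine ⟨σ, hσ, hσn, hσ0, ?_⟩
  apply Equiv.ext
  intro v
  apply Subtype.ext
  funext j
  show (g.1 v).1 j = permVec σ v.1 j
  rw [hform v j, hsgn, one_mul, permVec_apply]

end Cfsg.Agent.Lib.Helper94
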