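import Mathlib

/-! A simplicity criterion: a faithful transitive action on 100 points with simple point
stabiliser having orbits of lengths 1, 22 and 77. -/

set_option autoImplicit false

namespace Cfsg.Agent.Lib.Helper94

open MulAction
open scoped Pointwise

section

variable {G Z : Type*} [Group G] [MulAction G Z]

/-- The possible sizes of the subsets invariant under the point stabiliser. -/
lemma rank3_invariant_ncard (a : Z) (A B : Set Z) (haA : a ∉ A) (haB : a ∉ B)
    (hAB : Disjoint A B) (cA : A.ncard = 22) (cB : B.ncard = 77)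
    (hA : ∀ x ∈ A, ∀ y ∈ A, ∃ h : G, h • a = a ∧ h • x = y)
    (hB : ∀ x ∈ B, ∀ y ∈ B, ∃ h : G, h • a = a ∧ h • x = y)
    (T : Set Z) (haT : a ∈ T) (hT : T ⊆ {a} ∪ A ∪ B)
    (hinv : ∀ h : G, h • a = a → ∀ x ∈ T, h • x ∈ T) :
    T.ncard = 1 ∨ T.ncard = 23 ∨ T.ncard = 78 ∨ T.ncard = 100 := by
  have fA : A.Finite := Set.finite_of_ncard_ne_zero (by rw [cA]; norm_num)
  have fB : B.Finite := Set.finite_of_ncard_ne_zero (by rw [cB]; norm_num)
  have dA : T ∩ A = ∅ ∨ T ∩ A = A := by
    by_cases h : (T ∩ A).Nonempty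
    · right
      obtain ⟨x, hxT, hxA⟩ := h
      apply Set.inter_eq_right.mpr
      intro y hy
      obtain ⟨h, h1, h2⟩ := hA x hxA y hy
      rw [← h2]; exact hinv h h1 x hxT
    · left; exact Set.not_nonempty_iff_eq_empty.mp h
  have dB : T ∩ B = ∅ ∨ T ∩ B = B := by
    by_cases h : (T ∩ B).Nonempty
    · right
      obtain ⟨x, hxT, hxB⟩ := h
      apply Set.inter_eq_right.mpr
      intro y hy
      obtain ⟨h, h1, h2⟩ := hB x hxB y hy
      rw [← h2]; exact hinv h h1 x hxT
    · left; exact Set.not_nonempty_iff_eq_empty.mp h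
  have hTeq : T = {a} ∪ (T ∩ A) ∪ (T ∩ B) := by
    ext x
    constructor
    · intro hx
      rcases hT hx with (h | h) | h
      · left; left; exact h
      · left; right; exact ⟨hx, h⟩
      · right; exact ⟨hx, h⟩
    · rintro ((h | h) | h)
      · rw [Set.mem_singleton_iff] at h; rw [h]; exact haT
      · exact h.1
      · exact h.1
  have fTA : (T ∩ A).Finite := fA.subset Set.inter_subset_right
  have fTB : (T ∩ B).Finite := fB.subset Set.inter_subset_right
  have d1 : Disjoint ({a} : Set Z) (T ∩ A) :=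
    Set.disjoint_singleton_left.mpr (fun h => haA h.2)
  have d2 : Disjoint ({a} ∪ (T ∩ A)) (T ∩ B) := by
    rw [Set.disjoint_left]
    rintro x (h | h) hx
    · rw [Set.mem_singleton_iff] at h; rw [h] at hx; exact haB hx.2
    · exact (Set.disjoint_left.mp hAB) h.2 hx.2
  have hcard : ({a} ∪ (T ∩ A) ∪ (T ∩ B) : Set Z).ncard =
      1 + (T ∩ A).ncard + (T ∩ B).ncard := by
    rw [Set.ncard_union_eq d2 ((Set.finite_singleton a).union fTA) fTB,
      Set.ncard_union_eq d1 (Set.finite_singleton a) fTA, Set.ncard_singleton]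
  have hc := congrArg Set.ncard hTeq
  rw [hcard] at hc
  rcases dA with h1 | h1 <;> rcases dB with h2 | h2 <;> rw [h1, h2] at hc <;>
    simp only [Set.ncard_empty, cA, cB] at hc <;> omega

/-- The simplicity criterion. -/
theorem simple_of_rank3 [Finite G] (a : Z) (A B : Set Z) (haA : a ∉ A) (haB : a ∉ B)
    (hAB : Disjoint A B) (cA : A.ncard = 22) (cB : B.ncard = 77)
    (horb : ∀ x, x ∈ ({a} ∪ A ∪ B : Set Z) ↔ ∃ g : G, g • a = x)
    (hA : ∀ x ∈ A, ∀ y ∈ A, ∃ h : G, h • a = a ∧ h • x = y)
    (hB : ∀ x ∈ B, ∀ y ∈ B, ∃ h : G, h • a = a ∧ h • x = y)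
    (hfaith : ∀ g : G, (∀ x ∈ ({a} ∪ A ∪ B : Set Z), g • x = x) → g = 1)
    (hH : IsSimpleGroup ↥(stabilizer G a))
    (hcard : Nat.card G = 44352000) : IsSimpleGroup G := by
  classical
  set Ω : Set Z := {a} ∪ A ∪ B with hΩ
  have fA : A.Finite := Set.finite_of_ncard_ne_zero (by rw [cA]; norm_num)
  have fB : B.Finite := Set.finite_of_ncard_ne_zero (by rw [cB]; norm_num)
  have fΩ : Ω.Finite := ((Set.finite_singleton a).union fA).union fB
  have cΩ : Ω.ncard = 100 := by
    have d1 : Disjoint ({a} : Set Z) A := Set.disjoint_singleton_left.mpr haA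
    have d2 : Disjoint ({a} ∪ A) B := by
      rw [Set.disjoint_left]
      rintro x (h | h) hx
      · rw [Set.mem_singleton_iff] at h; rw [h] at hx; exact haB hx
      · exact (Set.disjoint_left.mp hAB) h hx
    rw [hΩ, Set.ncard_union_eq d2 ((Set.finite_singleton a).union fA) fB,
      Set.ncard_union_eq d1 (Set.finite_singleton a) fA, Set.ncard_singleton, cA, cB]
  have : Nontrivial G := by
    have := hH.toNontrivial
    obtain ⟨x, y, hxy⟩ := exists_pair_ne ↥(stabilizer G a)
    exact ⟨⟨x.1, y.1, fun h => hxy (Subtype.ext h)⟩⟩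
  refine ⟨fun N hN => ?_⟩
  rw [or_iff_not_imp_left]
  intro hne
  -- the orbit of `a` under `N`
  set S : Set Z := {x | ∃ n ∈ N, n • a = x} with hS
  have haS : a ∈ S := ⟨1, N.one_mem, one_smul _ _⟩
  have hSΩ : S ⊆ Ω := by
    rintro x ⟨n, -, rfl⟩
    exact (horb _).mpr ⟨n, rfl⟩
  have hSinv : ∀ h : G, h • a = a → ∀ x ∈ S, h • x ∈ S := by
    rintro h ha x ⟨n, hn, rfl⟩
    refine ⟨h * n * h⁻¹, hN.conj_mem n hn h, ?_⟩
    rw [mul_smul, mul_smul]
    congr 2
    rw [inv_smul_eq_iff, ha]
  have hSrange : S = orbit ↥N a := by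
    ext x
    constructor
    · rintro ⟨n, hn, rfl⟩
      exact ⟨⟨n, hn⟩, rfl⟩
    · rintro ⟨⟨n, hn⟩, rfl⟩
      exact ⟨n, hn, rfl⟩
  have hNcard : Nat.card ↥N = S.ncard * Nat.card ↥(stabilizer ↥N a) := by
    have h1 := Subgroup.card_eq_card_quotient_mul_card_subgroup (stabilizer ↥N a)
    rw [← Nat.card_congr (orbitEquivQuotientStabilizer ↥N a), ← hSrange,
      Nat.card_coe_set_eq] at h1
    exact h1
  have hSdvd : S.ncard ∣ 44352000 := by
    rw [← hcard]
    exact (Dvd.intro _ hNcard.symm).trans (Subgroup.card_subgroup_dvd_card N)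
  have hsizes := rank3_invariant_ncard (G := G) a A B haA haB hAB cA cB hA hB S haS hSΩ hSinv
  have hS1 : S.ncard ≠ 1 := by
    intro h1
    apply hne
    have hSa : S = {a} := by
      obtain ⟨b, hb⟩ := Set.ncard_eq_one.mp h1
      rw [hb] at haS ⊢
      rw [Set.mem_singleton_iff] at haS
      rw [haS]
    rw [Subgroup.eq_bot_iff_forall]
    intro n hn
    apply hfaith
    intro x hx
    obtain ⟨g, rfl⟩ := (horb x).mp hx
    have h2 : (g⁻¹ * n * g) • a ∈ S :=
      ⟨g⁻¹ * n * g, by simpa using hN.conj_mem n hn g⁻¹, rfl⟩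
    rw [hSa, Set.mem_singleton_iff] at h2
    rw [mul_smul, mul_smul, inv_smul_eq_iff] at h2
    exact h2
  have hS100 : S.ncard = 100 := by
    rcases hsizes with h | h | h | h
    · exact absurd h hS1
    · rw [h] at hSdvd; norm_num at hSdvd
    · rw [h] at hSdvd; norm_num at hSdvd
    · exact h
  have hSeq : S = Ω := Set.eq_of_subset_of_ncard_le hSΩ (by rw [cΩ, hS100]) fΩ
  -- `N` is transitive
  have htrans : ∀ g : G, ∃ n ∈ N, n • a = g • a := by
    intro g
    have : g • a ∈ S := by rw [hSeq]; exact (horb _).mpr ⟨g, rfl⟩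
    exact this
  have : (N.subgroupOf (stabilizer G a)).Normal := hN.subgroupOf _
  rcases hH.eq_bot_or_eq_top_of_normal (N.subgroupOf (stabilizer G a)) inferInstance with hK | hK
  · -- the regular case
    exfalso
    rw [Subgroup.subgroupOf_eq_bot] at hK
    have hfree : ∀ n ∈ N, n • a = a → n = 1 := by
      intro n hn hna
      have : n ∈ N ⊓ stabilizer G a := ⟨hn, hna⟩
      rw [hK.eq_bot] at this
      exact this
    have hinj : ∀ n ∈ N, ∀ m ∈ N, n • a = m • a → n = m := by
      intro n hn m hm h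
      have := hfree (m⁻¹ * n) (N.mul_mem (N.inv_mem hm) hn) (by
        rw [mul_smul, h, inv_smul_smul])
      exact (inv_mul_eq_one.mp this).symm
    have hstab : Nat.card ↥(stabilizer ↥N a) = 1 := by
      rw [Nat.card_eq_one_iff_unique]
      refine ⟨⟨?_⟩, ⟨1⟩⟩
      rintro ⟨⟨n, hn⟩, hna⟩ ⟨⟨m, hm⟩, hma⟩
      apply Subtype.ext
      apply Subtype.ext
      show n = m
      have h1 : n • a = a := hna
      have h2 : m • a = a := hma
      rw [hfree n hn h1, hfree m hm h2]
    have hN100 : Nat.card ↥N = 100 := by rw [hNcard, hstab, hS100]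
    haveI : Fact (Nat.Prime 5) := ⟨by norm_num⟩
    obtain ⟨P⟩ : Nonempty (Sylow 5 ↥N) := inferInstance
    -- the order of `P`
    have hPidx : Nat.card ↥(P : Subgroup ↥N) * (P : Subgroup ↥N).index = 100 := by
      rw [Subgroup.card_mul_index, hN100]
    obtain ⟨k, hk⟩ := (IsPGroup.iff_card (p := 5)).mp P.isPGroup'
    have hnd := P.not_dvd_index
    have hk2 : k = 2 := by
      rw [hk] at hPidx
      have hk3 : k < 3 := by
        by_contra h
        push Not at h
        have : 5 ^ 3 ≤ 5 ^ k := Nat.pow_le_pow_right (by norm_num) h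
        have hpos : 0 < (P : Subgroup ↥N).index := by
          rcases Nat.eq_zero_or_pos (P : Subgroup ↥N).index with h0 | h0
          · rw [h0] at hPidx; norm_num at hPidx
          · exact h0
        nlinarith
      interval_cases k
      · exfalso; apply hnd
        have : (P : Subgroup ↥N).index = 100 := by omega
        rw [this]; norm_num
      · exfalso; apply hnd
        have : (P : Subgroup ↥N).index = 20 := by omega
        rw [this]; norm_num
      · rfl
    rw [hk2] at hk
    have hidx : (P : Subgroup ↥N).index = 4 := by rw [hk] at hPidx; omega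
    -- uniqueness of `P`
    have hsub : Subsingleton (Sylow 5 ↥N) := by
      have h1 := card_sylow_modEq_one 5 ↥N
      have h2 := P.card_dvd_index
      rw [hidx] at h2
      have h3 : Nat.card (Sylow 5 ↥N) ≤ 4 := Nat.le_of_dvd (by norm_num) h2
      have h4 : Nat.card (Sylow 5 ↥N) = 1 := by
        unfold Nat.ModEq at h1
        generalize Nat.card (Sylow 5 ↥N) = c at h1 h2 h3
        interval_cases c <;> omega
      exact (Nat.card_eq_one_iff_unique.mp h4).1
    -- the image of `P`
    set T : Set Z := {x | ∃ n : ↥N, n ∈ (P : Subgroup ↥N) ∧ (n : G) • a = x} with hT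
    have haT : a ∈ T := ⟨1, (P : Subgroup ↥N).one_mem, one_smul _ _⟩
    have hTΩ : T ⊆ Ω := by
      rintro x ⟨n, -, rfl⟩
      exact (horb _).mpr ⟨n, rfl⟩
    have hTinv : ∀ h : G, h • a = a → ∀ x ∈ T, h • x ∈ T := by
      rintro h ha x ⟨n, hn, rfl⟩
      have hP' : (MulAut.conjNormal h : MulAut ↥N) • P = P := Subsingleton.elim _ _
      have hmem : (MulAut.conjNormal h : MulAut ↥N) • n ∈
          (MulAut.conjNormal h : MulAut ↥N) • (P : Subgroup ↥N) :=
        Subgroup.smul_mem_pointwise_smul n _ _ hn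
      rw [← Sylow.pointwise_smul_def, hP'] at hmem
      refine ⟨_, hmem, ?_⟩
      show ((MulAut.conjNormal h n : ↥N) : G) • a = h • (n : G) • a
      rw [MulAut.conjNormal_apply, mul_smul, mul_smul]
      congr 2
      rw [inv_smul_eq_iff, ha]
    have hTcard : T.ncard = 25 := by
      have : T = (fun n : ↥N => (n : G) • a) '' ((P : Subgroup ↥N) : Set ↥N) := by
        ext x
        simp only [hT, Set.mem_ofPred_eq, Set.mem_image, SetLike.mem_coe]
      have hinj' : Function.Injective (fun n : ↥N => (n : G) • a) := by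
        intro n m hnm
        exact Subtype.ext (hinj n.1 n.2 m.1 m.2 hnm)
      rw [this, Set.ncard_image_of_injective _ hinj', ← Nat.card_coe_set_eq]
      exact hk.trans (by norm_num)
    have := rank3_invariant_ncard (G := G) a A B haA haB hAB cA cB hA hB T haT hTΩ hTinv
    omega
  · rw [Subgroup.subgroupOf_eq_top] at hK
    rw [Subgroup.eq_top_iff']
    intro g
    obtain ⟨n, hn, hna⟩ := htrans g
    have : n⁻¹ * g ∈ stabilizer G a := by
      rw [mem_stabilizer_iff, mul_smul, ← hna, inv_smul_smul]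
    have h2 := N.mul_mem hn (hK this)
    rwa [mul_inv_cancel_left] at h2

end

end Cfsg.Agent.Lib.Helper94
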