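import Mathlib
import Cfsg.Agent.Lib.Helper94.LeechHS4
import Cfsg.Agent.Lib.Helper94.Rank3Simple
import Cfsg.Agent.S0378
import Cfsg.Agent.S0379

/-! The stabiliser of the standard pair of vectors of sum of squares 48 with inner product `-32`
is simple of order 44352000. -/

set_option autoImplicit false

namespace Cfsg.Agent.Lib.Helper94

open Cfsg
open Cfsg.Agent.Lib.Helper95

/-- The stabiliser of the standard pair. -/
def HS0 : Subgroup ↥Co0 := MulAction.stabilizer ↥Co0 U5 ⊓ MulAction.stabilizer ↥Co0 W5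

/-- The stabiliser of two points in the group of the code. -/
abbrev M22' : Subgroup ↥M24 :=
  MulAction.stabilizer ↥M24 (none : GolayPt) ⊓ MulAction.stabilizer ↥M24 (some 0 : GolayPt)

lemma mem_HS0 (g : ↥Co0) : g ∈ HS0 ↔ g • U5 = U5 ∧ g • W5 = W5 := by
  unfold HS0
  rw [Subgroup.mem_inf, MulAction.mem_stabilizer_iff, MulAction.mem_stabilizer_iff]

/-- The coordinate permutation attached to an element of the two point stabiliser. -/
def permHS (σ : ↥M22') : ↥(MulAction.stabilizer ↥HS0 OA) :=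
  have h1 : σ.1.1 none = none := σ.2.1
  have h2 : σ.1.1 (some 0) = some 0 := σ.2.2
  ⟨⟨⟨permPerm σ.1.1 σ.1.2, permPerm_mem _ _⟩,
    (mem_HS0 _).mpr ⟨Subtype.ext (hs_perm_fix h1 h2).1, Subtype.ext (hs_perm_fix h1 h2).2.1⟩⟩,
    Subtype.ext (hs_perm_fix h1 h2).2.2⟩

lemma permHS_apply (σ : ↥M22') (v : leechLattice) :
    (((permHS σ).1.1.1 v : leechLattice) : GolayPt → ℤ) = permVec σ.1.1 v.1 := rfl

/-- The coordinate permutations as a homomorphism. -/
def permHSHom : ↥M22' →* ↥(MulAction.stabilizer ↥HS0 OA) :=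
  MonoidHom.mk' permHS (by
    intro σ τ
    apply Subtype.ext
    apply Subtype.ext
    apply Subtype.ext
    apply Equiv.ext
    intro v
    apply Subtype.ext
    exact permVec_mul σ.1.1 τ.1.1 v.1)

lemma permHSHom_injective : Function.Injective permHSHom := by
  intro σ τ h
  apply Subtype.ext
  apply Subtype.ext
  apply Equiv.ext
  intro i
  have h1 : permVec σ.1.1 (vec8 i) = permVec τ.1.1 (vec8 i) := by
    have := congrArg (fun k : ↥(MulAction.stabilizer ↥HS0 OA) =>
      ((k.1.1.1 (E8 i) : leechLattice) : GolayPt → ℤ)) h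
    exact this
  rw [permVec_vec8, permVec_vec8] at h1
  have := congrFun h1 (σ.1.1 i)
  unfold vec8 at this
  rw [if_pos rfl] at this
  by_contra hne
  rw [if_neg hne] at this
  norm_num at this

lemma permHSHom_surjective : Function.Surjective permHSHom := by
  rintro ⟨⟨g, hg⟩, hgOA⟩
  rw [mem_HS0] at hg
  have h3 : g • OA = OA := hgOA
  obtain ⟨σ, hσ, hn, h0, hgσ⟩ := hs_point_stab g hg.1 hg.2 h3
  refine ⟨⟨⟨σ, hσ⟩, ⟨hn, h0⟩⟩, ?_⟩
  apply Subtype.ext
  apply Subtype.ext
  apply Subtype.ext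
  exact hgσ.symm

instance : IsSimpleGroup ↥M22' := Cfsg.Agent.S0379.result none (some 0) (by decide)

lemma simple_stab_OA : IsSimpleGroup ↥(MulAction.stabilizer ↥HS0 OA) := by
  have : Nontrivial ↥(MulAction.stabilizer ↥HS0 OA) :=
    permHSHom_injective.nontrivial
  exact IsSimpleGroup.isSimpleGroup_of_surjective permHSHom permHSHom_surjective

lemma card_stab_OA : Nat.card ↥(MulAction.stabilizer ↥HS0 OA) = 443520 := by
  rw [← Cfsg.Agent.S0378.result none (some 0) (by decide)]
  exact (Nat.card_congr (Equiv.ofBijective permHSHom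
    ⟨permHSHom_injective, permHSHom_surjective⟩)).symm

end Cfsg.Agent.Lib.Helper94
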