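import Mathlib
import Cfsg.Agent.Lib.Helper94.LeechHS5

/-! The stabiliser of the standard pair is simple of order 44352000. -/

set_option autoImplicit false

namespace Cfsg.Agent.Lib.Helper94

open Cfsg
open Cfsg.Agent.Lib.Helper95

/-- The 22 points. -/
def hsA : Set leechLattice := {x | x.1 ∈ hsSet ∧ dotInt oa x.1 = 8}

/-- The 77 points. -/
def hsBs : Set leechLattice := {x | x.1 ∈ hsSet ∧ x.1 ≠ oa ∧ dotInt oa x.1 ≠ 8}

lemma ncard_hsA : hsA.ncard = 22 :=
  (ncard_transfer 1 _ (fun y => y ∈ hsSet ∧ dotInt oa y = 8) (fun _ => Iff.rfl)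
    (fun _ hy => hy.1.1)).trans ncard_hs_22

lemma ncard_hsBs : hsBs.ncard = 77 :=
  (ncard_transfer 1 _ (fun y => y ∈ hsSet ∧ y ≠ oa ∧ dotInt oa y ≠ 8) (fun _ => Iff.rfl)
    (fun _ hy => hy.1.1)).trans ncard_hs_77

lemma ncard_hsAll : {x : leechLattice | x.1 ∈ hsSet}.ncard = 100 :=
  (ncard_transfer 1 _ (fun y => y ∈ hsSet) (fun _ => Iff.rfl) (fun _ hy => hy.1)).trans ncard_hsSet

lemma oa_mem_hsSet : oa ∈ hsSet := (mem_hsSet_iff oa).mpr (Or.inl rfl)

lemma OA_notMem_hsA : OA ∉ hsA := by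
  rintro ⟨-, h⟩
  have : dotInt oa oa = 32 := dot_oa_oa
  have h' : dotInt oa oa = 8 := h
  omega

lemma OA_notMem_hsBs : OA ∉ hsBs := fun h => h.2.1 rfl

lemma disj_hsA_hsBs : Disjoint hsA hsBs := by
  rw [Set.disjoint_left]
  intro x hx hx'
  exact hx'.2.2 hx.2

lemma mem_hsUnion (x : leechLattice) : x ∈ ({OA} ∪ hsA ∪ hsBs : Set leechLattice) ↔ x.1 ∈ hsSet := by
  constructor
  · rintro ((h | h) | h)
    · rw [Set.mem_singleton_iff] at h; rw [h]; exact oa_mem_hsSet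
    · exact h.1
    · exact h.1
  · intro h
    by_cases h1 : x.1 = oa
    · left; left
      rw [Set.mem_singleton_iff]
      exact Subtype.ext h1
    · by_cases h2 : dotInt oa x.1 = 8
      · left; right; exact ⟨h, h2⟩
      · right; exact ⟨h, h1, h2⟩

/-- Elements of the stabiliser preserve the hundred vectors. -/
lemma HS0_preserves (g : ↥HS0) (x : leechLattice) (hx : x.1 ∈ hsSet) : (g • x).1 ∈ hsSet := by
  obtain ⟨hgU, hgW⟩ := (mem_HS0 g.1).mp g.2
  obtain ⟨-, h2, h3, h4⟩ := hx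
  refine ⟨(g • x).2, ?_, ?_, ?_⟩
  · exact (g.1.2.2 x).trans h2
  · have := co0_dot g.1.1 g.1.2 U5 x
    have e : g.1.1 U5 = U5 := hgU
    rw [e] at this
    exact this.trans h3
  · have := co0_dot g.1.1 g.1.2 W5 x
    have e : g.1.1 W5 = W5 := hgW
    rw [e] at this
    exact this.trans h4

lemma HS0_orbit (x : leechLattice) :
    x ∈ ({OA} ∪ hsA ∪ hsBs : Set leechLattice) ↔ ∃ g : ↥HS0, g • OA = x := by
  rw [mem_hsUnion]
  constructor
  · intro hx
    obtain ⟨g, hg, m1, m2, m3, e1, e2, e3⟩ := conj3_hs u5 w5 x.1 u5_memL w5_memL x.2 sqNorm_u5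
      sqNorm_w5 hx.2.1 dotInt_u5_w5 hx.2.2.1 hx.2.2.2
    have f1 : g U5 = U5 := Subtype.ext e1
    have f2 : g W5 = W5 := Subtype.ext e2
    have f3 : g x = OA := Subtype.ext e3
    have hk : (⟨g, hg⟩ : ↥Co0)⁻¹ ∈ HS0 := by
      rw [mem_HS0]
      constructor
      · rw [inv_smul_eq_iff]; exact f1.symm
      · rw [inv_smul_eq_iff]; exact f2.symm
    refine ⟨⟨(⟨g, hg⟩ : ↥Co0)⁻¹, hk⟩, ?_⟩
    show (⟨g, hg⟩ : ↥Co0)⁻¹ • OA = x
    rw [inv_smul_eq_iff]
    exact f3.symm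
  · rintro ⟨g, rfl⟩
    exact HS0_preserves g OA oa_mem_hsSet

lemma dot_preserved (h : ↥HS0) (hfix : h • OA = OA) (x : leechLattice) :
    dotInt oa (h • x).1 = dotInt oa x.1 := by
  have := co0_dot h.1.1 h.1.2 OA x
  have e : h.1.1 OA = OA := hfix
  rw [e] at this
  exact this

lemma HS0_trans_aux (x y : leechLattice) (hx : x.1 ∈ hsSet) (hy : y.1 ∈ hsSet) (hxo : x.1 ≠ oa)
    (hyo : y.1 ≠ oa) (hiff : dotInt oa x.1 = 8 ↔ dotInt oa y.1 = 8) :
    ∃ h : ↥HS0, h • OA = OA ∧ h • x = y := by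
  obtain ⟨σ, hσ, hn, h0, hxy⟩ := hs_rank3 x.1 y.1 hx hy hxo hyo hiff
  refine ⟨(permHS ⟨⟨σ, hσ⟩, ⟨hn, h0⟩⟩).1, (permHS ⟨⟨σ, hσ⟩, ⟨hn, h0⟩⟩).2, ?_⟩
  exact Subtype.ext hxy

lemma HS0_faithful (g : ↥HS0)
    (hg : ∀ x ∈ ({OA} ∪ hsA ∪ hsBs : Set leechLattice), g • x = x) : g = 1 := by
  have hOA : g • OA = OA := hg OA (by left; left; rfl)
  obtain ⟨s, hs⟩ := permHSHom_surjective ⟨g, hOA⟩
  have hg' : g = (permHS s).1 := by
    have := congrArg Subtype.val hs
    exact this.symm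
  have hσ : ∀ p : GolayPt, s.1.1 p = p := by
    intro p
    by_cases hp : p = none
    · rw [hp]; exact s.2.1
    · by_cases hp0 : p = some 0
      · rw [hp0]; exact s.2.2
      · have hmem : oneVec {p} (-3) ∈ hsSet := by
          rw [mem_hsSet_iff]
          right; right
          unfold hsC
          rw [Finset.mem_image]
          exact ⟨p, by rw [Finset.mem_filter]; exact ⟨Finset.mem_univ _, hp, hp0⟩, rfl⟩
        set x : leechLattice := ⟨oneVec {p} (-3), hmem.1⟩ with hx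
        have h1 := hg x ((mem_hsUnion x).mpr hmem)
        rw [hg'] at h1
        have h2 : permVec s.1.1 (oneVec {p} (-3)) = oneVec {p} (-3) := congrArg Subtype.val h1
        rw [permVec_oneVec, Finset.image_singleton] at h2
        have := oneVec_inj (b := -3) (by norm_num) h2
        exact Finset.singleton_injective this
  have hs1 : s = 1 := by
    apply Subtype.ext
    apply Subtype.ext
    apply Equiv.ext
    intro p
    exact hσ p
  rw [hg', hs1]
  have : permHSHom 1 = 1 := map_one _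
  exact congrArg Subtype.val this

instance finite_Co0 : Finite ↥Co0 :=
  Nat.finite_of_card_ne_zero (by rw [card_Co0]; norm_num)

lemma card_HS0 : Nat.card ↥HS0 = 44352000 := by
  have h1 := Subgroup.card_eq_card_quotient_mul_card_subgroup (MulAction.stabilizer ↥HS0 OA)
  rw [← Nat.card_congr (MulAction.orbitEquivQuotientStabilizer ↥HS0 OA), card_stab_OA] at h1
  have h2 : (MulAction.orbit ↥HS0 OA : Set leechLattice) = {x : leechLattice | x.1 ∈ hsSet} := by
    ext x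
    rw [Set.mem_ofPred_eq, ← mem_hsUnion, HS0_orbit]
    rfl
  have h3 : Nat.card ↥(MulAction.orbit ↥HS0 OA) = 100 := by
    rw [Nat.card_coe_set_eq, h2, ncard_hsAll]
  rw [h3] at h1
  rw [h1]

/-- The stabiliser of the standard pair is simple of order 44352000. -/
theorem isHS_HS0 : IsSimpleGroup ↥HS0 ∧ Nat.card ↥HS0 = 44352000 := by
  refine ⟨?_, card_HS0⟩
  apply simple_of_rank3 (G := ↥HS0) OA hsA hsBs OA_notMem_hsA OA_notMem_hsBs disj_hsA_hsBs
    ncard_hsA ncard_hsBs HS0_orbit ?_ ?_ HS0_faithful simple_stab_OA card_HS0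
  · intro x hx y hy
    have hxo : x.1 ≠ oa := by
      intro h
      have h1 : dotInt oa x.1 = 8 := hx.2
      rw [h, dot_oa_oa] at h1
      omega
    have hyo : y.1 ≠ oa := by
      intro h
      have h1 : dotInt oa y.1 = 8 := hy.2
      rw [h, dot_oa_oa] at h1
      omega
    exact HS0_trans_aux x y hx.1 hy.1 hxo hyo ⟨fun _ => hy.2, fun _ => hx.2⟩
  · intro x hx y hy
    exact HS0_trans_aux x y hx.1 hy.1 hx.2.1 hy.2.1
      ⟨fun h => absurd h hx.2.2, fun h => absurd h hy.2.2⟩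

end Cfsg.Agent.Lib.Helper94
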