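import Mathlib

/-! A simplicity criterion for a group acting faithfully and transitively with a simple point
stabiliser, under a numerical condition on the subsets invariant under the point stabiliser. -/

set_option autoImplicit false

namespace Cfsg.Agent.Lib.Helper94

open MulAction
open scoped Pointwise

section

variable {G Z : Type*} [Group G] [MulAction G Z]

/-- The possible sizes of the subsets invariant under the point stabiliser, for three
suborbits. -/
lemma invariant_ncard3 (a : Z) (A B C : Set Z) (haA : a ∉ A) (haB : a ∉ B) (haC : a ∉ C)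
    (hAB : Disjoint A B) (hAC : Disjoint A C) (hBC : Disjoint B C)
    (fA : A.Finite) (fB : B.Finite) (fC : C.Finite)
    (hA : ∀ x ∈ A, ∀ y ∈ A, ∃ h : G, h • a = a ∧ h • x = y)
    (hB : ∀ x ∈ B, ∀ y ∈ B, ∃ h : G, h • a = a ∧ h • x = y)
    (hC : ∀ x ∈ C, ∀ y ∈ C, ∃ h : G, h • a = a ∧ h • x = y)
    (T : Set Z) (haT : a ∈ T) (hT : T ⊆ {a} ∪ A ∪ B ∪ C)
    (hinv : ∀ h : G, h • a = a → ∀ x ∈ T, h • x ∈ T) :
    ∃ x y z : ℕ, (x = 0 ∨ x = A.ncard) ∧ (y = 0 ∨ y = B.ncard) ∧ (z = 0 ∨ z = C.ncard) ∧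
      T.ncard = 1 + x + y + z ∧ ({a} ∪ A ∪ B ∪ C : Set Z).ncard = 1 + A.ncard + B.ncard + C.ncard ∧
      (T.ncard = 1 + A.ncard + B.ncard + C.ncard → T = {a} ∪ A ∪ B ∪ C) := by
  have dich : ∀ D : Set Z, (∀ x ∈ D, ∀ y ∈ D, ∃ h : G, h • a = a ∧ h • x = y) →
      T ∩ D = ∅ ∨ T ∩ D = D := by
    intro D hD
    by_cases h : (T ∩ D).Nonempty
    · right
      obtain ⟨x, hxT, hxD⟩ := h
      apply Set.inter_eq_right.mpr
      intro y hy
      obtain ⟨h, h1, h2⟩ := hD x hxD y hy
      rw [← h2]; exact hinv h h1 x hxT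
    · left; exact Set.not_nonempty_iff_eq_empty.mp h
  have key : ∀ A' B' C' : Set Z, A' ⊆ A → B' ⊆ B → C' ⊆ C →
      ({a} ∪ A' ∪ B' ∪ C' : Set Z).ncard = 1 + A'.ncard + B'.ncard + C'.ncard := by
    intro A' B' C' sA sB sC
    have fA' := fA.subset sA
    have fB' := fB.subset sB
    have fC' := fC.subset sC
    have d1 : Disjoint ({a} : Set Z) A' := Set.disjoint_singleton_left.mpr (fun h => haA (sA h))
    have d2 : Disjoint ({a} ∪ A') B' := by
      rw [Set.disjoint_left]
      rintro x (h | h) hx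
      · rw [Set.mem_singleton_iff] at h; rw [h] at hx; exact haB (sB hx)
      · exact (Set.disjoint_left.mp hAB) (sA h) (sB hx)
    have d3 : Disjoint ({a} ∪ A' ∪ B') C' := by
      rw [Set.disjoint_left]
      rintro x ((h | h) | h) hx
      · rw [Set.mem_singleton_iff] at h; rw [h] at hx; exact haC (sC hx)
      · exact (Set.disjoint_left.mp hAC) (sA h) (sC hx)
      · exact (Set.disjoint_left.mp hBC) (sB h) (sC hx)
    rw [Set.ncard_union_eq d3 (((Set.finite_singleton a).union fA').union fB') fC',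
      Set.ncard_union_eq d2 ((Set.finite_singleton a).union fA') fB',
      Set.ncard_union_eq d1 (Set.finite_singleton a) fA', Set.ncard_singleton]
  have hTeq : T = {a} ∪ (T ∩ A) ∪ (T ∩ B) ∪ (T ∩ C) := by
    ext x
    constructor
    · intro hx
      rcases hT hx with ((h | h) | h) | h
      · left; left; left; exact h
      · left; left; right; exact ⟨hx, h⟩
      · left; right; exact ⟨hx, h⟩
      · right; exact ⟨hx, h⟩
    · rintro (((h | h) | h) | h)
      · rw [Set.mem_singleton_iff] at h; rw [h]; exact haT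
      · exact h.1
      · exact h.1
      · exact h.1
  have hc := congrArg Set.ncard hTeq
  rw [key _ _ _ Set.inter_subset_right Set.inter_subset_right Set.inter_subset_right] at hc
  have hΩ := key A B C subset_rfl subset_rfl subset_rfl
  have fΩ : ({a} ∪ A ∪ B ∪ C : Set Z).Finite :=
    (((Set.finite_singleton a).union fA).union fB).union fC
  refine ⟨(T ∩ A).ncard, (T ∩ B).ncard, (T ∩ C).ncard, ?_, ?_, ?_, hc, hΩ, ?_⟩
  · rcases dich A hA with h | h
    · left; rw [h, Set.ncard_empty]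
    · right; rw [h]
  · rcases dich B hB with h | h
    · left; rw [h, Set.ncard_empty]
    · right; rw [h]
  · rcases dich C hC with h | h
    · left; rw [h, Set.ncard_empty]
    · right; rw [h]
  · intro h
    exact Set.eq_of_subset_of_ncard_le hT (by rw [hΩ, h]) fΩ

/-- Under the block hypothesis, a nontrivial normal subgroup is transitive. -/
theorem normal_transitive [Finite G] (a : Z) (Ω : Set Z)
    (horb : ∀ x, x ∈ Ω ↔ ∃ g : G, g • a = x)
    (hblock : ∀ T : Set Z, a ∈ T → T ⊆ Ω → (∀ h : G, h • a = a → ∀ x ∈ T, h • x ∈ T) →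
      T.ncard ∣ Nat.card G → T.ncard = 1 ∨ T = Ω)
    (hfaith : ∀ g : G, (∀ x ∈ Ω, g • x = x) → g = 1)
    (N : Subgroup G) (hN : N.Normal) (hne : N ≠ ⊥) :
    (∀ g : G, ∃ n ∈ N, n • a = g • a) ∧
      Nat.card ↥N = Ω.ncard * Nat.card ↥(stabilizer ↥N a) := by
  classical
  set S : Set Z := {x | ∃ n ∈ N, n • a = x} with hS
  have haS : a ∈ S := ⟨1, N.one_mem, one_smul _ _⟩
  have hSΩ : S ⊆ Ω := by
    rintro x ⟨n, -, rfl⟩
    exact (horb _).mpr ⟨n, rfl⟩
  have hSinv : ∀ h : G, h • a = a → ∀ x ∈ S, h • x ∈ S := by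
    rintro h ha x ⟨n, hn, rfl⟩
    refine ⟨h * n * h⁻¹, hN.conj_mem n hn h, ?_⟩
    rw [mul_smul, mul_smul]
    congr 2
    rw [inv_smul_eq_iff, ha]
  have hSrange : S = orbit ↥N a := by
    ext x
    constructor
    · rintro ⟨n, hn, rfl⟩
      exact ⟨⟨n, hn⟩, rfl⟩
    · rintro ⟨⟨n, hn⟩, rfl⟩
      exact ⟨n, hn, rfl⟩
  have hNcard : Nat.card ↥N = S.ncard * Nat.card ↥(stabilizer ↥N a) := by
    have h1 := Subgroup.card_eq_card_quotient_mul_card_subgroup (stabilizer ↥N a)
    rw [← Nat.card_congr (orbitEquivQuotientStabilizer ↥N a), ← hSrange,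
      Nat.card_coe_set_eq] at h1
    exact h1
  have hSdvd : S.ncard ∣ Nat.card G :=
    (Dvd.intro _ hNcard.symm).trans (Subgroup.card_subgroup_dvd_card N)
  have hS1 : S.ncard ≠ 1 := by
    intro h1
    apply hne
    have hSa : S = {a} := by
      obtain ⟨b, hb⟩ := Set.ncard_eq_one.mp h1
      rw [hb] at haS ⊢
      rw [Set.mem_singleton_iff] at haS
      rw [haS]
    rw [Subgroup.eq_bot_iff_forall]
    intro n hn
    apply hfaith
    intro x hx
    obtain ⟨g, rfl⟩ := (horb x).mp hx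
    have h2 : (g⁻¹ * n * g) • a ∈ S :=
      ⟨g⁻¹ * n * g, by simpa using hN.conj_mem n hn g⁻¹, rfl⟩
    rw [hSa, Set.mem_singleton_iff] at h2
    rw [mul_smul, mul_smul, inv_smul_eq_iff] at h2
    exact h2
  have hSeq : S = Ω := by
    rcases hblock S haS hSΩ hSinv hSdvd with h | h
    · exact absurd h hS1
    · exact h
  refine ⟨?_, by rw [hNcard, hSeq]⟩
  intro g
  have : g • a ∈ S := by rw [hSeq]; exact (horb _).mpr ⟨g, rfl⟩
  exact this

/-- The simplicity criterion. -/
theorem simple_of_block [Finite G] (a : Z) (Ω : Set Z)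
    (horb : ∀ x, x ∈ Ω ↔ ∃ g : G, g • a = x)
    (hblock : ∀ T : Set Z, a ∈ T → T ⊆ Ω → (∀ h : G, h • a = a → ∀ x ∈ T, h • x ∈ T) →
      T.ncard ∣ Nat.card G → T.ncard = 1 ∨ T = Ω)
    (hfaith : ∀ g : G, (∀ x ∈ Ω, g • x = x) → g = 1)
    (hH : IsSimpleGroup ↥(stabilizer G a))
    (hreg : ∀ N : Subgroup G, N.Normal → N ≠ ⊥ → Nat.card ↥N ≠ Ω.ncard) : IsSimpleGroup G := by
  classical
  have : Nontrivial G := by
    have := hH.toNontrivial
    obtain ⟨x, y, hxy⟩ := exists_pair_ne ↥(stabilizer G a)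
    exact ⟨⟨x.1, y.1, fun h => hxy (Subtype.ext h)⟩⟩
  refine ⟨fun N hN => ?_⟩
  rw [or_iff_not_imp_left]
  intro hne
  obtain ⟨htrans, hNcard⟩ := normal_transitive a Ω horb hblock hfaith N hN hne
  have : (N.subgroupOf (stabilizer G a)).Normal := hN.subgroupOf _
  rcases hH.eq_bot_or_eq_top_of_normal (N.subgroupOf (stabilizer G a)) inferInstance with hK | hK
  · exfalso
    rw [Subgroup.subgroupOf_eq_bot] at hK
    have hfree : ∀ n ∈ N, n • a = a → n = 1 := by
      intro n hn hna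
      have : n ∈ N ⊓ stabilizer G a := ⟨hn, hna⟩
      rw [hK.eq_bot] at this
      exact this
    have hstab : Nat.card ↥(stabilizer ↥N a) = 1 := by
      rw [Nat.card_eq_one_iff_unique]
      refine ⟨⟨?_⟩, ⟨1⟩⟩
      rintro ⟨⟨n, hn⟩, hna⟩ ⟨⟨m, hm⟩, hma⟩
      apply Subtype.ext
      apply Subtype.ext
      show n = m
      have h1 : n • a = a := hna
      have h2 : m • a = a := hma
      rw [hfree n hn h1, hfree m hm h2]
    rw [hstab, mul_one] at hNcard
    exact hreg N hN hne hNcard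
  · rw [Subgroup.subgroupOf_eq_top] at hK
    rw [Subgroup.eq_top_iff']
    intro g
    obtain ⟨n, hn, hna⟩ := htrans g
    have : n⁻¹ * g ∈ stabilizer G a := by
      rw [mem_stabilizer_iff, mul_smul, ← hna, inv_smul_smul]
    have h2 := N.mul_mem hn (hK this)
    rwa [mul_inv_cancel_left] at h2

end

end Cfsg.Agent.Lib.Helper94
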