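import Mathlib
import Cfsg.Agent.Lib.Helper94.LeechML3
import Cfsg.Agent.Lib.Helper94.LeechHS6
import Cfsg.Agent.Lib.Helper94.PrimSimple

/-! The stabiliser of the standard pair `((5, 1^23), (4, 4, 0, …))`: its action on the 2025
vectors. -/

set_option autoImplicit false

namespace Cfsg.Agent.Lib.Helper94

open Cfsg
open Cfsg.Agent.Lib.Helper95

/-- Further standard vectors as elements of the lattice. -/
def OB : leechLattice := ⟨ob, ob_mem⟩
def OC : leechLattice := ⟨oc, oc_mem⟩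

/-- The stabiliser of the standard pair. -/
def ML0 : Subgroup ↥Co0 := MulAction.stabilizer ↥Co0 U5 ⊓ MulAction.stabilizer ↥Co0 OA

lemma mem_ML0 (g : ↥Co0) : g ∈ ML0 ↔ g • U5 = U5 ∧ g • OA = OA := by
  unfold ML0
  rw [Subgroup.mem_inf, MulAction.mem_stabilizer_iff, MulAction.mem_stabilizer_iff]

lemma smul_sub_co0 (g : ↥Co0) (a b : leechLattice) : g • (a - b) = g • a - g • b :=
  co0_sub g.1 g.2 a b

lemma smul_add_co0 (g : ↥Co0) (a b : leechLattice) : g • (a + b) = g • a + g • b :=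
  g.2.1 a b

lemma OB_sub_U5 : OB - U5 = W5 := Subtype.ext ob_sub_u5

lemma W5_add_U5 : W5 + U5 = OB := by
  rw [← OB_sub_U5]; abel

/-- The point stabiliser is the same group as in the configuration of the hundred vectors. -/
def mlStabEquiv : ↥(MulAction.stabilizer ↥ML0 OB) ≃* ↥(MulAction.stabilizer ↥HS0 OA) where
  toFun k := ⟨⟨k.1.1, (mem_HS0 _).mpr ⟨((mem_ML0 _).mp k.1.2).1, by
      have h1 : k.1.1 • OB = OB := k.2
      rw [← OB_sub_U5, smul_sub_co0, h1, ((mem_ML0 _).mp k.1.2).1]⟩⟩,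
    ((mem_ML0 _).mp k.1.2).2⟩
  invFun k := ⟨⟨k.1.1, (mem_ML0 _).mpr ⟨((mem_HS0 _).mp k.1.2).1, k.2⟩⟩, by
      show k.1.1 • OB = OB
      rw [← W5_add_U5, smul_add_co0, ((mem_HS0 _).mp k.1.2).1, ((mem_HS0 _).mp k.1.2).2]⟩
  left_inv k := rfl
  right_inv k := rfl
  map_mul' a b := rfl

lemma simple_stab_OB : IsSimpleGroup ↥(MulAction.stabilizer ↥ML0 OB) := by
  have := simple_stab_OA
  have : Nontrivial ↥(MulAction.stabilizer ↥ML0 OB) := by
    have := simple_stab_OA.toNontrivial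
    exact mlStabEquiv.symm.injective.nontrivial
  exact IsSimpleGroup.isSimpleGroup_of_surjective mlStabEquiv.symm.toMonoidHom
    mlStabEquiv.symm.surjective

lemma card_stab_OB : Nat.card ↥(MulAction.stabilizer ↥ML0 OB) = 443520 := by
  rw [Nat.card_congr mlStabEquiv.toEquiv, card_stab_OA]

/-- Elements of the stabiliser preserve the 2025 vectors. -/
lemma ML0_preserves (g : ↥ML0) (x : leechLattice) (hx : x.1 ∈ mlSet) : (g • x).1 ∈ mlSet := by
  obtain ⟨hgU, hgA⟩ := (mem_ML0 g.1).mp g.2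
  obtain ⟨-, h2, h3, h4⟩ := hx
  refine ⟨(g • x).2, ?_, ?_, ?_⟩
  · exact (g.1.2.2 x).trans h2
  · have := co0_dot g.1.1 g.1.2 OA x
    have e : g.1.1 OA = OA := hgA
    rw [e] at this
    exact this.trans h3
  · have := co0_dot g.1.1 g.1.2 U5 x
    have e : g.1.1 U5 = U5 := hgU
    rw [e] at this
    exact this.trans h4

lemma ML0_orbit (x : leechLattice) : x.1 ∈ mlSet ↔ ∃ g : ↥ML0, g • OB = x := by
  constructor
  · intro hx
    obtain ⟨g, hg, m1, m2, m3, e1, e2, e3⟩ := conj3_mlSet x.1 hx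
    have f1 : g U5 = U5 := Subtype.ext e1
    have f2 : g OA = OA := Subtype.ext e2
    have f3 : g x = OB := Subtype.ext e3
    have hk : (⟨g, hg⟩ : ↥Co0)⁻¹ ∈ ML0 := by
      rw [mem_ML0]
      constructor
      · rw [inv_smul_eq_iff]; exact f1.symm
      · rw [inv_smul_eq_iff]; exact f2.symm
    refine ⟨⟨(⟨g, hg⟩ : ↥Co0)⁻¹, hk⟩, ?_⟩
    show (⟨g, hg⟩ : ↥Co0)⁻¹ • OB = x
    rw [inv_smul_eq_iff]
    exact f3.symm
  · rintro ⟨g, rfl⟩
    exact ML0_preserves g OB ob_mem_mlSet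

lemma ncard_mlAll : {x : leechLattice | x.1 ∈ mlSet}.ncard = 2025 :=
  (ncard_transfer 1 _ (fun y => y ∈ mlSet) (fun _ => Iff.rfl) (fun _ hy => hy.1)).trans ncard_mlSet

lemma card_ML0 : Nat.card ↥ML0 = 898128000 := by
  have h1 := Subgroup.card_eq_card_quotient_mul_card_subgroup (MulAction.stabilizer ↥ML0 OB)
  rw [← Nat.card_congr (MulAction.orbitEquivQuotientStabilizer ↥ML0 OB), card_stab_OB] at h1
  have h2 : (MulAction.orbit ↥ML0 OB : Set leechLattice) = {x : leechLattice | x.1 ∈ mlSet} := by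
    ext x
    rw [Set.mem_ofPred_eq, ML0_orbit]
    rfl
  have h3 : Nat.card ↥(MulAction.orbit ↥ML0 OB) = 2025 := by
    rw [Nat.card_coe_set_eq, h2, ncard_mlAll]
  rw [h3] at h1
  rw [h1]

end Cfsg.Agent.Lib.Helper94
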