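import Mathlib
import Cfsg.Agent.Lib.Helper94.LeechML4

/-! The stabiliser of the standard pair is simple of order 898128000. -/

set_option autoImplicit false

namespace Cfsg.Agent.Lib.Helper94

open Cfsg
open Cfsg.Agent.Lib.Helper95

/-- The three suborbits. -/
def mlXB : Set leechLattice := {x | x.1 ∈ mlSet ∧ dotInt ob x.1 = 0}
def mlXC : Set leechLattice := {x | x.1 ∈ mlSet ∧ dotInt ob x.1 = 16}
def mlXD : Set leechLattice := {x | x.1 ∈ mlSet ∧ dotInt ob x.1 = 8}

lemma ncard_of_fam (j : ℤ) (F : Finset (GolayPt → ℤ))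
    (hF : ∀ y, y ∈ F ↔ y ∈ mlSet ∧ dotInt ob y = j) :
    {x : leechLattice | x.1 ∈ mlSet ∧ dotInt ob x.1 = j}.ncard = F.card := by
  refine (ncard_transfer 1 _ (fun y => y ∈ mlSet ∧ dotInt ob y = j) (fun _ => Iff.rfl)
    (fun _ hy => hy.1.1)).trans ?_
  have : {y : GolayPt → ℤ | y ∈ mlSet ∧ dotInt ob y = j} = ↑F := by
    ext y
    rw [Finset.mem_coe, hF]
    rfl
  rw [this, Set.ncard_coe_finset]

lemma ncard_mlXB : mlXB.ncard = 330 := (ncard_of_fam 0 mlB mem_mlB_iff).trans card_mlB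
lemma ncard_mlXC : mlXC.ncard = 462 := (ncard_of_fam 16 mlC mem_mlC_iff).trans card_mlC
lemma ncard_mlXD : mlXD.ncard = 1232 := (ncard_of_fam 8 mlD mem_mlD_iff).trans card_mlD

lemma dot_ob_ob : dotInt ob ob = 32 := by rw [dotInt_self, sqNorm_ob]

lemma mem_mlUnion (x : leechLattice) :
    x ∈ ({OB} ∪ mlXB ∪ mlXC ∪ mlXD : Set leechLattice) ↔ x.1 ∈ mlSet := by
  constructor
  · rintro (((h | h) | h) | h)
    · rw [Set.mem_singleton_iff] at h; rw [h]; exact ob_mem_mlSet
    · exact h.1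
    · exact h.1
    · exact h.1
  · intro h
    have h' := h
    rw [mem_mlSet_iff] at h'
    rcases h' with h1 | h1 | h1 | h1
    · left; left; left
      rw [Set.mem_singleton_iff]
      exact Subtype.ext h1
    · left; left; right; exact (mem_mlB_iff _).mp h1
    · left; right; exact (mem_mlC_iff _).mp h1
    · right; exact (mem_mlD_iff _).mp h1

lemma ML0_trans_aux (x y : leechLattice) (hx : x.1 ∈ mlSet) (hy : y.1 ∈ mlSet) (hxo : x.1 ≠ ob)
    (hyo : y.1 ≠ ob) (hd : dotInt ob x.1 = dotInt ob y.1) :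
    ∃ h : ↥ML0, h • OB = OB ∧ h • x = y := by
  obtain ⟨σ, hσ, hn, h0, hxy⟩ := ml_rank4 x.1 y.1 hx hy hxo hyo hd
  have e3 : permVec σ ob = ob := by
    unfold ob
    rw [permVec_twoVec, hn, h0]
  refine ⟨⟨⟨permPerm σ hσ, permPerm_mem σ hσ⟩, (mem_ML0 _).mpr
    ⟨Subtype.ext (permVec_u5 hn), Subtype.ext (permVec_oa hn h0)⟩⟩, Subtype.ext e3, ?_⟩
  exact Subtype.ext hxy

lemma ML0_trans_class (j : ℤ) (hj : j ≠ 32) :
    ∀ x ∈ {x : leechLattice | x.1 ∈ mlSet ∧ dotInt ob x.1 = j},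
    ∀ y ∈ {x : leechLattice | x.1 ∈ mlSet ∧ dotInt ob x.1 = j},
    ∃ h : ↥ML0, h • OB = OB ∧ h • x = y := by
  intro x hx y hy
  have hxo : x.1 ≠ ob := by
    intro h
    have h1 : dotInt ob x.1 = j := hx.2
    rw [h, dot_ob_ob] at h1
    exact hj h1.symm
  have hyo : y.1 ≠ ob := by
    intro h
    have h1 : dotInt ob y.1 = j := hy.2
    rw [h, dot_ob_ob] at h1
    exact hj h1.symm
  exact ML0_trans_aux x y hx.1 hy.1 hxo hyo (hx.2.trans hy.2.symm)

lemma OB_notMem_class (j : ℤ) (hj : j ≠ 32) :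
    OB ∉ {x : leechLattice | x.1 ∈ mlSet ∧ dotInt ob x.1 = j} := by
  rintro ⟨-, h⟩
  have h' : dotInt ob ob = j := h
  rw [dot_ob_ob] at h'
  exact hj h'.symm

lemma disj_class (j k : ℤ) (hjk : j ≠ k) :
    Disjoint {x : leechLattice | x.1 ∈ mlSet ∧ dotInt ob x.1 = j}
      {x : leechLattice | x.1 ∈ mlSet ∧ dotInt ob x.1 = k} := by
  rw [Set.disjoint_left]
  intro x hx hx'
  exact hjk (hx.2.symm.trans hx'.2)

instance finite_ML0 : Finite ↥ML0 :=
  Nat.finite_of_card_ne_zero (by rw [card_ML0]; norm_num)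

/-- The block condition for the action on the 2025 vectors. -/
lemma ML0_block (T : Set leechLattice) (haT : OB ∈ T)
    (hT : T ⊆ {x : leechLattice | x.1 ∈ mlSet})
    (hinv : ∀ h : ↥ML0, h • OB = OB → ∀ x ∈ T, h • x ∈ T)
    (hdvd : T.ncard ∣ Nat.card ↥ML0) :
    T.ncard = 1 ∨ T = {x : leechLattice | x.1 ∈ mlSet} := by
  have hΩ : ({OB} ∪ mlXB ∪ mlXC ∪ mlXD : Set leechLattice) = {x : leechLattice | x.1 ∈ mlSet} := by
    ext x
    rw [mem_mlUnion]
    rfl
  obtain ⟨a, b, c, ha, hb, hc, hcard, -, hfull⟩ := invariant_ncard3 (G := ↥ML0) OB mlXB mlXC mlXD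
    (OB_notMem_class 0 (by norm_num)) (OB_notMem_class 16 (by norm_num))
    (OB_notMem_class 8 (by norm_num)) (disj_class 0 16 (by norm_num))
    (disj_class 0 8 (by norm_num)) (disj_class 16 8 (by norm_num))
    (Set.finite_of_ncard_ne_zero (by rw [ncard_mlXB]; norm_num))
    (Set.finite_of_ncard_ne_zero (by rw [ncard_mlXC]; norm_num))
    (Set.finite_of_ncard_ne_zero (by rw [ncard_mlXD]; norm_num))
    (ML0_trans_class 0 (by norm_num)) (ML0_trans_class 16 (by norm_num))
    (ML0_trans_class 8 (by norm_num)) T haT (by rw [hΩ]; exact hT) hinv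
  rw [ncard_mlXB] at ha
  rw [ncard_mlXC] at hb
  rw [ncard_mlXD] at hc
  rw [ncard_mlXB, ncard_mlXC, ncard_mlXD, hΩ] at hfull
  rw [card_ML0, hcard] at hdvd
  rcases ha with rfl | rfl <;> rcases hb with rfl | rfl <;> rcases hc with rfl | rfl
  · left; exact hcard
  · exfalso; revert hdvd; norm_num
  · exfalso; revert hdvd; norm_num
  · exfalso; revert hdvd; norm_num
  · exfalso; revert hdvd; norm_num
  · exfalso; revert hdvd; norm_num
  · exfalso; revert hdvd; norm_num
  · right; exact hfull hcard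

lemma exists_word_two_out (p : GolayPt) (hpn : p ≠ none) (hp0 : p ≠ some 0) :
    ∃ c ∈ codeWords 8, c (some 0) = 1 ∧ c p = 1 ∧ c none = 0 := by
  have h := card_words_two_out (a := some 0) (b := p) (d := none) (Ne.symm hp0) (by decide) hpn
  have hpos : 0 < ((codeWords 8).filter fun c => c (some 0) = 1 ∧ c p = 1 ∧ c none = 0).card := by
    rw [h]; norm_num
  obtain ⟨c, hc⟩ := Finset.card_pos.mp hpos
  rw [Finset.mem_filter] at hc
  exact ⟨c, hc.1, hc.2⟩

lemma ML0_faithful (g : ↥ML0)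
    (hg : ∀ x ∈ {x : leechLattice | x.1 ∈ mlSet}, g • x = x) : g = 1 := by
  have hOB : g • OB = OB := hg OB ob_mem_mlSet
  obtain ⟨hgU, hgA⟩ := (mem_ML0 g.1).mp g.2
  have hgW : g.1 • W5 = W5 := by
    have h1 : g.1 • OB = OB := hOB
    rw [← OB_sub_U5, smul_sub_co0, h1, hgU]
  obtain ⟨σ, hσ, hn, h0, hgσ⟩ := hs_point_stab g.1 hgU hgW hgA
  have hσp : ∀ p : GolayPt, σ p = p := by
    intro p
    by_cases hp : p = none
    · rw [hp]; exact hn
    · by_cases hp0 : p = some 0
      · rw [hp0]; exact h0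
      · obtain ⟨c, hc, c0, cp, cn⟩ := exists_word_two_out p hp hp0
        have hmem : signVec c (oneVec {p} (-3)) ∈ mlSet := by
          apply mlD_sub
          unfold mlD
          rw [Finset.mem_image]
          exact ⟨(p, c), by rw [mem_mlDidx]; exact ⟨hc, hp, hp0, cn, c0, cp⟩, rfl⟩
        set x : leechLattice := ⟨signVec c (oneVec {p} (-3)), hmem.1⟩ with hx
        have h1 : g • x = x := hg x hmem
        have h2 : permVec σ (signVec c (oneVec {p} (-3))) = signVec c (oneVec {p} (-3)) := by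
          have h3 : g.1.1 x = x := h1
          rw [hgσ] at h3
          exact congrArg Subtype.val h3
        rw [permVec_signVec, permVec_oneVec, Finset.image_singleton] at h2
        obtain ⟨-, e2⟩ := signVec_inj_of_one_mod_four (fun i => oneVec_mod _ (by decide) i)
          (fun i => oneVec_mod _ (by decide) i) h2
        have := oneVec_inj (b := -3) (by norm_num) e2
        exact Finset.singleton_injective this
  have hσ1 : σ = 1 := Equiv.ext hσp
  apply Subtype.ext
  apply Subtype.ext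
  show g.1.1 = 1
  rw [hgσ]
  apply Equiv.ext
  intro v
  apply Subtype.ext
  show permVec σ v.1 = v.1
  rw [hσ1]
  ext q
  rfl

end Cfsg.Agent.Lib.Helper94
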