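import Mathlib
import Cfsg.Agent.Lib.Helper94.LeechML5

/-! The stabiliser of the standard pair is simple of order 898128000: the action on the 275
vectors and the conclusion. -/

set_option autoImplicit false

namespace Cfsg.Agent.Lib.Helper94

open Cfsg
open Cfsg.Agent.Lib.Helper95

/-- The two suborbits among the 275 vectors. -/
def mlY8 : Set leechLattice := {x | x.1 ∈ mc8}
def mlY16 : Set leechLattice := {x | x.1 ∈ mc16}

lemma ncard_mlY8 : mlY8.ncard = 112 :=
  (ncard_transfer 1 _ (fun y => y ∈ mc8) (fun _ => Iff.rfl) (fun _ hy => hy.1.1)).trans ncard_mc8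

lemma ncard_mlY16 : mlY16.ncard = 162 :=
  (ncard_transfer 1 _ (fun y => y ∈ mc16) (fun _ => Iff.rfl) (fun _ hy => hy.1.1)).trans ncard_mc16

lemma ncard_mcAll : {x : leechLattice | x.1 ∈ mcSet}.ncard = 275 :=
  (ncard_transfer 1 _ (fun y => y ∈ mcSet) (fun _ => Iff.rfl) (fun _ hy => hy.1)).trans ncard_mcSet

lemma ML0_preservesY (g : ↥ML0) (x : leechLattice) (hx : x.1 ∈ mcSet) : (g • x).1 ∈ mcSet := by
  obtain ⟨hgU, hgA⟩ := (mem_ML0 g.1).mp g.2
  obtain ⟨-, h2, h3, h4⟩ := hx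
  refine ⟨(g • x).2, ?_, ?_, ?_⟩
  · exact (g.1.2.2 x).trans h2
  · have := co0_dot g.1.1 g.1.2 U5 x
    have e : g.1.1 U5 = U5 := hgU
    rw [e] at this
    exact this.trans h3
  · have := co0_dot g.1.1 g.1.2 OA x
    have e : g.1.1 OA = OA := hgA
    rw [e] at this
    exact this.trans h4

lemma ML0_orbitY (x : leechLattice) : x.1 ∈ mcSet ↔ ∃ g : ↥ML0, g • OC = x := by
  constructor
  · intro hx
    obtain ⟨g, hg, m1, m2, m3, e1, e2, e3⟩ := conj3_mcSet x.1 hx
    have f1 : g U5 = U5 := Subtype.ext e1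
    have f2 : g OA = OA := Subtype.ext e2
    have f3 : g x = OC := Subtype.ext e3
    have hk : (⟨g, hg⟩ : ↥Co0)⁻¹ ∈ ML0 := by
      rw [mem_ML0]
      constructor
      · rw [inv_smul_eq_iff]; exact f1.symm
      · rw [inv_smul_eq_iff]; exact f2.symm
    refine ⟨⟨(⟨g, hg⟩ : ↥Co0)⁻¹, hk⟩, ?_⟩
    show (⟨g, hg⟩ : ↥Co0)⁻¹ • OC = x
    rw [inv_smul_eq_iff]
    exact f3.symm
  · rintro ⟨g, rfl⟩
    exact ML0_preservesY g OC oc_mem_mcSet

lemma ML0_of_conj4 {x y : leechLattice} (h : Conj4 u5 oa oc x.1 u5 oa oc y.1) :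
    ∃ h : ↥ML0, h • OC = OC ∧ h • x = y := by
  obtain ⟨g, g1, g2, g3, g4⟩ := (conj4_iff U5 OA OC x U5 OA OC y).mp h
  exact ⟨⟨g, (mem_ML0 _).mpr ⟨g1, g2⟩⟩, g3, g4⟩

lemma mem_mcUnion (x : leechLattice) :
    x ∈ ({OC} ∪ mlY8 ∪ mlY16 ∪ ∅ : Set leechLattice) ↔ x.1 ∈ mcSet := by
  constructor
  · rintro (((h | h) | h) | h)
    · rw [Set.mem_singleton_iff] at h; rw [h]; exact oc_mem_mcSet
    · exact h.1
    · exact h.1
    · exact absurd h (Set.notMem_empty _)
  · intro h
    by_cases h1 : x.1 = oc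
    · left; left; left
      rw [Set.mem_singleton_iff]
      exact Subtype.ext h1
    · rcases dot_oc_vals x.1 h with h2 | h2 | h2
      · exact absurd h2 h1
      · left; left; right; exact ⟨h, h2⟩
      · left; right; exact ⟨h, h1, h2⟩

/-- The block condition for the action on the 275 vectors. -/
lemma ML0_blockY (T : Set leechLattice) (haT : OC ∈ T)
    (hT : T ⊆ {x : leechLattice | x.1 ∈ mcSet})
    (hinv : ∀ h : ↥ML0, h • OC = OC → ∀ x ∈ T, h • x ∈ T)
    (hdvd : T.ncard ∣ Nat.card ↥ML0) :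
    T.ncard = 1 ∨ T = {x : leechLattice | x.1 ∈ mcSet} := by
  have hΩ : ({OC} ∪ mlY8 ∪ mlY16 ∪ ∅ : Set leechLattice) = {x : leechLattice | x.1 ∈ mcSet} := by
    ext x
    rw [mem_mcUnion]
    rfl
  have n8 : OC ∉ mlY8 := by
    rintro ⟨-, h⟩
    have h' : dotInt oc oc = 8 := h
    rw [dot_oc_oc] at h'
    norm_num at h'
  have n16 : OC ∉ mlY16 := fun h => h.2.1 rfl
  have dj : Disjoint mlY8 mlY16 := by
    rw [Set.disjoint_left]
    intro x hx hx'
    have h1 : dotInt oc x.1 = 8 := hx.2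
    have h2 : dotInt oc x.1 = 16 := hx'.2.2
    omega
  obtain ⟨a, b, c, ha, hb, hc, hcard, -, hfull⟩ := invariant_ncard3 (G := ↥ML0) OC mlY8 mlY16 ∅
    n8 n16 (Set.notMem_empty _) dj (Set.disjoint_empty _) (Set.disjoint_empty _)
    (Set.finite_of_ncard_ne_zero (by rw [ncard_mlY8]; norm_num))
    (Set.finite_of_ncard_ne_zero (by rw [ncard_mlY16]; norm_num)) Set.finite_empty
    (fun x hx y hy => ML0_of_conj4 (conj4_mc8 x.1 y.1 hx hy))
    (fun x hx y hy => ML0_of_conj4 ((conj4_mc16 x.1 hx).trans (conj4_mc16 y.1 hy).symm))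
    (fun x hx => absurd hx (Set.notMem_empty _)) T haT (by rw [hΩ]; exact hT) hinv
  rw [ncard_mlY8] at ha
  rw [ncard_mlY16] at hb
  rw [Set.ncard_empty] at hc
  rw [ncard_mlY8, ncard_mlY16, Set.ncard_empty, hΩ] at hfull
  rw [card_ML0, hcard] at hdvd
  have hc0 : c = 0 := by rcases hc with h | h <;> exact h
  subst hc0
  rcases ha with rfl | rfl <;> rcases hb with rfl | rfl
  · left; exact hcard
  · exfalso; revert hdvd; norm_num
  · exfalso; revert hdvd; norm_num
  · right; exact hfull hcard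

lemma ML0_faithfulY (g : ↥ML0)
    (hg : ∀ x ∈ {x : leechLattice | x.1 ∈ mcSet}, g • x = x) : g = 1 := by
  obtain ⟨hgU, hgA⟩ := (mem_ML0 g.1).mp g.2
  have hk : g.1.1 ∈ Co0 := g.1.2
  have fixA : ∀ j : GolayPt, j ≠ none → ∀ (hm : twoVec none j 4 ∈ leechLattice),
      g.1.1 ⟨twoVec none j 4, hm⟩ = ⟨twoVec none j 4, hm⟩ := by
    intro j hj hm
    by_cases hj0 : j = some 0
    · subst hj0
      exact hgA
    · apply hg
      show twoVec none j 4 ∈ mcSet
      rw [mem_mcSet_iff]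
      left
      unfold mcA
      rw [Finset.mem_image]
      exact ⟨j, by rw [Finset.mem_filter]; exact ⟨Finset.mem_univ _, hj, hj0⟩, rfl⟩
  apply Subtype.ext
  apply Subtype.ext
  show g.1.1 = 1
  apply Equiv.ext
  intro v
  apply Subtype.ext
  show ((g.1.1 v : leechLattice) : GolayPt → ℤ) = v.1
  set w : GolayPt → ℤ := ((g.1.1 v : leechLattice) : GolayPt → ℤ) with hw
  have d2 : dotInt u5 w = dotInt u5 v.1 := by
    have := co0_dot g.1.1 hk U5 v
    have e : g.1.1 U5 = U5 := hgU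
    rw [e] at this
    exact this
  rw [dotInt_u5, dotInt_u5] at d2
  have d1 : ∀ j : GolayPt, j ≠ none → w j - v.1 j = -(w none - v.1 none) := by
    intro j hj
    have hm : twoVec none j 4 ∈ leechLattice := twoVec_mem (Or.inl rfl)
    have := co0_dot g.1.1 hk ⟨twoVec none j 4, hm⟩ v
    rw [fixA j hj hm] at this
    have this' : dotInt (twoVec none j 4) w = dotInt (twoVec none j 4) v.1 := this
    rw [dotInt_comm', dotInt_twoVec, dotInt_comm', dotInt_twoVec] at this'
    omega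
  have hsum : ∑ q, ((w q - v.1 q) + (w none - v.1 none)) = 2 * (w none - v.1 none) := by
    rw [Finset.sum_eq_single none]
    · ring
    · intro q _ hq
      rw [d1 q hq]; ring
    · intro h; exact absurd (Finset.mem_univ _) h
  rw [Finset.sum_add_distrib, Finset.sum_sub_distrib, Finset.sum_const, Finset.card_univ] at hsum
  have h24 : Fintype.card GolayPt = 24 := by decide
  rw [h24] at hsum
  have hn : w none - v.1 none = 0 := by
    simp only [nsmul_eq_mul, Nat.cast_ofNat] at hsum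
    omega
  ext q
  by_cases hq : q = none
  · subst hq; omega
  · have := d1 q hq
    omega

/-- The stabiliser of the standard pair is simple of order 898128000. -/
theorem isMcL_ML0 : IsSimpleGroup ↥ML0 ∧ Nat.card ↥ML0 = 898128000 := by
  refine ⟨?_, card_ML0⟩
  apply simple_of_block (G := ↥ML0) OB {x : leechLattice | x.1 ∈ mlSet}
    (fun x => ML0_orbit x) ML0_block ML0_faithful simple_stab_OB
  intro N hN hne hcard
  obtain ⟨-, h2⟩ := normal_transitive (G := ↥ML0) OC {x : leechLattice | x.1 ∈ mcSet}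
    (fun x => ML0_orbitY x) ML0_blockY ML0_faithfulY N hN hne
  rw [ncard_mlAll] at hcard
  rw [ncard_mcAll, hcard] at h2
  omega

end Cfsg.Agent.Lib.Helper94
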