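import Mathlib
import Cfsg.Agent.Lib.Helper94.PrimSimple
import Cfsg.Agent.Lib.Helper06.SmallSimple

/-! Four suborbits, and the subgroup of odd order of a normal subgroup of order twice an odd
number. -/

set_option autoImplicit false

namespace Cfsg.Agent.Lib.Helper94

open MulAction
open scoped Pointwise

section

variable {G Z : Type*} [Group G] [MulAction G Z]

/-- The possible sizes of the subsets invariant under the point stabiliser, for four
suborbits. -/
lemma invariant_ncard4 (a : Z) (A B C D : Set Z) (haA : a ∉ A) (haB : a ∉ B) (haC : a ∉ C)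
    (haD : a ∉ D)
    (hAB : Disjoint A B) (hAC : Disjoint A C) (hAD : Disjoint A D) (hBC : Disjoint B C)
    (hBD : Disjoint B D) (hCD : Disjoint C D)
    (fA : A.Finite) (fB : B.Finite) (fC : C.Finite) (fD : D.Finite)
    (hA : ∀ x ∈ A, ∀ y ∈ A, ∃ h : G, h • a = a ∧ h • x = y)
    (hB : ∀ x ∈ B, ∀ y ∈ B, ∃ h : G, h • a = a ∧ h • x = y)
    (hC : ∀ x ∈ C, ∀ y ∈ C, ∃ h : G, h • a = a ∧ h • x = y)
    (hD : ∀ x ∈ D, ∀ y ∈ D, ∃ h : G, h • a = a ∧ h • x = y)
    (T : Set Z) (haT : a ∈ T) (hT : T ⊆ {a} ∪ A ∪ B ∪ C ∪ D)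
    (hinv : ∀ h : G, h • a = a → ∀ x ∈ T, h • x ∈ T) :
    ∃ x y z w : ℕ, (x = 0 ∨ x = A.ncard) ∧ (y = 0 ∨ y = B.ncard) ∧ (z = 0 ∨ z = C.ncard) ∧
      (w = 0 ∨ w = D.ncard) ∧ T.ncard = 1 + x + y + z + w ∧
      (T.ncard = 1 + A.ncard + B.ncard + C.ncard + D.ncard → T = {a} ∪ A ∪ B ∪ C ∪ D) := by
  have dich : ∀ E : Set Z, (∀ x ∈ E, ∀ y ∈ E, ∃ h : G, h • a = a ∧ h • x = y) →
      T ∩ E = ∅ ∨ T ∩ E = E := by
    intro E hE
    by_cases h : (T ∩ E).Nonempty
    · right
      obtain ⟨x, hxT, hxE⟩ := h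
      apply Set.inter_eq_right.mpr
      intro y hy
      obtain ⟨h, h1, h2⟩ := hE x hxE y hy
      rw [← h2]; exact hinv h h1 x hxT
    · left; exact Set.not_nonempty_iff_eq_empty.mp h
  have key : ∀ A' B' C' D' : Set Z, A' ⊆ A → B' ⊆ B → C' ⊆ C → D' ⊆ D →
      ({a} ∪ A' ∪ B' ∪ C' ∪ D' : Set Z).ncard =
        1 + A'.ncard + B'.ncard + C'.ncard + D'.ncard := by
    intro A' B' C' D' sA sB sC sD
    have fA' := fA.subset sA
    have fB' := fB.subset sB
    have fC' := fC.subset sC
    have fD' := fD.subset sD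
    have d1 : Disjoint ({a} : Set Z) A' := Set.disjoint_singleton_left.mpr (fun h => haA (sA h))
    have d2 : Disjoint ({a} ∪ A') B' := by
      rw [Set.disjoint_left]
      rintro x (h | h) hx
      · rw [Set.mem_singleton_iff] at h; rw [h] at hx; exact haB (sB hx)
      · exact (Set.disjoint_left.mp hAB) (sA h) (sB hx)
    have d3 : Disjoint ({a} ∪ A' ∪ B') C' := by
      rw [Set.disjoint_left]
      rintro x ((h | h) | h) hx
      · rw [Set.mem_singleton_iff] at h; rw [h] at hx; exact haC (sC hx)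
      · exact (Set.disjoint_left.mp hAC) (sA h) (sC hx)
      · exact (Set.disjoint_left.mp hBC) (sB h) (sC hx)
    have d4 : Disjoint ({a} ∪ A' ∪ B' ∪ C') D' := by
      rw [Set.disjoint_left]
      rintro x (((h | h) | h) | h) hx
      · rw [Set.mem_singleton_iff] at h; rw [h] at hx; exact haD (sD hx)
      · exact (Set.disjoint_left.mp hAD) (sA h) (sD hx)
      · exact (Set.disjoint_left.mp hBD) (sB h) (sD hx)
      · exact (Set.disjoint_left.mp hCD) (sC h) (sD hx)
    rw [Set.ncard_union_eq d4 ((((Set.finite_singleton a).union fA').union fB').union fC') fD',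
      Set.ncard_union_eq d3 (((Set.finite_singleton a).union fA').union fB') fC',
      Set.ncard_union_eq d2 ((Set.finite_singleton a).union fA') fB',
      Set.ncard_union_eq d1 (Set.finite_singleton a) fA', Set.ncard_singleton]
  have hTeq : T = {a} ∪ (T ∩ A) ∪ (T ∩ B) ∪ (T ∩ C) ∪ (T ∩ D) := by
    ext x
    constructor
    · intro hx
      rcases hT hx with (((h | h) | h) | h) | h
      · left; left; left; left; exact h
      · left; left; left; right; exact ⟨hx, h⟩
      · left; left; right; exact ⟨hx, h⟩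
      · left; right; exact ⟨hx, h⟩
      · right; exact ⟨hx, h⟩
    · rintro ((((h | h) | h) | h) | h)
      · rw [Set.mem_singleton_iff] at h; rw [h]; exact haT
      · exact h.1
      · exact h.1
      · exact h.1
      · exact h.1
  have hc := congrArg Set.ncard hTeq
  rw [key _ _ _ _ Set.inter_subset_right Set.inter_subset_right Set.inter_subset_right
    Set.inter_subset_right] at hc
  have hΩ := key A B C D subset_rfl subset_rfl subset_rfl subset_rfl
  have fΩ : ({a} ∪ A ∪ B ∪ C ∪ D : Set Z).Finite :=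
    ((((Set.finite_singleton a).union fA).union fB).union fC).union fD
  refine ⟨(T ∩ A).ncard, (T ∩ B).ncard, (T ∩ C).ncard, (T ∩ D).ncard, ?_, ?_, ?_, ?_, hc, ?_⟩
  · rcases dich A hA with h | h
    · left; rw [h, Set.ncard_empty]
    · right; rw [h]
  · rcases dich B hB with h | h
    · left; rw [h, Set.ncard_empty]
    · right; rw [h]
  · rcases dich C hC with h | h
    · left; rw [h, Set.ncard_empty]
    · right; rw [h]
  · rcases dich D hD with h | h
    · left; rw [h, Set.ncard_empty]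
    · right; rw [h]
  · intro h
    exact Set.eq_of_subset_of_ncard_le hT (by rw [hΩ, h]) fΩ

end

section

variable {G : Type*} [Group G] [Finite G]

lemma mem_of_odd_order_of_index_two {Γ : Type*} [Group Γ] {H : Subgroup Γ} (hH : H.index = 2)
    {g : Γ} (hg : Odd (orderOf g)) : g ∈ H := by
  obtain ⟨k, hk⟩ := hg
  have h1 : g ^ (2 * k + 1) = 1 := by rw [← hk]; exact pow_orderOf_eq_one g
  have h2 : g = (g ^ (k + 1)) ^ 2 * (g ^ (2 * k + 1))⁻¹ := by
    rw [← pow_mul, ← zpow_natCast, ← zpow_natCast, ← zpow_neg, ← zpow_add]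
    have : (((k + 1) * 2 : ℕ) : ℤ) + -((2 * k + 1 : ℕ) : ℤ) = 1 := by push_cast; ring
    rw [this, zpow_one]
  rw [h2, h1, inv_one, mul_one]
  exact Subgroup.sq_mem_of_index_two hH _

/-- A normal subgroup of order twice an odd number contains a subgroup of that odd order which
is normal in the whole group. -/
theorem exists_normal_odd_part (N : Subgroup G) (hN : N.Normal) (j : ℕ) (hj : Odd j)
    (hcard : Nat.card ↥N = 2 * j) :
    ∃ M : Subgroup G, M.Normal ∧ Nat.card ↥M = j := by
  obtain ⟨H, hH⟩ := Cfsg.Agent.Lib.Helper06.exists_index_two_of_two_mul_odd (G := ↥N) j hj hcard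
  have hHcard : Nat.card ↥H = j := by
    have := Subgroup.card_mul_index H
    rw [hH, hcard] at this
    omega
  refine ⟨H.map N.subtype, ⟨?_⟩, ?_⟩
  · rintro m hm g
    obtain ⟨h, hh, rfl⟩ := Subgroup.mem_map.mp hm
    have hmem : g * (N.subtype h) * g⁻¹ ∈ N := hN.conj_mem _ h.2 g
    refine Subgroup.mem_map.mpr ⟨⟨g * (N.subtype h) * g⁻¹, hmem⟩, ?_, rfl⟩
    apply mem_of_odd_order_of_index_two hH
    have e1 : orderOf (⟨g * (N.subtype h) * g⁻¹, hmem⟩ : ↥N) = orderOf h := by
      rw [← Subgroup.orderOf_coe]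
      show orderOf (MulAut.conj g (h : G)) = orderOf h
      rw [MulEquiv.orderOf_eq, Subgroup.orderOf_coe]
    rw [e1]
    have e2 : orderOf h ∣ j := by
      have := orderOf_dvd_natCard (⟨h, hh⟩ : ↥H)
      rw [hHcard, ← Subgroup.orderOf_coe] at this
      exact this
    exact Odd.of_dvd_nat hj e2
  · rw [Nat.card_congr (Subgroup.equivMapOfInjective H N.subtype N.subtype_injective).symm.toEquiv]
    exact hHcard

end

end Cfsg.Agent.Lib.Helper94
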