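import Mathlib
import Cfsg.Agent.Lib.Helper94.LeechC3e
import Cfsg.Agent.Lib.Helper94.LeechML6
import Cfsg.Agent.Lib.Helper94.PrimSimple4

/-! The stabiliser of `(5, 1^23)` is simple of order 495766656000. -/

set_option autoImplicit false

namespace Cfsg.Agent.Lib.Helper94

open Cfsg
open Cfsg.Agent.Lib.Helper95

/-- The stabiliser of the standard vector of sum of squares 48. -/
def CO3 : Subgroup ↥Co0 := MulAction.stabilizer ↥Co0 U5

lemma mem_CO3 (g : ↥Co0) : g ∈ CO3 ↔ g • U5 = U5 := MulAction.mem_stabilizer_iff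

/-- The point stabiliser is the stabiliser of the configuration of the hundred vectors. -/
def c3StabEquiv : ↥(MulAction.stabilizer ↥CO3 OB) ≃* ↥HS0 where
  toFun k := ⟨k.1.1, (mem_HS0 _).mpr ⟨(mem_CO3 _).mp k.1.2, by
      have h1 : k.1.1 • OB = OB := k.2
      rw [← OB_sub_U5, smul_sub_co0, h1, (mem_CO3 _).mp k.1.2]⟩⟩
  invFun k := ⟨⟨k.1, (mem_CO3 _).mpr ((mem_HS0 _).mp k.2).1⟩, by
      show k.1 • OB = OB
      rw [← W5_add_U5, smul_add_co0, ((mem_HS0 _).mp k.2).1, ((mem_HS0 _).mp k.2).2]⟩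
  left_inv k := rfl
  right_inv k := rfl
  map_mul' a b := rfl

lemma simple_c3stab : IsSimpleGroup ↥(MulAction.stabilizer ↥CO3 OB) := by
  have hs := isHS_HS0.1
  have : Nontrivial ↥(MulAction.stabilizer ↥CO3 OB) := by
    have := hs.toNontrivial
    exact c3StabEquiv.symm.injective.nontrivial
  exact IsSimpleGroup.isSimpleGroup_of_surjective c3StabEquiv.symm.toMonoidHom
    c3StabEquiv.symm.surjective

lemma card_c3stab : Nat.card ↥(MulAction.stabilizer ↥CO3 OB) = 44352000 := by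
  rw [Nat.card_congr c3StabEquiv.toEquiv, isHS_HS0.2]

lemma CO3_preserves (g : ↥CO3) (x : leechLattice) (hx : x.1 ∈ c3Set) : (g • x).1 ∈ c3Set := by
  have hgU := (mem_CO3 g.1).mp g.2
  obtain ⟨-, h2, h3⟩ := hx
  refine ⟨(g • x).2, ?_, ?_⟩
  · exact (g.1.2.2 x).trans h2
  · have := co0_dot g.1.1 g.1.2 U5 x
    have e : g.1.1 U5 = U5 := hgU
    rw [e] at this
    exact this.trans h3

/-- Normal form of a pair. -/
lemma conj2_c3 (x : GolayPt → ℤ) (hx : x ∈ c3Set) : Conj2 u5 x u5 ob := by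
  obtain ⟨hxL, nx, hd⟩ := hx
  have hw : sqNorm (x - u5) = 48 := by
    rw [sqNorm_sub, nx, sqNorm_u5, dotInt_comm', hd]; norm_num
  have huw : dotInt u5 (x - u5) = -32 := by
    rw [dotInt_sub_right', hd, dotInt_self, sqNorm_u5]; norm_num
  have c1 := (conj2_hs u5 (x - u5) u5_memL (leechLattice.sub_mem hxL u5_memL) sqNorm_u5 hw
    huw).add_right
  have e1 : x - u5 + u5 = x := by abel
  have e2 : w5 + u5 = ob := by rw [← ob_sub_u5]; abel
  rw [e1, e2] at c1
  exact c1

lemma CO3_orbit (x : leechLattice) : x.1 ∈ c3Set ↔ ∃ g : ↥CO3, g • OB = x := by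
  constructor
  · intro hx
    obtain ⟨g, hg, m1, m2, e1, e2⟩ := conj2_c3 x.1 hx
    have f1 : g U5 = U5 := Subtype.ext e1
    have f3 : g x = OB := Subtype.ext e2
    have hk : (⟨g, hg⟩ : ↥Co0)⁻¹ ∈ CO3 := by
      rw [mem_CO3, inv_smul_eq_iff]; exact f1.symm
    refine ⟨⟨(⟨g, hg⟩ : ↥Co0)⁻¹, hk⟩, ?_⟩
    show (⟨g, hg⟩ : ↥Co0)⁻¹ • OB = x
    rw [inv_smul_eq_iff]
    exact f3.symm
  · rintro ⟨g, rfl⟩
    exact CO3_preserves g OB ob_mem_c3Set

lemma ncard_c3All : {x : leechLattice | x.1 ∈ c3Set}.ncard = 11178 :=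
  (ncard_transfer 1 _ (fun y => y ∈ c3Set) (fun _ => Iff.rfl) (fun _ hy => hy.1)).trans ncard_c3Set

lemma card_CO3 : Nat.card ↥CO3 = 495766656000 := by
  have h1 := Subgroup.card_eq_card_quotient_mul_card_subgroup (MulAction.stabilizer ↥CO3 OB)
  rw [← Nat.card_congr (MulAction.orbitEquivQuotientStabilizer ↥CO3 OB), card_c3stab] at h1
  have h2 : (MulAction.orbit ↥CO3 OB : Set leechLattice) = {x : leechLattice | x.1 ∈ c3Set} := by
    ext x
    rw [Set.mem_ofPred_eq, CO3_orbit]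
    rfl
  have h3 : Nat.card ↥(MulAction.orbit ↥CO3 OB) = 11178 := by
    rw [Nat.card_coe_set_eq, h2, ncard_c3All]
  rw [h3] at h1
  rw [h1]

instance finite_CO3 : Finite ↥CO3 :=
  Nat.finite_of_card_ne_zero (by rw [card_CO3]; norm_num)

/-- The classes as sets of lattice elements. -/
def c3X (t : ℤ) : Set leechLattice := {x | x.1 ∈ c3Set ∧ dotInt ob x.1 = t}

lemma ncard_c3X (t : ℤ) : (c3X t).ncard = (c3Cls t).ncard :=
  ncard_transfer 1 _ (fun y => y ∈ c3Cls t) (fun _ => Iff.rfl) (fun _ hy => hy.1.1)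

lemma CO3_trans_class (t : ℤ) (ht : t ≠ 32) :
    ∀ x ∈ c3X t, ∀ y ∈ c3X t, ∃ h : ↥CO3, h • OB = OB ∧ h • x = y := by
  intro x hx y hy
  have hxo : x.1 ≠ ob := by
    intro h
    have h1 : dotInt ob x.1 = t := hx.2
    rw [h, dot_ob_ob''] at h1
    exact ht h1.symm
  have hyo : y.1 ≠ ob := by
    intro h
    have h1 : dotInt ob y.1 = t := hy.2
    rw [h, dot_ob_ob''] at h1
    exact ht h1.symm
  obtain ⟨g, g1, g2, g3⟩ := (conj3_iff U5 OB x U5 OB y).mp
    (c3_rank5 x.1 y.1 hx.1 hy.1 hxo hyo (hx.2.trans hy.2.symm))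
  exact ⟨⟨g, (mem_CO3 _).mpr g1⟩, g2, g3⟩

lemma OB_notMem_c3X (t : ℤ) (ht : t ≠ 32) : OB ∉ c3X t := by
  rintro ⟨-, h⟩
  have h' : dotInt ob ob = t := h
  rw [dot_ob_ob''] at h'
  exact ht h'.symm

lemma disj_c3X (j k : ℤ) (hjk : j ≠ k) : Disjoint (c3X j) (c3X k) := by
  rw [Set.disjoint_left]
  intro x hx hx'
  exact hjk (hx.2.symm.trans hx'.2)

lemma mem_c3Union (x : leechLattice) :
    x ∈ ({OB} ∪ c3X (-8) ∪ c3X 16 ∪ c3X 0 ∪ c3X 8 : Set leechLattice) ↔ x.1 ∈ c3Set := by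
  constructor
  · rintro ((((h | h) | h) | h) | h)
    · rw [Set.mem_singleton_iff] at h; rw [h]; exact ob_mem_c3Set
    · exact h.1
    · exact h.1
    · exact h.1
    · exact h.1
  · intro h
    rcases c3_dot_vals x.1 h with h1 | h1 | h1 | h1 | h1
    · left; left; left; left
      rw [Set.mem_singleton_iff]
      exact Subtype.ext h1.1
    · left; left; right; exact ⟨h, h1.2⟩
    · left; right; exact ⟨h, h1.2⟩
    · left; left; left; right; exact ⟨h, h1.2⟩
    · right; exact ⟨h, h1⟩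

/-- The block condition for the action on the 11178 vectors. -/
lemma CO3_block (T : Set leechLattice) (haT : OB ∈ T)
    (hT : T ⊆ {x : leechLattice | x.1 ∈ c3Set})
    (hinv : ∀ h : ↥CO3, h • OB = OB → ∀ x ∈ T, h • x ∈ T)
    (hdvd : T.ncard ∣ Nat.card ↥CO3) :
    T.ncard = 1 ∨ T = {x : leechLattice | x.1 ∈ c3Set} := by
  have hΩ : ({OB} ∪ c3X (-8) ∪ c3X 16 ∪ c3X 0 ∪ c3X 8 : Set leechLattice) =
      {x : leechLattice | x.1 ∈ c3Set} := by
    ext x
    rw [mem_c3Union]
    rfl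
  have n1 : (c3X (-8)).ncard = 352 := (ncard_c3X _).trans ncard_c3ClsNeg
  have n2 : (c3X 16).ncard = 1100 := (ncard_c3X _).trans ncard_c3Cls16
  have n3 : (c3X 0).ncard = 4125 := (ncard_c3X _).trans ncard_c3Cls0
  have n4 : (c3X 8).ncard = 5600 := (ncard_c3X _).trans ncard_c3Cls8
  obtain ⟨a, b, c, d, ha, hb, hc, hd, hcard, hfull⟩ := invariant_ncard4 (G := ↥CO3) OB
    (c3X (-8)) (c3X 16) (c3X 0) (c3X 8)
    (OB_notMem_c3X _ (by norm_num)) (OB_notMem_c3X _ (by norm_num))
    (OB_notMem_c3X _ (by norm_num)) (OB_notMem_c3X _ (by norm_num))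
    (disj_c3X _ _ (by norm_num)) (disj_c3X _ _ (by norm_num)) (disj_c3X _ _ (by norm_num))
    (disj_c3X _ _ (by norm_num)) (disj_c3X _ _ (by norm_num)) (disj_c3X _ _ (by norm_num))
    (Set.finite_of_ncard_ne_zero (by rw [n1]; norm_num))
    (Set.finite_of_ncard_ne_zero (by rw [n2]; norm_num))
    (Set.finite_of_ncard_ne_zero (by rw [n3]; norm_num))
    (Set.finite_of_ncard_ne_zero (by rw [n4]; norm_num))
    (CO3_trans_class _ (by norm_num)) (CO3_trans_class _ (by norm_num))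
    (CO3_trans_class _ (by norm_num)) (CO3_trans_class _ (by norm_num))
    T haT (by rw [hΩ]; exact hT) hinv
  rw [n1] at ha
  rw [n2] at hb
  rw [n3] at hc
  rw [n4] at hd
  rw [n1, n2, n3, n4, hΩ] at hfull
  rw [card_CO3, hcard] at hdvd
  rcases ha with rfl | rfl <;> rcases hb with rfl | rfl <;> rcases hc with rfl | rfl <;>
    rcases hd with rfl | rfl
  · left; exact hcard
  · exfalso; revert hdvd; norm_num
  · exfalso; revert hdvd; norm_num
  · exfalso; revert hdvd; norm_num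
  · exfalso; revert hdvd; norm_num
  · exfalso; revert hdvd; norm_num
  · exfalso; revert hdvd; norm_num
  · exfalso; revert hdvd; norm_num
  · exfalso; revert hdvd; norm_num
  · exfalso; revert hdvd; norm_num
  · exfalso; revert hdvd; norm_num
  · exfalso; revert hdvd; norm_num
  · exfalso; revert hdvd; norm_num
  · exfalso; revert hdvd; norm_num
  · exfalso; revert hdvd; norm_num
  · right; exact hfull hcard

lemma CO3_faithful (g : ↥CO3)
    (hg : ∀ x ∈ {x : leechLattice | x.1 ∈ c3Set}, g • x = x) : g = 1 := by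
  have hgU := (mem_CO3 g.1).mp g.2
  have hk : g.1.1 ∈ Co0 := g.1.2
  have fixA : ∀ j : GolayPt, j ≠ none → ∀ (hm : twoVec none j (-4) ∈ leechLattice),
      g.1.1 ⟨twoVec none j (-4), hm⟩ = ⟨twoVec none j (-4), hm⟩ := by
    intro j hj hm
    apply hg
    show twoVec none j (-4) ∈ c3Set
    by_cases hj0 : j = some 0
    · subst hj0
      exact ob_mem_c3Set
    · apply (c3F22_prop _ _).1
      unfold c3F22
      rw [Finset.mem_image]
      exact ⟨j, by rw [Finset.mem_filter]; exact ⟨Finset.mem_univ _, hj, hj0⟩, rfl⟩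
  apply Subtype.ext
  apply Subtype.ext
  show g.1.1 = 1
  apply Equiv.ext
  intro v
  apply Subtype.ext
  show ((g.1.1 v : leechLattice) : GolayPt → ℤ) = v.1
  set w : GolayPt → ℤ := ((g.1.1 v : leechLattice) : GolayPt → ℤ) with hw
  have d2 : dotInt u5 w = dotInt u5 v.1 := by
    have := co0_dot g.1.1 hk U5 v
    have e : g.1.1 U5 = U5 := hgU
    rw [e] at this
    exact this
  rw [dotInt_u5, dotInt_u5] at d2
  have d1 : ∀ j : GolayPt, j ≠ none → w j - v.1 j = w none - v.1 none := by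
    intro j hj
    have hm : twoVec none j (-4) ∈ leechLattice := twoVec_mem (Or.inr rfl)
    have := co0_dot g.1.1 hk ⟨twoVec none j (-4), hm⟩ v
    rw [fixA j hj hm] at this
    have this' : dotInt (twoVec none j (-4)) w = dotInt (twoVec none j (-4)) v.1 := this
    rw [dotInt_comm', dotInt_twoVec, dotInt_comm', dotInt_twoVec] at this'
    omega
  have hsum : ∑ q, ((w q - v.1 q) - (w none - v.1 none)) = 0 := by
    apply Finset.sum_eq_zero
    intro q _
    by_cases hq : q = none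
    · subst hq; ring
    · rw [d1 q hq]; ring
  rw [Finset.sum_sub_distrib, Finset.sum_sub_distrib, Finset.sum_const, Finset.card_univ] at hsum
  have h24 : Fintype.card GolayPt = 24 := by decide
  rw [h24] at hsum
  have hn : w none - v.1 none = 0 := by
    simp only [nsmul_eq_mul, Nat.cast_ofNat] at hsum
    omega
  ext q
  by_cases hq : q = none
  · subst hq; omega
  · have := d1 q hq
    omega

/-- The stabiliser of the standard vector is simple of order 495766656000. -/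
theorem isCo3_CO3 : IsSimpleGroup ↥CO3 ∧ Nat.card ↥CO3 = 495766656000 := by
  refine ⟨?_, card_CO3⟩
  apply simple_of_block (G := ↥CO3) OB {x : leechLattice | x.1 ∈ c3Set}
    (fun x => CO3_orbit x) CO3_block CO3_faithful simple_c3stab
  intro N hN hne hcard
  rw [ncard_c3All] at hcard
  obtain ⟨M, hM, hMc⟩ := exists_normal_odd_part N hN 5589 (by decide) (by rw [hcard])
  have hMne : M ≠ ⊥ := by
    intro h
    rw [h, Subgroup.card_bot] at hMc
    norm_num at hMc
  obtain ⟨-, h2⟩ := normal_transitive (G := ↥CO3) OB {x : leechLattice | x.1 ∈ c3Set}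
    (fun x => CO3_orbit x) CO3_block CO3_faithful M hM hMne
  rw [ncard_c3All, hMc] at h2
  omega

end Cfsg.Agent.Lib.Helper94
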