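import Mathlib
import Cfsg.Prelude.Def_GeometricClasses

/-!
# K-SpAsch-S3b: a self-adjoint field subalgebra `E` for a symplectic form `f` has `f (k v) v = 0`.
-/

set_option autoImplicit false

namespace Cfsg.Agent.Lib.Helper94.SpAsch

open Cfsg Cfsg.Geo
open scoped Matrix Kronecker MatrixGroups

variable {F : Type*} [Field F] [Fintype F] {n : ℕ}

local notation "V" => (Fin n → F)
local notation "Mat" => Matrix (Fin n) (Fin n) F

theorem alternating_of_isSelfAdjointFor {f : V → V → F} (hf : IsSymplecticForm f) (r : ℕ) (E : Subalgebra F Mat)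
    (hE : IsFieldSubalgebra r E) (hsa : IsSelfAdjointFor f E) : ∀ k ∈ E, ∀ v : V, f (k *ᵥ v) v = 0 := by
  intro k hk v
  by_cases h2 : (2 : F) = 0
  · have hadd : ∀ M : Mat, M + M = 0 := by
      intro M
      rw [← two_smul F M, h2, zero_smul]
    have hinj : Function.Injective (fun x : E => x * x) := by
      intro x y hxy
      have hxy' : (x : Mat) * x = y * y := congrArg Subtype.val hxy
      have hz : ((x : Mat) - y) * ((x : Mat) - y) = 0 := by
        have hc := hE.comm x x.2 y y.2
        calc ((x : Mat) - y) * ((x : Mat) - y)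
            = (x : Mat) * x - x * y - y * x + y * y := by noncomm_ring
          _ = (x : Mat) * x + y * y - ((x : Mat) * y + x * y) := by rw [← hc]; abel
          _ = 0 := by rw [hadd ((x : Mat) * y), sub_zero, hxy', hadd]
      by_contra hne
      have hne' : (x : Mat) - y ≠ 0 := by
        intro h
        apply hne
        exact Subtype.ext (sub_eq_zero.mp h)
      obtain ⟨w, hw, hzw⟩ := hE.inv _ (E.sub_mem x.2 y.2) hne'
      apply hne'
      calc (x : Mat) - y = ((x : Mat) - y) * (((x : Mat) - y) * w) := by rw [hzw, mul_one]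
        _ = (((x : Mat) - y) * ((x : Mat) - y)) * w := by rw [mul_assoc]
        _ = 0 := by rw [hz, zero_mul]
    have hsurj := Finite.surjective_of_injective hinj
    obtain ⟨l, hl⟩ := hsurj ⟨k, hk⟩
    have hkl : k = (l : Mat) * l := by
      have h0 := congrArg Subtype.val hl
      exact h0.symm
    rw [hkl, ← Matrix.mulVec_mulVec, hsa l l.2]
    exact hf.alternating _
  · have h1 := hsa k hk v v
    have h3 := hf.skew v (k *ᵥ v)
    have h4 : (2 : F) * f (k *ᵥ v) v = 0 := by
      rw [two_mul]
      nth_rewrite 2 [h1]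
      rw [h3]; ring
    exact (mul_eq_zero.mp h4).resolve_left h2

end Cfsg.Agent.Lib.Helper94.SpAsch
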