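import Mathlib
import Cfsg.Prelude.Def_GeometricClasses

set_option autoImplicit false
set_option linter.unusedSectionVars false
set_option linter.style.haveILetI false

/-!
# K-SUMax-D6a: a finite absolutely irreducible group with central commutators has `(card ι)² · |Z(R)| = |R|`

Burnside's theorem (the matrices of `R` span the matrix algebra) is obtained from Mathlib's Jacobson density
theorem; the independence of coset representatives of the centre from Dedekind's independence of characters.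
The statement needs `ι` non-empty (for empty `ι` the left side is `0` and the right side `1`).
-/

namespace Cfsg.Agent.Lib.Helper94.SUMax

open Cfsg Cfsg.Geo
open scoped Matrix MatrixGroups

section burnside

variable {ι : Type} [Fintype ι] [DecidableEq ι] {K : Type*} [Field K]

/-- the algebra generated by the matrices of `R`, as an algebra of endomorphisms of `ι → K`. -/
noncomputable def endAlg (R : Subgroup (GL ι K)) : Subalgebra K (Module.End K (ι → K)) :=
  (Algebra.adjoin K (matrixSet R)).map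
    (Matrix.toLinAlgEquiv' : Matrix ι ι K ≃ₐ[K] Module.End K (ι → K)).toAlgHom

theorem toLin_mem_endAlg (R : Subgroup (GL ι K)) {s : Matrix ι ι K} (hs : s ∈ matrixSet R) :
    Matrix.toLin' s ∈ endAlg R := by
  refine ⟨s, Algebra.subset_adjoin hs, ?_⟩
  rfl

theorem endAlg_smul (R : Subgroup (GL ι K)) (b : endAlg R) (v : ι → K) :
    b • v = (b : Module.End K (ι → K)) v := rfl

theorem scalar_smul_eq (R : Subgroup (GL ι K)) (c : K) (v : ι → K) :
    c • v = (⟨algebraMap K (Module.End K (ι → K)) c, Subalgebra.algebraMap_mem _ c⟩ : endAlg R) • v := by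
  rw [endAlg_smul]
  simp [Module.algebraMap_end_apply]

theorem isSimpleModule_endAlg [Nonempty ι] (R : Subgroup (GL ι K))
    (hirr : ActsIrreducibly (matrixSet R)) : IsSimpleModule (endAlg R) (ι → K) := by
  refine { toNontrivial := inferInstance, eq_bot_or_eq_top := ?_ }
  intro W'
  let W : Submodule K (ι → K) :=
    { carrier := W'
      add_mem' := fun ha hb => W'.add_mem ha hb
      zero_mem' := W'.zero_mem
      smul_mem' := fun c v hv => by
        show c • v ∈ W'
        rw [scalar_smul_eq R c v]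
        exact W'.smul_mem _ hv }
  have hW : ∀ s ∈ matrixSet R, W.map (Matrix.toLin' s) ≤ W := by
    intro s hs x hx
    obtain ⟨v, hv, rfl⟩ := hx
    show Matrix.toLin' s v ∈ W'
    have : Matrix.toLin' s v = (⟨Matrix.toLin' s, toLin_mem_endAlg R hs⟩ : endAlg R) • v := rfl
    rw [this]
    exact W'.smul_mem _ hv
  rcases hirr W hW with h | h
  · left
    ext v
    have : v ∈ W ↔ v ∈ (⊥ : Submodule K (ι → K)) := by rw [h]
    simpa [W] using this
  · right
    ext v
    have : v ∈ W ↔ v ∈ (⊤ : Submodule K (ι → K)) := by rw [h]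
    simpa [W] using this

theorem end_eq_smul (R : Subgroup (GL ι K))
    (hcent : ∀ M : Matrix ι ι K, (∀ s ∈ matrixSet R, M * s = s * M) → ∃ c : K, M = c • (1 : Matrix ι ι K))
    (φ : Module.End (endAlg R) (ι → K)) : ∃ c : K, ∀ v, φ v = c • v := by
  let φK : (ι → K) →ₗ[K] (ι → K) :=
    { toFun := φ
      map_add' := φ.map_add
      map_smul' := fun c v => by
        show φ (c • v) = c • φ v
        rw [scalar_smul_eq R c v, φ.map_smul, ← scalar_smul_eq R c] }
  obtain ⟨c, hc⟩ := hcent (LinearMap.toMatrix' φK) (by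
    intro s hs
    apply Matrix.toLin'.injective
    rw [Matrix.toLin'_mul, Matrix.toLin'_mul, Matrix.toLin'_toMatrix']
    apply LinearMap.ext
    intro v
    show φ (Matrix.toLin' s v) = Matrix.toLin' s (φ v)
    have h1 : ∀ w : ι → K, Matrix.toLin' s w = (⟨Matrix.toLin' s, toLin_mem_endAlg R hs⟩ : endAlg R) • w :=
      fun w => rfl
    rw [h1 v, φ.map_smul, ← h1])
  refine ⟨c, fun v => ?_⟩
  have h2 : φK = c • LinearMap.id := by
    apply Matrix.toLin'.symm.injective
    show LinearMap.toMatrix' φK = LinearMap.toMatrix' (c • LinearMap.id)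
    rw [hc, map_smul, LinearMap.toMatrix'_id]
  show φK v = c • v
  rw [h2]
  rfl

theorem adjoin_eq_top [Nonempty ι] (R : Subgroup (GL ι K))
    (habs : ActsAbsolutelyIrreducibly (matrixSet R)) : Algebra.adjoin K (matrixSet R) = ⊤ := by
  classical
  have hsimple := isSimpleModule_endAlg R habs.1
  rw [eq_top_iff]
  intro M _
  let f : Module.End (Module.End (endAlg R) (ι → K)) (ι → K) :=
    { toFun := Matrix.toLin' M
      map_add' := (Matrix.toLin' M).map_add
      map_smul' := fun φ v => by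
        obtain ⟨c, hc⟩ := end_eq_smul R habs.2 φ
        show Matrix.toLin' M (φ v) = φ (Matrix.toLin' M v)
        rw [hc, hc, map_smul] }
  obtain ⟨r, hr⟩ := jacobson_density (R := endAlg R) (M := ι → K) f (Finset.univ.image (fun i : ι => (Pi.single i 1 : ι → K)))
  obtain ⟨a, ha, har⟩ := r.2
  have : Matrix.toLin' M = Matrix.toLin' a := by
    apply LinearMap.pi_ext'
    intro i
    apply LinearMap.ext_ring
    have h1 := hr (Pi.single i 1) (Finset.mem_image.mpr ⟨i, Finset.mem_univ _, rfl⟩)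
    show Matrix.toLin' M (Pi.single i 1) = Matrix.toLin' a (Pi.single i 1)
    have h2 : Matrix.toLin' a = (r : Module.End K (ι → K)) := har
    rw [h2]
    exact h1
  rw [Matrix.toLin'.injective this]
  exact ha

theorem span_matrixSet (N : Subgroup (GL ι K)) :
    Submodule.span K (matrixSet N) = Subalgebra.toSubmodule (Algebra.adjoin K (matrixSet N)) := by
  have h1 : (matrixSet N : Set (Matrix ι ι K)) =
      ((N.toSubmonoid.map (Units.coeHom (Matrix ι ι K)) : Submonoid (Matrix ι ι K)) : Set (Matrix ι ι K)) := by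
    ext M
    simp [matrixSet]
  rw [Algebra.adjoin_eq_span, h1, Submonoid.closure_eq]

theorem span_eq_top [Nonempty ι] (R : Subgroup (GL ι K))
    (habs : ActsAbsolutelyIrreducibly (matrixSet R)) : Submodule.span K (matrixSet R) = ⊤ := by
  rw [span_matrixSet, adjoin_eq_top R habs]
  rfl

end burnside

section count

variable {ι : Type} [Fintype ι] [DecidableEq ι] [Nonempty ι] {K : Type*} [Field K]

/-- a fixed diagonal entry: recovers the scalar of a scalar matrix. -/
noncomputable def ent (M : Matrix ι ι K) : K := M (Classical.arbitrary ι) (Classical.arbitrary ι)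

theorem eq_ent_smul {M : Matrix ι ι K} (h : ∃ c : K, M = c • (1 : Matrix ι ι K)) : M = ent M • 1 := by
  obtain ⟨c, rfl⟩ := h
  simp [ent]

theorem ent_smul_one (c : K) : ent (c • (1 : Matrix ι ι K)) = c := by simp [ent]

theorem ent_one : ent (1 : Matrix ι ι K) = 1 := by simp [ent]

theorem val_inv_mul (y : GL ι K) : ((y⁻¹ : GL ι K) : Matrix ι ι K) * (y : Matrix ι ι K) = 1 := by
  rw [← Units.val_mul, inv_mul_cancel, Units.val_one]

theorem val_mul_inv (y : GL ι K) : (y : Matrix ι ι K) * ((y⁻¹ : GL ι K) : Matrix ι ι K) = 1 := by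
  rw [← Units.val_mul, mul_inv_cancel, Units.val_one]

theorem conj_smul_mul (y : GL ι K) {A B : Matrix ι ι K} {a b : K} (hB : B = b • 1) (hA : A = a • 1) :
    (y : Matrix ι ι K) * B * ((y⁻¹ : GL ι K) : Matrix ι ι K) * A = (ent A * ent B) • 1 := by
  subst hA hB
  rw [Matrix.mul_smul, Matrix.mul_one, Matrix.mul_smul, Matrix.mul_one, Matrix.smul_mul, val_mul_inv,
    smul_smul, ent_smul_one, ent_smul_one]

variable (R : Subgroup (GL ι K))
  (hcent : ∀ M : Matrix ι ι K, (∀ s ∈ matrixSet R, M * s = s * M) → ∃ c : K, M = c • (1 : Matrix ι ι K))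
  (hcl : ∀ g ∈ R, ∀ h ∈ R, ∀ x ∈ R, (g * h * g⁻¹ * h⁻¹) * x = x * (g * h * g⁻¹ * h⁻¹))

include hcent hcl in
theorem comm_scalar {g h : GL ι K} (hg : g ∈ R) (hh : h ∈ R) :
    ((g * h * g⁻¹ * h⁻¹ : GL ι K) : Matrix ι ι K) =
      ent ((g * h * g⁻¹ * h⁻¹ : GL ι K) : Matrix ι ι K) • 1 := by
  apply eq_ent_smul
  apply hcent
  rintro _ ⟨x, hx, rfl⟩
  have h1 := hcl g hg h hh x hx
  have h2 := congrArg (fun u : GL ι K => (u : Matrix ι ι K)) h1
  simpa only [Units.val_mul] using h2

include hcent in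
theorem center_scalar {z : GL ι K} (hz : ∀ x ∈ R, z * x = x * z) :
    (z : Matrix ι ι K) = ent (z : Matrix ι ι K) • 1 := by
  apply eq_ent_smul
  apply hcent
  rintro _ ⟨x, hx, rfl⟩
  have h2 := congrArg (fun u : GL ι K => (u : Matrix ι ι K)) (hz x hx)
  simpa only [Units.val_mul] using h2

/-- the commutator character of `t`. -/
noncomputable def chi (t : GL ι K) (ht : t ∈ R) : R →* K where
  toFun y := ent (((y : GL ι K) * t * (y : GL ι K)⁻¹ * t⁻¹ : GL ι K) : Matrix ι ι K)
  map_one' := by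
    have : ((1 : R) : GL ι K) * t * ((1 : R) : GL ι K)⁻¹ * t⁻¹ = 1 := by simp
    rw [this, Units.val_one, ent_one]
  map_mul' y y' := by
    have hy := comm_scalar R hcent hcl y.2 ht
    have hy' := comm_scalar R hcent hcl y'.2 ht
    have hid : ((y * y' : R) : GL ι K) * t * ((y * y' : R) : GL ι K)⁻¹ * t⁻¹ =
        (y : GL ι K) * ((y' : GL ι K) * t * (y' : GL ι K)⁻¹ * t⁻¹) * (y : GL ι K)⁻¹ *
          ((y : GL ι K) * t * (y : GL ι K)⁻¹ * t⁻¹) := by
      rw [Subgroup.coe_mul]; group
    show ent _ = ent _ * ent _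
    rw [hid, Units.val_mul, Units.val_mul, Units.val_mul, conj_smul_mul _ hy' hy, ent_smul_one]

theorem chi_apply (t : GL ι K) (ht : t ∈ R) (y : R) :
    chi R hcent hcl t ht y = ent (((y : GL ι K) * t * (y : GL ι K)⁻¹ * t⁻¹ : GL ι K) : Matrix ι ι K) := rfl

theorem conj_eq_chi_smul (t : GL ι K) (ht : t ∈ R) (y : R) :
    ((y : GL ι K) : Matrix ι ι K) * (t : Matrix ι ι K) * (((y : GL ι K)⁻¹ : GL ι K) : Matrix ι ι K) =
      chi R hcent hcl t ht y • (t : Matrix ι ι K) := by
  have h1 : (y : GL ι K) * t * (y : GL ι K)⁻¹ = ((y : GL ι K) * t * (y : GL ι K)⁻¹ * t⁻¹) * t := by group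
  have h2 := congrArg (fun u : GL ι K => (u : Matrix ι ι K)) h1
  simp only [Units.val_mul] at h2
  rw [h2]
  have h3 := comm_scalar R hcent hcl y.2 ht
  simp only [Units.val_mul] at h3
  rw [h3, Matrix.smul_mul, Matrix.one_mul, chi_apply]
  simp only [Units.val_mul]

theorem coe_ne_zero (x : GL ι K) : (x : Matrix ι ι K) ≠ 0 := by
  intro h0
  have h2 := val_mul_inv x
  rw [h0, zero_mul] at h2
  have h3 := congrFun (congrFun h2 (Classical.arbitrary ι)) (Classical.arbitrary ι)
  simp at h3

include hcent hcl in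
theorem linearIndependent_reps {ι' : Type*} [Fintype ι'] (x : ι' → GL ι K) (hx : ∀ i, x i ∈ R)
    (hdist : ∀ i j, i ≠ j → ¬ ∀ y ∈ R, ((x i)⁻¹ * x j) * y = y * ((x i)⁻¹ * x j)) :
    LinearIndependent K (fun i => ((x i : GL ι K) : Matrix ι ι K)) := by
  classical
  let X : ι' → (R →* K) := fun i => chi R hcent hcl (x i) (hx i)
  have hinj : Function.Injective X := by
    intro i j hij
    by_contra hne
    apply hdist i j hne
    intro y hy
    have hy' : y⁻¹ ∈ R := R.inv_mem hy
    have h1 : chi R hcent hcl (x i) (hx i) ⟨y⁻¹, hy'⟩ = chi R hcent hcl (x j) (hx j) ⟨y⁻¹, hy'⟩ := by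
      have : chi R hcent hcl (x i) (hx i) = chi R hcent hcl (x j) (hx j) := hij
      rw [this]
    rw [chi_apply, chi_apply] at h1
    have h2 : y⁻¹ * x i * (y⁻¹)⁻¹ * (x i)⁻¹ = y⁻¹ * x j * (y⁻¹)⁻¹ * (x j)⁻¹ := by
      apply Units.ext
      rw [comm_scalar R hcent hcl hy' (hx i), comm_scalar R hcent hcl hy' (hx j)]
      exact congrArg (fun c : K => c • (1 : Matrix ι ι K)) h1
    have h3 : x i * y * (x i)⁻¹ = x j * y * (x j)⁻¹ := by
      have h4 : x i * y * (x i)⁻¹ = y * (y⁻¹ * x i * (y⁻¹)⁻¹ * (x i)⁻¹) := by group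
      have h5 : x j * y * (x j)⁻¹ = y * (y⁻¹ * x j * (y⁻¹)⁻¹ * (x j)⁻¹) := by group
      rw [h4, h5, h2]
    calc (x i)⁻¹ * x j * y = (x i)⁻¹ * (x j * y * (x j)⁻¹) * x j := by group
      _ = (x i)⁻¹ * (x i * y * (x i)⁻¹) * x j := by rw [h3]
      _ = y * ((x i)⁻¹ * x j) := by group
  have hli := (linearIndependent_monoidHom R K).comp X hinj
  rw [Fintype.linearIndependent_iff] at hli ⊢
  intro a ha i
  have key : ∀ s t : ι, ∀ j, a j * ((x j : GL ι K) : Matrix ι ι K) s t = 0 := by
    intro s t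
    apply hli (fun j => a j * ((x j : GL ι K) : Matrix ι ι K) s t)
    funext y
    have h1 : ((y : GL ι K) : Matrix ι ι K) * (∑ j, a j • ((x j : GL ι K) : Matrix ι ι K)) *
        (((y : GL ι K)⁻¹ : GL ι K) : Matrix ι ι K) = 0 := by
      rw [ha, mul_zero, zero_mul]
    rw [Finset.mul_sum, Finset.sum_mul] at h1
    have h2 : ∀ j, ((y : GL ι K) : Matrix ι ι K) * (a j • ((x j : GL ι K) : Matrix ι ι K)) *
        (((y : GL ι K)⁻¹ : GL ι K) : Matrix ι ι K) =
        (a j * chi R hcent hcl (x j) (hx j) y) • ((x j : GL ι K) : Matrix ι ι K) := by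
      intro j
      rw [Matrix.mul_smul, Matrix.smul_mul, conj_eq_chi_smul R hcent hcl (x j) (hx j) y, smul_smul]
    simp_rw [h2] at h1
    have h3 := congrFun (congrFun h1 s) t
    rw [Matrix.sum_apply] at h3
    simp only [Matrix.smul_apply, smul_eq_mul, Matrix.zero_apply] at h3
    simp only [Finset.sum_apply, Pi.smul_apply, smul_eq_mul, Function.comp, Pi.zero_apply]
    rw [← h3]
    apply Finset.sum_congr rfl
    intro j _
    show a j * ((x j : GL ι K) : Matrix ι ι K) s t * (chi R hcent hcl (x j) (hx j)) y = _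
    ring
  have hne : ((x i : GL ι K) : Matrix ι ι K) ≠ 0 := coe_ne_zero (x i)
  obtain ⟨s, t, hst⟩ : ∃ s t, ((x i : GL ι K) : Matrix ι ι K) s t ≠ 0 := by
    by_contra h
    push Not at h
    exact hne (Matrix.ext h)
  exact (mul_eq_zero.mp (key s t i)).resolve_right hst

end count

/-- K-SUMax-D6a.  (The statement needs `ι` non-empty: for empty `ι` the left side is `0`.) -/
theorem card_sq_mul_card_center {ι : Type} [Fintype ι] [DecidableEq ι] [Nonempty ι] {K : Type*} [Field K]
    [Fintype K] (R : Subgroup (GL ι K)) (habs : ActsAbsolutelyIrreducibly (matrixSet R))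
    (hcl : ∀ g ∈ R, ∀ h ∈ R, ∀ x ∈ R, (g * h * g⁻¹ * h⁻¹) * x = x * (g * h * g⁻¹ * h⁻¹)) :
    Fintype.card ι ^ 2 * Nat.card (Subgroup.center R) = Nat.card R := by
  classical
  have hcent := habs.2
  let C : Subgroup R := Subgroup.center R
  haveI : Fintype (R ⧸ C) := Fintype.ofFinite _
  let rep : (R ⧸ C) → R := fun q => Quotient.out q
  have hrep : ∀ q, (QuotientGroup.mk (rep q) : R ⧸ C) = q := fun q => QuotientGroup.out_eq' q
  have hli := linearIndependent_reps R hcent hcl (fun q => ((rep q : R) : GL ι K)) (fun q => (rep q).2) (by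
      intro q q' hne hmem
      apply hne
      rw [← hrep q, ← hrep q', QuotientGroup.eq, Subgroup.mem_center_iff]
      intro y
      apply Subtype.ext
      have h1 := hmem y y.2
      simp only [Subgroup.coe_mul, Subgroup.coe_inv]
      exact h1.symm)
  have hsp : ⊤ ≤ Submodule.span K (Set.range (fun q => (((rep q : R) : GL ι K) : Matrix ι ι K))) := by
    rw [← span_eq_top R habs]
    apply Submodule.span_le.mpr
    rintro _ ⟨y, hy, rfl⟩
    have h2 : (rep (QuotientGroup.mk ⟨y, hy⟩))⁻¹ * ⟨y, hy⟩ ∈ C := by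
      rw [← QuotientGroup.eq, hrep]
    rw [Subgroup.mem_center_iff] at h2
    obtain ⟨z, hz⟩ : ∃ z : R, z = (rep (QuotientGroup.mk ⟨y, hy⟩))⁻¹ * ⟨y, hy⟩ := ⟨_, rfl⟩
    rw [← hz] at h2
    have h3 : y = ((rep (QuotientGroup.mk ⟨y, hy⟩) : R) : GL ι K) * (z : GL ι K) := by
      rw [hz]
      simp
    have hzs := center_scalar R hcent (z := (z : GL ι K)) (fun x hx => by
      have h7 := h2 ⟨x, hx⟩
      have h8 := congrArg (fun u : R => (u : GL ι K)) h7
      simp only [Subgroup.coe_mul] at h8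
      exact h8.symm)
    show (y : Matrix ι ι K) ∈ _
    have h4 : (y : Matrix ι ι K) = ent ((z : GL ι K) : Matrix ι ι K) •
        (((rep (QuotientGroup.mk ⟨y, hy⟩) : R) : GL ι K) : Matrix ι ι K) := by
      conv_lhs => rw [h3]
      rw [Units.val_mul, hzs, Matrix.mul_smul, Matrix.mul_one, ent_smul_one]
    rw [h4]
    exact Submodule.smul_mem _ _ (Submodule.subset_span ⟨_, rfl⟩)
  have b := Module.Basis.mk hli hsp
  have h5 := Module.finrank_eq_card_basis b
  rw [Module.finrank_matrix, Module.finrank_self, mul_one] at h5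
  have h6 := Subgroup.card_mul_index C
  rw [Subgroup.index, Nat.card_eq_fintype_card (α := R ⧸ C), ← h5] at h6
  rw [← h6, pow_two, mul_comm]

/-- the same for `Fin n`, `0 < n`. -/
theorem card_sq_mul_card_center_fin {n : ℕ} (hn : 0 < n) {K : Type*} [Field K]
    [Fintype K] (R : Subgroup (GL (Fin n) K)) (habs : ActsAbsolutelyIrreducibly (matrixSet R))
    (hcl : ∀ g ∈ R, ∀ h ∈ R, ∀ x ∈ R, (g * h * g⁻¹ * h⁻¹) * x = x * (g * h * g⁻¹ * h⁻¹)) :
    n ^ 2 * Nat.card (Subgroup.center R) = Nat.card R := by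
  haveI : Nonempty (Fin n) := ⟨⟨0, hn⟩⟩
  have h := card_sq_mul_card_center R habs hcl
  rwa [Fintype.card_fin] at h

end Cfsg.Agent.Lib.Helper94.SUMax

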