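import Mathlib
import Cfsg.Prelude.Def_GeometricClasses
import Cfsg.Agent.Lib.Helper11.SpMax

/-!
K-SpMax-N4: `Sp_2m(F)` is not inside a Kronecker (tensor product) subgroup.
-/

set_option autoImplicit false

namespace Cfsg.Agent.Lib.Helper94.SpMax

open Cfsg Cfsg.Geo
open scoped Matrix Kronecker MatrixGroups

variable {F : Type*} [Field F] {ι : Type} [Fintype ι] [DecidableEq ι]

/-- Pure tensors, transported along `e`. -/
def IsPureVec {n₁ n₂ : ℕ} (e : ι ≃ Fin n₁ × Fin n₂) (y : ι → F) : Prop :=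
  ∃ (u : Fin n₁ → F) (w : Fin n₂ → F), ∀ i, y i = u (e i).1 * w (e i).2

theorem glReindex_symm_val {n₁ n₂ : ℕ} (e : ι ≃ Fin n₁ × Fin n₂) (k : GL (Fin n₁ × Fin n₂) F) :
    ((glReindex e.symm k : GL ι F) : Matrix ι ι F)
      = (k : Matrix (Fin n₁ × Fin n₂) (Fin n₁ × Fin n₂) F).submatrix e e := by
  rfl

theorem isPureVec_mulVec {n₁ n₂ : ℕ} (e : ι ≃ Fin n₁ × Fin n₂) (k : GL (Fin n₁ × Fin n₂) F)
    (hk : k ∈ kroneckerSubgroup n₁ n₂ F) (y : ι → F) (hy : IsPureVec e y) :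
    IsPureVec e (((glReindex e.symm k : GL ι F) : Matrix ι ι F) *ᵥ y) := by
  obtain ⟨a, b, hab⟩ := hk
  obtain ⟨u, w, huw⟩ := hy
  refine ⟨(a : Matrix _ _ F) *ᵥ u, (b : Matrix _ _ F) *ᵥ w, fun i => ?_⟩
  rw [glReindex_symm_val, hab]
  simp only [Matrix.mulVec, dotProduct, Matrix.submatrix_apply, Matrix.kroneckerMap_apply]
  rw [Finset.sum_mul_sum, ← Finset.sum_product', Finset.univ_product_univ]
  rw [← Equiv.sum_comp e]
  refine Finset.sum_congr rfl fun j _ => ?_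
  rw [huw j]
  ring

/-- K-SpMax-N4. -/
theorem sp_not_le_tensorProductSubgroup [Fintype F] {m : ℕ} {n₁ n₂ : ℕ} (h₁ : 2 ≤ n₁) (h₂ : 2 ≤ n₂)
    (e : (Fin m ⊕ Fin m) ≃ Fin n₁ × Fin n₂) (P : GL (Fin m ⊕ Fin m) F) :
    ¬ spGL m F ≤ tensorProductSubgroup n₁ n₂ e P := by
  intro hle
  set a0 : Fin n₁ := ⟨0, by omega⟩ with ha0
  set a1 : Fin n₁ := ⟨1, by omega⟩ with ha1
  set b0 : Fin n₂ := ⟨0, by omega⟩ with hb0
  set b1 : Fin n₂ := ⟨1, by omega⟩ with hb1
  have ha01 : a0 ≠ a1 := by simp [ha0, ha1, Fin.ext_iff]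
  have hb01 : b0 ≠ b1 := by simp [hb0, hb1, Fin.ext_iff]
  set i0 : Fin m ⊕ Fin m := e.symm (a0, b0) with hi0
  set i1 : Fin m ⊕ Fin m := e.symm (a1, b1) with hi1
  have hi01 : i0 ≠ i1 := by
    intro h
    have := e.symm.injective h
    exact ha01 (Prod.mk.inj this).1
  set y0 : Fin m ⊕ Fin m → F := Pi.single i0 1 with hy0
  set y1 : Fin m ⊕ Fin m → F := Pi.single i0 1 + Pi.single i1 1 with hy1
  have hy0ne : y0 ≠ 0 := by
    intro h
    have := congrFun h i0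
    simp [hy0] at this
  have hy1ne : y1 ≠ 0 := by
    intro h
    have := congrFun h i0
    simp [hy1, hi01] at this
  have hy0pure : IsPureVec e y0 := by
    refine ⟨Pi.single a0 1, Pi.single b0 1, fun i => ?_⟩
    by_cases hi : i = i0
    · subst hi
      simp [hy0, hi0]
    · have : e i ≠ (a0, b0) := by
        intro h
        apply hi
        rw [hi0, ← h, Equiv.symm_apply_apply]
      rw [hy0, Pi.single_eq_of_ne hi]
      by_cases h1 : (e i).1 = a0
      · have h2 : (e i).2 ≠ b0 := by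
          intro h2
          exact this (Prod.ext h1 h2)
        rw [Pi.single_eq_of_ne h2, mul_zero]
      · rw [Pi.single_eq_of_ne h1, zero_mul]
  have hy1npure : ¬ IsPureVec e y1 := by
    rintro ⟨u, w, huw⟩
    have hne1 : e.symm (a0, b1) ≠ i0 := by
      intro h
      exact hb01 (Prod.mk.inj (e.symm.injective h)).2.symm
    have hne2 : e.symm (a0, b1) ≠ i1 := by
      intro h
      exact ha01 (Prod.mk.inj (e.symm.injective h)).1
    have e00 : (1 : F) = u a0 * w b0 := by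
      have := huw i0
      rw [hy1, Pi.add_apply, Pi.single_eq_same, Pi.single_eq_of_ne hi01, add_zero] at this
      rw [this, hi0, Equiv.apply_symm_apply]
    have e11 : (1 : F) = u a1 * w b1 := by
      have := huw i1
      rw [hy1, Pi.add_apply, Pi.single_eq_same, Pi.single_eq_of_ne hi01.symm, zero_add] at this
      rw [this, hi1, Equiv.apply_symm_apply]
    have e01 : (0 : F) = u a0 * w b1 := by
      have := huw (e.symm (a0, b1))
      rw [hy1, Pi.add_apply, Pi.single_eq_of_ne hne1, Pi.single_eq_of_ne hne2, add_zero,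
        Equiv.apply_symm_apply] at this
      exact this
    rcases mul_eq_zero.mp e01.symm with h | h
    · rw [h, zero_mul] at e00
      exact one_ne_zero e00
    · rw [h, mul_zero] at e11
      exact one_ne_zero e11
  set x0 : Fin m ⊕ Fin m → F := (P : Matrix (Fin m ⊕ Fin m) (Fin m ⊕ Fin m) F) *ᵥ y0 with hx0
  set x1 : Fin m ⊕ Fin m → F := (P : Matrix (Fin m ⊕ Fin m) (Fin m ⊕ Fin m) F) *ᵥ y1 with hx1
  have hPinv : ∀ z : Fin m ⊕ Fin m → F,
      ((P⁻¹ : GL (Fin m ⊕ Fin m) F) : Matrix (Fin m ⊕ Fin m) (Fin m ⊕ Fin m) F) *ᵥ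
      ((P : Matrix (Fin m ⊕ Fin m) (Fin m ⊕ Fin m) F) *ᵥ z) = z := by
    intro z
    rw [Matrix.mulVec_mulVec, ← Units.val_mul, inv_mul_cancel, Units.val_one, Matrix.one_mulVec]
  have hx0ne : x0 ≠ 0 := by
    intro h
    apply hy0ne
    rw [← hPinv y0, ← hx0, h, Matrix.mulVec_zero]
  have hx1ne : x1 ≠ 0 := by
    intro h
    apply hy1ne
    rw [← hPinv y1, ← hx1, h, Matrix.mulVec_zero]
  obtain ⟨g, hgS, hgx⟩ := Cfsg.Agent.Lib.Helper11.SpMax.exists_spGL_move m x0 x1 hx0ne hx1ne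
  obtain ⟨g', hg', hgg'⟩ := hle hgS
  obtain ⟨k, hk, hkg'⟩ := hg'
  apply hy1npure
  have hpure := isPureVec_mulVec e k hk y0 hy0pure
  convert hpure using 1
  have h3 : g = P * (glReindex e.symm k) * P⁻¹ := by
    rw [← hgg', ← hkg']
    rfl
  rw [h3] at hgx
  rw [Units.val_mul, Units.val_mul, ← Matrix.mulVec_mulVec, hx0, hPinv, ← Matrix.mulVec_mulVec,
    hx1] at hgx
  have := congrArg (fun z =>
    ((P⁻¹ : GL (Fin m ⊕ Fin m) F) : Matrix (Fin m ⊕ Fin m) (Fin m ⊕ Fin m) F) *ᵥ z) hgx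
  simp only [hPinv] at this
  exact this.symm

end Cfsg.Agent.Lib.Helper94.SpMax
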