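import Mathlib
import Cfsg.Prelude.Def_GeometricClasses
import Cfsg.Agent.Lib.Helper11.SpMax
import Cfsg.Agent.Lib.Helper48.Subfield.RatGL
import Cfsg.Agent.Lib.Helper72.SLMaxN5

/-!
K-SpMax-N5: `Sp_2m(F)`, `m ≥ 1`, is not contained in a subfield subgroup attached to a subfield `F₀`
with `|F| = |F₀| ^ r`, `r` prime.
-/

set_option autoImplicit false

namespace Cfsg.Agent.Lib.Helper94.SpMax

open Cfsg Cfsg.Geo Cfsg.Agent.Lib.Helper48.Subfield
open scoped Matrix Kronecker MatrixGroups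

variable {F : Type*} [Field F] [Fintype F] {m : ℕ}

/-- K-SpMax-N5. -/
theorem sp_not_le_subfieldSubgroup (hm : 1 ≤ m) (F₀ : Subfield F) (r : ℕ) (hr : r.Prime)
    (hF : Fintype.card F = Nat.card F₀ ^ r) (P : GL (Fin m ⊕ Fin m) F) :
    ¬ spGL m F ≤ subfieldSubgroup F₀ P := by
  intro hle
  obtain ⟨a, ha⟩ := Cfsg.Agent.Lib.Helper72.SLMax.exists_not_mem_subfield F₀ r hr hF
  set i0 : Fin m ⊕ Fin m := Sum.inl ⟨0, by omega⟩ with hi0
  set i1 : Fin m ⊕ Fin m := Sum.inr ⟨0, by omega⟩ with hi1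
  have h01 : i0 ≠ i1 := by simp [hi0, hi1]
  set y0 : Fin m ⊕ Fin m → F := Pi.single i0 1 with hy0
  set y1 : Fin m ⊕ Fin m → F := Pi.single i0 1 + a • Pi.single i1 1 with hy1
  have hy0ne : y0 ≠ 0 := by
    intro h
    have := congrFun h i0
    simp [hy0] at this
  have hy1ne : y1 ≠ 0 := by
    intro h
    have := congrFun h i0
    simp [hy1, h01] at this
  have hy0rat : Rat F₀ y0 := by
    intro i
    rw [hy0]
    by_cases hi : i = i0
    · rw [hi, Pi.single_eq_same]; exact F₀.one_mem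
    · rw [Pi.single_eq_of_ne hi]; exact F₀.zero_mem
  set x0 : Fin m ⊕ Fin m → F := (P : Matrix (Fin m ⊕ Fin m) (Fin m ⊕ Fin m) F) *ᵥ y0 with hx0
  set x1 : Fin m ⊕ Fin m → F := (P : Matrix (Fin m ⊕ Fin m) (Fin m ⊕ Fin m) F) *ᵥ y1 with hx1
  have hPinv : ∀ z : Fin m ⊕ Fin m → F, ((P⁻¹ : GL (Fin m ⊕ Fin m) F) : Matrix (Fin m ⊕ Fin m) (Fin m ⊕ Fin m) F) *ᵥ
      ((P : Matrix (Fin m ⊕ Fin m) (Fin m ⊕ Fin m) F) *ᵥ z) = z := by
    intro z
    rw [Matrix.mulVec_mulVec, ← Units.val_mul, inv_mul_cancel, Units.val_one, Matrix.one_mulVec]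
  have hx0ne : x0 ≠ 0 := by
    intro h
    apply hy0ne
    rw [← hPinv y0, ← hx0, h, Matrix.mulVec_zero]
  have hx1ne : x1 ≠ 0 := by
    intro h
    apply hy1ne
    rw [← hPinv y1, ← hx1, h, Matrix.mulVec_zero]
  obtain ⟨g, hgS, hgx⟩ := Cfsg.Agent.Lib.Helper11.SpMax.exists_spGL_move m x0 x1 hx0ne hx1ne
  have h1 := hle hgS
  unfold subfieldSubgroup at h1
  rw [Subgroup.mem_map] at h1
  obtain ⟨x, hx, hxe⟩ := h1
  have hxg : g = P * x * P⁻¹ := hxe.symm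
  have hx' : x ∈ ratUpTo (ι := Fin m ⊕ Fin m) F₀ := by
    rw [← sup_eq_ratUpTo]
    exact hx
  obtain ⟨c, hc, hrat⟩ := hx'
  -- x maps y0 to y1
  have hxy : (x : Matrix (Fin m ⊕ Fin m) (Fin m ⊕ Fin m) F) *ᵥ y0 = y1 := by
    rw [hxg, Units.val_mul, Units.val_mul, ← Matrix.mulVec_mulVec, hx0, hPinv,
      ← Matrix.mulVec_mulVec, hx1] at hgx
    have := congrArg (fun z => ((P⁻¹ : GL (Fin m ⊕ Fin m) F) : Matrix (Fin m ⊕ Fin m) (Fin m ⊕ Fin m) F) *ᵥ z) hgx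
    simp only [hPinv] at this
    exact this
  have hcy : Rat F₀ (c • y1) := by
    rw [← hxy, ← Matrix.smul_mulVec]
    exact RatMat.mulVec hrat hy0rat
  have e0 := hcy i0
  have e1 := hcy i1
  rw [hy1] at e0 e1
  simp only [Pi.smul_apply, Pi.add_apply, Pi.single_eq_same, Pi.single_eq_of_ne h01,
    Pi.single_eq_of_ne h01.symm, smul_eq_mul, mul_zero, add_zero, zero_add, mul_one] at e0 e1
  apply ha
  have : a = (c * a) * c⁻¹ := by field_simp
  rw [this]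
  exact F₀.mul_mem e1 (F₀.inv_mem e0)

end Cfsg.Agent.Lib.Helper94.SpMax
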