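import Cfsg.Agent.Lib.Helper64.StBDefs
import Cfsg.Agent.Lib.Helper08.BNPairSimple

/-!
# K-S2311-B4: if `B ∩ n₁ B n₁⁻¹ ⊆ N` then every distinguished generator is a left descent of `n₁`.
-/

set_option autoImplicit false

namespace Cfsg.Agent.Lib.Helper94.StB

open Cfsg Cfsg.Agent.Lib.Helper08 Cfsg.Agent.Lib.Helper64.StB

variable {G : Type*} [Group G] (P : Cfsg.BNPair G)

theorem left_descent_of_inter {n₁ : G} (hn₁ : n₁ ∈ P.N)
    (hT : ∀ b ∈ P.B, n₁⁻¹ * b * n₁ ∈ P.B → b ∈ P.N) :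
    ∀ s ∈ P.S, len P (s * n₁) < len P n₁ := by
  intro s hs
  rcases len_S_mul_lt_or_gt P hs hn₁ with h | hlt
  · exact h
  exfalso
  have hsN := P.subset hs
  obtain ⟨b0, hb0, hnot⟩ := exists_conj_not_mem P hs
  apply hnot
  obtain ⟨b₁, hb₁, b₂, hb₂, e⟩ := claimA P hs hn₁ hlt hb0
  obtain ⟨x, hx⟩ : ∃ x : G, x = s⁻¹ * b₁ * s := ⟨_, rfl⟩
  obtain ⟨y, hy⟩ : ∃ y : G, y = n₁ * b₂ * n₁⁻¹ := ⟨_, rfl⟩
  have hbxy : b0 = x * y := by
    have h0 : b0 = s⁻¹ * (s * b0 * n₁) * n₁⁻¹ := by group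
    rw [h0, e, hx, hy]; group
  have hyx : y = x⁻¹ * b0 := by rw [hbxy]; group
  have hxB : x ∈ P.B := by
    rcases axL_inv P hs hsN hb₁ with h | h
    · rw [hx]; exact (DC_of_mem P (sq_mem_B P hs)).1 h
    · exfalso
      rw [← hx] at h
      have hxinv : DC P s x⁻¹ := (Eqv_dc_iff P (Eqv_inv_S P hs)).1 (DC_inv P h)
      have hyDC : DC P s y := by
        rw [hyx]; exact DC_mul_right P hb0 hxinv
      obtain ⟨c₁, hc₁, c₂, hc₂, ey⟩ := hyDC
      have h1 : DC P (s * n₁) (y * n₁) := by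
        have h0 : y * n₁ = c₁ * (s * c₂ * n₁) := by rw [ey]; group
        rw [h0]
        exact DC_mul_left P hc₁ (claimA P hs hn₁ hlt hc₂)
      have h2 : DC P n₁ (y * n₁) := by
        have h0 : y * n₁ = n₁ * b₂ := by rw [hy]; group
        rw [h0]
        exact DC_mul_right P hb₂ (DC_self P n₁)
      have h3 : Eqv P n₁ (s * n₁) :=
        bruhat_unique P hn₁ (P.N.mul_mem hsN hn₁) (DC_trans P h2 (DC_symm P h1))
      have h4 := len_congr P h3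
      omega
  have hyB : y ∈ P.B := by
    rw [hyx]; exact P.B.mul_mem (P.B.inv_mem hxB) hb0
  have hyN : y ∈ P.N := hT y hyB (by
    have h0 : n₁⁻¹ * y * n₁ = b₂ := by rw [hy]; group
    rw [h0]; exact hb₂)
  have h4 : s * y * s⁻¹ ∈ P.B := conj_mem_B P hsN hyB hyN
  have h5 : s * b0 * s = b₁ * (s * y * s⁻¹) * (s * s) := by
    rw [hbxy, hx]; group
  rw [h5]
  exact P.B.mul_mem (P.B.mul_mem hb₁ h4) (sq_mem_B P hs)

end Cfsg.Agent.Lib.Helper94.StB
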