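import Mathlib
import Cfsg.Agent.Lib.Helper49.StOpDefs

/-!
K-StOp-C8 (254825, S2548 pack, architect helper49): `|B : T|` is a power of `p`.
`δ : B → B`, `b ↦ diag(b)` is an idempotent endomorphism with image `T` and kernel the unitriangular
matrices of `B`, a `p`-group.  (Port of Helper90.StOC8 to the index set `Fin m ⊕ Fin m`.)
-/

set_option autoImplicit false
set_option linter.unusedSectionVars false
set_option linter.unusedVariables false

namespace Cfsg.Agent.Lib.Helper94.StOp

open Cfsg Cfsg.Agent.Lib.Helper49.StOp Matrix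

variable {m : ℕ} {F : Type*} [Field F]

/-! ### upper triangular matrices for `pos` -/

/-- the diagonal of a product of upper triangular matrices -/
theorem c8_diag_mul (A A' : Matrix (OI m) (OI m) F)
    (hA : ∀ a b, pos m b < pos m a → A a b = 0) (hA' : ∀ a b, pos m b < pos m a → A' a b = 0)
    (a : OI m) : (A * A') a a = A a a * A' a a := by
  rw [Matrix.mul_apply]
  apply Finset.sum_eq_single a
  · intro c _ hc
    rcases lt_or_gt_of_ne (fun h => hc (pos_injective m h)) with h | h
    · rw [hA a c h, zero_mul]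
    · rw [hA' c a h, mul_zero]
  · intro h
    exact absurd (Finset.mem_univ a) h

theorem c8_upper_of_mem {b : OG m F} (hb : b ∈ Bsub m F) :
    ∀ a c, pos m c < pos m a → mat b a c = 0 :=
  (mem_Bsub_iff b).1 hb

theorem c8_mulVec_single (A : Matrix (OI m) (OI m) F) (c : OI m) :
    A *ᵥ Pi.single c 1 = fun a => A a c := by
  funext a
  simp [Matrix.mulVec, dotProduct, Pi.single_apply]

/-- the diagonal entries at `e_i`, `f_i` of an upper triangular isometry are inverse to each other -/
theorem c8_diag_ef (b : OG m F) (hb : b ∈ Bsub m F) (i : Fin m) :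
    mat b (eI i) (eI i) * mat b (fI i) (fI i) = 1 := by
  have hA := c8_upper_of_mem hb
  have h1 := quad_mulVec b (Pi.single (eI i) 1 + Pi.single (fI i) 1)
  have h2 := quad_mulVec b (Pi.single (fI i) 1)
  rw [Matrix.mulVec_add, c8_mulVec_single, c8_mulVec_single] at h1
  rw [c8_mulVec_single] at h2
  unfold Cfsg.quadFormPlus at h1 h2
  -- right hand sides
  have r1 : ∑ j : Fin m, (Pi.single (eI i) (1 : F) + Pi.single (fI i) (1 : F) : OI m → F)
        (Sum.inl j) *
        (Pi.single (eI i) (1 : F) + Pi.single (fI i) (1 : F) : OI m → F) (Sum.inr j) =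
      1 := by
    rw [Finset.sum_eq_single i]
    · simp
    · intro j _ hj
      have : (Sum.inl j : OI m) ≠ eI i := fun h => hj (Sum.inl.inj h)
      simp [Pi.single_apply, this]
    · intro h
      exact absurd (Finset.mem_univ i) h
  have r2 : ∑ j : Fin m, (Pi.single (fI i) (1 : F) : OI m → F) (Sum.inl j) *
        (Pi.single (fI i) (1 : F) : OI m → F) (Sum.inr j) = 0 := by
    rw [Finset.sum_eq_zero]
    intro j _
    rw [Pi.single_apply, if_neg (by simp), zero_mul]
  rw [r1] at h1
  rw [r2] at h2
  -- left hand sides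
  have f0 : ∀ j : Fin m, mat b (Sum.inr j) (eI i) = 0 := by
    intro j
    apply hA
    show i.val < 2 * m - 1 - j.val
    have := i.2; have := j.2; omega
  simp only [Pi.add_apply, f0, zero_add] at h1
  have e3 : ∑ j : Fin m, mat b (Sum.inl j) (eI i) * mat b (Sum.inr j) (fI i) =
      mat b (eI i) (eI i) * mat b (fI i) (fI i) := by
    apply Finset.sum_eq_single i
    · intro j _ hj
      rcases lt_or_gt_of_ne (fun h => hj (Fin.ext h) : (j : ℕ) ≠ (i : ℕ)) with h | h
      · have : pos m (fI i) < pos m (fI j) := by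
          show 2 * m - 1 - i.val < 2 * m - 1 - j.val
          have := i.2; have := j.2; omega
        rw [hA _ _ this, mul_zero]
      · have : pos m (eI i) < pos m (eI j) := h
        rw [hA _ _ this, zero_mul]
    · intro h
      exact absurd (Finset.mem_univ i) h
  rw [← e3]
  have e4 : ∑ j : Fin m, (mat b (Sum.inl j) (eI i) + mat b (Sum.inl j) (fI i)) *
      mat b (Sum.inr j) (fI i) =
      ∑ j : Fin m, mat b (Sum.inl j) (eI i) * mat b (Sum.inr j) (fI i) +
      ∑ j : Fin m, mat b (Sum.inl j) (fI i) * mat b (Sum.inr j) (fI i) := by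
    rw [← Finset.sum_add_distrib]
    apply Finset.sum_congr rfl
    intro j _
    ring
  rw [e4] at h1
  linear_combination h1 - h2

/-- the diagonal entries of an upper triangular isometry: `d a * d (dualE a) = 1` -/
theorem c8_diag_dual (b : OG m F) (hb : b ∈ Bsub m F) (a : OI m) :
    mat b a a * mat b (dualE m a) (dualE m a) = 1 := by
  rcases a with a | a
  · exact c8_diag_ef b hb a
  · show mat b (fI a) (fI a) * mat b (eI a) (eI a) = 1
    rw [mul_comm]; exact c8_diag_ef b hb a

/-- a diagonal matrix with `d e_i * d f_i = 1` preserves `Q` -/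
theorem c8_diagonal_pres (d : OI m → F)
    (hd : ∀ i : Fin m, d (eI i) * d (fI i) = 1) (u : OI m → F) :
    Cfsg.quadFormPlus m F (Matrix.diagonal d *ᵥ u) = Cfsg.quadFormPlus m F u := by
  unfold Cfsg.quadFormPlus
  simp only [Matrix.mulVec_diagonal]
  apply Finset.sum_congr rfl
  intro i _
  have := hd i
  calc d (Sum.inl i) * u (Sum.inl i) * (d (Sum.inr i) * u (Sum.inr i))
      = (d (eI i) * d (fI i)) * (u (Sum.inl i) * u (Sum.inr i)) := by ring
    _ = u (Sum.inl i) * u (Sum.inr i) := by rw [this, one_mul]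

/-! ### strictly upper triangular matrices are nilpotent -/

theorem c8_pow_apply_eq_zero (N : Matrix (OI m) (OI m) F)
    (hN : ∀ a b, pos m b ≤ pos m a → N a b = 0) (k : ℕ) :
    ∀ a b, pos m b < pos m a + k → (N ^ k) a b = 0 := by
  induction k with
  | zero =>
    intro a b h
    rw [pow_zero, Matrix.one_apply, if_neg]
    rintro rfl
    omega
  | succ k ih =>
    intro a b h
    rw [pow_succ, Matrix.mul_apply]
    apply Finset.sum_eq_zero
    intro c _
    by_cases hc : pos m c < pos m a + k
    · rw [ih a c hc, zero_mul]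
    · rw [hN c b (by omega), mul_zero]

theorem c8_pow_eq_zero (N : Matrix (OI m) (OI m) F)
    (hN : ∀ a b, pos m b ≤ pos m a → N a b = 0) : N ^ (2 * m + 1) = 0 := by
  ext a b
  rw [c8_pow_apply_eq_zero N hN (2 * m + 1) a b (by have := pos_lt m b; omega)]
  rfl

/-- a unitriangular matrix has `p`-power order in characteristic `p` -/
theorem c8_unitri_pow (p : ℕ) [Fact p.Prime] [CharP F p]
    (A : Matrix (OI m) (OI m) F)
    (hA : ∀ a b, pos m b < pos m a → A a b = 0) (hA1 : ∀ a, A a a = 1) :
    A ^ (p ^ (2 * m + 1)) = 1 := by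
  rcases isEmpty_or_nonempty (OI m) with hE | hE
  · exact Subsingleton.elim _ _
  have hN : ∀ a b, pos m b ≤ pos m a → (A - 1) a b = 0 := by
    intro a b hab
    rw [Matrix.sub_apply, Matrix.one_apply]
    rcases eq_or_lt_of_le hab with h | h
    · have : b = a := pos_injective m h
      subst this
      rw [hA1, if_pos rfl, sub_self]
    · rw [hA a b h, if_neg, sub_zero]
      rintro rfl
      exact lt_irrefl _ h
  have h0 : (A - 1) ^ (2 * m + 1) = 0 := c8_pow_eq_zero _ hN
  have hle : 2 * m + 1 ≤ p ^ (2 * m + 1) :=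
    le_of_lt (Nat.lt_pow_self (Fact.out : p.Prime).one_lt)
  have h1 : (A - 1) ^ (p ^ (2 * m + 1)) = 0 := by
    rw [← Nat.sub_add_cancel hle, pow_add, h0, mul_zero]
  have h2 : A = (A - 1) + 1 := by abel
  rw [h2, add_pow_char_pow_of_commute p (2 * m + 1) (Commute.one_right _), h1, one_pow, zero_add]

/-! ### the diagonal part -/

theorem c8_diagonal_mul_dual (b : OG m F) (hb : b ∈ Bsub m F) :
    Matrix.diagonal (fun a => mat b a a) *
      Matrix.diagonal (fun a => mat b (dualE m a) (dualE m a)) = 1 := by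
  rw [Matrix.diagonal_mul_diagonal, ← Matrix.diagonal_one]
  congr 1
  funext a
  exact c8_diag_dual b hb a

theorem c8_diagonal_dual_mul (b : OG m F) (hb : b ∈ Bsub m F) :
    Matrix.diagonal (fun a => mat b (dualE m a) (dualE m a)) *
      Matrix.diagonal (fun a => mat b a a) = 1 := by
  rw [Matrix.diagonal_mul_diagonal, ← Matrix.diagonal_one]
  congr 1
  funext a
  rw [mul_comm]
  exact c8_diag_dual b hb a

/-- the diagonal part of an element of `B`, as an element of the group -/
def c8_dG (b : OG m F) (hb : b ∈ Bsub m F) : OG m F :=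
  ⟨⟨Matrix.diagonal (fun a => mat b a a),
      Matrix.diagonal (fun a => mat b (dualE m a) (dualE m a)),
      c8_diagonal_mul_dual b hb, c8_diagonal_dual_mul b hb⟩,
    fun u _ => c8_diagonal_pres (fun a => mat b a a)
      (fun i => c8_diag_ef b hb i) u⟩

theorem c8_mat_dG (b : OG m F) (hb : b ∈ Bsub m F) :
    mat (c8_dG b hb) = Matrix.diagonal (fun a => mat b a a) := rfl

theorem c8_dG_mem_T (b : OG m F) (hb : b ∈ Bsub m F) : c8_dG b hb ∈ Tsub m F := by
  rw [mem_Tsub_iff]
  intro a c hac
  rw [c8_mat_dG]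
  exact Matrix.diagonal_apply_ne _ hac

theorem c8_dG_mem_B (b : OG m F) (hb : b ∈ Bsub m F) : c8_dG b hb ∈ Bsub m F :=
  (c8_dG_mem_T b hb).1

/-- the diagonal part, as an endomorphism of `B` -/
def c8_delta : ↥(Bsub m F) →* ↥(Bsub m F) where
  toFun b := ⟨c8_dG b.1 b.2, c8_dG_mem_B b.1 b.2⟩
  map_one' := by
    apply Subtype.ext
    apply mat_injective
    show Matrix.diagonal (fun a => (1 : Matrix (OI m) (OI m) F) a a) = 1
    rw [← Matrix.diagonal_one]
    congr 1
    funext a
    simp
  map_mul' b b' := by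
    apply Subtype.ext
    apply mat_injective
    show Matrix.diagonal (fun a => (mat b.1 * mat b'.1) a a) =
      Matrix.diagonal (fun a => mat b.1 a a) * Matrix.diagonal (fun a => mat b'.1 a a)
    rw [Matrix.diagonal_mul_diagonal]
    congr 1
    funext a
    exact c8_diag_mul _ _ (c8_upper_of_mem b.2) (c8_upper_of_mem b'.2) a

theorem c8_delta_apply_apply (b : ↥(Bsub m F)) (a c : OI m) :
    mat (c8_delta b).1 a c = if a = c then mat b.1 a a else 0 := by
  show Matrix.diagonal _ a c = _
  rw [Matrix.diagonal_apply]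

theorem c8_delta_delta (b : ↥(Bsub m F)) : c8_delta (c8_delta b) = c8_delta b := by
  apply Subtype.ext
  apply mat_injective
  ext a c
  rw [c8_delta_apply_apply, c8_delta_apply_apply, c8_delta_apply_apply, if_pos rfl]

theorem c8_mem_ker_iff (b : ↥(Bsub m F)) :
    b ∈ (c8_delta (m := m) (F := F)).ker ↔ ∀ a, mat b.1 a a = 1 := by
  rw [MonoidHom.mem_ker]
  constructor
  · intro h a
    have := c8_delta_apply_apply b a a
    rw [h, if_pos rfl] at this
    rw [← this]
    show (1 : Matrix (OI m) (OI m) F) a a = 1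
    simp
  · intro h
    apply Subtype.ext
    apply mat_injective
    ext a c
    rw [c8_delta_apply_apply]
    show _ = (1 : Matrix (OI m) (OI m) F) a c
    rw [Matrix.one_apply, h a]

theorem c8_isComplement :
    Subgroup.IsComplement' (c8_delta (m := m) (F := F)).ker
      ((Tsub m F).subgroupOf (Bsub m F)) := by
  apply Subgroup.isComplement'_of_disjoint_and_mul_eq_univ
  · rw [Subgroup.disjoint_def]
    intro x hx hxT
    have h1 := (c8_mem_ker_iff x).1 hx
    have h2 := (mem_Tsub_iff x.1).1 (Subgroup.mem_subgroupOf.mp hxT)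
    apply Subtype.ext
    apply mat_injective
    ext a c
    show _ = (1 : Matrix (OI m) (OI m) F) a c
    rw [Matrix.one_apply]
    by_cases hac : a = c
    · subst hac
      rw [if_pos rfl, h1 a]
    · rw [if_neg hac, h2 a c hac]
  · rw [Set.eq_univ_iff_forall]
    intro b
    refine ⟨b * (c8_delta b)⁻¹, ?_, c8_delta b, ?_, ?_⟩
    · show b * (c8_delta b)⁻¹ ∈ (c8_delta (m := m) (F := F)).ker
      rw [MonoidHom.mem_ker, map_mul, map_inv, c8_delta_delta, mul_inv_cancel]
    · show c8_delta b ∈ (Tsub m F).subgroupOf (Bsub m F)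
      rw [Subgroup.mem_subgroupOf]
      exact c8_dG_mem_T b.1 b.2
    · show b * (c8_delta b)⁻¹ * c8_delta b = b
      rw [inv_mul_cancel_right]

theorem c8_mat_pow (g : OG m F) (k : ℕ) : mat (g ^ k) = mat g ^ k := by
  induction k with
  | zero => rw [pow_zero, pow_zero, mat_one]
  | succ k ih => rw [pow_succ, pow_succ, mat_mul, ih]

theorem c8_ker_isPGroup (p : ℕ) [Fact p.Prime] [CharP F p] :
    IsPGroup p ↥(c8_delta (m := m) (F := F)).ker := by
  intro g
  refine ⟨2 * m + 1, ?_⟩
  have h1 := (c8_mem_ker_iff g.1).1 g.2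
  have h2 := c8_unitri_pow p (mat g.1.1) (c8_upper_of_mem g.1.2) h1
  apply Subtype.ext
  apply Subtype.ext
  apply mat_injective
  rw [Subgroup.coe_pow, Subgroup.coe_pow, c8_mat_pow]
  exact h2

theorem relIndex_T_B [Fintype F] (p : ℕ) [Fact p.Prime] [CharP F p] :
    ∃ a : ℕ, (Tsub m F).relIndex (Bsub m F) = p ^ a := by
  classical
  have : Finite (OG m F) := Finite.of_injective mat mat_injective
  have h1 : (Tsub m F).relIndex (Bsub m F) =
      Nat.card ↥(c8_delta (m := m) (F := F)).ker :=
    (c8_isComplement (m := m) (F := F)).index_eq_card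
  rw [h1]
  exact (IsPGroup.iff_card).mp (c8_ker_isPGroup p)

end Cfsg.Agent.Lib.Helper94.StOp
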