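import Mathlib

/-!
# K-S1421-C: `H ≤ E` with `q ∤ |E : H|`: every `q`-element of `E` is `E`-conjugate into `H`.
-/

set_option autoImplicit false
set_option linter.unusedSectionVars false
set_option linter.unusedVariables false
set_option linter.style.haveILetI false

namespace Cfsg.Agent.Lib.Helper94.BG1211

variable {G : Type*} [Group G] [Finite G]

theorem exists_conj_mem_of_not_dvd_relIndex (E H : Subgroup G) (hHE : H ≤ E) {q : ℕ} (hq : q.Prime)
    (hqH : ¬ q ∣ H.relIndex E) {g : G} (hg : g ∈ E) {k : ℕ} (hgk : orderOf g = q ^ k) :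
    ∃ c ∈ E, c * g * c⁻¹ ∈ H := by
  haveI : Fact q.Prime := ⟨hq⟩
  let g' : E := ⟨g, hg⟩
  have hZ : IsPGroup q (Subgroup.zpowers g') := by
    apply IsPGroup.of_card (n := k)
    rw [Nat.card_zpowers, ← hgk]
    exact Subgroup.orderOf_mk g hg
  have hcard : ¬ q ∣ Nat.card (E ⧸ H.subgroupOf E) := hqH
  obtain ⟨x, hx⟩ := hZ.nonempty_fixed_point_of_prime_not_dvd_card (E ⧸ H.subgroupOf E) hcard
  obtain ⟨c, rfl⟩ := QuotientGroup.mk_surjective x
  have h1 := hx ⟨g', Subgroup.mem_zpowers g'⟩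
  have h2 : (QuotientGroup.mk (g' * c) : E ⧸ H.subgroupOf E) = QuotientGroup.mk c := h1
  rw [QuotientGroup.eq, Subgroup.mem_subgroupOf] at h2
  refine ⟨((c⁻¹ : E) : G), (c⁻¹).2, ?_⟩
  have h3 : ((c⁻¹ : E) : G) * g * ((c⁻¹ : E) : G)⁻¹ = ((((g' * c)⁻¹ * c : E) : E) : G)⁻¹ := by
    simp only [Subgroup.coe_mul, Subgroup.coe_inv, g']
    group
  rw [h3]
  exact H.inv_mem h2

end Cfsg.Agent.Lib.Helper94.BG1211
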