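import Mathlib
import Cfsg.Agent.Lib.Helper31.BG134Defs2
import Cfsg.Agent.Lib.Helper55.SylowIn
import Cfsg.Agent.Lib.Helper55.Uniq
import Cfsg.Agent.Lib.Helper71.BG11a

/-!
# K-S1428-Q: an `R`-invariant Sylow subgroup of `C = C_{M_σ}(P)` which is not centralized by `R`.
-/

set_option autoImplicit false
set_option linter.unusedVariables false
set_option linter.unusedSectionVars false
set_option linter.style.haveILetI false

namespace Cfsg.Agent.Lib.Helper94.BG134

open Cfsg Cfsg.Agent.Lib.Helper55 Cfsg.Agent.Lib.Helper31.BG134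

variable {G : Type*} [Group G] [Finite G]

theorem Ctx.exists_sylow_not_centralized {M P R H : Subgroup G} {p r : ℕ} (c : Ctx M P R H p r) :
    ∃ (q : ℕ) (Q₀ : Subgroup G), q.Prime ∧ Q₀ ≤ CP M P ∧ IsPGroup q Q₀ ∧
      R ≤ Subgroup.normalizer (Q₀ : Set G) ∧ ¬ Q₀ ≤ Subgroup.centralizer (R : Set G) := by
  haveI : Fact r.Prime := ⟨c.hr⟩
  by_contra hcon
  push Not at hcon
  apply c.hnc
  have hR : IsPGroup r R := IsPGroup.of_card (n := 1) (by rw [c.hRc, pow_one])
  have hcop : (Nat.card (CP M P)).Coprime r := by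
    rw [Nat.coprime_comm, Nat.Prime.coprime_iff_not_dvd c.hr]
    intro h
    apply c.hrσ
    apply Cfsg.Agent.Lib.Helper71.BG11.sigmaCore_pi c.hG c.hM c.hr
    exact h.trans (Subgroup.card_dvd_of_le inf_le_left)
  have hRN : R ≤ Subgroup.normalizer ((CP M P : Subgroup G) : Set G) := by
    intro x hx
    have h1 := Cfsg.Agent.Lib.Helper71.BG11.le_normalizer_sigmaCore M (c.hRM hx)
    have h2 : x ∈ Subgroup.normalizer ((Subgroup.centralizer (P : Set G) : Subgroup G) : Set G) :=
      Subgroup.le_normalizer (c.hRP hx)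
    rw [Subgroup.mem_normalizer_iff] at h1 h2 ⊢
    intro h
    rw [Subgroup.mem_inf, Subgroup.mem_inf, ← h1 h, ← h2 h]
  exact le_of_invariant_sylows_le hR hcop hRN
    (fun q hq hqr T hT hRT => hcon q T hq hT.1 hT.2.1 hRT)

end Cfsg.Agent.Lib.Helper94.BG134
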