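import Mathlib
import Cfsg.Prelude.Def_Blocks
import Cfsg.Agent.Lib.Helper01.CD3Defs
import Cfsg.Agent.Lib.Helper83.CharMisc
import Cfsg.Agent.Lib.Helper82.CD3PURE

/-!
# K-CD3-KEY (S4460 pack): the key lemma `key_core`

Two irreducible characters `χ`, `ψ` of coprime degrees `m`, `n` of a group with `cd ⊆ {1, m, n}` cannot
both have trivial "centre" `{g | ‖χ g‖ = χ 1}`.

Route: `χ ψ` is pure (helper82 `mul_pure`); say of type `m`.  `B` := irreducibles `θ` of degree `m` with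
`θ ψ` of type `m`; `V(B)` := functions orthogonal to every irreducible outside `B`.  Then
`ψ V(B) ⊆ V(B̄)`, `ψ̄ V(B̄) ⊆ V(B)`, so `V(B)` is stable under `(|ψ|² - v)` for every `v`; the product
over the values of `|ψ|²` on `G ∖ {1}` is a nonzero multiple of `δ_1`, and `δ_1 χ` is not orthogonal
to the trivial character.
-/

set_option autoImplicit false

namespace Cfsg.Agent.Lib.Helper94.CD3

open Cfsg Cfsg.Agent.Lib.Helper01.CD3 Cfsg.Agent.Lib.Helper83 Cfsg.Agent.Lib.Helper82.CD3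
open scoped ComplexConjugate

universe u

variable {G : Type u} [Group G] [Fintype G]

/-- irreducibles `θ` of degree `m` with `θ ω` of type `m` -/
def keyB (m : ℕ) (ω : G → ℂ) : Set (IrrCharacter G) :=
  {θ | charDegree (θ : G → ℂ) = m ∧ ∀ φ : G → ℂ, IsIrrCharacter G φ →
    classInner ((θ : G → ℂ) * ω) φ ≠ 0 → charDegree φ = m}

/-- functions orthogonal to all irreducibles outside `A` -/
def keyV (A : Set (IrrCharacter G)) : Set (G → ℂ) :=
  {f | ∀ φ : IrrCharacter G, φ ∉ A → classInner f (φ : G → ℂ) = 0}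

theorem key_swap_inner (φ ω ω' θ : G → ℂ) (h : ∀ x, ω' x = conj (ω x)) :
    classInner (φ * ω') θ = conj (classInner (θ * ω) φ) := by
  simp only [classInner_def, map_mul, map_sum, map_inv₀, Complex.conj_natCast, Complex.conj_conj,
    Pi.mul_apply, h]
  congr 1
  apply Finset.sum_congr rfl
  intro g _
  ring

theorem key_step {m n : ℕ} (hm : 1 < m) (hn : 1 < n) (hmn : Nat.Coprime m n)
    (hcd : ThreeDeg G m n) {ω ω' : G → ℂ} (hω' : IsIrrCharacter G ω')
    (hn' : charDegree ω' = n) (h : ∀ x, ω' x = conj (ω x)) (θ : IrrCharacter G)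
    (hθ : θ ∈ keyB m ω) (φ : IrrCharacter G)
    (hφ : classInner ((θ : G → ℂ) * ω) (φ : G → ℂ) ≠ 0) : φ ∈ keyB m ω' := by
  have hmne : m ≠ n := by
    rintro rfl
    rw [Nat.coprime_self] at hmn
    omega
  have hφm : charDegree (φ : G → ℂ) = m := hθ.2 _ φ.2 hφ
  refine ⟨hφm, ?_⟩
  have hθne : classInner ((φ : G → ℂ) * ω') (θ : G → ℂ) ≠ 0 := by
    rw [key_swap_inner _ ω ω' _ h]
    intro h0
    apply hφ
    have h1 := congrArg conj h0
    simpa using h1
  rcases mul_pure hm hn hmn hcd φ.2 hω' hφm hn' with hp | hp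
  · exact hp
  · exact absurd (hθ.1.symm.trans (hp _ θ.2 hθne)) hmne

theorem key_transfer {m n : ℕ} (hm : 1 < m) (hn : 1 < n) (hmn : Nat.Coprime m n)
    (hcd : ThreeDeg G m n) {ω ω' : G → ℂ} (hω' : IsIrrCharacter G ω')
    (hn' : charDegree ω' = n) (h : ∀ x, ω' x = conj (ω x)) (f : G → ℂ)
    (hf : f ∈ keyV (keyB m ω)) : ω * f ∈ keyV (keyB m ω') := by
  classical
  haveI : Fintype (IrrCharacter G) := Fintype.ofFinite _
  intro φ hφ
  have hc : IsCharacter G (ω' * (φ : G → ℂ)) :=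
    isCharacter_mul (isCharacter_of_irr hω') (IrrCharacter_isCharacter φ)
  have e1 : classInner (ω * f) (φ : G → ℂ) = classInner f (ω' * (φ : G → ℂ)) := by
    rw [mul_comm ω f, pure_classInner_mul_left]
    congr 1
    funext x
    simp only [Pi.mul_apply, h x]
  rw [e1, char_eq_sum_irrMult hc, classInner_sum_right]
  apply Finset.sum_eq_zero
  intro θ _
  rw [classInner_smul_right]
  by_cases hθ : θ ∈ keyB m ω
  · have hz : irrMult (ω' * (φ : G → ℂ)) θ = 0 := by
      by_contra hne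
      apply hφ
      refine key_step hm hn hmn hcd hω' hn' h θ hθ φ ?_
      intro h0
      apply hne
      have h2 : (irrMult (ω' * (φ : G → ℂ)) θ : ℂ) =
          classInner (ω' * (φ : G → ℂ)) (θ : G → ℂ) := irrMult_cast hc θ
      have h3 : classInner (ω' * (φ : G → ℂ)) (θ : G → ℂ) = 0 := by
        rw [mul_comm ω' _, key_swap_inner (φ : G → ℂ) ω ω' (θ : G → ℂ) h, h0, map_zero]
      rw [h3] at h2
      exact_mod_cast h2
    rw [hz]
    simp
  · rw [hf θ hθ, mul_zero]

theorem key_half {m n : ℕ} (hm : 1 < m) (hn : 1 < n)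
    (hmn : Nat.Coprime m n) (hcd : ThreeDeg G m n) {χ ψ : G → ℂ}
    (hχ : IsIrrCharacter G χ) (hψ : IsIrrCharacter G ψ)
    (hχm : charDegree χ = m) (hψn : charDegree ψ = n)
    (hpure : ∀ φ : G → ℂ, IsIrrCharacter G φ → classInner (χ * ψ) φ ≠ 0 → charDegree φ = m)
    (hψZ : ∀ g : G, ‖ψ g‖ = (n : ℝ) → g = 1) : False := by
  classical
  have hcχ := isCharacter_of_irr hχ
  have hcψ := isCharacter_of_irr hψ
  have hχ1 : χ 1 = (m : ℂ) := by rw [← charDegree_cast hcχ, hχm]
  have hψ1 : ψ 1 = (n : ℂ) := by rw [← charDegree_cast hcψ, hψn]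
  set ψc : G → ℂ := fun x => conj (ψ x) with hψc_def
  have hψc : IsIrrCharacter G ψc := pure_isIrrCharacter_conj hψ
  have hψcn : charDegree ψc = n := by
    have h1 : (charDegree ψc : ℂ) = (n : ℂ) := by
      rw [charDegree_cast (isCharacter_of_irr hψc)]
      show conj (ψ 1) = (n : ℂ)
      rw [hψ1, Complex.conj_natCast]
    exact_mod_cast h1
  have hcc : ∀ x, ψ x = conj (ψc x) := by
    intro x
    simp [hψc_def]
  have hmulh : ∀ f ∈ keyV (keyB m ψ), (fun g => conj (ψ g) * ψ g) * f ∈ keyV (keyB m ψ) := by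
    intro f hf
    have h1 := key_transfer hm hn hmn hcd hψc hψcn (fun x => rfl) f hf
    have h2 := key_transfer hm hn hmn hcd hψ hψn hcc (ψ * f) h1
    have e : (fun g => conj (ψ g) * ψ g) * f = ψc * (ψ * f) := by
      funext g
      simp only [Pi.mul_apply, hψc_def]
      ring
    rw [e]
    exact h2
  have hsub : ∀ (c : ℂ) (f : G → ℂ), f ∈ keyV (keyB m ψ) →
      (fun g => conj (ψ g) * ψ g - c) * f ∈ keyV (keyB m ψ) := by
    intro c f hf φ hφ
    have e : (fun g => conj (ψ g) * ψ g - c) * f =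
        (fun g => conj (ψ g) * ψ g) * f - c • f := by
      funext g
      simp only [Pi.mul_apply, Pi.sub_apply, Pi.smul_apply, smul_eq_mul]
      ring
    rw [e, classInner_sub_left, classInner_smul_left, hmulh f hf φ hφ, hf φ hφ]
    ring
  have hprod : ∀ (T : Finset ℂ) (f : G → ℂ), f ∈ keyV (keyB m ψ) →
      (fun g => ∏ v ∈ T, (conj (ψ g) * ψ g - v)) * f ∈ keyV (keyB m ψ) := by
    intro T
    induction T using Finset.induction_on with
    | empty =>
      intro f hf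
      have e : (fun g => ∏ v ∈ (∅ : Finset ℂ), (conj (ψ g) * ψ g - v)) * f = f := by
        funext g
        simp
      rw [e]
      exact hf
    | insert a T ha ih =>
      intro f hf
      have e : (fun g => ∏ v ∈ insert a T, (conj (ψ g) * ψ g - v)) * f =
          (fun g => conj (ψ g) * ψ g - a) *
            ((fun g => ∏ v ∈ T, (conj (ψ g) * ψ g - v)) * f) := by
        funext g
        simp only [Pi.mul_apply]
        rw [Finset.prod_insert ha]
        ring
      rw [e]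
      exact hsub a _ (ih f hf)
  have hχB : (⟨χ, hχ⟩ : IrrCharacter G) ∈ keyB m ψ := ⟨hχm, hpure⟩
  have hχV : χ ∈ keyV (keyB m ψ) := by
    intro φ hφ
    have h1 := irr_orthonormal (⟨χ, hχ⟩ : IrrCharacter G) φ
    rw [if_neg (by rintro rfl; exact hφ hχB)] at h1
    exact h1
  set T : Finset ℂ := (Finset.univ.erase (1 : G)).image (fun g => conj (ψ g) * ψ g) with hT
  have hone : IsIrrCharacter G (fun _ : G => (1 : ℂ)) := isIrrCharacter_one
  have h1notB : (⟨fun _ : G => (1 : ℂ), hone⟩ : IrrCharacter G) ∉ keyB m ψ := by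
    intro hmem
    have h1 : charDegree (fun _ : G => (1 : ℂ)) = m := hmem.1
    have h2 : charDegree (fun _ : G => (1 : ℂ)) = 1 := by
      simp [charDegree]
    omega
  have hδ := hprod T χ hχV ⟨_, hone⟩ h1notB
  rw [classInner_def] at hδ
  have hsum : ∑ g : G, ((fun g => ∏ v ∈ T, (conj (ψ g) * ψ g - v)) * χ) g *
      conj ((fun _ : G => (1 : ℂ)) g) = (∏ v ∈ T, (conj (ψ 1) * ψ 1 - v)) * χ 1 := by
    rw [Finset.sum_eq_single (1 : G)]
    · simp
    · intro g _ hg
      have hmem : conj (ψ g) * ψ g ∈ T := by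
        rw [hT]
        exact Finset.mem_image.2 ⟨g, Finset.mem_erase.2 ⟨hg, Finset.mem_univ _⟩, rfl⟩
      simp only [Pi.mul_apply]
      rw [Finset.prod_eq_zero hmem (sub_self _), zero_mul, zero_mul]
    · intro h
      exact absurd (Finset.mem_univ _) h
  rw [hsum] at hδ
  have hcard : ((Nat.card G : ℂ))⁻¹ ≠ 0 := inv_ne_zero card_ne_zero_complex
  have hχ1ne : χ 1 ≠ 0 := by
    rw [hχ1]
    exact_mod_cast (by omega : m ≠ 0)
  have hprodne : ∏ v ∈ T, (conj (ψ 1) * ψ 1 - v) ≠ 0 := by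
    rw [Finset.prod_ne_zero_iff]
    intro v hv
    rw [hT, Finset.mem_image] at hv
    obtain ⟨g, hg, rfl⟩ := hv
    have hg1 : g ≠ 1 := (Finset.mem_erase.1 hg).1
    intro h0
    apply hg1
    apply hψZ
    have h2 : conj (ψ g) * ψ g = conj (ψ 1) * ψ 1 := (sub_eq_zero.1 h0).symm
    rw [Complex.conj_mul', Complex.conj_mul', hψ1] at h2
    have h3 : ‖ψ g‖ ^ 2 = ‖(n : ℂ)‖ ^ 2 := by exact_mod_cast h2
    have h4 : ‖(n : ℂ)‖ = (n : ℝ) := by simp
    rw [h4] at h3
    have h5 : (0 : ℝ) ≤ ‖ψ g‖ := norm_nonneg _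
    have h6 : (0 : ℝ) ≤ (n : ℝ) := Nat.cast_nonneg n
    nlinarith [sq_nonneg (‖ψ g‖ - n), sq_nonneg (‖ψ g‖ + n)]
  exact (mul_ne_zero hcard (mul_ne_zero hprodne hχ1ne)) hδ

/-- 446021 K-CD3-KEY -/
theorem key_core {m n : ℕ} (hm : 1 < m) (hn : 1 < n)
    (hmn : Nat.Coprime m n) (hcd : ThreeDeg G m n) {χ ψ : G → ℂ}
    (hχ : IsIrrCharacter G χ) (hψ : IsIrrCharacter G ψ)
    (hχm : charDegree χ = m) (hψn : charDegree ψ = n)
    (hχZ : ∀ g : G, ‖χ g‖ = (m : ℝ) → g = 1) (hψZ : ∀ g : G, ‖ψ g‖ = (n : ℝ) → g = 1) : False := by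
  rcases mul_pure hm hn hmn hcd hχ hψ hχm hψn with hp | hp
  · exact key_half hm hn hmn hcd hχ hψ hχm hψn hp hψZ
  · refine key_half hn hm hmn.symm hcd.symm hψ hχ hψn hχm ?_ hχZ
    intro φ hφ hne
    rw [mul_comm] at hne
    exact hp φ hφ hne

end Cfsg.Agent.Lib.Helper94.CD3
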