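import Cfsg.Agent.Lib.Helper94.LCDefs
import Cfsg.Agent.S0375
import Cfsg.Agent.Lib.Helper94.LeechMore
import Cfsg.Agent.Lib.Helper30.LCB1
import Cfsg.Agent.Lib.Helper14.LCB2
import Cfsg.Agent.Lib.Helper89.LCB3
import Cfsg.Agent.Lib.Helper54.LCA1
import Cfsg.Agent.Lib.Helper56.LCA3
import Cfsg.Agent.Lib.Helper18.LCA4a
import Cfsg.Agent.Lib.Helper04.LCA4b
import Cfsg.Agent.Lib.Helper57.LCA6
import Cfsg.Agent.Lib.Helper22.LCA7b
import Cfsg.Agent.Lib.Helper67.LCA8a
import Cfsg.Agent.Lib.Helper85.LCA8c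
import Cfsg.Agent.Lib.Helper51.LCA2
import Cfsg.Agent.Lib.Helper61.LCA5
import Cfsg.Agent.Lib.Helper68.LCA8b

/-! # S0406: final glue of pack K-LC -/

set_option autoImplicit false
open Matrix

namespace Cfsg.Agent.Lib.Helper94.LCMain

open Cfsg Cfsg.Agent.Lib.Helper94.LC

/-- transport of an integer vector along the coordinate bijection and the sign change -/
def T (ε : Fin 24 → ℤ) (σ : Fin 24 ≃ GolayPt) (v : Fin 24 → ℤ) : GolayPt → ℤ :=
  fun p => ε (σ.symm p) * v (σ.symm p)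

lemma T_add (ε : Fin 24 → ℤ) (σ : Fin 24 ≃ GolayPt) (v w : Fin 24 → ℤ) :
    T ε σ (v + w) = T ε σ v + T ε σ w := by
  funext p; simp [T, mul_add]

lemma T_zero (ε : Fin 24 → ℤ) (σ : Fin 24 ≃ GolayPt) : T ε σ 0 = 0 := by
  funext p; simp [T]

lemma sq_eps {ε : Fin 24 → ℤ} (hε : ∀ i, ε i = 1 ∨ ε i = -1) (i : Fin 24) : ε i * ε i = 1 := by
  rcases hε i with h | h <;> rw [h] <;> norm_num

lemma T_inj (ε : Fin 24 → ℤ) (hε : ∀ i, ε i = 1 ∨ ε i = -1) (σ : Fin 24 ≃ GolayPt) (v w : Fin 24 → ℤ)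
    (h : T ε σ v = T ε σ w) : v = w := by
  funext i
  have := congrFun h (σ i)
  simp only [T, Equiv.symm_apply_apply] at this
  have h1 := sq_eps hε i
  calc v i = (ε i * ε i) * v i := by rw [h1, one_mul]
    _ = ε i * (ε i * v i) := by ring
    _ = ε i * (ε i * w i) := by rw [this]
    _ = (ε i * ε i) * w i := by ring
    _ = w i := by rw [h1, one_mul]

lemma sqNorm_T (ε : Fin 24 → ℤ) (hε : ∀ i, ε i = 1 ∨ ε i = -1) (σ : Fin 24 ≃ GolayPt) (v : Fin 24 → ℤ) :
    sqNorm (T ε σ v) = ssq v := by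
  unfold sqNorm ssq T
  rw [← Equiv.sum_comp σ]
  apply Finset.sum_congr rfl
  intro i _
  simp only [Equiv.symm_apply_apply]
  have h1 := sq_eps hε i
  calc (ε i * v i) ^ 2 = (ε i * ε i) * v i ^ 2 := by ring
    _ = v i ^ 2 := by rw [h1, one_mul]

/-- membership transfer -/
lemma T_mem_iff (C : Submodule (ZMod 2) (Fin 24 → ZMod 2)) (ε : Fin 24 → ℤ) (σ : Fin 24 ≃ GolayPt)
    (hσ : ∀ w : GolayPt → ZMod 2, w ∈ golayCode ↔ (fun i => w (σ i)) ∈ C) (v : Fin 24 → ℤ) :
    T ε σ v ∈ leechLattice ↔ (fun i => ε i * v i) ∈ StdLeech C := by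
  rw [Cfsg.Agent.Lib.Helper94.mem_leechLattice_iff]
  have hsum : ∑ p, T ε σ v p = ∑ i, ε i * v i := by
    unfold T
    rw [← Equiv.sum_comp σ]
    apply Finset.sum_congr rfl
    intro i _
    simp only [Equiv.symm_apply_apply]
  constructor
  · rintro ⟨a, c, hc, h, hs⟩
    refine ⟨a, fun i => c (σ i), (hσ c).mp hc, fun i => ?_, ?_⟩
    · have := h (σ i)
      simpa [T] using this
    · rw [← hsum]; exact hs
  · rintro ⟨a, c, hc, h, hs⟩
    refine ⟨a, fun p => c (σ.symm p), ?_, fun p => ?_, ?_⟩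
    · rw [hσ]
      convert hc using 1
      funext i; simp
    · have := h (σ.symm p)
      simpa [T] using this
    · rw [hsum]; exact hs

theorem main (B : Matrix (Fin 24) (Fin 24) ℤ) (h : Hyp B) :
    ∃ f : (Fin 24 → ℤ) ≃+ Cfsg.leechLattice, ∀ x : Fin 24 → ℤ,
      Cfsg.sqNorm ((f x : Cfsg.leechLattice) : Cfsg.GolayPt → ℤ) = 8 * (x ⬝ᵥ (B *ᵥ x)) := by
  obtain ⟨e, he⟩ := Cfsg.Agent.Lib.Helper30.LC.exists_frame B h
  have hP := Cfsg.Agent.Lib.Helper14.LC.parseval B h.hsymm e he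
  set L := (coord B e).range with hLdef
  have hL : CoordLattice L := Cfsg.Agent.Lib.Helper89.LC.coordLattice_of_frame B h e he hP
  obtain ⟨hG, hodd⟩ := Cfsg.Agent.Lib.Helper57.LC.golayType_and_odd_of L hL
    (fun w hw hw0 => Cfsg.Agent.Lib.Helper54.LC.code_weight L hL w hw hw0)
    (fun h4 => Cfsg.Agent.Lib.Helper51.LC.orth_of_doubly_even (codeOf L) h4)
    (fun ho => Cfsg.Agent.Lib.Helper51.LC.finrank_le_of_orth (codeOf L) ho)
    (fun hm => Cfsg.Agent.Lib.Helper56.LC.card_weight8_le (codeOf L) hm)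
    Cfsg.Agent.Lib.Helper18.LC.card_div4_min_le
    (fun hm => Cfsg.Agent.Lib.Helper04.LC.card_octad_min_le L hL hm)
    (Cfsg.Agent.Lib.Helper61.LC.card_odd_min_le L hL)
  obtain ⟨ε, hε, hsum⟩ := Cfsg.Agent.Lib.Helper22.LC.sign_normalize L hL hG.h4
  have hstd : ∀ x ∈ L, (fun i => ε i * x i) ∈ StdLeech (codeOf L) := by
    intro x hx
    by_cases h0 : (2 : ℤ) ∣ x 0
    · apply Cfsg.Agent.Lib.Helper67.LC.std_of_mem_even L hL ε hε hsum x hx
      intro i
      have := hL.hpar x hx 0 i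
      have h2 : x i = x 0 - (x 0 - x i) := by ring
      rw [h2]; exact dvd_sub h0 this
    · apply Cfsg.Agent.Lib.Helper68.LC.std_of_mem_odd L hL hG ε hε hsum x hx
      intro i hi
      apply h0
      have := hL.hpar x hx 0 i
      have h2 : x 0 = (x 0 - x i) + x i := by ring
      rw [h2]; exact dvd_add this hi
  have hmem : ∀ x : Fin 24 → ℤ, (fun i => ε i * x i) ∈ StdLeech (codeOf L) → x ∈ L :=
    fun x hx => Cfsg.Agent.Lib.Helper85.LC.mem_of_std L hL hG hodd ε hε hsum hstd x hx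
  obtain ⟨σ, hσ⟩ := Cfsg.Agent.S0375.result (codeOf L) hG.hdim hG.horth hG.h4 hG.hno4
  -- injectivity of the coordinates
  have hcinj : Function.Injective (coord B e) := by
    intro x y hxy
    by_contra hne
    have hd : x - y ≠ 0 := sub_ne_zero.mpr hne
    have h0 : coord B e (x - y) = 0 := by rw [map_sub, hxy, sub_self]
    have h1 := hP (x - y)
    rw [h0] at h1
    have h2 : ssq (0 : Fin 24 → ℤ) = 0 := by simp [ssq]
    rw [h2] at h1
    have h3 := h.hpos (x - y) hd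
    have h4 : bf B (x - y) (x - y) = (x - y) ⬝ᵥ (B *ᵥ (x - y)) := rfl
    omega
  -- the map
  have hF : ∀ x : Fin 24 → ℤ, T ε σ (coord B e x) ∈ leechLattice := by
    intro x
    rw [T_mem_iff (codeOf L) ε σ hσ]
    exact hstd _ ⟨x, rfl⟩
  let F : (Fin 24 → ℤ) →+ leechLattice :=
    { toFun := fun x => ⟨T ε σ (coord B e x), hF x⟩
      map_zero' := by
        apply Subtype.ext
        show T ε σ (coord B e 0) = 0
        rw [map_zero, T_zero]
      map_add' := by
        intro x y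
        apply Subtype.ext
        show T ε σ (coord B e (x + y)) = T ε σ (coord B e x) + T ε σ (coord B e y)
        rw [map_add, T_add] }
  have hFinj : Function.Injective F := by
    intro x y hxy
    have h1 : T ε σ (coord B e x) = T ε σ (coord B e y) := congrArg Subtype.val hxy
    exact hcinj (T_inj ε hε σ _ _ h1)
  have hFsurj : Function.Surjective F := by
    rintro ⟨y, hy⟩
    set v : Fin 24 → ℤ := fun i => ε i * y (σ i) with hv
    have hTv : T ε σ v = y := by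
      funext p
      simp only [T, hv, Equiv.apply_symm_apply]
      rw [← mul_assoc, sq_eps hε, one_mul]
    have hvL : v ∈ L := by
      apply hmem
      rw [← T_mem_iff (codeOf L) ε σ hσ, hTv]
      exact hy
    obtain ⟨x, hx⟩ := hvL
    refine ⟨x, ?_⟩
    apply Subtype.ext
    show T ε σ (coord B e x) = y
    rw [hx, hTv]
  refine ⟨AddEquiv.ofBijective F ⟨hFinj, hFsurj⟩, fun x => ?_⟩
  show sqNorm (T ε σ (coord B e x)) = 8 * (x ⬝ᵥ (B *ᵥ x))
  rw [sqNorm_T ε hε σ, hP x]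
  rfl

end Cfsg.Agent.Lib.Helper94.LCMain
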