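import Mathlib
import Cfsg.Agent.Lib.Helper94.LeechC3f
import Cfsg.Agent.Lib.Helper94.LeechML6
import Cfsg.Agent.Lib.Helper94.LeechCensus

/-! The 47104 vectors of sum of squares 32 having inner product `-8` with `(4, 4, 0, …)`, and the
action of the stabiliser of `(5, 1^23)` and `(4, 4, 0, …)` on them: two of the classes. -/

set_option autoImplicit false

namespace Cfsg.Agent.Lib.Helper94

open Cfsg
open Cfsg.Agent.Lib.Helper95

/-- The vectors of sum of squares 32 having inner product `-8` with the standard vector. -/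
def co2Set : Set (GolayPt → ℤ) := {x | x ∈ leechLattice ∧ sqNorm x = 32 ∧ dotInt oa x = -8}

/-- The base point `(1, -3, 1, …, 1)`. -/
def w0 : GolayPt → ℤ := oneVec {some 0} (-3)

lemma w0_memL : w0 ∈ leechLattice := oneVec_neg3_mem (some 0)

lemma sqNorm_w0 : sqNorm w0 = 32 := by
  unfold w0
  rw [sqNorm_oneVec, Finset.card_singleton]; norm_num

lemma u5_sub_oa : u5 - oa = w0 := by
  unfold u5 oa w0 twoVec
  ext p
  simp only [Pi.sub_apply, Pi.add_apply, Pi.single_apply, oneVec_apply, Finset.mem_singleton]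
  by_cases h1 : p = none
  · subst h1; simp
  · by_cases h2 : p = some 0
    · subst h2; simp
    · simp [h1, h2]

lemma oa_add_w0 : oa + w0 = u5 := by rw [← u5_sub_oa]; abel

lemma w0_none : w0 none = 1 := by
  unfold w0; rw [oneVec_apply, if_neg (by decide)]

lemma w0_zero : w0 (some 0) = -3 := by
  unfold w0; rw [oneVec_apply, if_pos (Finset.mem_singleton_self _)]

lemma sum_w0 : ∑ q, w0 q = 20 := by
  unfold w0; rw [sum_oneVec, Finset.card_singleton]; norm_num

lemma dotInt_oa_w0 : dotInt oa w0 = -8 := by rw [dotInt_oa, w0_none, w0_zero]; norm_num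

lemma dotInt_u5_w0 : dotInt u5 w0 = 24 := by rw [dotInt_u5, sum_w0, w0_none]; norm_num

lemma w0_mem_co2Set : w0 ∈ co2Set := ⟨w0_memL, sqNorm_w0, dotInt_oa_w0⟩

lemma dotInt_w0 (x : GolayPt → ℤ) : dotInt w0 x = dotInt u5 x - dotInt oa x := by
  rw [← u5_sub_oa, dotInt_comm', dotInt_sub_right', dotInt_comm' x u5, dotInt_comm' x oa]

/-- The values of the inner product with `(5, 1^23)` on the set. -/
lemma co2_dot_vals (x : GolayPt → ℤ) (hx : x ∈ co2Set) :
    (x = w0 ∧ dotInt u5 x = 24) ∨ dotInt u5 x = 8 ∨ dotInt u5 x = 0 ∨ dotInt u5 x = -8 ∨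
      dotInt u5 x = -16 ∨ dotInt u5 x = -24 := by
  obtain ⟨hxL, nx, hax⟩ := hx
  have hw := dotInt_w0 x
  rw [hax] at hw
  rcases dot_vals w0 x w0_memL sqNorm_w0 hxL nx with h | h | h | h | h | h | h
  · left; exact ⟨h.2, by omega⟩
  · exfalso
    have := h.2
    rw [this, dotInt_neg_right', dotInt_oa_w0] at hax
    norm_num at hax
  all_goals omega

lemma Conj3.sub12 {x y z x' y' z' : GolayPt → ℤ} (h : Conj3 x y z x' y' z') :
    Conj3 y z (x - y) y' z' (x' - y') := by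
  obtain ⟨g, hg, hx, hy, hz, h1, h2, h3⟩ := h
  have hm : x - y ∈ leechLattice := leechLattice.sub_mem hx hy
  refine ⟨g, hg, hy, hz, hm, h2, h3, ?_⟩
  have : (⟨x - y, hm⟩ : leechLattice) = ⟨x, hx⟩ - ⟨y, hy⟩ := rfl
  rw [this, co0_sub g hg, ← h1, ← h2]
  rfl

lemma Conj3.add12 {x y z x' y' z' : GolayPt → ℤ} (h : Conj3 x y z x' y' z') :
    Conj3 x y (x + y) x' y' (x' + y') := by
  obtain ⟨g, hg, hx, hy, hz, h1, h2, h3⟩ := h
  have hm : x + y ∈ leechLattice := leechLattice.add_mem hx hy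
  refine ⟨g, hg, hx, hy, hm, h1, h2, ?_⟩
  have : (⟨x + y, hm⟩ : leechLattice) = ⟨x, hx⟩ + ⟨y, hy⟩ := rfl
  rw [this, hg.1, ← h1, ← h2]
  rfl

/-- Extending an orbit relation on pairs to triples. -/
lemma conj3_of_conj2 {x y x' y' z : GolayPt → ℤ} (h : Conj2 x y x' y') (hz : z ∈ leechLattice) :
    ∃ z', Conj3 x y z x' y' z' := by
  obtain ⟨g, hg, hx, hy, h1, h2⟩ := h
  exact ⟨_, g, hg, hx, hy, hz, h1, h2, rfl⟩

/-- A vector of sum of squares 32 with first entry 2 and inner product 24 with `(5, 1^23)`. -/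
lemma shape_two_at_none (a : GolayPt → ℤ) (ha : a ∈ leechLattice) (na : sqNorm a = 32)
    (h2 : a none = 2) (hd : dotInt u5 a = 24) :
    ∃ o ∈ codeSupps 8, none ∈ o ∧ a = pmVec 2 o ∅ := by
  rw [dotInt_u5] at hd
  rcases mem_I_of_norm32 a ha na with h | h | h
  · exfalso
    obtain ⟨p, c, hc, hxe, h3, h1'⟩ := I1_abs a h
    by_cases hp : none = p
    · rw [← hp, h2] at h3
      norm_num at h3
    · have := h1' none hp
      rw [h2] at this
      norm_num at this
  · obtain ⟨s, t, hs, hts, hte, rfl⟩ := (Cfsg.Agent.S0394.mem_I2 _).mp h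
    have hcard := card_of_codeSupps hs
    have hsum := sum_pmVec 2 hts
    rw [hcard] at hsum
    rw [hsum, h2] at hd
    push_cast at hd
    have ht0 : t = ∅ := by
      have : t.card = 0 := by omega
      exact Finset.card_eq_zero.mp this
    subst ht0
    have hns : none ∈ s :=
      (pmVec_ne_zero_iff (a := 2) (by norm_num) hts none).mp (by rw [h2]; norm_num)
    exact ⟨s, hs, hns, rfl⟩
  · exfalso
    obtain ⟨s, t, hs, hts, -, rfl⟩ := (Cfsg.Agent.S0394.mem_I3 _).mp h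
    rcases pmVec_abs 4 s t none with h' | h' | h' <;> omega

/-- Normal form of the vectors of the class `-8`. -/
lemma co2_m8_normal (x : GolayPt → ℤ) (hx : x ∈ co2Set) (h : dotInt u5 x = -8) :
    ∃ o ∈ codeSupps 8, none ∈ o ∧ Conj3 u5 oa x u5 (pmVec 2 o ∅) (vec8 none - u5) := by
  obtain ⟨hxL, nx, hax⟩ := hx
  have hfL : u5 + x ∈ leechLattice := leechLattice.add_mem u5_memL hxL
  have nf : sqNorm (u5 + x) = 64 := by rw [sqNorm_add, sqNorm_u5, nx, h]; norm_num
  have c1 := conj_norm64 (u5 + x) hfL nf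
  rw [e8_eq_vec8] at c1
  obtain ⟨u1, a1, c3⟩ := conj3_of_conj c1 u5_memL oa_mem
  have hu1L := c3.c12.right.mem_right
  have ha1L := c3.c13.right.mem_right
  have nu1 : sqNorm u1 = 48 := by rw [c3.c12.right.sqNorm_eq, sqNorm_u5]
  have d1 : dotInt (vec8 none) u1 = 40 := by
    rw [c3.c12.dot_eq, dotInt_add_left', dotInt_self, sqNorm_u5, dotInt_comm', h]; norm_num
  rw [dotInt_vec8_left] at d1
  have e1 : u1 none = 5 := by omega
  obtain ⟨c, hc, hc0, hu1e⟩ := eq_of_entry_five u1 hu1L nu1 none e1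
  have c4 := conj3_sign hc (vec8_mem none) hu1L ha1L
  have hu2 : signVec c u1 = u5 := by rw [hu1e, signVec_signVec]; rfl
  rw [hu2, signVec_vec8 hc0] at c4
  have c5 : Conj3 (u5 + x) u5 oa (vec8 none) u5 (signVec c a1) := c3.trans c4
  have ha2L := c5.c13.right.mem_right
  have na2 : sqNorm (signVec c a1) = 32 := by rw [c5.c13.right.sqNorm_eq, sqNorm_oa]
  have d2 : dotInt (vec8 none) (signVec c a1) = 16 := by
    rw [c5.c13.dot_eq, dotInt_add_left', dotInt_u5_oa, dotInt_comm', hax]; norm_num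
  rw [dotInt_vec8_left] at d2
  have e2 : signVec c a1 none = 2 := by omega
  have d3 : dotInt u5 (signVec c a1) = 24 := by rw [c5.c23.dot_eq, dotInt_u5_oa]
  obtain ⟨o, ho, hno, ha2⟩ := shape_two_at_none _ ha2L na2 e2 d3
  rw [ha2] at c5
  have c6 := c5.sub12
  rw [add_sub_cancel_left] at c6
  exact ⟨o, ho, hno, c6⟩

lemma permVec_sub (σ : Equiv.Perm GolayPt) (x y : GolayPt → ℤ) :
    permVec σ (x - y) = permVec σ x - permVec σ y := by
  ext p; rfl

/-- The stabiliser of the standard pair is transitive on the class `-8`. -/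
theorem co2_cls_m8 (x x' : GolayPt → ℤ) (hx : x ∈ co2Set) (hx' : x' ∈ co2Set)
    (h : dotInt u5 x = -8) (h' : dotInt u5 x' = -8) : Conj3 u5 oa x u5 oa x' := by
  classical
  obtain ⟨o, ho, hno, c1⟩ := co2_m8_normal x hx h
  obtain ⟨o', ho', hno', c2⟩ := co2_m8_normal x' hx' h'
  have hsmall : (insert none (o ∪ o')).card < 24 := by
    have h1 := Finset.card_insert_le (none : GolayPt) (o ∪ o')
    have h2 := Finset.card_union_le o o'
    rw [card_of_codeSupps ho, card_of_codeSupps ho'] at h2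
    omega
  obtain ⟨b, hb⟩ := exists_notMem_of_small _ hsmall
  rw [Finset.mem_insert, Finset.mem_union] at hb
  push Not at hb
  obtain ⟨σ, hσ, s1, s2, s3⟩ := pp_trans (Or.inl rfl) (a := none) (b := b) (Ne.symm hb.1) ho ho'
    ⟨fun _ => hno', fun _ => hno⟩ ⟨fun hh => absurd hh hb.2.1, fun hh => absurd hh hb.2.2⟩
  have hpL : pmVec 2 o ∅ ∈ leechLattice := c1.c12.right.mem_right
  have hvL : vec8 none - u5 ∈ leechLattice := c1.c13.right.mem_right
  have c3 := conj3_perm hσ u5_memL hpL hvL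
  rw [permVec_u5 s1, permVec_pmVec, s3, Finset.image_empty, permVec_sub, permVec_vec8, s1,
    permVec_u5 s1] at c3
  exact (c1.trans c3).trans c2.symm

/-- The stabiliser of the standard pair is transitive on the class `-16`. -/
theorem co2_cls_m16 (x x' : GolayPt → ℤ) (hx : x ∈ co2Set) (hx' : x' ∈ co2Set)
    (h : dotInt u5 x = -16) (h' : dotInt u5 x' = -16) : Conj3 u5 oa x u5 oa x' := by
  have key : ∀ y : GolayPt → ℤ, y ∈ co2Set → dotInt u5 y = -16 →
      ∃ y1, y1 ∈ c3Set ∧ dotInt ob y1 = -8 ∧ Conj3 (u5 + y) oa w0 u5 ob y1 := by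
    intro y hy hyu
    obtain ⟨hyL, ny, hay⟩ := hy
    have hfL : u5 + y ∈ leechLattice := leechLattice.add_mem u5_memL hyL
    have nf : sqNorm (u5 + y) = 48 := by rw [sqNorm_add, sqNorm_u5, ny, hyu]; norm_num
    have hoa : oa ∈ {z : GolayPt → ℤ | z ∈ leechLattice ∧ sqNorm z = 32 ∧
        dotInt (u5 + y) z = 16} := by
      refine ⟨oa_mem, sqNorm_oa, ?_⟩
      rw [dotInt_add_left', dotInt_u5_oa, dotInt_comm', hay]; norm_num
    obtain ⟨b1, y0, c3⟩ := conj3_of_conj (conj_u5 (u5 + y) hfL nf) oa_mem w0_memL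
    have hb1 : b1 ∈ c3Set := by
      refine ⟨c3.c12.right.mem_right, by rw [c3.c12.right.sqNorm_eq, sqNorm_oa], ?_⟩
      rw [c3.c12.dot_eq]
      exact hoa.2.2
    obtain ⟨y1, c4⟩ := conj3_of_conj2 (conj2_c3 b1 hb1) c3.c13.right.mem_right
    have c5 : Conj3 (u5 + y) oa w0 u5 ob y1 := c3.trans c4
    refine ⟨y1, ⟨c5.c13.right.mem_right, by rw [c5.c13.right.sqNorm_eq, sqNorm_w0], ?_⟩, ?_, c5⟩
    · rw [c5.c13.dot_eq, dotInt_add_left', dotInt_u5_w0, dotInt_comm', dotInt_w0, hyu, hay]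
      norm_num
    · rw [c5.c23.dot_eq, dotInt_oa_w0]
  obtain ⟨y1, hy1, d1, c1⟩ := key x hx h
  obtain ⟨y1', hy1', d1', c1'⟩ := key x' hx' h'
  have hne : ∀ z : GolayPt → ℤ, dotInt ob z = -8 → z ≠ ob := by
    rintro z hz rfl
    rw [dot_ob_ob''] at hz
    norm_num at hz
  have c2 := c3_rank5 y1 y1' hy1 hy1' (hne _ d1) (hne _ d1') (d1.trans d1'.symm)
  -- reorder: `(u5, ob, y1)` to `(u5, ob, y1')`
  have c3 : Conj3 (u5 + x) oa w0 (u5 + x') oa w0 := (c1.trans c2).trans c1'.symm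
  -- the image of `u5 = oa + w0` and of `x`
  obtain ⟨g, hg, hf, ha, hw, g1, g2, g3⟩ := c3
  have g4 : ((g ⟨u5, u5_memL⟩ : leechLattice) : GolayPt → ℤ) = u5 := by
    have : (⟨u5, u5_memL⟩ : leechLattice) = ⟨oa, ha⟩ + ⟨w0, hw⟩ := Subtype.ext oa_add_w0.symm
    rw [this, hg.1]
    show ((g ⟨oa, ha⟩ : leechLattice) : GolayPt → ℤ) + ((g ⟨w0, hw⟩ : leechLattice) : GolayPt → ℤ)
      = u5
    rw [g2, g3, oa_add_w0]
  refine ⟨g, hg, u5_memL, ha, hx.1, g4, g2, ?_⟩
  have : (⟨x, hx.1⟩ : leechLattice) = ⟨u5 + x, hf⟩ - ⟨u5, u5_memL⟩ :=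
    Subtype.ext (by show x = u5 + x - u5; abel)
  rw [this, co0_sub g hg]
  show ((g ⟨u5 + x, hf⟩ : leechLattice) : GolayPt → ℤ) -
    ((g ⟨u5, u5_memL⟩ : leechLattice) : GolayPt → ℤ) = x'
  rw [g1, g4]
  abel

end Cfsg.Agent.Lib.Helper94
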