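import Mathlib
import Cfsg.Agent.Lib.Helper94.LeechCo2a

/-! A mask check: for every dodecad through the two base points and every further point of it,
an octad avoiding the two base points, through that point, meeting the dodecad in two points. -/

set_option autoImplicit false

namespace Cfsg.Agent.Lib.Helper94

open Cfsg
open Cfsg.Agent.Lib.Helper95

/-- The masks of the octads avoiding the two base points. -/
def octAvoid : List ℕ := [4845570, 7221256, 2605066, 5210132, 421910, 2207772, 6832158, 6475812, 2826278, 843820, 4526126, 2969648, 6594610, 4415544, 692282, 3698756, 7438406, 5652556, 4063314, 1687640, 5255258, 5939296, 1265762, 3444840, 1384564, 2019456, 5709954, 7397512, 3739786, 5329044, 1613974, 8126628, 1192108, 3375280, 1327290, 2531524, 4755660, 90318, 6889680, 2150610, 463064, 4485344, 884962, 2769128, 4325622, 4038912, 7622914, 5476616, 1728778, 7479572, 1839388, 1474854, 3227948, 1110320, 5833010, 381252, 4989254, 2232654, 4870480, 237906, 2384216, 6750560, 602472, 4243818, 2654580, 2322816, 6979970, 5063048, 307594, 2425238, 180636, 4301220, 545190, 926128, 6295992, 1769924,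 5538256, 3154402, 8077824, 3322370, 1405448, 6062602, 3457556, 1245726, 1675812, 5268006, 5640752, 3678776, 4403780, 705094, 2949708, 832080, 4538962, 6455896, 2220640, 6820450, 402026, 21116, 6656640, 2908802, 762504, 4346506, 2757268, 4465308, 475812, 2130606, 4768432, 78514, 1315526, 1204944, 5309160, 4645632, 987906, 2675464, 6365962, 615188, 4231958, 2372388, 4850476, 2245426, 361272, 1090380, 3216208, 1852256, 5780352, 1164162, 3539848, 6308804, 525274, 168928, 6644740, 2921478, 742412, 4367374, 2810896, 6493202, 4510744, 861210, 504864, 5129250, 6915112, 2126890, 4731956, 115766, 2491452, 6100032, 1369154, 3351624, 1217620, 1573998, 7357552, 3294342, 1410188, 3421328, 5899416, 1664160, 5280930, 4441280, 668866, 6554826, 804052, 2168036, 42232, 5817604, 1127686, 1525008, 3179802, 3806496, 5514536, 6337856, 2704706, 951624, 4261212, 157028, 267634, 4593028, 2631052, 628112, 4220306, 2409888, 198058, 1070536, 1975812, 7345676, 5350928, 1594898, 3474978, 1230376, 2512448, 4744776, 104010, 2106966, 4490852, 722544, 63108, 4785798, 427666, 2180760, 6432416, 792232, 3704512, 2328324, 280334, 7079696,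 145176, 4282144, 567074, 5375810, 1050548, 337856, 3610628, 5842956, 1103886, 7903248, 3237906, 1484824, 5621792, 1849378, 7473194, 1722420, 1009728, 4626498, 6379592, 2664522, 4253780, 596054, 2377830, 231532, 2242672, 4982904, 2738308, 6305926, 919694, 6703248, 555160, 4294810, 4921504, 190626, 2435240, 301236, 1161408, 5785794, 3147996, 702724, 4409606, 6588684, 4536592, 837906, 2820376, 6842656, 2201890, 416040, 10558, 3328320, 1378634, 5249380, 1337732, 1186194, 1608104, 2890176, 4336072, 84464, 5003780, 371206, 2255372, 252432, 4860434, 2365978, 3050016, 4241960, 608810, 6359604, 7612992, 1710664, 1084018, 5409412, 1903248, 3168928, 2296514, 314056, 535268, 3672838, 5262104, 1256224, 4819776, 31554, 396116, 72588, 2141072, 4459426, 5405696, 1805314, 3951624, 5508118, 3189796, 1121336, 6949956, 277580, 2460752, 150618, 580704, 4271202, 5024896, 351362, 2268296, 208020, 4213932, 2624690, 1445088, 2501890, 126216, 4726026, 2120980, 855332, 4361520, 1584464, 7409024, 36294, 2702848, 6344194, 4656648, 560668, 138790, 290352, 1134148, 1060490, 4202192, 1351424, 2101096, 675712]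

theorem octAvoid_ok : octAvoid.all (fun o => Cfsg.Agent.Lib.Helper10.enc o == o &&
    Cfsg.Agent.Lib.Helper35.popc 24 o == 8 && !o.testBit 23 && !o.testBit 0 &&
    decide (o < 2 ^ 24)) = true := by
  decide +kernel

/-- The mask check for one dodecad. -/
def dodOctAll (m : ℕ) : Bool :=
  !(Cfsg.Agent.Lib.Helper35.popc 24 m == 12 && m.testBit 23 && m.testBit 0) ||
    (List.range 24).all fun p => !(m.testBit p && p != 23 && p != 0) ||
      octAvoid.any fun o => o.testBit p && Cfsg.Agent.Lib.Helper35.popc 24 (o &&& m) == 2

theorem dodOctAll_ok :
    (List.range 4096).all (fun k => dodOctAll (Cfsg.Agent.Lib.Helper10.enc k)) = true := by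
  decide +kernel

end Cfsg.Agent.Lib.Helper94
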