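import Mathlib
import Cfsg.Agent.Lib.Helper94.LeechCo2a

/-! Auxiliary octads for the class of the vectors orthogonal to `(5, 1^23)`. -/

set_option autoImplicit false

namespace Cfsg.Agent.Lib.Helper94

open Cfsg
open Cfsg.Agent.Lib.Helper95

/-- An octad meeting a given octad exactly in a given set of four points and avoiding a given
outside point. -/
lemma exists_octad_inter_eq {o : Finset GolayPt} (ho : o ∈ codeSupps 8) {S : Finset GolayPt}
    (hSo : S ⊆ o) (hS : S.card = 4) {p : GolayPt} (hp : p ∉ o) :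
    ∃ o' ∈ codeSupps 8, o ∩ o' = S ∧ p ∉ o' := by
  classical
  have hoS : o ∈ octThrough S := (mem_octThrough S o).mpr ⟨ho, hSo⟩
  have hpS : p ∉ S := fun h => hp (hSo h)
  set E := (octThrough S).erase o with hE
  have hEc : E.card = 4 := by rw [hE, Finset.card_erase_of_mem hoS, card_octThrough_four S hS]
  have hle : (E.filter fun o' => p ∈ o').card ≤ 1 := by
    rw [← card_octThrough_five (insert p S) (by rw [Finset.card_insert_of_notMem hpS, hS])]
    apply Finset.card_le_card
    intro o' ho'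
    rw [Finset.mem_filter, hE, Finset.mem_erase, mem_octThrough] at ho'
    rw [mem_octThrough]
    exact ⟨ho'.1.2.1, Finset.insert_subset ho'.2 ho'.1.2.2⟩
  have hsum := Finset.card_filter_add_card_filter_not (s := E) (fun o' => p ∈ o')
  have h2 : 0 < (E.filter fun o' => ¬ p ∈ o').card := by omega
  obtain ⟨o1, ho1⟩ := Finset.card_pos.mp h2
  rw [Finset.mem_filter, hE, Finset.mem_erase] at ho1
  exact ⟨o1, ((mem_octThrough S o1).mp ho1.1.2).1,
    inter_eq_of_four hS hoS ho1.1.2 (Ne.symm ho1.1.1), ho1.2⟩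

lemma pmVec_mem_mlSet {o : Finset GolayPt} (ho : o ∈ codeSupps 8) (h1 : none ∉ o)
    (h2 : some 0 ∉ o) : pmVec 2 o ∅ ∈ mlSet := by
  apply mlB_sub
  unfold mlB
  rw [Finset.mem_image]
  exact ⟨o, Finset.mem_filter.mpr ⟨ho, h1, h2⟩, rfl⟩

/-- Inner product of two octad vectors meeting in four points with equal signs. -/
lemma dot_pm_inter {s t o' S : Finset GolayPt} (hts : t ⊆ s) (h : s ∩ o' = S) (hS : S ⊆ s \ t)
    (hc : S.card = 4) : dotInt (pmVec 2 o' ∅) (pmVec 2 s t) = 16 := by
  classical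
  rw [dotInt_pmVec_two]
  have h1 : ∀ q ∈ o', pmVec 2 s t q = if q ∈ S then 2 else 0 := by
    intro q hq
    rw [pmVec_apply]
    by_cases hqS : q ∈ S
    · have := Finset.mem_sdiff.mp (hS hqS)
      rw [if_neg this.2, if_pos this.1, if_pos hqS]
    · have hqs : q ∉ s := fun hqs => hqS (by rw [← h]; exact Finset.mem_inter.mpr ⟨hqs, hq⟩)
      have hqt : q ∉ t := fun hqt => hqs (hts hqt)
      rw [if_neg hqt, if_neg hqs, if_neg hqS]
  rw [Finset.sum_congr rfl h1, Finset.sum_ite_mem, Finset.sum_const]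
  have h2 : o' ∩ S = S := by
    apply Finset.inter_eq_right.mpr
    rw [← h]
    exact Finset.inter_subset_right
  rw [h2, hc]
  norm_num

/-- The signs of a code word as an indicator. -/
lemma sgnOf_eq_ite (c : GolayPt → ZMod 2) (q : GolayPt) :
    sgnOf c q = if q ∈ bsupp c then -1 else 1 := by
  by_cases h : q ∈ bsupp c
  · rw [if_pos h, sgnOf_one ((mem_bsupp c q).mp h)]
  · rw [if_neg h, sgnOf_zero ((notMem_bsupp c q).mp h)]

lemma sum_sign_over (o' S : Finset GolayPt) :
    ∑ q ∈ o', (if q ∈ S then (-1 : ℤ) else 1) = (o'.card : ℤ) - 2 * ((o' ∩ S).card : ℤ) := by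
  classical
  have h1 : ∀ q ∈ o', (if q ∈ S then (-1 : ℤ) else 1) = 1 - (if q ∈ S then 2 else 0) := by
    intro q _
    split_ifs <;> norm_num
  rw [Finset.sum_congr rfl h1, Finset.sum_sub_distrib, Finset.sum_ite_mem, Finset.sum_const,
    Finset.sum_const]
  simp only [nsmul_eq_mul, mul_one]
  ring

/-- The sum of the entries of a vector of odd type over a set. -/
lemma sum_oddv_over (c : GolayPt → ZMod 2) (p : GolayPt) (o' : Finset GolayPt) :
    ∑ q ∈ o', signVec c (oneVec {p} (-3)) q =
      (o'.card : ℤ) - 2 * ((o' ∩ bsupp c).card : ℤ) + (if p ∈ o' then -4 * sgnOf c p else 0) := by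
  classical
  have h1 : ∀ q ∈ o', signVec c (oneVec {p} (-3)) q =
      (if q ∈ bsupp c then (-1 : ℤ) else 1) + (if q = p then -4 * sgnOf c p else 0) := by
    intro q _
    rw [signVec_apply, oneVec_apply, sgnOf_eq_ite]
    by_cases hq : q = p
    · subst hq
      rw [if_pos (Finset.mem_singleton_self _), if_pos rfl, sgnOf_eq_ite]
      ring
    · rw [if_neg (show q ∉ ({p} : Finset GolayPt) by simpa using hq), if_neg hq]
      ring
  rw [Finset.sum_congr rfl h1, Finset.sum_add_distrib, sum_sign_over, Finset.sum_ite_eq']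

end Cfsg.Agent.Lib.Helper94
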