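import Mathlib
import Cfsg.Agent.Lib.Helper94.LeechCo2b
import Cfsg.Agent.Lib.Helper94.LeechCo2Dod

/-! The class of the vectors orthogonal to `(5, 1^23)` among the 47104 vectors: transitivity of
the stabiliser of the standard pair. -/

set_option autoImplicit false

namespace Cfsg.Agent.Lib.Helper94

open Cfsg
open Cfsg.Agent.Lib.Helper95

open Cfsg.Agent.Lib.Helper35 Cfsg.Agent.Lib.Helper10 in
/-- For a dodecad through the two base points and a further point of it: an octad avoiding the
base points, through that point, meeting the dodecad in two points. -/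
lemma exists_octad_dod {S : Finset GolayPt} (hS : S ∈ codeSupps 12) (h1 : none ∈ S)
    (h0 : some 0 ∈ S) {p : GolayPt} (hp : p ∈ S) (hpn : p ≠ none) (hp0 : p ≠ some 0) :
    ∃ o ∈ codeSupps 8, none ∉ o ∧ some 0 ∉ o ∧ p ∈ o ∧ (o ∩ S).card = 2 := by
  classical
  obtain ⟨hsup, hcard⟩ := (mem_codeSupps_iff_supports 12 S).mp hS
  have h := forall_supports_bool dodOctAll dodOctAll_ok S hsup
  have e1 : (gmask S).testBit 23 = true := by
    have : (gmask S).testBit 23 = decide ((none : GolayPt) ∈ S) :=
      testBit_maskOf_idx idx_injective S none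
    rw [this]; simpa using h1
  have e0 : (gmask S).testBit 0 = true := by
    have : (gmask S).testBit 0 = decide ((some 0 : GolayPt) ∈ S) :=
      testBit_maskOf_idx idx_injective S (some 0)
    rw [this]; simpa using h0
  have ec : popc 24 (gmask S) = 12 := by rw [← card_eq_popc_gmask, hcard]
  unfold dodOctAll at h
  rw [Bool.or_eq_true] at h
  rcases h with h | h
  · exfalso
    rw [ec, e1, e0] at h
    simp at h
  · rw [List.all_eq_true] at h
    have h2 := h (idx p) (List.mem_range.mpr (idx_lt p))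
    rw [Bool.or_eq_true] at h2
    have ep : (gmask S).testBit (idx p) = true := by
      rw [testBit_maskOf_idx idx_injective S p]; simpa using hp
    have n23 : idx p ≠ 23 := fun hh => hpn (idx_injective (a₁ := p) (a₂ := none) hh)
    have n0 : idx p ≠ 0 := fun hh => hp0 (idx_injective (a₁ := p) (a₂ := some 0) hh)
    rcases h2 with h2 | h2
    · exfalso
      rw [ep] at h2
      simp [n23, n0] at h2
    · rw [List.any_eq_true] at h2
      obtain ⟨o, ho, hcond⟩ := h2
      rw [Bool.and_eq_true, beq_iff_eq] at hcond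
      have hok := List.all_eq_true.mp octAvoid_ok o ho
      simp only [Bool.and_eq_true, beq_iff_eq, Bool.not_eq_true', decide_eq_true_eq] at hok
      obtain ⟨⟨⟨⟨he, hw⟩, hb23⟩, hb0⟩, hlt⟩ := hok
      have hg : gmask (setOfMask o) = o := gmask_setOfMask hlt
      refine ⟨setOfMask o, ?_, ?_, ?_, ?_, ?_⟩
      · rw [mem_codeSupps_iff_supports]
        constructor
        · rw [mem_supports_iff, hg]; exact he
        · rw [card_eq_popc_gmask, hg]; exact hw
      · intro hn
        have := (mem_ofMask idx o none).mp hn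
        rw [show idx none = 23 from rfl, hb23] at this
        exact Bool.noConfusion this
      · intro hn
        have := (mem_ofMask idx o (some 0)).mp hn
        rw [show idx (some 0 : GolayPt) = 0 from rfl, hb0] at this
        exact Bool.noConfusion this
      · exact (mem_ofMask idx o p).mpr hcond.1
      · rw [card_inter_eq_popc, hg]; exact hcond.2

/-- Normal form of the vectors of the class `0`, given an auxiliary vector. -/
lemma co2_zero_reduce (x : GolayPt → ℤ) (hx : x ∈ co2Set) (h0 : dotInt u5 x = 0)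
    (z : GolayPt → ℤ) (hz : z ∈ mlSet) (hzx : dotInt z x = 16) :
    ∃ x1, Conj3 u5 oa x u5 oa x1 ∧ x1 ∈ co2Set ∧ dotInt u5 x1 = 0 ∧ dotInt ob x1 = 16 := by
  obtain ⟨g, hg, hu, ha, hzL, g1, g2, g3⟩ := conj3_mlSet z hz
  obtain ⟨hxL, nx, hax⟩ := hx
  set x1 : leechLattice := g ⟨x, hxL⟩ with hx1
  refine ⟨x1.1, ⟨g, hg, hu, ha, hxL, g1, g2, rfl⟩, ⟨x1.2, ?_, ?_⟩, ?_, ?_⟩
  · rw [hx1, hg.2]; exact nx
  · rw [← g2, hx1, co0_dot g hg]; exact hax
  · rw [← g1, hx1, co0_dot g hg]; exact h0
  · rw [← g3, hx1, co0_dot g hg]; exact hzx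

/-- The shape of the vectors of the class `0` in normal form. -/
lemma co2_zero_family (x : GolayPt → ℤ) (hx : x ∈ co2Set) (h0 : dotInt u5 x = 0)
    (hb : dotInt ob x = 16) :
    ∃ c ∈ codeWords 12, c none = 0 ∧ c (some 0) = 0 ∧ x = signVec c w0 := by
  obtain ⟨hxL, nx, hax⟩ := hx
  rw [dotInt_u5] at h0
  rw [dotInt_oa] at hax
  rw [dotInt_ob] at hb
  have en : x none = 1 := by omega
  have e0 : x (some 0) = -3 := by omega
  rcases mem_I_of_norm32 x hxL nx with h | h | h
  · obtain ⟨p, c, hc, hxe, h3, h1'⟩ := I1_abs x h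
    have hp : p = some 0 := by
      by_contra hne
      have := h1' (some 0) (Ne.symm hne)
      rw [e0] at this
      norm_num at this
    subst hp
    have hS := sum_signVec_oneVec c (some 0) (-3)
    rw [← hxe] at hS
    have hxn : x none = sgnOf c none := by
      rw [hxe, signVec_apply, oneVec_apply, if_neg (by decide)]; ring
    have hx0 : x (some 0) = sgnOf c (some 0) * (-3) := by
      rw [hxe, signVec_apply, oneVec_apply, if_pos (Finset.mem_singleton_self _)]
    have cn : c none = 0 := by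
      rcases Cfsg.Agent.S0391.zmod2_cases (c none) with h' | h'
      · exact h'
      · rw [sgnOf_one h'] at hxn; omega
    have c0 : c (some 0) = 0 := by
      rcases Cfsg.Agent.S0391.zmod2_cases (c (some 0)) with h' | h'
      · exact h'
      · rw [sgnOf_one h'] at hx0; omega
    rw [c0, ZMod.val_zero] at hS
    push_cast at hS
    have hw : hammingNorm c = 12 := by
      have : (hammingNorm c : ℤ) = 12 := by omega
      exact_mod_cast this
    exact ⟨c, (mem_codeWords 12 c).mpr ⟨hc, hw⟩, cn, c0, hxe⟩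
  · exfalso
    obtain ⟨s, t, hs, hts, hte, rfl⟩ := (Cfsg.Agent.S0394.mem_I2 _).mp h
    rcases pmVec_abs 2 s t none with h' | h' | h' <;> omega
  · exfalso
    obtain ⟨s, t, hs, hts, -, rfl⟩ := (Cfsg.Agent.S0394.mem_I3 _).mp h
    rcases pmVec_abs 4 s t none with h' | h' | h' <;> omega

lemma permVec_w0 {σ : Equiv.Perm GolayPt} (h0 : σ (some 0) = some 0) : permVec σ w0 = w0 := by
  unfold w0
  rw [permVec_oneVec, Finset.image_singleton, h0]

/-- The normal forms of the class `0` are in one orbit of the monomial stabiliser. -/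
lemma co2_zero_trans_family (x x' : GolayPt → ℤ) (hx : x ∈ co2Set) (hx' : x' ∈ co2Set)
    (h0 : dotInt u5 x = 0) (h0' : dotInt u5 x' = 0) (hb : dotInt ob x = 16)
    (hb' : dotInt ob x' = 16) : Conj3 u5 oa x u5 oa x' := by
  obtain ⟨c, hc, cn, c0, rfl⟩ := co2_zero_family x hx h0 hb
  obtain ⟨c', hc', cn', c0', rfl⟩ := co2_zero_family x' hx' h0' hb'
  rw [mem_codeWords] at hc hc'
  have ho : bsupp c ∈ codeSupps 12 := (mem_codeSupps 12 _).mpr ⟨c, hc.1, hc.2, rfl⟩
  have ho' : bsupp c' ∈ codeSupps 12 := (mem_codeSupps 12 _).mpr ⟨c', hc'.1, hc'.2, rfl⟩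
  obtain ⟨σ, hσ, s1, s2, s3⟩ := pp_trans (Or.inr rfl)
    (show (none : GolayPt) ≠ some 0 by decide) ho ho'
    ⟨fun hh => absurd hh ((notMem_bsupp _ _).mpr cn), fun hh => absurd hh ((notMem_bsupp _ _).mpr cn')⟩
    ⟨fun hh => absurd hh ((notMem_bsupp _ _).mpr c0), fun hh => absurd hh ((notMem_bsupp _ _).mpr c0')⟩
  have c3 := conj3_perm hσ u5_memL oa_mem hx.1
  rw [permVec_u5 s1, permVec_oa s1 s2, permVec_signVec, permVec_w0 s2] at c3
  have : Cfsg.Agent.Lib.Helper10.permWord σ c = c' := by
    apply bsupp_injective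
    rw [bsupp_permWord, s3]
  rw [this] at c3
  exact c3

end Cfsg.Agent.Lib.Helper94
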