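import Mathlib
import Cfsg.Agent.Lib.Helper94.LeechCo2c

/-! The class of the vectors orthogonal to `(5, 1^23)`: an auxiliary vector for each. -/

set_option autoImplicit false

namespace Cfsg.Agent.Lib.Helper94

open Cfsg
open Cfsg.Agent.Lib.Helper95

lemma exists_four_subset {s t : Finset GolayPt} (h : 4 ≤ (s \ t).card) :
    ∃ S : Finset GolayPt, S ⊆ s \ t ∧ S.card = 4 :=
  Finset.exists_subset_card_eq h

/-- Octad vectors: the auxiliary vector. -/
lemma co2_zero_exists_oct {s t : Finset GolayPt} (hs : s ∈ codeSupps 8) (hts : t ⊆ s)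
    {p : GolayPt} (hp : p ∉ s) (h4 : 4 ≤ (s \ t).card)
    (hnone : none ∈ t ∨ none = p) (hzero : some 0 ∈ t ∨ some 0 = p) :
    ∃ z ∈ mlSet, dotInt z (pmVec 2 s t) = 16 := by
  classical
  obtain ⟨S, hS, hc⟩ := exists_four_subset h4
  have hSs : S ⊆ s := fun q hq => (Finset.mem_sdiff.mp (hS hq)).1
  obtain ⟨o', ho', hint, hpo⟩ := exists_octad_inter_eq hs hSs hc hp
  have hav : ∀ q, (q ∈ t ∨ q = p) → q ∉ o' := by
    rintro q (hq | hq) hqo
    · have : q ∈ S := by rw [← hint]; exact Finset.mem_inter.mpr ⟨hts hq, hqo⟩
      exact (Finset.mem_sdiff.mp (hS this)).2 hq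
    · rw [hq] at hqo; exact hpo hqo
  exact ⟨pmVec 2 o' ∅, pmVec_mem_mlSet ho' (hav _ hnone) (hav _ hzero),
    dot_pm_inter hts hint hS hc⟩

/-- Every vector of the class `0` has inner product 16 with one of the 2025 vectors. -/
theorem co2_zero_exists (x : GolayPt → ℤ) (hx : x ∈ co2Set) (h0 : dotInt u5 x = 0) :
    ∃ z ∈ mlSet, dotInt z x = 16 := by
  classical
  obtain ⟨hxL, nx, hax⟩ := hx
  rw [dotInt_u5] at h0
  rw [dotInt_oa] at hax
  rcases mem_I_of_norm32 x hxL nx with h | h | h
  · -- odd type
    obtain ⟨p, c, hc, hxe, h3, h1'⟩ := I1_abs x h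
    have hS := sum_signVec_oneVec c p (-3)
    rw [← hxe] at hS
    by_cases hp0 : p = some 0
    · subst hp0
      refine ⟨ob, ob_mem_mlSet, ?_⟩
      rw [dotInt_ob]
      have a1 := h1' none (by decide)
      rcases abs_eq (by norm_num : (0 : ℤ) ≤ 1) |>.mp a1 with e1 | e1 <;>
        rcases abs_eq (by norm_num : (0 : ℤ) ≤ 3) |>.mp h3 with e3 | e3 <;> omega
    · by_cases hpn : p = none
      · exfalso
        subst hpn
        have a1 := h1' (some 0) (by decide)
        have hxn : x none = sgnOf c none * (-3) := by
          rw [hxe, signVec_apply, oneVec_apply, if_pos (Finset.mem_singleton_self _)]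
        rcases Cfsg.Agent.S0391.zmod2_cases (c none) with hn | hn
        · rw [sgnOf_zero hn] at hxn
          rw [hn, ZMod.val_zero] at hS
          push_cast at hS
          have hw : (hammingNorm c : ℤ) = 4 := by omega
          have hne : c ≠ 0 := by
            rintro rfl
            rw [hammingNorm_zero] at hw
            norm_num at hw
          have := golayCode_hmin c hc hne
          omega
        · rw [sgnOf_one hn] at hxn
          rcases abs_eq (by norm_num : (0 : ℤ) ≤ 1) |>.mp a1 with e1 | e1 <;> omega
      · have hxn : x none = sgnOf c none := by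
          rw [hxe, signVec_apply, oneVec_apply, if_neg (by simpa using Ne.symm hpn)]; ring
        have hx0 : x (some 0) = sgnOf c (some 0) := by
          rw [hxe, signVec_apply, oneVec_apply, if_neg (by simpa using Ne.symm hp0)]; ring
        have cn : c none = 1 := by
          rcases Cfsg.Agent.S0391.zmod2_cases (c none) with h' | h'
          · exfalso
            rw [sgnOf_zero h'] at hxn
            rcases sgnOf_cases c (some 0) with h'' | h'' <;> omega
          · exact h'
        have c0 : c (some 0) = 1 := by
          rcases Cfsg.Agent.S0391.zmod2_cases (c (some 0)) with h' | h'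
          · exfalso
            rw [sgnOf_zero h'] at hx0
            rcases sgnOf_cases c none with h'' | h'' <;> omega
          · exact h'
        rw [sgnOf_one cn] at hxn
        rcases Cfsg.Agent.S0391.zmod2_cases (c p) with hv | hv
        · -- weight 8, the special point outside
          rw [hv, ZMod.val_zero] at hS
          push_cast at hS
          have hw : hammingNorm c = 8 := by
            have : (hammingNorm c : ℤ) = 8 := by omega
            exact_mod_cast this
          have ho : bsupp c ∈ codeSupps 8 := (mem_codeSupps 8 _).mpr ⟨c, hc, hw, rfl⟩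
          have hpo : p ∉ bsupp c := (notMem_bsupp c p).mpr hv
          obtain ⟨o', ho', hdis, hpo'⟩ := exists_octad_disjoint ho hpo
          have hn' : none ∉ o' := fun hh =>
            Finset.disjoint_left.mp hdis ((mem_bsupp c none).mpr cn) hh
          have h0' : some 0 ∉ o' := fun hh =>
            Finset.disjoint_left.mp hdis ((mem_bsupp c (some 0)).mpr c0) hh
          refine ⟨pmVec 2 o' ∅, pmVec_mem_mlSet ho' hn' h0', ?_⟩
          rw [dotInt_pmVec_two, hxe, sum_oddv_over, if_neg hpo', card_of_codeSupps ho']
          have : o' ∩ bsupp c = ∅ := by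
            rw [Finset.inter_comm]
            exact Finset.disjoint_iff_inter_eq_empty.mp hdis
          rw [this, Finset.card_empty]
          norm_num
        · -- weight 12, the special point inside
          rw [hv, ZMod.val_one] at hS
          push_cast at hS
          have hw : hammingNorm c = 12 := by
            have : (hammingNorm c : ℤ) = 12 := by omega
            exact_mod_cast this
          have ho : bsupp c ∈ codeSupps 12 := (mem_codeSupps 12 _).mpr ⟨c, hc, hw, rfl⟩
          obtain ⟨o', ho', hn', h0', hpo', hint⟩ := exists_octad_dod ho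
            ((mem_bsupp c none).mpr cn) ((mem_bsupp c (some 0)).mpr c0) ((mem_bsupp c p).mpr hv)
            hpn hp0
          refine ⟨pmVec 2 o' ∅, pmVec_mem_mlSet ho' hn' h0', ?_⟩
          rw [dotInt_pmVec_two, hxe, sum_oddv_over, if_pos hpo', card_of_codeSupps ho', hint,
            sgnOf_one hv]
          norm_num
  · -- octad type
    obtain ⟨s, t, hs, hts, hte, rfl⟩ := (Cfsg.Agent.S0394.mem_I2 _).mp h
    have hcard := card_of_codeSupps hs
    have hsum := sum_pmVec 2 hts
    rw [hcard] at hsum
    rw [hsum] at h0
    push_cast at h0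
    have htn : (0 : ℤ) ≤ t.card := Nat.cast_nonneg _
    have hsd : (s \ t).card = 8 - t.card := by
      rw [Finset.card_sdiff_of_subset hts, hcard]
    rcases pmVec_abs 2 s t none with e1 | e1 | e1
    · -- first entry 0
      have e2 : pmVec 2 s t (some 0) = -2 := by omega
      have hnone : none ∉ s := by
        intro hin
        exact (pmVec_ne_zero_iff (a := 2) (by norm_num) hts none).mpr hin e1
      have hzero : some 0 ∈ t := by
        by_contra hnt
        rw [pmVec_apply, if_neg hnt] at e2
        split_ifs at e2 <;> omega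
      have htc : t.card = 4 := by rw [e1] at h0; omega
      exact co2_zero_exists_oct hs hts hnone (by rw [hsd, htc]) (Or.inr rfl) (Or.inl hzero)
    · exfalso
      rcases pmVec_abs 2 s t (some 0) with e2 | e2 | e2 <;> omega
    · -- first entry -2
      have e2 : pmVec 2 s t (some 0) = 0 := by omega
      have hzero : some 0 ∉ s := by
        intro hin
        exact (pmVec_ne_zero_iff (a := 2) (by norm_num) hts (some 0)).mpr hin e2
      have hnone : none ∈ t := by
        by_contra hnt
        rw [pmVec_apply, if_neg hnt] at e1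
        split_ifs at e1 <;> omega
      have htc : t.card = 2 := by rw [e1] at h0; omega
      exact co2_zero_exists_oct hs hts hzero (by rw [hsd, htc]; norm_num) (Or.inl hnone) (Or.inr rfl)
  · exfalso
    obtain ⟨s, t, hs, hts, -, rfl⟩ := (Cfsg.Agent.S0394.mem_I3 _).mp h
    rcases pmVec_abs 4 s t none with e1 | e1 | e1 <;>
      rcases pmVec_abs 4 s t (some 0) with e2 | e2 | e2 <;> omega

/-- The stabiliser of the standard pair is transitive on the class `0`. -/
theorem co2_cls_zero (x x' : GolayPt → ℤ) (hx : x ∈ co2Set) (hx' : x' ∈ co2Set)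
    (h : dotInt u5 x = 0) (h' : dotInt u5 x' = 0) : Conj3 u5 oa x u5 oa x' := by
  obtain ⟨z, hz, hzx⟩ := co2_zero_exists x hx h
  obtain ⟨z', hz', hzx'⟩ := co2_zero_exists x' hx' h'
  obtain ⟨x1, c1, m1, a1, b1⟩ := co2_zero_reduce x hx h z hz hzx
  obtain ⟨x1', c1', m1', a1', b1'⟩ := co2_zero_reduce x' hx' h' z' hz' hzx'
  exact (c1.trans (co2_zero_trans_family x1 x1' m1 m1' a1 a1' b1 b1')).trans c1'.symm

end Cfsg.Agent.Lib.Helper94
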