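import Mathlib
import Cfsg.Agent.Lib.Helper94.LeechCo2d

/-! The rank 6 action on the 47104 vectors, and triangles of vectors of odd type used to show
that the action is primitive. -/

set_option autoImplicit false
set_option linter.unusedSectionVars false

namespace Cfsg.Agent.Lib.Helper94

open Cfsg
open Cfsg.Agent.Lib.Helper95

lemma Conj3.sub31 {x y z x' y' z' : GolayPt → ℤ} (h : Conj3 x y z x' y' z') :
    Conj3 x y (z - x) x' y' (z' - x') := by
  obtain ⟨g, hg, hx, hy, hz, h1, h2, h3⟩ := h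
  have hm : z - x ∈ leechLattice := leechLattice.sub_mem hz hx
  refine ⟨g, hg, hx, hy, hm, h1, h2, ?_⟩
  have : (⟨z - x, hm⟩ : leechLattice) = ⟨z, hz⟩ - ⟨x, hx⟩ := rfl
  rw [this, co0_sub g hg, ← h1, ← h3]
  rfl

lemma Conj3.comb3 {x y z x' y' z' : GolayPt → ℤ} (h : Conj3 x y z x' y' z') :
    Conj3 x y (x - y - z) x' y' (x' - y' - z') := by
  obtain ⟨g, hg, hx, hy, hz, h1, h2, h3⟩ := h
  have hm : x - y - z ∈ leechLattice := leechLattice.sub_mem (leechLattice.sub_mem hx hy) hz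
  refine ⟨g, hg, hx, hy, hm, h1, h2, ?_⟩
  have : (⟨x - y - z, hm⟩ : leechLattice) = ⟨x, hx⟩ - ⟨y, hy⟩ - ⟨z, hz⟩ := rfl
  rw [this, co0_sub g hg, co0_sub g hg, ← h1, ← h2, ← h3]
  rfl

/-- The class `8`: the 2025 vectors. -/
theorem co2_cls_8 (x x' : GolayPt → ℤ) (hx : x ∈ co2Set) (hx' : x' ∈ co2Set)
    (h : dotInt u5 x = 8) (h' : dotInt u5 x' = 8) : Conj3 u5 oa x u5 oa x' := by
  have key : ∀ y : GolayPt → ℤ, y ∈ co2Set → dotInt u5 y = 8 → u5 - oa - y ∈ mlSet := by
    intro y hy hyu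
    obtain ⟨hyL, ny, hay⟩ := hy
    rw [u5_sub_oa]
    have hd : dotInt w0 y = 16 := by rw [dotInt_w0, hyu, hay]; norm_num
    refine ⟨leechLattice.sub_mem w0_memL hyL, ?_, ?_, ?_⟩
    · rw [sqNorm_sub, sqNorm_w0, ny, hd]; norm_num
    · rw [dotInt_sub_right', dotInt_oa_w0, hay]; norm_num
    · rw [dotInt_sub_right', dotInt_u5_w0, hyu]; norm_num
  have c1 := (conj3_mlSet _ (key x hx h)).trans (conj3_mlSet _ (key x' hx' h')).symm
  have c2 := c1.comb3
  have e : ∀ y : GolayPt → ℤ, u5 - oa - (u5 - oa - y) = y := fun y => by abel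
  rw [e, e] at c2
  exact c2

/-- The class `-24`: the 275 vectors. -/
theorem co2_cls_m24 (x x' : GolayPt → ℤ) (hx : x ∈ co2Set) (hx' : x' ∈ co2Set)
    (h : dotInt u5 x = -24) (h' : dotInt u5 x' = -24) : Conj3 u5 oa x u5 oa x' := by
  have key : ∀ y : GolayPt → ℤ, y ∈ co2Set → dotInt u5 y = -24 → y + u5 ∈ mcSet := by
    intro y hy hyu
    obtain ⟨hyL, ny, hay⟩ := hy
    refine ⟨leechLattice.add_mem hyL u5_memL, ?_, ?_, ?_⟩
    · rw [sqNorm_add, ny, sqNorm_u5, dotInt_comm', hyu]; norm_num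
    · rw [dotInt_add_right', hyu, dotInt_self, sqNorm_u5]; norm_num
    · rw [dotInt_add_right', hay, dotInt_comm', dotInt_u5_oa]; norm_num
  have c1 := (conj3_mcSet _ (key x hx h)).trans (conj3_mcSet _ (key x' hx' h')).symm
  have c2 := c1.sub31
  rw [add_sub_cancel_right, add_sub_cancel_right] at c2
  exact c2

/-- The stabiliser of the standard pair has rank 6 on the 47104 vectors: the orbits are the
classes given by the inner product with `(5, 1^23)`. -/
theorem co2_rank6 (x x' : GolayPt → ℤ) (hx : x ∈ co2Set) (hx' : x' ∈ co2Set)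
    (h : dotInt u5 x = dotInt u5 x') : Conj3 u5 oa x u5 oa x' := by
  rcases co2_dot_vals x hx with h1 | h1 | h1 | h1 | h1 | h1
  · rcases co2_dot_vals x' hx' with h2 | h2 | h2 | h2 | h2 | h2
    · rw [h1.1, h2.1]
      exact Conj3.refl' u5_memL oa_mem w0_memL
    all_goals (exfalso; rw [h1.2] at h; omega)
  · exact co2_cls_8 x x' hx hx' h1 (by rw [← h]; exact h1)
  · exact co2_cls_zero x x' hx hx' h1 (by rw [← h]; exact h1)
  · exact co2_cls_m8 x x' hx hx' h1 (by rw [← h]; exact h1)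
  · exact co2_cls_m16 x x' hx hx' h1 (by rw [← h]; exact h1)
  · exact co2_cls_m24 x x' hx hx' h1 (by rw [← h]; exact h1)

/-! ### Two families of vectors of odd type -/

/-- The vectors `(1, -3, ±1, …)`. -/
def vX (c : GolayPt → ZMod 2) : GolayPt → ℤ := signVec c w0

/-- The vectors `(-3, 1, ±1, …)`. -/
def vG (c : GolayPt → ZMod 2) : GolayPt → ℤ := signVec c om

lemma om_none : om none = -3 := by
  unfold om; rw [oneVec_apply, if_pos (Finset.mem_singleton_self _)]

lemma om_zero : om (some 0) = 1 := by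
  unfold om; rw [oneVec_apply, if_neg (by decide)]

lemma dotInt_signVec2 (c c' : GolayPt → ZMod 2) (a b : GolayPt → ℤ) :
    dotInt (signVec c a) (signVec c' b) = dotInt a (signVec (c + c') b) := by
  rw [← signVec_comp]
  unfold dotInt
  apply Finset.sum_congr rfl
  intro q _
  simp only [signVec_apply]
  ring

section fam

variable {c : GolayPt → ZMod 2} (hc : c ∈ golayCode) (cn : c none = 0) (c0 : c (some 0) = 0)

include hc cn c0

lemma vX_mem : vX c ∈ co2Set := by
  refine ⟨signVec_mem hc w0 w0_memL, by unfold vX; rw [sqNorm_signVec, sqNorm_w0], ?_⟩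
  unfold vX
  rw [dotInt_oa, signVec_apply, signVec_apply, sgnOf_zero cn, sgnOf_zero c0, w0_none, w0_zero]
  norm_num

lemma vG_mem : vG c ∈ co2Set := by
  refine ⟨signVec_mem hc om om_mem, by unfold vG; rw [sqNorm_signVec, sqNorm_om], ?_⟩
  unfold vG
  rw [dotInt_oa, signVec_apply, signVec_apply, sgnOf_zero cn, sgnOf_zero c0, om_none, om_zero]
  norm_num

lemma sum_vX : ∑ q, vX c q = 20 - 2 * (hammingNorm c : ℤ) := by
  unfold vX w0
  rw [sum_signVec_oneVec, c0, ZMod.val_zero]
  push_cast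
  ring

lemma sum_vG : ∑ q, vG c q = 20 - 2 * (hammingNorm c : ℤ) := by
  unfold vG om
  rw [sum_signVec_oneVec, cn, ZMod.val_zero]
  push_cast
  ring

lemma vX_none : vX c none = 1 := by
  unfold vX; rw [signVec_apply, sgnOf_zero cn, w0_none]; norm_num

lemma vG_none : vG c none = -3 := by
  unfold vG; rw [signVec_apply, sgnOf_zero cn, om_none]; norm_num

lemma dot_u5_vX : dotInt u5 (vX c) = 24 - 2 * (hammingNorm c : ℤ) := by
  rw [dotInt_u5, sum_vX hc cn c0, vX_none hc cn c0]; ring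

lemma dot_u5_vG : dotInt u5 (vG c) = 8 - 2 * (hammingNorm c : ℤ) := by
  rw [dotInt_u5, sum_vG hc cn c0, vG_none hc cn c0]; ring

lemma dot_w0_vX : dotInt w0 (vX c) = 32 - 2 * (hammingNorm c : ℤ) := by
  rw [dotInt_w0, dot_u5_vX hc cn c0, (vX_mem hc cn c0).2.2]; ring

lemma dot_w0_vG : dotInt w0 (vG c) = 16 - 2 * (hammingNorm c : ℤ) := by
  rw [dotInt_w0, dot_u5_vG hc cn c0, (vG_mem hc cn c0).2.2]; ring

end fam

lemma dot_vX_vX {c c' : GolayPt → ZMod 2} (hc : c ∈ golayCode) (cn : c none = 0)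
    (c0 : c (some 0) = 0) (hc' : c' ∈ golayCode) (cn' : c' none = 0) (c0' : c' (some 0) = 0) :
    dotInt (vX c) (vX c') = 32 - 2 * (hammingNorm (c + c') : ℤ) := by
  unfold vX
  rw [dotInt_signVec2]
  exact dot_w0_vX (golayCode.add_mem hc hc') (by rw [Pi.add_apply, cn, cn', add_zero])
    (by rw [Pi.add_apply, c0, c0', add_zero])

lemma dot_vX_vG {c c' : GolayPt → ZMod 2} (hc : c ∈ golayCode) (cn : c none = 0)
    (c0 : c (some 0) = 0) (hc' : c' ∈ golayCode) (cn' : c' none = 0) (c0' : c' (some 0) = 0) :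
    dotInt (vX c) (vG c') = 16 - 2 * (hammingNorm (c + c') : ℤ) := by
  unfold vX vG
  rw [dotInt_signVec2]
  exact dot_w0_vG (golayCode.add_mem hc hc') (by rw [Pi.add_apply, cn, cn', add_zero])
    (by rw [Pi.add_apply, c0, c0', add_zero])

/-! ### Four explicit code words avoiding the two base points -/

open Cfsg.Agent.Lib.Helper10 in
lemma hammingNorm_vec {m : ℕ} (hm : m < 2 ^ 24) : hammingNorm (vec m) = pc m := by
  rw [hammingNorm_eq_card_bsupp, ← support₂_eq_bsupp, card_support₂, wmask_vec hm]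

/-- An octad. -/
def cwA : GolayPt → ZMod 2 := Cfsg.Agent.Lib.Helper10.vec 4845570
/-- A second octad. -/
def cwB : GolayPt → ZMod 2 := Cfsg.Agent.Lib.Helper10.vec 7221256
/-- A word of weight 16. -/
def cwS : GolayPt → ZMod 2 := Cfsg.Agent.Lib.Helper10.vec 5896118
/-- A dodecad. -/
def cwD : GolayPt → ZMod 2 := Cfsg.Agent.Lib.Helper10.vec 6082678

open Cfsg.Agent.Lib.Helper10 in
lemma vec_good {m : ℕ} (hm : m < 2 ^ 24) (he : enc m = m) (h23 : m.testBit 23 = false)
    (h0 : m.testBit 0 = false) :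
    vec m ∈ golayCode ∧ vec m none = 0 ∧ vec m (some 0) = 0 := by
  refine ⟨(vec_mem_golayCode_iff hm).mpr he, ?_, ?_⟩
  · rw [vec_apply, show idx none = 23 from rfl, h23]; rfl
  · rw [vec_apply, show idx (some 0 : GolayPt) = 0 from rfl, h0]; rfl

lemma cwA_good : cwA ∈ golayCode ∧ cwA none = 0 ∧ cwA (some 0) = 0 :=
  vec_good (by norm_num) (by decide +kernel) (by decide) (by decide)
lemma cwB_good : cwB ∈ golayCode ∧ cwB none = 0 ∧ cwB (some 0) = 0 :=
  vec_good (by norm_num) (by decide +kernel) (by decide) (by decide)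
lemma cwS_good : cwS ∈ golayCode ∧ cwS none = 0 ∧ cwS (some 0) = 0 :=
  vec_good (by norm_num) (by decide +kernel) (by decide) (by decide)
lemma cwD_good : cwD ∈ golayCode ∧ cwD none = 0 ∧ cwD (some 0) = 0 :=
  vec_good (by norm_num) (by decide +kernel) (by decide) (by decide)

lemma norm_cwA : hammingNorm cwA = 8 := (hammingNorm_vec (by norm_num)).trans (by decide +kernel)
lemma norm_cwB : hammingNorm cwB = 8 := (hammingNorm_vec (by norm_num)).trans (by decide +kernel)
lemma norm_cwS : hammingNorm cwS = 16 := (hammingNorm_vec (by norm_num)).trans (by decide +kernel)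
lemma norm_cwD : hammingNorm cwD = 12 := (hammingNorm_vec (by norm_num)).trans (by decide +kernel)

lemma norm_cwAD : hammingNorm (cwA + cwD) = 8 := by
  unfold cwA cwD
  rw [← Cfsg.Agent.Lib.Helper10.vec_xor]
  exact (hammingNorm_vec (by decide)).trans (by decide +kernel)

lemma norm_cwAS : hammingNorm (cwA + cwS) = 8 := by
  unfold cwA cwS
  rw [← Cfsg.Agent.Lib.Helper10.vec_xor]
  exact (hammingNorm_vec (by decide)).trans (by decide +kernel)

lemma norm_cwDB : hammingNorm (cwD + cwB) = 12 := by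
  unfold cwD cwB
  rw [← Cfsg.Agent.Lib.Helper10.vec_xor]
  exact (hammingNorm_vec (by decide)).trans (by decide +kernel)

lemma norm_cwAB : hammingNorm (cwA + cwB) = 8 := by
  unfold cwA cwB
  rw [← Cfsg.Agent.Lib.Helper10.vec_xor]
  exact (hammingNorm_vec (by decide)).trans (by decide +kernel)

lemma norm_cwSB : hammingNorm (cwS + cwB) = 16 := by
  unfold cwS cwB
  rw [← Cfsg.Agent.Lib.Helper10.vec_xor]
  exact (hammingNorm_vec (by decide)).trans (by decide +kernel)

end Cfsg.Agent.Lib.Helper94
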