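import Mathlib
import Cfsg.Agent.Lib.Helper94.PrimSimple

/-! The simplicity criterion with blocks in the set-theoretic sense, and a group of order
`2^11 · 23` has a small nontrivial characteristic subgroup. -/

set_option autoImplicit false

namespace Cfsg.Agent.Lib.Helper94

open MulAction
open scoped Pointwise

section

variable {G Z : Type*} [Group G] [MulAction G Z]

/-- Under the block hypothesis, a nontrivial normal subgroup is transitive. -/
theorem normal_transitive' [Finite G] (a : Z) (Ω : Set Z)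
    (horb : ∀ x, x ∈ Ω ↔ ∃ g : G, g • a = x)
    (hblock : ∀ T : Set Z, a ∈ T → T ⊆ Ω → (∀ g : G, g • a ∈ T → ∀ x ∈ T, g • x ∈ T) →
      T = {a} ∨ T = Ω)
    (hfaith : ∀ g : G, (∀ x ∈ Ω, g • x = x) → g = 1)
    (N : Subgroup G) (hN : N.Normal) (hne : N ≠ ⊥) :
    (∀ g : G, ∃ n ∈ N, n • a = g • a) ∧
      Nat.card ↥N = Ω.ncard * Nat.card ↥(stabilizer ↥N a) := by
  classical
  set S : Set Z := {x | ∃ n ∈ N, n • a = x} with hS
  have haS : a ∈ S := ⟨1, N.one_mem, one_smul _ _⟩
  have hSΩ : S ⊆ Ω := by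
    rintro x ⟨n, -, rfl⟩
    exact (horb _).mpr ⟨n, rfl⟩
  have hSblk : ∀ g : G, g • a ∈ S → ∀ x ∈ S, g • x ∈ S := by
    rintro g ⟨n, hn, hna⟩ x ⟨m, hm, rfl⟩
    refine ⟨g * m * g⁻¹ * n, N.mul_mem (hN.conj_mem m hm g) hn, ?_⟩
    rw [mul_smul, hna, mul_smul, mul_smul, inv_smul_smul]
  have hSrange : S = orbit ↥N a := by
    ext x
    constructor
    · rintro ⟨n, hn, rfl⟩
      exact ⟨⟨n, hn⟩, rfl⟩
    · rintro ⟨⟨n, hn⟩, rfl⟩
      exact ⟨n, hn, rfl⟩
  have hNcard : Nat.card ↥N = S.ncard * Nat.card ↥(stabilizer ↥N a) := by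
    have h1 := Subgroup.card_eq_card_quotient_mul_card_subgroup (stabilizer ↥N a)
    rw [← Nat.card_congr (orbitEquivQuotientStabilizer ↥N a), ← hSrange,
      Nat.card_coe_set_eq] at h1
    exact h1
  have hS1 : S ≠ {a} := by
    intro hSa
    apply hne
    rw [Subgroup.eq_bot_iff_forall]
    intro n hn
    apply hfaith
    intro x hx
    obtain ⟨g, rfl⟩ := (horb x).mp hx
    have h2 : (g⁻¹ * n * g) • a ∈ S :=
      ⟨g⁻¹ * n * g, by simpa using hN.conj_mem n hn g⁻¹, rfl⟩
    rw [hSa, Set.mem_singleton_iff] at h2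
    rw [mul_smul, mul_smul, inv_smul_eq_iff] at h2
    exact h2
  have hSeq : S = Ω := by
    rcases hblock S haS hSΩ hSblk with h | h
    · exact absurd h hS1
    · exact h
  refine ⟨?_, by rw [hNcard, hSeq]⟩
  intro g
  have : g • a ∈ S := by rw [hSeq]; exact (horb _).mpr ⟨g, rfl⟩
  exact this

/-- The simplicity criterion, with blocks in the set-theoretic sense. -/
theorem simple_of_block' [Finite G] (a : Z) (Ω : Set Z)
    (horb : ∀ x, x ∈ Ω ↔ ∃ g : G, g • a = x)
    (hblock : ∀ T : Set Z, a ∈ T → T ⊆ Ω → (∀ g : G, g • a ∈ T → ∀ x ∈ T, g • x ∈ T) →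
      T = {a} ∨ T = Ω)
    (hfaith : ∀ g : G, (∀ x ∈ Ω, g • x = x) → g = 1)
    (hH : IsSimpleGroup ↥(stabilizer G a))
    (hreg : ∀ N : Subgroup G, N.Normal → N ≠ ⊥ → Nat.card ↥N ≠ Ω.ncard) : IsSimpleGroup G := by
  classical
  have : Nontrivial G := by
    have := hH.toNontrivial
    obtain ⟨x, y, hxy⟩ := exists_pair_ne ↥(stabilizer G a)
    exact ⟨⟨x.1, y.1, fun h => hxy (Subtype.ext h)⟩⟩
  refine ⟨fun N hN => ?_⟩
  rw [or_iff_not_imp_left]
  intro hne
  obtain ⟨htrans, hNcard⟩ := normal_transitive' a Ω horb hblock hfaith N hN hne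
  have : (N.subgroupOf (stabilizer G a)).Normal := hN.subgroupOf _
  rcases hH.eq_bot_or_eq_top_of_normal (N.subgroupOf (stabilizer G a)) inferInstance with hK | hK
  · exfalso
    rw [Subgroup.subgroupOf_eq_bot] at hK
    have hfree : ∀ n ∈ N, n • a = a → n = 1 := by
      intro n hn hna
      have : n ∈ N ⊓ stabilizer G a := ⟨hn, hna⟩
      rw [hK.eq_bot] at this
      exact this
    have hstab : Nat.card ↥(stabilizer ↥N a) = 1 := by
      rw [Nat.card_eq_one_iff_unique]
      refine ⟨⟨?_⟩, ⟨1⟩⟩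
      rintro ⟨⟨n, hn⟩, hna⟩ ⟨⟨m, hm⟩, hma⟩
      apply Subtype.ext
      apply Subtype.ext
      show n = m
      have h1 : n • a = a := hna
      have h2 : m • a = a := hma
      rw [hfree n hn h1, hfree m hm h2]
    rw [hstab, mul_one] at hNcard
    exact hreg N hN hne hNcard
  · rw [Subgroup.subgroupOf_eq_top] at hK
    rw [Subgroup.eq_top_iff']
    intro g
    obtain ⟨n, hn, hna⟩ := htrans g
    have : n⁻¹ * g ∈ stabilizer G a := by
      rw [mem_stabilizer_iff, mul_smul, ← hna, inv_smul_smul]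
    have h2 := N.mul_mem hn (hK this)
    rwa [mul_inv_cancel_left] at h2

end

/-- A group of order `2^11 · 23` has a nontrivial characteristic subgroup of smaller order. -/
theorem exists_char_small (Γ : Type*) [Group Γ] [Finite Γ] (h : Nat.card Γ = 47104) :
    ∃ K : Subgroup Γ, K.Characteristic ∧ K ≠ ⊥ ∧ Nat.card ↥K < 47104 := by
  classical
  have : Fact (Nat.Prime 23) := ⟨by norm_num⟩
  obtain ⟨P⟩ : Nonempty (Sylow 23 Γ) := inferInstance
  -- the order of `P`
  have hPcard : Nat.card ↥(P : Subgroup Γ) = 23 := by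
    obtain ⟨n, hn⟩ := IsPGroup.iff_card.mp P.isPGroup'
    have h1 := (P : Subgroup Γ).card_mul_index
    rw [h, hn] at h1
    have h2 := P.not_dvd_index
    rcases n with _ | _ | n
    · exfalso
      apply h2
      rw [pow_zero, one_mul] at h1
      rw [h1]
      norm_num
    · rw [hn]; norm_num
    · exfalso
      have : 23 ^ 2 ∣ 47104 := by
        rw [← h1, pow_succ (23 : ℕ) (n + 1), pow_succ (23 : ℕ) n]
        exact ⟨23 ^ n * (P : Subgroup Γ).index, by ring⟩
      norm_num at this
  have hidx : (P : Subgroup Γ).index = 2048 := by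
    have h1 := (P : Subgroup Γ).card_mul_index
    rw [h, hPcard] at h1
    omega
  have hPne : (P : Subgroup Γ) ≠ ⊥ := by
    intro hb
    rw [hb, Subgroup.card_bot] at hPcard
    norm_num at hPcard
  -- the number of Sylow subgroups
  have hmod := card_sylow_modEq_one 23 Γ
  have hdvd := P.card_dvd_index
  rw [hidx] at hdvd
  have hdvd' : Nat.card (Sylow 23 Γ) ∣ 2 ^ 11 := by
    rw [show (2 : ℕ) ^ 11 = 2048 by norm_num]; exact hdvd
  obtain ⟨m, hm, hn23⟩ := (Nat.dvd_prime_pow Nat.prime_two).mp hdvd'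
  have hcases : Nat.card (Sylow 23 Γ) = 1 ∨ Nat.card (Sylow 23 Γ) = 2048 := by
    rw [hn23] at hmod ⊢
    unfold Nat.ModEq at hmod
    interval_cases m <;> simp_all
  rcases hcases with h1 | h1
  · -- `P` is normal
    rw [P.card_eq_index_normalizer, Subgroup.index_eq_one] at h1
    have h1' : (P : Subgroup Γ).Normal := Subgroup.normalizer_eq_top_iff.mp h1
    exact ⟨P, P.characteristic_of_normal h1', hPne, by rw [hPcard]; norm_num⟩
  · -- the normaliser of `P` is `P`
    rw [P.card_eq_index_normalizer] at h1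
    replace h1 : (Subgroup.normalizer ((P : Subgroup Γ) : Set Γ)).index = 2048 := h1
    have hNc : Nat.card ↥(Subgroup.normalizer ((P : Subgroup Γ) : Set Γ)) = 23 := by
      have h2 := (Subgroup.normalizer ((P : Subgroup Γ) : Set Γ)).card_mul_index
      rw [h, h1] at h2
      omega
    have hNP : (P : Subgroup Γ) = Subgroup.normalizer ((P : Subgroup Γ) : Set Γ) :=
      Subgroup.eq_of_le_of_card_ge Subgroup.le_normalizer (by rw [hNc, hPcard])
    have : IsCyclic ↥(P : Subgroup Γ) := isCyclic_of_prime_card hPcard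
    have hP : Subgroup.normalizer ((P : Subgroup Γ) : Set Γ) ≤
        Subgroup.centralizer ((P : Subgroup Γ) : Set Γ) := by
      rw [← hNP]
      exact Subgroup.le_centralizer_iff_isMulCommutative.mpr inferInstance
    have hcomp := MonoidHom.ker_transferSylow_isComplement' P hP
    set K := (MonoidHom.transferSylow P hP).ker with hK
    have hKcard : Nat.card ↥K = 2048 := by
      have := hcomp.card_mul_card
      rw [hPcard, h] at this
      omega
    have hmem : ∀ x : Γ, x ∈ K ↔ x ^ 2048 = 1 := by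
      intro x
      constructor
      · intro hx
        have := pow_card_eq_one' (G := ↥K) (x := ⟨x, hx⟩)
        rw [hKcard] at this
        exact congrArg Subtype.val this
      · intro hx
        rw [hK, MonoidHom.mem_ker]
        set y := MonoidHom.transferSylow P hP x with hy
        have e1 : y ^ 2048 = 1 := by rw [hy, ← map_pow, hx, map_one]
        have e2 : y ^ 23 = 1 := by
          have := pow_card_eq_one' (G := ↥(P : Subgroup Γ)) (x := y)
          rwa [hPcard] at this
        have d1 := orderOf_dvd_of_pow_eq_one e1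
        have d2 := orderOf_dvd_of_pow_eq_one e2
        have d3 : orderOf y ∣ Nat.gcd 2048 23 := Nat.dvd_gcd d1 d2
        rw [show Nat.gcd 2048 23 = 1 by norm_num, Nat.dvd_one] at d3
        exact orderOf_eq_one_iff.mp d3
    refine ⟨K, ?_, ?_, by rw [hKcard]; norm_num⟩
    · rw [Subgroup.characteristic_iff_le_comap]
      intro ϕ x hx
      rw [Subgroup.mem_comap, hmem]
      show (ϕ x) ^ 2048 = 1
      rw [← map_pow, (hmem x).mp hx, map_one]
    · intro hb
      rw [hb, Subgroup.card_bot] at hKcard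
      norm_num at hKcard

end Cfsg.Agent.Lib.Helper94
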