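import Mathlib
import Cfsg.Agent.Lib.Helper94.LeechCo2e
import Cfsg.Agent.Lib.Helper94.PrimSimple5

/-! The stabiliser of `(4, 4, 0, …)` in the automorphism group of the lattice: order, action on
the 47104 vectors. -/

set_option autoImplicit false

namespace Cfsg.Agent.Lib.Helper94

open Cfsg
open Cfsg.Agent.Lib.Helper95

/-- The base point as a lattice element. -/
def W0 : leechLattice := ⟨w0, w0_memL⟩

/-- The stabiliser of the standard vector of sum of squares 32. -/
def CO2 : Subgroup ↥Co0 := MulAction.stabilizer ↥Co0 OA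

lemma mem_CO2 (g : ↥Co0) : g ∈ CO2 ↔ g • OA = OA := MulAction.mem_stabilizer_iff

lemma OA_add_W0 : OA + W0 = U5 := Subtype.ext oa_add_w0

lemma U5_sub_OA : U5 - OA = W0 := Subtype.ext u5_sub_oa

/-- The point stabiliser is the stabiliser of the standard pair. -/
def co2StabEquiv : ↥(MulAction.stabilizer ↥CO2 W0) ≃* ↥ML0 where
  toFun k := ⟨k.1.1, (mem_ML0 _).mpr ⟨by
      have h1 : k.1.1 • W0 = W0 := k.2
      rw [← OA_add_W0, smul_add_co0, (mem_CO2 _).mp k.1.2, h1], (mem_CO2 _).mp k.1.2⟩⟩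
  invFun k := ⟨⟨k.1, (mem_CO2 _).mpr ((mem_ML0 _).mp k.2).2⟩, by
      show k.1 • W0 = W0
      rw [← U5_sub_OA, smul_sub_co0, ((mem_ML0 _).mp k.2).1, ((mem_ML0 _).mp k.2).2]⟩
  left_inv k := rfl
  right_inv k := rfl
  map_mul' a b := rfl

lemma simple_co2stab : IsSimpleGroup ↥(MulAction.stabilizer ↥CO2 W0) := by
  have hs := isMcL_ML0.1
  have : Nontrivial ↥(MulAction.stabilizer ↥CO2 W0) := by
    have := hs.toNontrivial
    exact co2StabEquiv.symm.injective.nontrivial
  exact IsSimpleGroup.isSimpleGroup_of_surjective co2StabEquiv.symm.toMonoidHom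
    co2StabEquiv.symm.surjective

lemma card_co2stab : Nat.card ↥(MulAction.stabilizer ↥CO2 W0) = 898128000 := by
  rw [Nat.card_congr co2StabEquiv.toEquiv, isMcL_ML0.2]

lemma CO2_preserves (g : ↥CO2) (x : leechLattice) (hx : x.1 ∈ co2Set) : (g • x).1 ∈ co2Set := by
  have hgA := (mem_CO2 g.1).mp g.2
  obtain ⟨-, h2, h3⟩ := hx
  refine ⟨(g • x).2, ?_, ?_⟩
  · exact (g.1.2.2 x).trans h2
  · have := co0_dot g.1.1 g.1.2 OA x
    have e : g.1.1 OA = OA := hgA
    rw [e] at this
    exact this.trans h3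

lemma CO2_orbit (x : leechLattice) : x.1 ∈ co2Set ↔ ∃ g : ↥CO2, g • W0 = x := by
  constructor
  · intro hx
    have c1 := conj2_m8 oa x.1 oa_mem hx.1 sqNorm_oa hx.2.1 hx.2.2
    have c2 := conj2_m8 oa w0 oa_mem w0_memL sqNorm_oa sqNorm_w0 dotInt_oa_w0
    obtain ⟨g, hg, m1, m2, e1, e2⟩ := c2.trans c1.symm
    have f1 : g OA = OA := Subtype.ext e1
    have f2 : g W0 = x := Subtype.ext e2
    exact ⟨⟨⟨g, hg⟩, (mem_CO2 _).mpr f1⟩, f2⟩
  · rintro ⟨g, rfl⟩
    exact CO2_preserves g W0 w0_mem_co2Set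

lemma ncard_co2Set : co2Set.ncard = 47104 := cnt_m8 oa oa_mem sqNorm_oa

lemma ncard_co2All : {x : leechLattice | x.1 ∈ co2Set}.ncard = 47104 :=
  (ncard_transfer 1 _ (fun y => y ∈ co2Set) (fun _ => Iff.rfl) (fun _ hy => hy.1)).trans
    ncard_co2Set

lemma card_CO2 : Nat.card ↥CO2 = 42305421312000 := by
  have h1 := Subgroup.card_eq_card_quotient_mul_card_subgroup (MulAction.stabilizer ↥CO2 W0)
  rw [← Nat.card_congr (MulAction.orbitEquivQuotientStabilizer ↥CO2 W0), card_co2stab] at h1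
  have h2 : (MulAction.orbit ↥CO2 W0 : Set leechLattice) = {x : leechLattice | x.1 ∈ co2Set} := by
    ext x
    rw [Set.mem_ofPred_eq, CO2_orbit]
    rfl
  have h3 : Nat.card ↥(MulAction.orbit ↥CO2 W0) = 47104 := by
    rw [Nat.card_coe_set_eq, h2, ncard_co2All]
  rw [h3] at h1
  rw [h1]

instance finite_CO2 : Finite ↥CO2 :=
  Nat.finite_of_card_ne_zero (by rw [card_CO2]; norm_num)

/-- The point stabiliser is transitive on each class. -/
lemma CO2_trans_class (x y : leechLattice) (hx : x.1 ∈ co2Set) (hy : y.1 ∈ co2Set)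
    (h : dotInt w0 x.1 = dotInt w0 y.1) : ∃ k : ↥CO2, k • W0 = W0 ∧ k • x = y := by
  have h' : dotInt u5 x.1 = dotInt u5 y.1 := by
    rw [dotInt_w0, dotInt_w0, hx.2.2, hy.2.2] at h
    omega
  obtain ⟨g, g1, g2, g3⟩ := (conj3_iff U5 OA x U5 OA y).mp (co2_rank6 x.1 y.1 hx hy h')
  refine ⟨⟨g, (mem_CO2 _).mpr g2⟩, ?_, g3⟩
  show g • W0 = W0
  rw [← U5_sub_OA, smul_sub_co0, g1, g2]

lemma CO2_faithful (g : ↥CO2)
    (hg : ∀ x ∈ {x : leechLattice | x.1 ∈ co2Set}, g • x = x) : g = 1 := by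
  have hk : g.1.1 ∈ Co0 := g.1.2
  apply Subtype.ext
  apply Subtype.ext
  show g.1.1 = 1
  apply Equiv.ext
  intro v
  apply Subtype.ext
  show ((g.1.1 v : leechLattice) : GolayPt → ℤ) = v.1
  set w : GolayPt → ℤ := ((g.1.1 v : leechLattice) : GolayPt → ℤ) with hw
  -- inner products with the fixed vectors
  have key : ∀ x : leechLattice, x.1 ∈ co2Set → dotInt x.1 w = dotInt x.1 v.1 := by
    intro x hx
    have h1 := co0_dot g.1.1 hk x v
    have h2 : g.1.1 x = x := hg x hx
    rw [h2] at h1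
    exact h1
  have hall : ∀ p : GolayPt,
      dotInt (oneVec {p} (-3)) w = dotInt (oneVec {p} (-3)) v.1 := by
    intro p
    by_cases hpn : p = none
    · subst hpn
      have hm : om ∈ co2Set := by
        refine ⟨om_mem, sqNorm_om, ?_⟩
        rw [dotInt_oa, om_none, om_zero]; norm_num
      exact key ⟨om, om_mem⟩ hm
    · by_cases hp0 : p = some 0
      · subst hp0
        exact key W0 w0_mem_co2Set
      · have hmL : -oneVec {p} (-3) ∈ leechLattice := leechLattice.neg_mem (oneVec_neg3_mem p)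
        have hm : -oneVec {p} (-3) ∈ co2Set := by
          refine ⟨hmL, ?_, ?_⟩
          · rw [sqNorm_neg', sqNorm_oneVec, Finset.card_singleton]; norm_num
          · rw [dotInt_neg_right', dotInt_oa, oneVec_apply, oneVec_apply,
              if_neg (by simpa using Ne.symm hpn), if_neg (by simpa using Ne.symm hp0)]
            norm_num
        have := key ⟨_, hmL⟩ hm
        rw [dotInt_neg_left', dotInt_neg_left'] at this
        exact neg_injective this
  have d1 : ∀ p : GolayPt, 4 * (w p - v.1 p) = (∑ q, w q) - ∑ q, v.1 q := by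
    intro p
    have := hall p
    rw [dotInt_oneVec, dotInt_oneVec] at this
    linarith
  have hsum : ∑ p : GolayPt, (4 * (w p - v.1 p) - ((∑ q, w q) - ∑ q, v.1 q)) = 0 := by
    apply Finset.sum_eq_zero
    intro p _
    rw [d1 p]; ring
  rw [Finset.sum_sub_distrib, ← Finset.mul_sum, Finset.sum_sub_distrib, Finset.sum_const,
    Finset.card_univ] at hsum
  have h24 : Fintype.card GolayPt = 24 := by decide
  rw [h24] at hsum
  simp only [nsmul_eq_mul, Nat.cast_ofNat] at hsum
  have hd : (∑ q, w q) - ∑ q, v.1 q = 0 := by linarith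
  ext p
  have := d1 p
  rw [hd] at this
  omega

end Cfsg.Agent.Lib.Helper94
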