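import Mathlib
import Cfsg.Agent.Lib.Helper94.LeechCo2f

/-! The stabiliser of `(4, 4, 0, …)` is primitive on the 47104 vectors, and simple. -/

set_option autoImplicit false

namespace Cfsg.Agent.Lib.Helper94

open Cfsg
open Cfsg.Agent.Lib.Helper95

/-- The values of the inner product with the base point. -/
lemma co2_w0_vals (x : GolayPt → ℤ) (hx : x ∈ co2Set) :
    x = w0 ∨ dotInt w0 x = 16 ∨ dotInt w0 x = 8 ∨ dotInt w0 x = 0 ∨ dotInt w0 x = -8 ∨
      dotInt w0 x = -16 := by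
  have h2 := hx.2.2
  rcases co2_dot_vals x hx with h | h | h | h | h | h
  · left; exact h.1
  all_goals (right; rw [dotInt_w0, h2, h]; norm_num)

/-- The block condition for the action on the 47104 vectors. -/
lemma CO2_block (T : Set leechLattice) (haT : W0 ∈ T)
    (hT : T ⊆ {x : leechLattice | x.1 ∈ co2Set})
    (hblk : ∀ g : ↥CO2, g • W0 ∈ T → ∀ x ∈ T, g • x ∈ T) :
    T = {W0} ∨ T = {x : leechLattice | x.1 ∈ co2Set} := by
  classical
  by_cases hT1 : T = {W0}
  · left; exact hT1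
  right
  -- the classes contained in `T`
  set In : ℤ → Prop := fun r => ∀ z : leechLattice, z.1 ∈ co2Set → dotInt w0 z.1 = r → z ∈ T
    with hIn
  have step1 : ∀ y ∈ T, In (dotInt w0 y.1) := by
    intro y hy z hz hzr
    obtain ⟨k, k1, k2⟩ := CO2_trans_class y z (hT hy) hz hzr.symm
    rw [← k2]
    exact hblk k (by rw [k1]; exact haT) y hy
  have step2 : ∀ r1 r2 : ℤ, In r1 → In r2 → ∀ P Q : leechLattice, P.1 ∈ co2Set → Q.1 ∈ co2Set →
      dotInt w0 P.1 = r1 → dotInt P.1 Q.1 = r2 → In (dotInt w0 Q.1) := by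
    intro r1 r2 h1 h2 P Q hP hQ hr1 hr2
    have hPT : P ∈ T := h1 P hP hr1
    obtain ⟨g, hgP⟩ := (CO2_orbit P).mp hP
    have hy2 : (g⁻¹ • Q).1 ∈ co2Set := CO2_preserves g⁻¹ Q hQ
    have hd : dotInt w0 (g⁻¹ • Q).1 = r2 := by
      have := co0_dot g.1.1 g.1.2 W0 (g⁻¹ • Q)
      have e1 : g.1.1 W0 = P := hgP
      have e2 : g.1.1 (g⁻¹ • Q) = Q := smul_inv_smul g Q
      rw [e1, e2] at this
      rw [← hr2, this]
      rfl
    have hy2T : g⁻¹ • Q ∈ T := h2 _ hy2 hd
    have hQT : Q ∈ T := by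
      have := hblk g (by rw [hgP]; exact hPT) _ hy2T
      rwa [smul_inv_smul] at this
    exact step1 Q hQT
  -- the witnesses
  obtain ⟨hA, nA, zA⟩ := cwA_good
  obtain ⟨hB, nB, zB⟩ := cwB_good
  obtain ⟨hS, nS, zS⟩ := cwS_good
  obtain ⟨hD, nD, zD⟩ := cwD_good
  have mXA := vX_mem hA nA zA
  have mXB := vX_mem hB nB zB
  have mXS := vX_mem hS nS zS
  have mXD := vX_mem hD nD zD
  have mGA := vG_mem hA nA zA
  have mGS := vG_mem hS nS zS
  have mGD := vG_mem hD nD zD
  have wXA : dotInt w0 (vX cwA) = 16 := by rw [dot_w0_vX hA nA zA, norm_cwA]; norm_num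
  have wXB : dotInt w0 (vX cwB) = 16 := by rw [dot_w0_vX hB nB zB, norm_cwB]; norm_num
  have wXS : dotInt w0 (vX cwS) = 0 := by rw [dot_w0_vX hS nS zS, norm_cwS]; norm_num
  have wXD : dotInt w0 (vX cwD) = 8 := by rw [dot_w0_vX hD nD zD, norm_cwD]; norm_num
  have wGA : dotInt w0 (vG cwA) = 0 := by rw [dot_w0_vG hA nA zA, norm_cwA]; norm_num
  have wGS : dotInt w0 (vG cwS) = -16 := by rw [dot_w0_vG hS nS zS, norm_cwS]; norm_num
  have wGD : dotInt w0 (vG cwD) = -8 := by rw [dot_w0_vG hD nD zD, norm_cwD]; norm_num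
  -- reaching the class 16 from any class
  have h16 : In 16 := by
    have hne : ∃ y ∈ T, y ≠ W0 := by
      by_contra hcon
      push Not at hcon
      apply hT1
      ext y
      rw [Set.mem_singleton_iff]
      exact ⟨fun hy => hcon y hy, fun hy => by rw [hy]; exact haT⟩
    obtain ⟨y, hy, hyne⟩ := hne
    have hy1 := step1 y hy
    rcases co2_w0_vals y.1 (hT hy) with h | h | h | h | h | h
    · exact absurd (Subtype.ext h) hyne
    · rwa [h] at hy1
    · rw [h] at hy1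
      have := step2 8 8 hy1 hy1 ⟨_, mXD.1⟩ ⟨_, mXB.1⟩ mXD mXB wXD (by
        show dotInt (vX cwD) (vX cwB) = 8
        rw [dot_vX_vX hD nD zD hB nB zB, norm_cwDB]; norm_num)
      rwa [show dotInt w0 (⟨_, mXB.1⟩ : leechLattice).1 = 16 from wXB] at this
    · rw [h] at hy1
      have := step2 0 0 hy1 hy1 ⟨_, mGA.1⟩ ⟨_, mXB.1⟩ mGA mXB wGA (by
        show dotInt (vG cwA) (vX cwB) = 0
        rw [dotInt_comm', dot_vX_vG hB nB zB hA nA zA, add_comm, norm_cwAB]; norm_num)
      rwa [show dotInt w0 (⟨_, mXB.1⟩ : leechLattice).1 = 16 from wXB] at this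
    · rw [h] at hy1
      have := step2 (-8) (-8) hy1 hy1 ⟨_, mGD.1⟩ ⟨_, mXB.1⟩ mGD mXB wGD (by
        show dotInt (vG cwD) (vX cwB) = -8
        rw [dotInt_comm', dot_vX_vG hB nB zB hD nD zD, add_comm, norm_cwDB]; norm_num)
      rwa [show dotInt w0 (⟨_, mXB.1⟩ : leechLattice).1 = 16 from wXB] at this
    · rw [h] at hy1
      have := step2 (-16) (-16) hy1 hy1 ⟨_, mGS.1⟩ ⟨_, mXB.1⟩ mGS mXB wGS (by
        show dotInt (vG cwS) (vX cwB) = -16
        rw [dotInt_comm', dot_vX_vG hB nB zB hS nS zS, add_comm, norm_cwSB]; norm_num)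
      rwa [show dotInt w0 (⟨_, mXB.1⟩ : leechLattice).1 = 16 from wXB] at this
  have h8 : In 8 := by
    have := step2 16 16 h16 h16 ⟨_, mXA.1⟩ ⟨_, mXD.1⟩ mXA mXD wXA (by
      show dotInt (vX cwA) (vX cwD) = 16
      rw [dot_vX_vX hA nA zA hD nD zD, norm_cwAD]; norm_num)
    rwa [show dotInt w0 (⟨_, mXD.1⟩ : leechLattice).1 = 8 from wXD] at this
  have h0 : In 0 := by
    have := step2 16 16 h16 h16 ⟨_, mXA.1⟩ ⟨_, mXS.1⟩ mXA mXS wXA (by
      show dotInt (vX cwA) (vX cwS) = 16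
      rw [dot_vX_vX hA nA zA hS nS zS, norm_cwAS]; norm_num)
    rwa [show dotInt w0 (⟨_, mXS.1⟩ : leechLattice).1 = 0 from wXS] at this
  have hm8 : In (-8) := by
    have := step2 16 0 h16 h0 ⟨_, mXA.1⟩ ⟨_, mGD.1⟩ mXA mGD wXA (by
      show dotInt (vX cwA) (vG cwD) = 0
      rw [dot_vX_vG hA nA zA hD nD zD, norm_cwAD]; norm_num)
    rwa [show dotInt w0 (⟨_, mGD.1⟩ : leechLattice).1 = -8 from wGD] at this
  have hm16 : In (-16) := by
    have := step2 16 0 h16 h0 ⟨_, mXA.1⟩ ⟨_, mGS.1⟩ mXA mGS wXA (by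
      show dotInt (vX cwA) (vG cwS) = 0
      rw [dot_vX_vG hA nA zA hS nS zS, norm_cwAS]; norm_num)
    rwa [show dotInt w0 (⟨_, mGS.1⟩ : leechLattice).1 = -16 from wGS] at this
  apply Set.Subset.antisymm hT
  intro z hz
  rcases co2_w0_vals z.1 hz with h | h | h | h | h | h
  · have : z = W0 := Subtype.ext h
    rw [this]; exact haT
  · exact h16 z hz h
  · exact h8 z hz h
  · exact h0 z hz h
  · exact hm8 z hz h
  · exact hm16 z hz h

/-- The stabiliser of the standard vector of sum of squares 32 is simple of order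
42305421312000. -/
theorem isCo2_CO2 : IsSimpleGroup ↥CO2 ∧ Nat.card ↥CO2 = 42305421312000 := by
  refine ⟨?_, card_CO2⟩
  apply simple_of_block' (G := ↥CO2) W0 {x : leechLattice | x.1 ∈ co2Set}
    (fun x => CO2_orbit x) CO2_block CO2_faithful simple_co2stab
  intro N hN hne hcard
  rw [ncard_co2All] at hcard
  have : Finite ↥N := inferInstance
  obtain ⟨K, hKc, hKne, hKlt⟩ := exists_char_small ↥N hcard
  have hMn : (K.map N.subtype).Normal := by
    haveI := hN
    haveI := hKc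
    exact ConjAct.normal_of_characteristic_of_normal
  have hMc : Nat.card ↥(K.map N.subtype) = Nat.card ↥K :=
    Subgroup.card_map_of_injective N.subtype_injective
  have hMne : K.map N.subtype ≠ ⊥ := by
    intro h
    apply hKne
    rw [Subgroup.map_eq_bot_iff_of_injective K N.subtype_injective] at h
    exact h
  obtain ⟨-, h2⟩ := normal_transitive' (G := ↥CO2) W0 {x : leechLattice | x.1 ∈ co2Set}
    (fun x => CO2_orbit x) CO2_block CO2_faithful _ hMn hMne
  rw [ncard_co2All, hMc] at h2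
  have hpos : 0 < Nat.card ↥(MulAction.stabilizer ↥(K.map N.subtype) W0) := Nat.card_pos
  nlinarith

end Cfsg.Agent.Lib.Helper94
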