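import Mathlib
import Cfsg.Agent.Lib.Helper94.LeechCo2g
import Cfsg.Agent.Lib.Helper94.LeechPairs3

/-! The automorphism group of the lattice acting on the 196560 vectors of sum of squares 32: the
blocks containing the standard vector. -/

set_option autoImplicit false

namespace Cfsg.Agent.Lib.Helper94

open Cfsg
open Cfsg.Agent.Lib.Helper95

/-- The lattice elements of sum of squares 32. -/
def L2 : Set leechLattice := {x | sqNorm x.1 = 32}

lemma mem_L2 (x : leechLattice) : x ∈ L2 ↔ sqNorm x.1 = 32 := Iff.rfl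

lemma OA_mem_L2 : OA ∈ L2 := sqNorm_oa

lemma smul_mem_L2 (g : ↥Co0) (x : leechLattice) (hx : x ∈ L2) : g • x ∈ L2 :=
  (g.2.2 x).trans hx

lemma Co0_orbit_L2 (x : leechLattice) : x ∈ L2 ↔ ∃ g : ↥Co0, g • OA = x := by
  constructor
  · intro hx
    have c1 := conj_norm32 x.1 x.2 hx
    rw [v0_eq_oa] at c1
    obtain ⟨g, hg, m, e⟩ := c1.symm
    exact ⟨⟨g, hg⟩, Subtype.ext e⟩
  · rintro ⟨g, rfl⟩
    exact smul_mem_L2 g OA OA_mem_L2

lemma smul_neg_co0 (g : ↥Co0) (a : leechLattice) : g • (-a) = -(g • a) :=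
  co0_neg g.1 g.2 a

lemma smul_dot_co0 (g : ↥Co0) (a b : leechLattice) :
    dotInt (g • a).1 (g • b).1 = dotInt a.1 b.1 := co0_dot g.1 g.2 a b

lemma CO2_of_conj2 {x y : GolayPt → ℤ} (h : Conj2 oa x oa y) (hx : x ∈ leechLattice)
    (hy : y ∈ leechLattice) : ∃ k : ↥CO2, k • (⟨x, hx⟩ : leechLattice) = ⟨y, hy⟩ := by
  obtain ⟨g, hg, m1, m2, e1, e2⟩ := h
  have f1 : g OA = OA := Subtype.ext e1
  exact ⟨⟨⟨g, hg⟩, (mem_CO2 _).mpr f1⟩, Subtype.ext e2⟩

lemma CO2_of_conj2_neg {x y : GolayPt → ℤ} (h : Conj2 oa (-x) oa (-y)) (hx : x ∈ leechLattice)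
    (hy : y ∈ leechLattice) : ∃ k : ↥CO2, k • (⟨x, hx⟩ : leechLattice) = ⟨y, hy⟩ := by
  obtain ⟨k, hk⟩ := CO2_of_conj2 h (leechLattice.neg_mem hx) (leechLattice.neg_mem hy)
  refine ⟨k, ?_⟩
  have e1 : (⟨-x, leechLattice.neg_mem hx⟩ : leechLattice) = -⟨x, hx⟩ := rfl
  have e2 : (⟨-y, leechLattice.neg_mem hy⟩ : leechLattice) = -⟨y, hy⟩ := rfl
  rw [e1, e2] at hk
  have h2 : k.1 • (-(⟨x, hx⟩ : leechLattice)) = -⟨y, hy⟩ := hk
  rw [smul_neg_co0, neg_inj] at h2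
  exact h2

/-- The stabiliser of the standard vector is transitive on each class of vectors of sum of
squares 32. -/
lemma CO2_trans_r (x y : leechLattice) (hx : x ∈ L2) (hy : y ∈ L2)
    (h : dotInt oa x.1 = dotInt oa y.1) : ∃ k : ↥CO2, k • x = y := by
  have hx' : sqNorm x.1 = 32 := hx
  have hy' : sqNorm y.1 = 32 := hy
  obtain ⟨x, hxL⟩ := x
  obtain ⟨y, hyL⟩ := y
  simp only at h hx' hy'
  have vx := dot_vals oa x oa_mem sqNorm_oa hxL hx'
  have vy := dot_vals oa y oa_mem sqNorm_oa hyL hy'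
  rcases vx with ⟨h1, h2⟩ | ⟨h1, h2⟩ | h1 | h1 | h1 | h1 | h1
  · refine ⟨1, ?_⟩
    rw [one_smul]
    apply Subtype.ext
    show x = y
    rcases vy with ⟨h3, h4⟩ | ⟨h3, h4⟩ | h3 | h3 | h3 | h3 | h3
    · rw [h2, h4]
    all_goals omega
  · refine ⟨1, ?_⟩
    rw [one_smul]
    apply Subtype.ext
    show x = y
    rcases vy with ⟨h3, h4⟩ | ⟨h3, h4⟩ | h3 | h3 | h3 | h3 | h3
    · omega
    · rw [h2, h4]
    all_goals omega
  · -- inner product 16
    apply CO2_of_conj2_neg _ hxL hyL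
    have c1 := conj2_m16 oa (-x) oa_mem (leechLattice.neg_mem hxL) sqNorm_oa
      (by rw [sqNorm_neg', hx']) (by rw [dotInt_neg_right', h1])
    have c2 := conj2_m16 oa (-y) oa_mem (leechLattice.neg_mem hyL) sqNorm_oa
      (by rw [sqNorm_neg', hy']) (by rw [dotInt_neg_right', ← h, h1])
    exact c1.trans c2.symm
  · apply CO2_of_conj2 _ hxL hyL
    have c1 := conj2_m16 oa x oa_mem hxL sqNorm_oa hx' h1
    have c2 := conj2_m16 oa y oa_mem hyL sqNorm_oa hy' (by rw [← h, h1])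
    exact c1.trans c2.symm
  · apply CO2_of_conj2_neg _ hxL hyL
    have c1 := conj2_m8 oa (-x) oa_mem (leechLattice.neg_mem hxL) sqNorm_oa
      (by rw [sqNorm_neg', hx']) (by rw [dotInt_neg_right', h1])
    have c2 := conj2_m8 oa (-y) oa_mem (leechLattice.neg_mem hyL) sqNorm_oa
      (by rw [sqNorm_neg', hy']) (by rw [dotInt_neg_right', ← h, h1])
    exact c1.trans c2.symm
  · apply CO2_of_conj2 _ hxL hyL
    have c1 := conj2_m8 oa x oa_mem hxL sqNorm_oa hx' h1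
    have c2 := conj2_m8 oa y oa_mem hyL sqNorm_oa hy' (by rw [← h, h1])
    exact c1.trans c2.symm
  · apply CO2_of_conj2 _ hxL hyL
    have c1 := conj2_ortho oa x oa_mem hxL sqNorm_oa hx' h1
    have c2 := conj2_ortho oa y oa_mem hyL sqNorm_oa hy' (by rw [← h, h1])
    exact c1.trans c2.symm

end Cfsg.Agent.Lib.Helper94
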