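import Mathlib
import Cfsg.Agent.Lib.Helper94.LeechCo1a

/-! The blocks of the automorphism group of the lattice on the 196560 vectors of sum of squares 32
containing the standard vector: the vector alone, the vector and its negative, or everything. -/

set_option autoImplicit false

namespace Cfsg.Agent.Lib.Helper94

open Cfsg
open Cfsg.Agent.Lib.Helper95

lemma twoVec_val (i j p : GolayPt) (s : ℤ) :
    twoVec i j s p = (if p = i then 4 else 0) + (if p = j then s else 0) := by
  unfold twoVec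
  rw [Pi.add_apply, Pi.single_apply, Pi.single_apply]

lemma dotInt_oa_twoVec (i j : GolayPt) (s : ℤ) :
    dotInt oa (twoVec i j s) =
      4 * ((if none = i then 4 else 0) + (if none = j then s else 0)) +
        4 * ((if some 0 = i then 4 else 0) + (if some 0 = j then s else 0)) := by
  rw [dotInt_oa, twoVec_val, twoVec_val]

lemma dotInt_twoVec_twoVec (i j k l : GolayPt) (s t : ℤ) :
    dotInt (twoVec i j s) (twoVec k l t) =
      ((if k = i then 4 else 0) + (if k = j then s else 0)) * 4 +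
        ((if l = i then 4 else 0) + (if l = j then s else 0)) * t := by
  rw [dotInt_twoVec, twoVec_val, twoVec_val]

lemma dotInt_oneVec_twoVec (p i j : GolayPt) (s : ℤ) :
    dotInt (oneVec {p} (-3)) (twoVec i j s) =
      (if i = p then -3 else 1) * 4 + (if j = p then -3 else 1) * s := by
  rw [dotInt_twoVec, oneVec_apply, oneVec_apply]
  simp only [Finset.mem_singleton]

lemma dotInt_oa_oneVec (p : GolayPt) :
    dotInt oa (oneVec {p} (-3)) =
      4 * (if none = p then -3 else 1) + 4 * (if some 0 = p then -3 else 1) := by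
  rw [dotInt_oa, oneVec_apply, oneVec_apply]
  simp only [Finset.mem_singleton]

lemma sqNorm_oneVec_neg3 (p : GolayPt) : sqNorm (oneVec {p} (-3)) = 32 := by
  rw [sqNorm_oneVec, Finset.card_singleton]; norm_num

/-- A lattice element of the shape `(4, ±4, 0, …)`. -/
def Tw (i j : GolayPt) (s : ℤ) (hs : s = 4 ∨ s = -4) : leechLattice := ⟨twoVec i j s, twoVec_mem hs⟩

/-- A lattice element of the shape `(-3, 1, …, 1)`. -/
def Vp (p : GolayPt) : leechLattice := ⟨oneVec {p} (-3), oneVec_neg3_mem p⟩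

lemma Tw_mem_L2 {i j : GolayPt} (hij : i ≠ j) (s : ℤ) (hs : s = 4 ∨ s = -4) : Tw i j s hs ∈ L2 :=
  sqNorm_twoVec hij hs

lemma Vp_mem_L2 (p : GolayPt) : Vp p ∈ L2 := sqNorm_oneVec_neg3 p

lemma neg_OA_mem_L2 : -OA ∈ L2 := by
  show sqNorm (-oa) = 32
  rw [sqNorm_neg', sqNorm_oa]

/-- The block condition for the action on the 196560 vectors. -/
lemma Co0_block (T : Set leechLattice) (haT : OA ∈ T) (hT : T ⊆ L2)
    (hblk : ∀ g : ↥Co0, g • OA ∈ T → ∀ x ∈ T, g • x ∈ T) :
    (∀ x ∈ T, x = OA ∨ x = -OA) ∨ T = L2 := by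
  classical
  by_cases hT1 : ∀ x ∈ T, x = OA ∨ x = -OA
  · left; exact hT1
  right
  push Not at hT1
  obtain ⟨y, hy, hy1, hy2⟩ := hT1
  set In : ℤ → Prop := fun r => ∀ z : leechLattice, z ∈ L2 → dotInt oa z.1 = r → z ∈ T
    with hIn
  have step1 : ∀ y ∈ T, In (dotInt oa y.1) := by
    intro y hy z hz hzr
    obtain ⟨k, k2⟩ := CO2_trans_r y z (hT hy) hz hzr.symm
    rw [← k2]
    exact hblk k.1 (by rw [(mem_CO2 _).mp k.2]; exact haT) y hy
  have step2 : ∀ r1 r2 : ℤ, In r1 → In r2 → ∀ P Q : leechLattice, P ∈ L2 → Q ∈ L2 →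
      dotInt oa P.1 = r1 → dotInt P.1 Q.1 = r2 → In (dotInt oa Q.1) := by
    intro r1 r2 h1 h2 P Q hP hQ hr1 hr2
    have hPT : P ∈ T := h1 P hP hr1
    obtain ⟨g, hgP⟩ := (Co0_orbit_L2 P).mp hP
    have hy2 : g⁻¹ • Q ∈ L2 := smul_mem_L2 g⁻¹ Q hQ
    have hd : dotInt oa (g⁻¹ • Q).1 = r2 := by
      have := smul_dot_co0 g OA (g⁻¹ • Q)
      rw [hgP, smul_inv_smul] at this
      rw [← hr2, this]
      rfl
    have hy2T : g⁻¹ • Q ∈ T := h2 _ hy2 hd
    have hQT : Q ∈ T := by
      have := hblk g (by rw [hgP]; exact hPT) _ hy2T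
      rwa [smul_inv_smul] at this
    exact step1 Q hQT
  -- the class of inner product 16 lies in `T`
  have h16 : In 16 := by
    have hy3 := step1 y hy
    rcases dot_vals oa y.1 oa_mem sqNorm_oa y.2 (hT hy) with ⟨-, h⟩ | ⟨-, h⟩ | h | h | h | h | h
    · exact absurd (Subtype.ext h) hy1
    · exact absurd (Subtype.ext h) hy2
    · rwa [h] at hy3
    · rw [h] at hy3
      have := step2 (-16) (-16) hy3 hy3 (Tw (some 1) none (-4) (Or.inr rfl))
        (Tw none (some 2) 4 (Or.inl rfl)) (Tw_mem_L2 (by decide) _ _) (Tw_mem_L2 (by decide) _ _)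
        (by show dotInt oa (twoVec _ _ _) = -16; rw [dotInt_oa_twoVec]; decide)
        (by show dotInt (twoVec _ _ _) (twoVec _ _ _) = -16; rw [dotInt_twoVec_twoVec]; decide)
      rwa [show dotInt oa (Tw none (some 2) 4 (Or.inl rfl)).1 = 16 by
        show dotInt oa (twoVec _ _ _) = 16; rw [dotInt_oa_twoVec]; decide] at this
    · rw [h] at hy3
      have := step2 8 8 hy3 hy3 (Vp (some 1))
        (Tw none (some 2) 4 (Or.inl rfl)) (Vp_mem_L2 _) (Tw_mem_L2 (by decide) _ _)
        (by show dotInt oa (oneVec _ _) = 8; rw [dotInt_oa_oneVec]; decide)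
        (by show dotInt (oneVec _ _) (twoVec _ _ _) = 8; rw [dotInt_oneVec_twoVec]; decide)
      rwa [show dotInt oa (Tw none (some 2) 4 (Or.inl rfl)).1 = 16 by
        show dotInt oa (twoVec _ _ _) = 16; rw [dotInt_oa_twoVec]; decide] at this
    · rw [h] at hy3
      have := step2 (-8) (-8) hy3 hy3 (Vp none)
        (Tw none (some 1) 4 (Or.inl rfl)) (Vp_mem_L2 _) (Tw_mem_L2 (by decide) _ _)
        (by show dotInt oa (oneVec _ _) = -8; rw [dotInt_oa_oneVec]; decide)
        (by show dotInt (oneVec _ _) (twoVec _ _ _) = -8; rw [dotInt_oneVec_twoVec]; decide)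
      rwa [show dotInt oa (Tw none (some 1) 4 (Or.inl rfl)).1 = 16 by
        show dotInt oa (twoVec _ _ _) = 16; rw [dotInt_oa_twoVec]; decide] at this
    · rw [h] at hy3
      have := step2 0 0 hy3 hy3 (Tw (some 1) (some 2) 4 (Or.inl rfl))
        (Tw none (some 3) 4 (Or.inl rfl)) (Tw_mem_L2 (by decide) _ _) (Tw_mem_L2 (by decide) _ _)
        (by show dotInt oa (twoVec _ _ _) = 0; rw [dotInt_oa_twoVec]; decide)
        (by show dotInt (twoVec _ _ _) (twoVec _ _ _) = 0; rw [dotInt_twoVec_twoVec]; decide)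
      rwa [show dotInt oa (Tw none (some 3) 4 (Or.inl rfl)).1 = 16 by
        show dotInt oa (twoVec _ _ _) = 16; rw [dotInt_oa_twoVec]; decide] at this
  have h0 : In 0 := by
    have := step2 16 16 h16 h16 (Tw none (some 1) 4 (Or.inl rfl))
      (Tw (some 1) (some 2) 4 (Or.inl rfl)) (Tw_mem_L2 (by decide) _ _) (Tw_mem_L2 (by decide) _ _)
      (by show dotInt oa (twoVec _ _ _) = 16; rw [dotInt_oa_twoVec]; decide)
      (by show dotInt (twoVec _ _ _) (twoVec _ _ _) = 16; rw [dotInt_twoVec_twoVec]; decide)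
    rwa [show dotInt oa (Tw (some 1) (some 2) 4 (Or.inl rfl)).1 = 0 by
      show dotInt oa (twoVec _ _ _) = 0; rw [dotInt_oa_twoVec]; decide] at this
  have hm16 : In (-16) := by
    have := step2 16 16 h16 h16 (Tw none (some 1) 4 (Or.inl rfl))
      (Tw (some 1) (some 0) (-4) (Or.inr rfl)) (Tw_mem_L2 (by decide) _ _)
      (Tw_mem_L2 (by decide) _ _)
      (by show dotInt oa (twoVec _ _ _) = 16; rw [dotInt_oa_twoVec]; decide)
      (by show dotInt (twoVec _ _ _) (twoVec _ _ _) = 16; rw [dotInt_twoVec_twoVec]; decide)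
    rwa [show dotInt oa (Tw (some 1) (some 0) (-4) (Or.inr rfl)).1 = -16 by
      show dotInt oa (twoVec _ _ _) = -16; rw [dotInt_oa_twoVec]; decide] at this
  have h8 : In 8 := by
    have := step2 16 0 h16 h0 (Tw none (some 1) (-4) (Or.inr rfl))
      (Vp (some 2)) (Tw_mem_L2 (by decide) _ _) (Vp_mem_L2 _)
      (by show dotInt oa (twoVec _ _ _) = 16; rw [dotInt_oa_twoVec]; decide)
      (by show dotInt (twoVec _ _ _) (oneVec _ _) = 0
          rw [dotInt_comm', dotInt_oneVec_twoVec]; decide)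
    rwa [show dotInt oa (Vp (some 2)).1 = 8 by
      show dotInt oa (oneVec _ _) = 8; rw [dotInt_oa_oneVec]; decide] at this
  have hm8 : In (-8) := by
    have := step2 16 0 h16 h0 (Tw none (some 1) (-4) (Or.inr rfl))
      (Vp (some 0)) (Tw_mem_L2 (by decide) _ _) (Vp_mem_L2 _)
      (by show dotInt oa (twoVec _ _ _) = 16; rw [dotInt_oa_twoVec]; decide)
      (by show dotInt (twoVec _ _ _) (oneVec _ _) = 0
          rw [dotInt_comm', dotInt_oneVec_twoVec]; decide)
    rwa [show dotInt oa (Vp (some 0)).1 = -8 by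
      show dotInt oa (oneVec _ _) = -8; rw [dotInt_oa_oneVec]; decide] at this
  have hm32 : In (-32) := by
    have := step2 0 0 h0 h0 (Tw (some 1) (some 2) 4 (Or.inl rfl))
      (-OA) (Tw_mem_L2 (by decide) _ _) neg_OA_mem_L2
      (by show dotInt oa (twoVec _ _ _) = 0; rw [dotInt_oa_twoVec]; decide)
      (by show dotInt (twoVec _ _ _) (-oa) = 0
          rw [dotInt_neg_right', dotInt_comm', dotInt_oa_twoVec]; decide)
    rwa [show dotInt oa (-OA).1 = -32 by
      show dotInt oa (-oa) = -32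
      rw [dotInt_neg_right', dotInt_self, sqNorm_oa]] at this
  apply Set.Subset.antisymm hT
  intro z hz
  rcases dot_vals oa z.1 oa_mem sqNorm_oa z.2 hz with ⟨-, h⟩ | ⟨h, -⟩ | h | h | h | h | h
  · have : z = OA := Subtype.ext h
    rw [this]; exact haT
  · exact hm32 z hz h
  · exact h16 z hz h
  · exact hm16 z hz h
  · exact h8 z hz h
  · exact hm8 z hz h
  · exact h0 z hz h

end Cfsg.Agent.Lib.Helper94
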