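import Mathlib
import Cfsg.Agent.Lib.Helper94.LeechCo1b
import Cfsg.Agent.Lib.Helper94.LeechClasses

/-! The normal subgroups of the automorphism group of the lattice: a normal subgroup lies in
`{1, -1}` or is everything. -/

set_option autoImplicit false

namespace Cfsg.Agent.Lib.Helper94

open Cfsg
open Cfsg.Agent.Lib.Helper95

/-- A group acting without fixed points on a finite invariant set has order dividing the
size of the set. -/
theorem card_dvd_of_semiregular {G Z : Type*} [Group G] [MulAction G Z] (Ω : Set Z)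
    (hinv : ∀ g : G, ∀ x ∈ Ω, g • x ∈ Ω) (hfree : ∀ g : G, ∀ x ∈ Ω, g • x = x → g = 1) :
    Nat.card G ∣ Ω.ncard := by
  let A : SubMulAction G Z := ⟨Ω, fun g x hx => hinv g x hx⟩
  have hst : ∀ b : ↥A, MulAction.stabilizer G b = ⊥ := by
    intro b
    rw [Subgroup.eq_bot_iff_forall]
    intro g hg
    have h1 : g • b = b := hg
    exact hfree g b.1 b.2 (congrArg Subtype.val h1)
  have e := MulAction.selfEquivOrbitsQuotientProd hst
  have h2 : Nat.card ↥A = Nat.card (Quotient (MulAction.orbitRel G ↥A)) * Nat.card G := by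
    rw [Nat.card_congr e, Nat.card_prod]
  have h3 : Nat.card ↥A = Ω.ncard := Nat.card_coe_set_eq Ω
  rw [← h3, h2]
  exact Dvd.intro_left _ rfl

/-- Negation as an automorphism of the lattice. -/
def NEG : ↥Co0 := ⟨Equiv.neg leechLattice, negPerm_mem'⟩

lemma NEG_smul (x : leechLattice) : NEG • x = -x := rfl

lemma NEG_mul_self : NEG * NEG = 1 := by
  apply Subtype.ext
  apply Equiv.ext
  intro x
  show -(-x) = x
  exact neg_neg x

lemma NEG_inv : NEG⁻¹ = NEG := inv_eq_of_mul_eq_one_right NEG_mul_self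

lemma OA_ne_neg : OA ≠ -OA := by
  intro h
  have h1 : oa none = (-oa) none := congrFun (congrArg Subtype.val h) none
  rw [Pi.neg_apply] at h1
  have h2 : oa none = 4 := by
    show twoVec none (some 0) 4 none = 4
    rw [twoVec_val]; decide
  rw [h2] at h1
  norm_num at h1

lemma NEG_ne_one : NEG ≠ 1 := by
  intro h
  have h1 : NEG • OA = OA := by rw [h, one_smul]
  rw [NEG_smul] at h1
  exact OA_ne_neg h1.symm

/-- The lattice elements of sum of squares 48. -/
def L3 : Set leechLattice := {x | sqNorm x.1 = 48}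

lemma U5_mem_L3 : U5 ∈ L3 := sqNorm_u5

lemma smul_mem_L3 (g : ↥Co0) (x : leechLattice) (hx : x ∈ L3) : g • x ∈ L3 :=
  (g.2.2 x).trans hx

lemma Co0_orbit_L3 (x : leechLattice) : x ∈ L3 ↔ ∃ g : ↥Co0, g • U5 = x := by
  constructor
  · intro hx
    have c1 := conj_u5 x.1 x.2 hx
    obtain ⟨g, hg, m, e⟩ := c1.symm
    exact ⟨⟨g, hg⟩, Subtype.ext e⟩
  · rintro ⟨g, rfl⟩
    exact smul_mem_L3 g U5 U5_mem_L3

lemma ncard_L2 : L2.ncard = 196560 :=
  (ncard_transfer 1 _ (fun y => y ∈ shortSet 32) (fun x => by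
    show sqNorm x.1 = 32 ↔ x.1 ∈ leechLattice ∧ sqNorm x.1 = 32
    exact ⟨fun h => ⟨x.2, h⟩, fun h => h.2⟩) (fun _ hy => hy.1)).trans shortSet32_ncard

lemma ncard_L3 : L3.ncard = 16773120 :=
  (ncard_transfer 1 _ (fun y => y ∈ shortSet 48) (fun x => by
    show sqNorm x.1 = 48 ↔ x.1 ∈ leechLattice ∧ sqNorm x.1 = 48
    exact ⟨fun h => ⟨x.2, h⟩, fun h => h.2⟩) (fun _ hy => hy.1)).trans shortSet48_ncard

lemma W0_mem_L2 : W0 ∈ L2 := sqNorm_w0

lemma ML0_ne_bot : ∃ g ∈ ML0, g ≠ 1 := by
  by_contra hcon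
  push Not at hcon
  have h1 : ML0 = ⊥ := (Subgroup.eq_bot_iff_forall ML0).mpr hcon
  have h2 := isMcL_ML0.2
  rw [h1, Subgroup.card_bot] at h2
  norm_num at h2

/-- A normal subgroup of the automorphism group of the lattice lies in `{1, -1}` or is
everything. -/
theorem Co0_normal_cases (N : Subgroup ↥Co0) (hN : N.Normal) :
    (∀ n ∈ N, n = 1 ∨ n = NEG) ∨ N = ⊤ := by
  classical
  set S : Set leechLattice := {x | ∃ n ∈ N, n • OA = x} with hS
  have haS : OA ∈ S := ⟨1, N.one_mem, one_smul _ _⟩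
  have hSΩ : S ⊆ L2 := by
    rintro x ⟨n, -, rfl⟩
    exact smul_mem_L2 n OA OA_mem_L2
  have hSblk : ∀ g : ↥Co0, g • OA ∈ S → ∀ x ∈ S, g • x ∈ S := by
    rintro g ⟨n, hn, hna⟩ x ⟨m, hm, rfl⟩
    refine ⟨g * m * g⁻¹ * n, N.mul_mem (hN.conj_mem m hm g) hn, ?_⟩
    rw [mul_smul, hna, mul_smul, mul_smul, inv_smul_smul]
  have hcases := Co0_block S haS hSΩ hSblk
  have hconj : ∀ n ∈ N, ∀ g : ↥Co0, g⁻¹ * n * g ∈ N := by
    intro n hn g
    have := hN.conj_mem n hn g⁻¹
    rwa [inv_inv] at this
  have hM : (N.subgroupOf CO2).Normal := hN.subgroupOf _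
  rcases isCo2_CO2.1.eq_bot_or_eq_top_of_normal (N.subgroupOf CO2) hM with hK | hK
  · -- no fixed points
    rw [Subgroup.subgroupOf_eq_bot] at hK
    have hfree0 : ∀ n ∈ N, n • OA = OA → n = 1 := by
      intro n hn hna
      have : n ∈ N ⊓ CO2 := ⟨hn, (mem_CO2 n).mpr hna⟩
      rw [hK.eq_bot] at this
      exact this
    have hfree : ∀ n ∈ N, ∀ x ∈ L2, n • x = x → n = 1 := by
      intro n hn x hx hnx
      obtain ⟨g, rfl⟩ := (Co0_orbit_L2 x).mp hx
      have h1 : (g⁻¹ * n * g) • OA = OA := by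
        rw [mul_smul, mul_smul, hnx, inv_smul_smul]
      have h2 := hfree0 _ (hconj n hn g) h1
      have h3 : n = g * (g⁻¹ * n * g) * g⁻¹ := by group
      rw [h3, h2]
      group
    rcases hcases with hc | hc
    · left
      have hpm : ∀ n ∈ N, ∀ x ∈ L2, n • x = x ∨ n • x = -x := by
        intro n hn x hx
        obtain ⟨g, rfl⟩ := (Co0_orbit_L2 x).mp hx
        have h1 : (g⁻¹ * n * g) • OA ∈ S := ⟨_, hconj n hn g, rfl⟩
        rcases hc _ h1 with h | h
        · left
          rw [mul_smul, mul_smul, inv_smul_eq_iff] at h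
          exact h
        · right
          rw [mul_smul, mul_smul, inv_smul_eq_iff, smul_neg_co0] at h
          exact h
      intro n hn
      by_cases h1 : n = 1
      · left; exact h1
      right
      have hfix : ∀ x ∈ L2, (NEG * n) • x = x := by
        intro x hx
        rcases hpm n hn x hx with h | h
        · exact absurd (hfree n hn x hx h) h1
        · rw [mul_smul, h, NEG_smul, neg_neg]
      have hmem : NEG * n ∈ CO2 := (mem_CO2 _).mpr (hfix OA OA_mem_L2)
      have h2 := CO2_faithful ⟨NEG * n, hmem⟩ (fun x hx => hfix x hx.2.1)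
      have h3 : NEG * n = 1 := congrArg Subtype.val h2
      have h4 : n = NEG⁻¹ := eq_inv_of_mul_eq_one_right h3
      rw [h4, NEG_inv]
    · -- the regular case
      exfalso
      have hSrange : S = MulAction.orbit ↥N OA := by
        ext x
        constructor
        · rintro ⟨n, hn, rfl⟩
          exact ⟨⟨n, hn⟩, rfl⟩
        · rintro ⟨⟨n, hn⟩, rfl⟩
          exact ⟨n, hn, rfl⟩
      have hstab : Nat.card ↥(MulAction.stabilizer ↥N OA) = 1 := by
        rw [Nat.card_eq_one_iff_unique]
        refine ⟨⟨?_⟩, ⟨1⟩⟩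
        rintro ⟨⟨n, hn⟩, hna⟩ ⟨⟨m, hm⟩, hma⟩
        apply Subtype.ext
        apply Subtype.ext
        show n = m
        have h1 : n • OA = OA := hna
        have h2 : m • OA = OA := hma
        rw [hfree0 n hn h1, hfree0 m hm h2]
      have hNcard : Nat.card ↥N = 196560 := by
        have h1 := Subgroup.card_eq_card_quotient_mul_card_subgroup (MulAction.stabilizer ↥N OA)
        rw [← Nat.card_congr (MulAction.orbitEquivQuotientStabilizer ↥N OA), ← hSrange,
          Nat.card_coe_set_eq, hstab, hc, ncard_L2] at h1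
        exact h1
      -- no fixed points on the vectors of sum of squares 48
      have hM3 : (N.subgroupOf CO3).Normal := hN.subgroupOf _
      have hK3 : N ⊓ CO3 = ⊥ := by
        rcases isCo3_CO3.1.eq_bot_or_eq_top_of_normal (N.subgroupOf CO3) hM3 with hK3 | hK3
        · rw [Subgroup.subgroupOf_eq_bot] at hK3
          exact hK3.eq_bot
        · exfalso
          rw [Subgroup.subgroupOf_eq_top] at hK3
          obtain ⟨g, hg, hg1⟩ := ML0_ne_bot
          have h1 : g ∈ CO3 := (mem_CO3 g).mpr ((mem_ML0 g).mp hg).1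
          have h2 : g ∈ CO2 := (mem_CO2 g).mpr ((mem_ML0 g).mp hg).2
          have h3 : g ∈ N ⊓ CO2 := ⟨hK3 h1, h2⟩
          rw [hK.eq_bot] at h3
          exact hg1 h3
      have hfree30 : ∀ n ∈ N, n • U5 = U5 → n = 1 := by
        intro n hn hna
        have : n ∈ N ⊓ CO3 := ⟨hn, (mem_CO3 n).mpr hna⟩
        rw [hK3] at this
        exact this
      have hfree3 : ∀ n : ↥N, ∀ x ∈ L3, n • x = x → n = 1 := by
        rintro ⟨n, hn⟩ x hx hnx
        obtain ⟨g, rfl⟩ := (Co0_orbit_L3 x).mp hx
        have hnx' : n • g • U5 = g • U5 := hnx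
        have h1 : (g⁻¹ * n * g) • U5 = U5 := by
          rw [mul_smul, mul_smul, hnx', inv_smul_smul]
        have h2 := hfree30 _ (hconj n hn g) h1
        have h3 : n = g * (g⁻¹ * n * g) * g⁻¹ := by group
        apply Subtype.ext
        show n = 1
        rw [h3, h2]
        group
      have hdvd := card_dvd_of_semiregular (G := ↥N) L3
        (fun n x hx => smul_mem_L3 n.1 x hx) hfree3
      rw [hNcard, ncard_L3] at hdvd
      norm_num at hdvd
  · -- the stabiliser lies in `N`
    rw [Subgroup.subgroupOf_eq_top] at hK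
    rcases hcases with hc | hc
    · exfalso
      have hom : (Vp none).1 ∈ co2Set := by
        refine ⟨(Vp none).2, Vp_mem_L2 none, ?_⟩
        show dotInt oa (oneVec _ _) = -8
        rw [dotInt_oa_oneVec]; decide
      obtain ⟨g, hg⟩ := (CO2_orbit (Vp none)).mp hom
      have hg' : g.1 • W0 = Vp none := hg
      have hgN : g.1 ∈ N := hK g.2
      obtain ⟨h, hh⟩ := (Co0_orbit_L2 W0).mp W0_mem_L2
      have h1 : (h⁻¹ * g.1 * h) • OA ∈ S := ⟨_, hconj g.1 hgN h, rfl⟩
      have hv1 : (Vp none).1 none = -3 := by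
        show oneVec {none} (-3) none = -3
        rw [oneVec_apply, if_pos (Finset.mem_singleton_self _)]
      rcases hc _ h1 with h2 | h2
      · rw [mul_smul, mul_smul, hh, inv_smul_eq_iff, hh, hg'] at h2
        have h3 : (Vp none).1 none = W0.1 none := congrFun (congrArg Subtype.val h2) none
        rw [hv1] at h3
        have : W0.1 none = 1 := w0_none
        omega
      · rw [mul_smul, mul_smul, hh, inv_smul_eq_iff, smul_neg_co0, hh, hg'] at h2
        have h3 : (Vp none).1 none = (-W0).1 none := congrFun (congrArg Subtype.val h2) none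
        rw [hv1] at h3
        have h4 : (-W0).1 none = -(W0.1 none) := rfl
        have : W0.1 none = 1 := w0_none
        omega
    · right
      rw [Subgroup.eq_top_iff']
      intro g
      have h1 : g • OA ∈ S := by
        rw [hc]; exact smul_mem_L2 g OA OA_mem_L2
      obtain ⟨n, hn, hna⟩ := h1
      have h2 : n⁻¹ * g ∈ CO2 := by
        rw [mem_CO2, mul_smul, ← hna, inv_smul_smul]
      have h3 := N.mul_mem hn (hK h2)
      rwa [mul_inv_cancel_left] at h3

end Cfsg.Agent.Lib.Helper94
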