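import Mathlib
import Cfsg.Agent.Lib.Helper94.LeechCo1c

/-! The automorphism group of the lattice modulo its centre is simple of order
4157776806543360000. -/

set_option autoImplicit false

namespace Cfsg.Agent.Lib.Helper94

open Cfsg
open Cfsg.Agent.Lib.Helper95

lemma NEG_central (g : ↥Co0) : g * NEG = NEG * g := by
  apply Subtype.ext
  apply Equiv.ext
  intro x
  show g.1 (-x) = -(g.1 x)
  exact co0_neg g.1 g.2 x

lemma NEG_mem_center : NEG ∈ Subgroup.center ↥Co0 := by
  rw [Subgroup.mem_center_iff]
  intro g
  exact NEG_central g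

lemma NEG_notMem_CO2 : NEG ∉ CO2 := by
  intro h
  rw [mem_CO2, NEG_smul] at h
  exact OA_ne_neg h.symm

lemma mem_center_Co0 (z : ↥Co0) : z ∈ Subgroup.center ↥Co0 ↔ z = 1 ∨ z = NEG := by
  constructor
  · intro hz
    rcases Co0_normal_cases (Subgroup.center ↥Co0) inferInstance with h | h
    · exact h z hz
    · exfalso
      have hcomm : ∀ a b : ↥Co0, a * b = b * a := by
        intro a b
        have h1 : b ∈ Subgroup.center ↥Co0 := by rw [h]; trivial
        exact (Subgroup.mem_center_iff.mp h1) a
      have hn : CO2.Normal := ⟨fun n hn g => by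
        rw [hcomm g n, mul_inv_cancel_right]; exact hn⟩
      rcases Co0_normal_cases CO2 hn with h2 | h2
      · have h3 : CO2 = ⊥ := by
          rw [Subgroup.eq_bot_iff_forall]
          intro g hg
          rcases h2 g hg with h4 | h4
          · exact h4
          · exfalso
            rw [h4] at hg
            exact NEG_notMem_CO2 hg
        have h5 := card_CO2
        rw [h3, Subgroup.card_bot] at h5
        norm_num at h5
      · have : NEG ∈ CO2 := by rw [h2]; trivial
        exact NEG_notMem_CO2 this
  · rintro (rfl | rfl)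
    · exact Subgroup.one_mem _
    · exact NEG_mem_center

lemma card_center_Co0 : Nat.card ↥(Subgroup.center ↥Co0) = 2 := by
  rw [Nat.card_eq_two_iff]
  refine ⟨⟨1, Subgroup.one_mem _⟩, ⟨NEG, NEG_mem_center⟩, ?_, ?_⟩
  · intro h
    exact NEG_ne_one (congrArg Subtype.val h).symm
  · ext z
    simp only [Set.mem_insert_iff, Set.mem_singleton_iff, Set.mem_univ, iff_true]
    rcases (mem_center_Co0 z.1).mp z.2 with h | h
    · left; exact Subtype.ext h
    · right; exact Subtype.ext h

/-- The automorphism group of the lattice modulo its centre is simple of order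
4157776806543360000. -/
theorem isCo1_quot : IsSimpleGroup (↥Co0 ⧸ Subgroup.center ↥Co0) ∧
    Nat.card (↥Co0 ⧸ Subgroup.center ↥Co0) = 4157776806543360000 := by
  have hcard : Nat.card (↥Co0 ⧸ Subgroup.center ↥Co0) = 4157776806543360000 := by
    have h1 := Subgroup.card_eq_card_quotient_mul_card_subgroup (Subgroup.center ↥Co0)
    rw [card_center_Co0, card_Co0] at h1
    omega
  refine ⟨?_, hcard⟩
  have hnt : Nontrivial (↥Co0 ⧸ Subgroup.center ↥Co0) := by
    rw [← Finite.one_lt_card_iff_nontrivial, hcard]
    norm_num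
  refine ⟨fun N' hN' => ?_⟩
  set N := N'.comap (QuotientGroup.mk' (Subgroup.center ↥Co0)) with hNdef
  have hN : N.Normal := hN'.comap _
  have hmap : N.map (QuotientGroup.mk' (Subgroup.center ↥Co0)) = N' :=
    Subgroup.map_comap_eq_self_of_surjective (QuotientGroup.mk'_surjective _) N'
  rcases Co0_normal_cases N hN with h | h
  · left
    rw [← hmap, Subgroup.eq_bot_iff_forall]
    rintro x ⟨n, hn, rfl⟩
    have h1 : n ∈ Subgroup.center ↥Co0 := (mem_center_Co0 n).mpr (h n hn)
    exact (QuotientGroup.eq_one_iff n).mpr h1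
  · right
    rw [← hmap, h, Subgroup.map_top_of_surjective _ (QuotientGroup.mk'_surjective _)]

end Cfsg.Agent.Lib.Helper94
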