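import Mathlib
import Cfsg.Agent.Lib.Helper94.LeechOrder
import Cfsg.Agent.Lib.Helper94.LeechML3

/-! Tools for the maximality of the monomial subgroup: the orbit relation under that subgroup,
sign changes on the model vectors, and code words with a prescribed restriction. -/

set_option autoImplicit false

namespace Cfsg.Agent.Lib.Helper94

open Cfsg
open Cfsg.Agent.Lib.Helper95
open Cfsg.Agent.Lib.Helper10 (permWord permWord_apply permWord_mem_of_mem_M24)
open Cfsg.Agent.S0391 (zmod2_cases val_le_one)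

/-- The stabiliser of the class of `(8, 0^23)`, that is of the standard cross. -/
noncomputable def H0 : Subgroup ↥Co0 := MulAction.stabilizer ↥Co0 q0

/-- Two vectors of the lattice in one orbit of the stabiliser of the standard cross. -/
def MConj (x y : GolayPt → ℤ) : Prop :=
  ∃ g : ↥Co0, g ∈ H0 ∧ ∃ hx : x ∈ leechLattice, ((g.1 ⟨x, hx⟩ : leechLattice) : GolayPt → ℤ) = y

lemma MConj.mem_left {x y : GolayPt → ℤ} (h : MConj x y) : x ∈ leechLattice := by
  obtain ⟨g, -, hx, -⟩ := h; exact hx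

lemma MConj.mem_right {x y : GolayPt → ℤ} (h : MConj x y) : y ∈ leechLattice := by
  obtain ⟨g, -, hx, rfl⟩ := h; exact (g.1 ⟨x, hx⟩).2

lemma MConj.refl {x : GolayPt → ℤ} (hx : x ∈ leechLattice) : MConj x x :=
  ⟨1, H0.one_mem, hx, rfl⟩

lemma MConj.symm {x y : GolayPt → ℤ} (h : MConj x y) : MConj y x := by
  obtain ⟨g, hg, hx, rfl⟩ := h
  refine ⟨g⁻¹, H0.inv_mem hg, (g.1 ⟨x, hx⟩).2, ?_⟩
  show (((g⁻¹ : ↥Co0).1 (g.1 ⟨x, hx⟩) : leechLattice) : GolayPt → ℤ) = x
  have : (g⁻¹ : ↥Co0).1 (g.1 ⟨x, hx⟩) = ⟨x, hx⟩ := by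
    show ((g⁻¹ : ↥Co0).1 * g.1) ⟨x, hx⟩ = ⟨x, hx⟩
    have h1 : (g⁻¹ : ↥Co0).1 * g.1 = 1 := congrArg Subtype.val (inv_mul_cancel g)
    rw [h1]; rfl
  rw [this]

lemma MConj.trans {x y z : GolayPt → ℤ} (h : MConj x y) (h' : MConj y z) : MConj x z := by
  obtain ⟨g, hg, hx, rfl⟩ := h
  obtain ⟨g', hg', hy, rfl⟩ := h'
  exact ⟨g' * g, H0.mul_mem hg' hg, hx, rfl⟩

lemma signVec_single (d : GolayPt → ZMod 2) (i : GolayPt) (s : ℤ) :
    signVec d (Pi.single i s) = Pi.single i (sgnOf d i * s) := by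
  ext j
  rw [signVec_apply, Pi.single_apply, Pi.single_apply]
  by_cases hj : j = i
  · rw [if_pos hj, if_pos hj, hj]
  · rw [if_neg hj, if_neg hj, mul_zero]

lemma permPerm_mem_H0 {σ : Equiv.Perm GolayPt} (hσ : σ ∈ M24) :
    (⟨permPerm σ hσ, permPerm_mem σ hσ⟩ : ↥Co0) ∈ H0 := by
  unfold H0
  rw [stabilizer_iff]
  rintro v ⟨i, s, hs, hv⟩
  refine ⟨σ i, s, hs, ?_⟩
  show permVec σ v.1 = _
  rw [hv, permVec_single]

lemma signPerm_mem_H0 {d : GolayPt → ZMod 2} (hd : d ∈ golayCode) :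
    (⟨signPerm d hd, signPerm_mem d hd⟩ : ↥Co0) ∈ H0 := by
  unfold H0
  rw [stabilizer_iff]
  rintro v ⟨i, s, hs, hv⟩
  refine ⟨i, sgnOf d i * s, ?_, ?_⟩
  · unfold sgnOf
    rcases val_le_one (d i) with h | h <;> rw [h] <;> rcases hs with h' | h' <;>
      rw [h'] <;> norm_num
  · show signVec d v.1 = _
    rw [hv, signVec_single]

lemma mconj_perm {σ : Equiv.Perm GolayPt} (hσ : σ ∈ M24) {x : GolayPt → ℤ}
    (hx : x ∈ leechLattice) : MConj x (permVec σ x) :=
  ⟨⟨permPerm σ hσ, permPerm_mem σ hσ⟩, permPerm_mem_H0 hσ, hx, rfl⟩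

lemma mconj_sign {d : GolayPt → ZMod 2} (hd : d ∈ golayCode) {x : GolayPt → ℤ}
    (hx : x ∈ leechLattice) : MConj x (signVec d x) :=
  ⟨⟨signPerm d hd, signPerm_mem d hd⟩, signPerm_mem_H0 hd, hx, rfl⟩

/-! ### Sign changes on the model vectors -/

lemma signVec_pmVec_eq (d : GolayPt → ZMod 2) (a : ℤ) (s t t0 : Finset GolayPt) (hts : t ⊆ s)
    (hts0 : t0 ⊆ s) (hd : ∀ q ∈ s, (d q = 1 ↔ ¬ (q ∈ t ↔ q ∈ t0))) :
    signVec d (pmVec a s t) = pmVec a s t0 := by
  ext q
  simp only [signVec_apply, pmVec_apply, sgnOf]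
  by_cases hs : q ∈ s
  · have key := hd q hs
    rcases zmod2_cases (d q) with h | h
    · rw [h] at key ⊢
      have hiff : (q ∈ t ↔ q ∈ t0) := by
        by_contra hne
        exact absurd (key.mpr hne) (by decide)
      by_cases ht : q ∈ t
      · have ht0 := hiff.mp ht
        simp [ht, ht0]
      · have ht0 : q ∉ t0 := fun h => ht (hiff.mpr h)
        simp [ht, ht0, hs]
    · rw [h] at key ⊢
      have hne := key.mp rfl
      by_cases ht : q ∈ t
      · have ht0 : q ∉ t0 := fun h => hne ⟨fun _ => h, fun _ => ht⟩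
        simp [ht, ht0, hs, ZMod.val_one]
      · have ht0 : q ∈ t0 := by
          by_contra h0
          exact hne ⟨fun h => absurd h ht, fun h => absurd h h0⟩
        simp [ht, ht0, hs, ZMod.val_one]
  · have ht : q ∉ t := fun h => hs (hts h)
    have ht0 : q ∉ t0 := fun h => hs (hts0 h)
    simp [ht, ht0, hs]

lemma signVec_pmVec_gen (d : GolayPt → ZMod 2) (a : ℤ) (s t : Finset GolayPt) (hts : t ⊆ s) :
    signVec d (pmVec a s t) = pmVec a s (s.filter fun q => ¬ (d q = 1 ↔ q ∈ t)) := by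
  apply signVec_pmVec_eq d a s t _ hts (Finset.filter_subset _ _)
  intro q hq
  rw [Finset.mem_filter]
  constructor
  · intro h1 h2
    by_cases ht : q ∈ t
    · exact (h2.mp ht).2 ⟨fun _ => ht, fun _ => h1⟩
    · apply ht
      apply h2.mpr
      exact ⟨hq, fun h3 => ht (h3.mp h1)⟩
  · intro h
    by_contra h1
    apply h
    constructor
    · intro ht
      exact ⟨hq, fun h3 => h1 (h3.mpr ht)⟩
    · rintro ⟨-, h3⟩
      by_contra ht
      exact h3 ⟨fun h4 => absurd h4 h1, fun h4 => absurd h4 ht⟩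

lemma pm2Vec_eq_add (s t p t' : Finset GolayPt) :
    pm2Vec s t p t' = pmVec 2 s t + pmVec 4 p t' := rfl

lemma signVec_pm2Vec_eq (d : GolayPt → ZMod 2) {s t p t' t0 t0' : Finset GolayPt}
    (hts : t ⊆ s) (hts0 : t0 ⊆ s) (htp : t' ⊆ p) (htp0 : t0' ⊆ p)
    (hs : ∀ q ∈ s, (d q = 1 ↔ ¬ (q ∈ t ↔ q ∈ t0)))
    (hp : ∀ q ∈ p, (d q = 1 ↔ ¬ (q ∈ t' ↔ q ∈ t0'))) :
    signVec d (pm2Vec s t p t') = pm2Vec s t0 p t0' := by
  rw [pm2Vec_eq_add, pm2Vec_eq_add, signVec_add, signVec_pmVec_eq d 2 s t t0 hts hts0 hs,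
    signVec_pmVec_eq d 4 p t' t0' htp htp0 hp]

lemma signVec_sixVec_eq (d : GolayPt → ZMod 2) (s t t0 : Finset GolayPt) (j : GolayPt)
    (h : signVec d (pmVec 2 s t) = pmVec 2 s t0) : signVec d (sixVec s t j) = sixVec s t0 j := by
  ext i
  have hi := congrFun h i
  rw [signVec_apply] at hi
  rw [signVec_apply, sixVec_apply, sixVec_apply, ← hi]
  split_ifs <;> ring

lemma permVec_pm2Vec (σ : Equiv.Perm GolayPt) (s t p t' : Finset GolayPt) :
    permVec σ (pm2Vec s t p t') = pm2Vec (s.image σ) (t.image σ) (p.image σ) (t'.image σ) := by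
  rw [pm2Vec_eq_add, pm2Vec_eq_add, permVec_add, permVec_pmVec, permVec_pmVec]

lemma permVec_sixVec (σ : Equiv.Perm GolayPt) (s t : Finset GolayPt) (j : GolayPt) :
    permVec σ (sixVec s t j) = sixVec (s.image σ) (t.image σ) (σ j) := by
  ext i
  have h := congrFun (permVec_pmVec σ 2 s t) i
  rw [permVec_apply] at h
  rw [permVec_apply, sixVec_apply, sixVec_apply, h]
  have h2 : σ.symm i = j ↔ i = σ j := by
    constructor
    · intro h; rw [← h]; simp
    · intro h; rw [h]; simp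
  by_cases hij : i = σ j
  · rw [if_pos hij, if_pos (h2.mpr hij)]
  · rw [if_neg hij, if_neg (fun h => hij (h2.mp h))]

/-! ### The code's group on marked words -/

/-- The code's group on the words of weight 8 or 12 with two marked points. -/
lemma m24_marked_trans {k : ℕ} (hk : k = 8 ∨ k = 12) {a b a' b' : GolayPt} (hab : a ≠ b)
    (hab' : a' ≠ b') {s s' : Finset GolayPt} (hs : s ∈ codeSupps k) (hs' : s' ∈ codeSupps k)
    (ha : a ∈ s ↔ a' ∈ s') (hb : b ∈ s ↔ b' ∈ s') :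
    ∃ σ ∈ M24, σ a = a' ∧ σ b = b' ∧ s.image σ = s' := by
  obtain ⟨τ, hτ, t0, t1⟩ := m24_two_trans hab hab'
  have hs1 := image_mem_codeSupps hτ hs
  have hmem : ∀ q, τ q ∈ s.image τ ↔ q ∈ s := by
    intro q
    rw [Finset.mem_image]
    constructor
    · rintro ⟨x, hx, hxq⟩
      rwa [← τ.injective hxq]
    · intro h; exact ⟨q, h, rfl⟩
  obtain ⟨σ, hσ, h1, h2, h3⟩ := pp_trans hk hab' hs1 hs'
    (by rw [← t0, hmem, t0]; exact ha) (by rw [← t1, hmem, t1]; exact hb)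
  refine ⟨σ * τ, M24.mul_mem hσ hτ, ?_, ?_, ?_⟩
  · rw [Equiv.Perm.mul_apply, t0, h1]
  · rw [Equiv.Perm.mul_apply, t1, h2]
  · rw [← h3, Finset.image_image]
    rfl

/-- The code's group is transitive on the words of weight 8. -/
lemma m24_oct_trans {s s' : Finset GolayPt} (hs : s ∈ codeSupps 8) (hs' : s' ∈ codeSupps 8) :
    ∃ σ ∈ M24, s.image σ = s' := by
  have two : ∀ o : Finset GolayPt, o ∈ codeSupps 8 → ∃ a b, a ∈ o ∧ b ∈ o ∧ a ≠ b := by
    intro o ho
    have hc := card_of_mem_codeSupps ho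
    have h1 : 1 < o.card := by rw [hc]; norm_num
    obtain ⟨a, ha, b, hb, hab⟩ := Finset.one_lt_card.mp h1
    exact ⟨a, b, ha, hb, hab⟩
  obtain ⟨a, b, ha, hb, hab⟩ := two s hs
  obtain ⟨a', b', ha', hb', hab'⟩ := two s' hs'
  obtain ⟨σ, hσ, -, -, h⟩ := m24_marked_trans (Or.inl rfl) hab hab' hs hs'
    ⟨fun _ => ha', fun _ => ha⟩ ⟨fun _ => hb', fun _ => hb⟩
  exact ⟨σ, hσ, h⟩

/-! ### Code words with a prescribed restriction -/

/-- From code words meeting a set in the pairs through a fixed point: a code word with any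
prescribed even restriction to that set (and vanishing on a further set). -/
lemma exists_code_pairs (S Z : Finset GolayPt) (ps : GolayPt) (e : GolayPt → GolayPt → ZMod 2)
    (he : ∀ p, e p ∈ golayCode)
    (hdelta : ∀ p ∈ S, p ≠ ps → ∀ q ∈ S, e p q = if (q = p ∨ q = ps) then 1 else 0)
    (hZ : ∀ p ∈ S, ∀ q ∈ Z, e p q = 0)
    (u : Finset GolayPt) (hu : u ⊆ S) (hev : Even u.card) :
    ∃ d ∈ golayCode, (∀ q ∈ S, (d q = 1 ↔ q ∈ u)) ∧ ∀ q ∈ Z, d q = 0 := by
  classical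
  refine ⟨∑ p ∈ u.erase ps, e p, golayCode.sum_mem (fun p _ => he p), fun q hq => ?_,
    fun q hq => ?_⟩
  · rw [Finset.sum_apply]
    have h1 : ∑ p ∈ u.erase ps, e p q
        = ∑ p ∈ u.erase ps, (if (q = p ∨ q = ps) then (1 : ZMod 2) else 0) :=
      Finset.sum_congr rfl (fun p hp => hdelta p (hu (Finset.mem_of_mem_erase hp))
        (Finset.ne_of_mem_erase hp) q hq)
    rw [h1]
    by_cases hqs : q = ps
    · rw [← hqs]
      simp only [or_true, if_true, Finset.sum_const, nsmul_eq_mul, mul_one]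
      rw [ZMod.natCast_eq_one_iff_odd]
      by_cases hin : q ∈ u
      · rw [Finset.card_erase_of_mem hin]
        constructor
        · intro _; exact hin
        · intro _
          obtain ⟨k, hk⟩ := hev
          have : 0 < u.card := Finset.card_pos.mpr ⟨q, hin⟩
          exact ⟨k - 1, by omega⟩
      · rw [Finset.erase_eq_of_notMem hin]
        constructor
        · intro h; exact absurd hev (Nat.not_even_iff_odd.mpr h)
        · intro h; exact absurd h hin
    · have h2 : ∀ p ∈ u.erase ps, (if (q = p ∨ q = ps) then (1 : ZMod 2) else 0)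
          = if p = q then 1 else 0 := by
        intro p _
        by_cases hpq : p = q
        · rw [if_pos hpq, if_pos (Or.inl hpq.symm)]
        · rw [if_neg hpq, if_neg]
          rintro (h | h)
          · exact hpq h.symm
          · exact hqs h
      rw [Finset.sum_congr rfl h2, Finset.sum_ite_eq' (u.erase ps) q]
      have hiff : q ∈ u.erase ps ↔ q ∈ u := by
        rw [Finset.mem_erase]; exact ⟨fun h => h.2, fun h => ⟨hqs, h⟩⟩
      by_cases h : q ∈ u
      · rw [if_pos (hiff.mpr h)]; exact ⟨fun _ => h, fun _ => rfl⟩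
      · rw [if_neg (fun h' => h (hiff.mp h'))]
        exact ⟨fun h' => absurd h' (by decide), fun h' => absurd h' h⟩
  · rw [Finset.sum_apply]
    apply Finset.sum_eq_zero
    intro p hp
    exact hZ p (hu (Finset.mem_of_mem_erase hp)) q hq

lemma even_card_diff_filter (S t1 t0 : Finset GolayPt) (h1 : t1 ⊆ S) (h0 : t0 ⊆ S)
    (hpar : t1.card % 2 = t0.card % 2) :
    Even (S.filter fun q => ¬ (q ∈ t1 ↔ q ∈ t0)).card := by
  have e : (S.filter fun q => ¬ (q ∈ t1 ↔ q ∈ t0)) = (t1 \ t0) ∪ (t0 \ t1) := by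
    ext q
    simp only [Finset.mem_filter, Finset.mem_union, Finset.mem_sdiff]
    constructor
    · rintro ⟨-, hne⟩
      by_cases a : q ∈ t1
      · left; exact ⟨a, fun b => hne ⟨fun _ => b, fun _ => a⟩⟩
      · right
        refine ⟨?_, a⟩
        by_contra b
        exact hne ⟨fun h => absurd h a, fun h => absurd h b⟩
    · rintro (⟨a, b⟩ | ⟨a, b⟩)
      · exact ⟨h1 a, fun h => b (h.mp a)⟩
      · exact ⟨h0 a, fun h => b (h.mpr a)⟩
  rw [e, Finset.card_union_of_disjoint (disjoint_sdiff_sdiff)]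
  have a1 := Finset.card_sdiff_add_card_inter t1 t0
  have a2 := Finset.card_sdiff_add_card_inter t0 t1
  rw [Finset.inter_comm] at a2
  rw [Nat.even_iff]
  omega

/-- Code words fixing a sign pattern of given parity on a set. -/
lemma exists_code_fix (S Z : Finset GolayPt) (ps : GolayPt) (e : GolayPt → GolayPt → ZMod 2)
    (he : ∀ p, e p ∈ golayCode)
    (hdelta : ∀ p ∈ S, p ≠ ps → ∀ q ∈ S, e p q = if (q = p ∨ q = ps) then 1 else 0)
    (hZ : ∀ p ∈ S, ∀ q ∈ Z, e p q = 0)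
    (t1 t0 : Finset GolayPt) (h1 : t1 ⊆ S) (h0 : t0 ⊆ S) (hpar : t1.card % 2 = t0.card % 2) :
    ∃ d ∈ golayCode, (∀ q ∈ S, (d q = 1 ↔ ¬ (q ∈ t1 ↔ q ∈ t0))) ∧ ∀ q ∈ Z, d q = 0 := by
  obtain ⟨d, hd, hS, hZ'⟩ := exists_code_pairs S Z ps e he hdelta hZ
    (S.filter fun q => ¬ (q ∈ t1 ↔ q ∈ t0)) (Finset.filter_subset _ _)
    (even_card_diff_filter S t1 t0 h1 h0 hpar)
  refine ⟨d, hd, fun q hq => ?_, hZ'⟩
  rw [hS q hq, Finset.mem_filter]
  exact ⟨fun h => h.2, fun h => ⟨hq, h⟩⟩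

/-- From code words which are delta functions on a set: a code word with any prescribed
restriction to that set (and vanishing on a further set). -/
lemma exists_code_delta (P Z : Finset GolayPt) (e : GolayPt → GolayPt → ZMod 2)
    (he : ∀ p, e p ∈ golayCode)
    (hdelta : ∀ p ∈ P, ∀ q ∈ P, e p q = if p = q then 1 else 0)
    (hZ : ∀ p ∈ P, ∀ q ∈ Z, e p q = 0) (u : Finset GolayPt) :
    ∃ d ∈ golayCode, (∀ q ∈ P, (d q = 1 ↔ q ∈ u)) ∧ ∀ q ∈ Z, d q = 0 := by
  classical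
  refine ⟨∑ p ∈ u ∩ P, e p, golayCode.sum_mem (fun p _ => he p), fun q hq => ?_,
    fun q hq => ?_⟩
  · rw [Finset.sum_apply]
    have : ∑ p ∈ u ∩ P, e p q = ∑ p ∈ u ∩ P, (if p = q then (1 : ZMod 2) else 0) :=
      Finset.sum_congr rfl (fun p hp => hdelta p (Finset.mem_inter.mp hp).2 q hq)
    rw [this, Finset.sum_ite_eq' (u ∩ P) q]
    by_cases h : q ∈ u
    · rw [if_pos (Finset.mem_inter.mpr ⟨h, hq⟩)]; exact ⟨fun _ => h, fun _ => rfl⟩
    · rw [if_neg (fun h' => h (Finset.mem_inter.mp h').1)]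
      exact ⟨fun h' => absurd h' (by decide), fun h' => absurd h' h⟩
  · rw [Finset.sum_apply]
    apply Finset.sum_eq_zero
    intro p hp
    exact hZ p (Finset.mem_inter.mp hp).2 q hq

end Cfsg.Agent.Lib.Helper94
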