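import Mathlib
import Cfsg.Agent.Lib.Helper94.LeechMax1

/-! Explicit words of the code used to normalise signs on three reference supports. -/

set_option autoImplicit false

namespace Cfsg.Agent.Lib.Helper94

open Cfsg
open Cfsg.Agent.Lib.Helper95
open Cfsg.Agent.Lib.Helper10 (idx vec enc vec_mem_golayCode_iff)

/-- The support of the word with a given mask. -/
def mset (m : ℕ) : Finset GolayPt := bsupp (vec m)

/-- The word attached to a point by a list of masks (indexed by the point's index). -/
def listW (L : List ℕ) (p : GolayPt) : GolayPt → ZMod 2 := vec (L.getD (idx p) 0)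

/-- The property of a list of masks that all its words belong to the code. -/
def ListOK (L : List ℕ) : Prop :=
  ∀ p : GolayPt, L.getD (idx p) 0 < 2 ^ 24 ∧ enc (L.getD (idx p) 0) = L.getD (idx p) 0

instance (L : List ℕ) : Decidable (ListOK L) := by unfold ListOK; infer_instance

lemma listW_mem {L : List ℕ} (h : ListOK L) (p : GolayPt) : listW L p ∈ golayCode :=
  (vec_mem_golayCode_iff (h p).1).mpr (h p).2

lemma mset_mem_codeSupps {m k : ℕ} (hm : m < 2 ^ 24) (he : enc m = m)
    (hk : (mset m).card = k) : mset m ∈ codeSupps k := by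
  rw [mem_codeSupps]
  exact ⟨vec m, (vec_mem_golayCode_iff hm).mpr he, by rw [hammingNorm_eq_card_bsupp]; exact hk, rfl⟩

/-! ### The reference octad through the two base points -/

/-- The reference octad through the two base points. -/
def O11 : Finset GolayPt := mset 5279

lemma O11_mem : O11 ∈ codeSupps 8 :=
  mset_mem_codeSupps (by norm_num) (by decide +kernel) (by decide +kernel)

lemma O11_zero : (some 0 : GolayPt) ∈ O11 := by decide +kernel
lemma O11_one : (some 1 : GolayPt) ∈ O11 := by decide +kernel

/-- Words meeting the reference octad in the pairs through a fixed point. -/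
def e11M : List ℕ := [334433, 31554, 381252, 416040, 252432, 0, 0, 168928, 0, 0, 504864, 0, 0, 0, 0, 0, 0, 0, 0, 0, 0, 0, 0, 0]

lemma e11_ok : ListOK e11M := by decide +kernel

lemma e11_delta : ∀ p ∈ O11, p ≠ some 12 → ∀ q ∈ O11,
    listW e11M p q = if (q = p ∨ q = some 12) then 1 else 0 := by decide +kernel

/-! ### The reference octad avoiding the two base points -/

/-- The reference octad avoiding the two base points. -/
def O00 : Finset GolayPt := mset 21116

lemma O00_mem : O00 ∈ codeSupps 8 :=
  mset_mem_codeSupps (by norm_num) (by decide +kernel) (by decide +kernel)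

lemma O00_zero : (some 0 : GolayPt) ∉ O00 := by decide +kernel
lemma O00_one : (some 1 : GolayPt) ∉ O00 := by decide +kernel

/-- The two base points. -/
def P01 : Finset GolayPt := {some 0, some 1}

/-- Words meeting the octad in the pairs through a fixed point and avoiding the base points. -/
def e00M : List ℕ := [0, 0, 1337732, 126216, 1525008, 1664160, 1009728, 0, 0, 675712, 0, 0, 2019456, 0, 0, 0, 0, 0, 0, 0, 0, 0, 0, 0]

lemma e00_ok : ListOK e00M := by decide +kernel

lemma e00_delta : ∀ p ∈ O00, p ≠ some 14 → ∀ q ∈ O00,
    listW e00M p q = if (q = p ∨ q = some 14) then 1 else 0 := by decide +kernel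

lemma e00_Z : ∀ p ∈ O00, ∀ q ∈ P01, listW e00M p q = 0 := by decide +kernel

/-- Words avoiding the octad and containing exactly one of the base points. -/
def g00M : List ℕ := [493953, 1805314, 0, 0, 0, 0, 0, 0, 0, 0, 0, 0, 0, 0, 0, 0, 0, 0, 0, 0, 0, 0, 0, 0]

lemma g00_ok : ListOK g00M := by decide +kernel

lemma g00_delta : ∀ p ∈ P01, ∀ q ∈ P01, listW g00M p q = if p = q then 1 else 0 := by
  decide +kernel

lemma g00_Z : ∀ p ∈ P01, ∀ q ∈ O00, listW g00M p q = 0 := by decide +kernel

/-! ### The reference word of weight twelve -/

/-- The reference word of weight twelve, through the second base point only. -/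
def D01 : Finset GolayPt := mset 57274

lemma D01_mem : D01 ∈ codeSupps 12 :=
  mset_mem_codeSupps (by norm_num) (by decide +kernel) (by decide +kernel)

lemma D01_zero : (some 0 : GolayPt) ∉ D01 := by decide +kernel
lemma D01_one : (some 1 : GolayPt) ∈ D01 := by decide +kernel

/-- The first base point. -/
def P0 : Finset GolayPt := {some 0}

/-- Words meeting the reference word in the pairs through a fixed point, off the base point. -/
def eDM : List ℕ := [0, 7438406, 0, 12222476, 5210132, 5939296, 0, 2531524, 4038912, 9929280, 9020484, 14919680, 13938692, 0, 15515712, 0, 0, 0, 0, 0, 0, 0, 0, 0]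

lemma eD_ok : ListOK eDM := by decide +kernel

lemma eD_delta : ∀ p ∈ D01, p ≠ some 15 → ∀ q ∈ D01,
    listW eDM p q = if (q = p ∨ q = some 15) then 1 else 0 := by decide +kernel

lemma eD_Z : ∀ p ∈ D01, ∀ q ∈ P0, listW eDM p q = 0 := by decide +kernel

/-- The complementary word, through the first base point. -/
def gDM : List ℕ := [16719941, 0, 0, 0, 0, 0, 0, 0, 0, 0, 0, 0, 0, 0, 0, 0, 0, 0, 0, 0, 0, 0, 0, 0]

lemma gD_ok : ListOK gDM := by decide +kernel

lemma gD_delta : ∀ p ∈ P0, ∀ q ∈ P0, listW gDM p q = if p = q then 1 else 0 := by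
  decide +kernel

lemma gD_Z : ∀ p ∈ P0, ∀ q ∈ D01, listW gDM p q = 0 := by decide +kernel

/-! ### The complement of the reference octad -/

/-- The reference support of size sixteen. -/
def U0 : Finset GolayPt := O00ᶜ

/-- An information set of the code restricted to the reference support. -/
def PU : Finset GolayPt := {some 0, some 1, some 7, some 8, some 10, some 11, some 13, some 15, some 16, some 17, some 19}

/-- The remaining five points. -/
def R5 : Finset GolayPt := {some 18, some 20, some 21, some 22, none}

lemma PU_sub : PU ⊆ U0 := by decide +kernel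

lemma U0_sdiff : U0 \ PU = R5 := by decide +kernel

lemma U0_zero : (some 0 : GolayPt) ∈ U0 := by decide +kernel
lemma U0_one : (some 1 : GolayPt) ∈ U0 := by decide +kernel
lemma U0_none : (none : GolayPt) ∈ U0 := by decide +kernel

/-- Words which are delta functions on the information set. -/
def eUM : List ℕ := [6557781, 11538486, 0, 0, 0, 0, 0, 10768524, 12861748, 0, 7357552, 9721936, 0, 14688364, 0, 3444840, 16056344, 5652556, 0, 14176296, 0, 0, 0, 0]

lemma eU_ok : ListOK eUM := by decide +kernel

lemma eU_delta : ∀ p ∈ PU, ∀ q ∈ PU, listW eUM p q = if p = q then 1 else 0 := by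
  decide +kernel

/-- Words correcting the nonzero even patterns on the remaining points to pairs. -/
def corrM : List ℕ := [0, 3444840, 5640752, 6557781, 7345676]

lemma corr_ok : ∀ m ∈ corrM, m < 2 ^ 24 ∧ enc m = m := by decide +kernel

lemma R5_sub : R5 ⊆ U0 := by decide +kernel

lemma R5_card : R5.card = 5 := by decide +kernel

lemma corr_four : ∀ r ∈ R5, ∃ m ∈ corrM,
    (U0.filter fun q => ¬ (vec m q = 1 ↔ q ∈ R5.erase r)).card = 2 := by decide +kernel

end Cfsg.Agent.Lib.Helper94
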