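import Mathlib
import Cfsg.Agent.Lib.Helper94.LeechMax2

/-! The stabiliser of the standard cross is transitive on seven of its nine classes of vectors
of sum of squares 64. -/

set_option autoImplicit false

namespace Cfsg.Agent.Lib.Helper94

open Cfsg
open Cfsg.Agent.Lib.Helper95
open Cfsg.Agent.Lib.Helper10 (permWord permWord_apply permWord_mem_of_mem_M24 vec)

/-! ### The classes with entries divisible by four, and the odd classes -/

lemma mconj_F6 (x : GolayPt → ℤ) (hx : x ∈ zeroFam 8 1) : MConj x e8 := by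
  have hxL := (zeroFam_eight_sub x hx).1
  obtain ⟨s, t, hs, hts, rfl⟩ := (mem_zeroFam 8 1 x).mp hx
  obtain ⟨j, rfl⟩ := Finset.card_eq_one.mp hs
  obtain ⟨σ, hσ, hσj⟩ := m24_trans j none
  have c1 := mconj_perm hσ hxL
  rw [permVec_pmVec, Finset.image_singleton, hσj] at c1
  have hts' : t.image σ ⊆ {none} := by
    have := Finset.image_subset_image (f := σ) hts
    rwa [Finset.image_singleton, hσj] at this
  set d : GolayPt → ZMod 2 := if none ∈ t.image σ then 1 else 0 with hd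
  have hdmem : d ∈ golayCode := by
    rw [hd]; split_ifs
    · exact golayCode_one_mem
    · exact golayCode.zero_mem
  have c2 := mconj_sign hdmem c1.mem_right
  rw [signVec_pmVec_fix d 8 _ _ hts'] at c2
  · exact c1.trans c2
  · intro p hp
    rw [Finset.mem_singleton] at hp
    rw [hp, hd]
    by_cases h : (none : GolayPt) ∈ t.image σ <;> simp [h]

lemma f5_memL : f5 ∈ leechLattice := by
  rw [← xi_e8]
  exact (conj_xi (zeroFam_eight_sub e8 e8_mem).1).mem_right

lemma mconj_F5 (x : GolayPt → ℤ) (hx : x ∈ zeroFam 4 4) : MConj x f5 := by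
  have hxL := (zeroFam_four_sub 4 (by decide) x hx).1
  obtain ⟨s, t, hs, hts, rfl⟩ := (mem_zeroFam 4 4 x).mp hx
  obtain ⟨σ, hσ, himg⟩ := m24_set_trans s (blk 0) (by rw [hs, blk_card]) (by rw [hs]; norm_num)
  have c1 := mconj_perm hσ hxL
  rw [permVec_pmVec, himg] at c1
  have hts' : t.image σ ⊆ blk 0 := by
    rw [← himg]; exact Finset.image_subset_image hts
  obtain ⟨d, hd, hdp⟩ := exists_code_on_blk0 (t.image σ) hts'
  have c2 := mconj_sign hd c1.mem_right
  rw [signVec_pmVec_fix d 4 _ _ hts' hdp] at c2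
  have hnone : ({none} : Finset GolayPt) ⊆ blk 0 := by
    rw [blk_zero]; simp
  obtain ⟨d', hd', hdp'⟩ := exists_code_on_blk0 {none} hnone
  have c3 := mconj_sign hd' f5_memL
  unfold f5 at c3
  rw [signVec_pmVec_fix d' 4 _ _ hnone hdp'] at c3
  exact (c1.trans c2).trans c3.symm

lemma mconj_F7 (x x' : GolayPt → ℤ) (hx : x ∈ oddFam (oneVecs 5 (-3)))
    (hx' : x' ∈ oddFam (oneVecs 5 (-3))) : MConj x x' := by
  have hxL := ((norm64_iff x).mpr (by tauto)).1
  obtain ⟨s, hs, c, hc, rfl⟩ := (mem_oddFam_oneVecs 5 (-3) x).mp hx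
  obtain ⟨s', hs', c', hc', rfl⟩ := (mem_oddFam_oneVecs 5 (-3) x').mp hx'
  obtain ⟨σ, hσ, himg⟩ := m24_set_trans s s' (by rw [hs, hs']) (by rw [hs])
  have c1 := mconj_perm hσ hxL
  rw [permVec_signVec, permVec_oneVec, himg] at c1
  have hc1 : permWord σ c ∈ golayCode := permWord_mem_of_mem_M24 hσ c hc
  have c2 := mconj_sign (golayCode.add_mem hc1 hc') c1.mem_right
  rw [signVec_comp, add_add_cancel_zmod2] at c2
  exact c1.trans c2

lemma mconj_F8 (x x' : GolayPt → ℤ) (hx : x ∈ oddFam mixVecs) (hx' : x' ∈ oddFam mixVecs) :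
    MConj x x' := by
  have hxL := ((norm64_iff x).mpr (by tauto)).1
  obtain ⟨u, hu, c, hc, rfl⟩ := (mem_oddFam mixVecs x).mp hx
  obtain ⟨u', hu', c', hc', rfl⟩ := (mem_oddFam mixVecs x').mp hx'
  obtain ⟨j, s, hj, hs, rfl⟩ := (mem_mixVecs u).mp hu
  obtain ⟨j', s', hj', hs', rfl⟩ := (mem_mixVecs u').mp hu'
  obtain ⟨k, l, hkl, rfl⟩ := Finset.card_eq_two.mp hs
  obtain ⟨k', l', hkl', rfl⟩ := Finset.card_eq_two.mp hs'
  have hjk : j ≠ k := fun h => hj (by rw [h]; simp)
  have hjl : j ≠ l := fun h => hj (by rw [h]; simp)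
  have hjk' : j' ≠ k' := fun h => hj' (by rw [h]; simp)
  have hjl' : j' ≠ l' := fun h => hj' (by rw [h]; simp)
  obtain ⟨σ, hσ, h1, h2, h3⟩ := m24_three_trans hjk hjl hkl hjk' hjl' hkl'
  have c1 := mconj_perm hσ hxL
  have himg : ({k, l} : Finset GolayPt).image σ = {k', l'} := by
    rw [Finset.image_insert, Finset.image_singleton, h2, h3]
  rw [permVec_signVec, permVec_mixVec, himg, h1] at c1
  have hc1 : permWord σ c ∈ golayCode := permWord_mem_of_mem_M24 hσ c hc
  have c2 := mconj_sign (golayCode.add_mem hc1 hc') c1.mem_right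
  rw [signVec_comp, add_add_cancel_zmod2] at c2
  exact c1.trans c2

/-! ### The class of shape `(6, 2^7)` -/

/-- The reference vector of shape `(-6, 2^7, 0^16)`. -/
def y6 : GolayPt → ℤ := sixVec O11 {some 0} (some 0)

lemma mconj_six (x : GolayPt → ℤ) (hx : x ∈ sixFam) : MConj x y6 := by
  have hxL := (sixFam_sub x hx).1
  obtain ⟨s, t, j, ⟨hs, ⟨hts, hodd⟩, hj⟩, rfl⟩ := (mem_sixFam x).mp hx
  have hc := card_of_mem_codeSupps hs
  obtain ⟨b, hb, hbj⟩ := Finset.exists_mem_ne (by rw [hc]; norm_num : 1 < s.card) j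
  obtain ⟨σ, hσ, h1, h2, h3⟩ := m24_marked_trans (Or.inl rfl) (Ne.symm hbj)
    (by decide : (some 0 : GolayPt) ≠ some 1) hs O11_mem
    ⟨fun _ => O11_zero, fun _ => hj⟩ ⟨fun _ => O11_one, fun _ => hb⟩
  have c1 := mconj_perm hσ hxL
  rw [permVec_sixVec, h3, h1] at c1
  have ht1 : t.image σ ⊆ O11 := by rw [← h3]; exact Finset.image_subset_image hts
  have hcard : (t.image σ).card = t.card := Finset.card_image_of_injective _ σ.injective
  have h0 : ({some 0} : Finset GolayPt) ⊆ O11 := Finset.singleton_subset_iff.mpr O11_zero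
  obtain ⟨d, hd, hdS, -⟩ := exists_code_fix O11 ∅ (some 12) (listW e11M) (listW_mem e11_ok)
    e11_delta (fun _ _ q hq => absurd hq (Finset.notMem_empty q)) (t.image σ) {some 0} ht1 h0
    (by rw [hcard, Finset.card_singleton]; exact Nat.not_even_iff.mp hodd)
  have c2 := mconj_sign hd c1.mem_right
  rw [signVec_sixVec_eq d O11 _ {some 0} (some 0)
    (signVec_pmVec_eq d 2 O11 _ _ ht1 h0 hdS)] at c2
  exact c1.trans c2

/-! ### The class of shape `(4^2, 2^8)` -/

/-- The reference vector of shape `(4^2, 2^8, 0^14)`. -/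
def y82 : GolayPt → ℤ := pm2Vec O00 ∅ P01 ∅

lemma mconj_82 (x : GolayPt → ℤ) (hx : x ∈ evenFam 8 2) : MConj x y82 := by
  have hxL := (evenFam_sub 8 2 (by norm_num) x hx).1
  obtain ⟨s, t, p, t', ⟨hs, ⟨hts, hpar⟩, ⟨hps, hpc⟩, htp⟩, rfl⟩ := (mem_evenFam 8 2 x).mp hx
  obtain ⟨a, b, hab, rfl⟩ := Finset.card_eq_two.mp hpc
  have ha : a ∉ s := (Finset.mem_sdiff.mp (hps (by simp))).2
  have hb : b ∉ s := (Finset.mem_sdiff.mp (hps (by simp))).2
  obtain ⟨σ, hσ, h1, h2, h3⟩ := m24_marked_trans (Or.inl rfl) hab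
    (by decide : (some 0 : GolayPt) ≠ some 1) hs O00_mem
    ⟨fun h => absurd h ha, fun h => absurd h O00_zero⟩
    ⟨fun h => absurd h hb, fun h => absurd h O00_one⟩
  have c1 := mconj_perm hσ hxL
  have himg : ({a, b} : Finset GolayPt).image σ = P01 := by
    rw [Finset.image_insert, Finset.image_singleton, h1, h2]; rfl
  rw [permVec_pm2Vec, h3, himg] at c1
  have ht1 : t.image σ ⊆ O00 := by rw [← h3]; exact Finset.image_subset_image hts
  have ht1' : t'.image σ ⊆ P01 := by rw [← himg]; exact Finset.image_subset_image htp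
  have hcard : (t.image σ).card = t.card := Finset.card_image_of_injective _ σ.injective
  obtain ⟨d, hd, hdS, hdZ⟩ := exists_code_fix O00 P01 (some 14) (listW e00M) (listW_mem e00_ok)
    e00_delta e00_Z (t.image σ) ∅ ht1 (Finset.empty_subset _)
    (by rw [hcard, hpar]; rfl)
  have c2 := mconj_sign hd c1.mem_right
  rw [signVec_pm2Vec_eq d ht1 (Finset.empty_subset _) ht1' ht1' hdS
    (fun q hq => by rw [hdZ q hq]; simp)] at c2
  obtain ⟨d', hd', hdP, hdZ'⟩ := exists_code_delta P01 O00 (listW g00M) (listW_mem g00_ok)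
    g00_delta g00_Z (t'.image σ)
  have c3 := mconj_sign hd' c2.mem_right
  rw [signVec_pm2Vec_eq d' (Finset.empty_subset _) (Finset.empty_subset _) ht1'
    (Finset.empty_subset _) (fun q hq => by rw [hdZ' q hq]; simp)
    (fun q hq => by rw [hdP q hq]; simp)] at c3
  exact (c1.trans c2).trans c3

/-! ### The class of shape `(4, 2^12)` -/

/-- The reference vector of shape `(4, -2, 2^11, 0^11)`. -/
def y121 : GolayPt → ℤ := pm2Vec D01 {some 1} P0 ∅

lemma mconj_121 (x : GolayPt → ℤ) (hx : x ∈ evenFam 12 1) : MConj x y121 := by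
  have hxL := (evenFam_sub 12 1 (by norm_num) x hx).1
  obtain ⟨s, t, p, t', ⟨hs, ⟨hts, hpar⟩, ⟨hps, hpc⟩, htp⟩, rfl⟩ := (mem_evenFam 12 1 x).mp hx
  obtain ⟨a, rfl⟩ := Finset.card_eq_one.mp hpc
  have ha : a ∉ s := (Finset.mem_sdiff.mp (hps (by simp))).2
  have hc := card_of_mem_codeSupps hs
  obtain ⟨b, hb⟩ : s.Nonempty := by rw [← Finset.card_pos, hc]; norm_num
  have hab : a ≠ b := fun h => ha (h ▸ hb)
  obtain ⟨σ, hσ, h1, h2, h3⟩ := m24_marked_trans (Or.inr rfl) hab
    (by decide : (some 0 : GolayPt) ≠ some 1) hs D01_mem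
    ⟨fun h => absurd h ha, fun h => absurd h D01_zero⟩
    ⟨fun _ => D01_one, fun _ => hb⟩
  have c1 := mconj_perm hσ hxL
  have himg : ({a} : Finset GolayPt).image σ = P0 := by
    rw [Finset.image_singleton, h1]; rfl
  rw [permVec_pm2Vec, h3, himg] at c1
  have ht1 : t.image σ ⊆ D01 := by rw [← h3]; exact Finset.image_subset_image hts
  have ht1' : t'.image σ ⊆ P0 := by rw [← himg]; exact Finset.image_subset_image htp
  have hcard : (t.image σ).card = t.card := Finset.card_image_of_injective _ σ.injective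
  have h0 : ({some 1} : Finset GolayPt) ⊆ D01 := Finset.singleton_subset_iff.mpr D01_one
  obtain ⟨d, hd, hdS, hdZ⟩ := exists_code_fix D01 P0 (some 15) (listW eDM) (listW_mem eD_ok)
    eD_delta eD_Z (t.image σ) {some 1} ht1 h0
    (by rw [hcard, hpar, Finset.card_singleton])
  have c2 := mconj_sign hd c1.mem_right
  rw [signVec_pm2Vec_eq d ht1 h0 ht1' ht1' hdS
    (fun q hq => by rw [hdZ q hq]; simp)] at c2
  obtain ⟨d', hd', hdP, hdZ'⟩ := exists_code_delta P0 D01 (listW gDM) (listW_mem gD_ok)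
    gD_delta gD_Z (t'.image σ)
  have c3 := mconj_sign hd' c2.mem_right
  rw [signVec_pm2Vec_eq d' h0 h0 ht1'
    (Finset.empty_subset _) (fun q hq => by rw [hdZ' q hq]; simp)
    (fun q hq => by rw [hdP q hq]; simp)] at c3
  exact (c1.trans c2).trans c3

end Cfsg.Agent.Lib.Helper94
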