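import Mathlib
import Cfsg.Agent.Lib.Helper94.LeechMax3

/-! The two classes of vectors of shape `(2^16, 0^8)` under the stabiliser of the standard
cross: those whose sign pattern is a code word, and the others. -/

set_option autoImplicit false

namespace Cfsg.Agent.Lib.Helper94

open Cfsg
open Cfsg.Agent.Lib.Helper95
open Cfsg.Agent.Lib.Helper10 (permWord permWord_apply permWord_mem_of_mem_M24 vec
  vec_mem_golayCode_iff)
open Cfsg.Agent.S0391 (zmod2_cases val_le_one sum_of_mem)

/-! ### Complements of words -/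

lemma bsupp_add_one_eq (c : GolayPt → ZMod 2) : bsupp (c + 1) = (bsupp c)ᶜ := by
  ext i
  rw [Finset.mem_compl, mem_bsupp, mem_bsupp, Pi.add_apply, Pi.one_apply]
  rcases zmod2_cases (c i) with h | h <;> rw [h] <;> decide

lemma compl_mem_codeSupps {k : ℕ} {s : Finset GolayPt} (hs : s ∈ codeSupps k) :
    sᶜ ∈ codeSupps (24 - k) := by
  obtain ⟨c, hc, hk, rfl⟩ := (mem_codeSupps k s).mp hs
  rw [mem_codeSupps]
  refine ⟨c + 1, golayCode.add_mem hc golayCode_one_mem, ?_, bsupp_add_one_eq c⟩
  rw [hammingNorm_eq_card_bsupp, bsupp_add_one_eq, Finset.card_compl, golayPt_card,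
    ← hammingNorm_eq_card_bsupp, hk]

lemma image_compl_perm (σ : Equiv.Perm GolayPt) (s : Finset GolayPt) :
    (sᶜ).image σ = (s.image σ)ᶜ := by
  ext q
  simp only [Finset.mem_compl, Finset.mem_image]
  constructor
  · rintro ⟨x, hx, rfl⟩ ⟨y, hy, hxy⟩
    exact hx (σ.injective hxy ▸ hy)
  · intro h
    exact ⟨σ.symm q, fun hq => h ⟨σ.symm q, hq, by simp⟩, by simp⟩

lemma U0_mem : U0 ∈ codeSupps 16 := compl_mem_codeSupps O00_mem

lemma U0_card : U0.card = 16 := card_of_mem_codeSupps U0_mem

lemma m24_sixteen_trans {s s' : Finset GolayPt} (hs : s ∈ codeSupps 16)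
    (hs' : s' ∈ codeSupps 16) : ∃ σ ∈ M24, s.image σ = s' := by
  obtain ⟨σ, hσ, h⟩ := m24_oct_trans (compl_mem_codeSupps hs) (compl_mem_codeSupps hs')
  refine ⟨σ, hσ, ?_⟩
  rw [image_compl_perm] at h
  exact compl_injective h

lemma pm2Vec_empty (s t : Finset GolayPt) : pm2Vec s t ∅ ∅ = pmVec 2 s t := by
  ext i
  simp [pm2Vec_apply, pmVec_apply]

/-! ### The first class -/

/-- The vectors `(±2^16, 0^8)` whose sign pattern is a code word. -/
def IsA (x : GolayPt → ℤ) : Prop :=
  ∃ s ∈ codeSupps 16, ∃ d ∈ golayCode, x = signVec d (pmVec 2 s ∅)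

lemma IsA.perm {σ : Equiv.Perm GolayPt} (hσ : σ ∈ M24) {x : GolayPt → ℤ} (h : IsA x) :
    IsA (permVec σ x) := by
  obtain ⟨s, hs, d, hd, rfl⟩ := h
  refine ⟨s.image σ, image_mem_codeSupps hσ hs, permWord σ d, permWord_mem_of_mem_M24 hσ d hd, ?_⟩
  rw [permVec_signVec, permVec_pmVec, Finset.image_empty]

lemma IsA.sign {d' : GolayPt → ZMod 2} (hd' : d' ∈ golayCode) {x : GolayPt → ℤ} (h : IsA x) :
    IsA (signVec d' x) := by
  obtain ⟨s, hs, d, hd, rfl⟩ := h
  exact ⟨s, hs, d' + d, golayCode.add_mem hd' hd, by rw [signVec_comp]⟩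

lemma pmVec_two_sixteen_mem {s : Finset GolayPt} (hs : s ∈ codeSupps 16) :
    pmVec 2 s ∅ ∈ leechLattice := by
  rw [← pm2Vec_empty]
  apply (evenFam_sub 16 0 (by norm_num) _ _).1
  rw [mem_evenFam]
  exact ⟨s, ∅, ∅, ∅, ⟨hs, ⟨Finset.empty_subset _, rfl⟩, ⟨Finset.empty_subset _, rfl⟩,
    Finset.empty_subset _⟩, rfl⟩

lemma IsA.memL {x : GolayPt → ℤ} (h : IsA x) : x ∈ leechLattice := by
  obtain ⟨s, hs, d, hd, rfl⟩ := h
  exact signVec_mem hd _ (pmVec_two_sixteen_mem hs)

/-- The reference vector of the first class. -/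
def yA : GolayPt → ℤ := pmVec 2 U0 ∅

/-- The reference vector of the second class. -/
def yB : GolayPt → ℤ := pmVec 2 U0 P01

lemma mconj_A (x : GolayPt → ℤ) (hx : IsA x) : MConj x yA := by
  have hxL := hx.memL
  obtain ⟨s, hs, d, hd, rfl⟩ := hx
  have c0 := mconj_sign hd hxL
  rw [signVec_signVec] at c0
  obtain ⟨σ, hσ, h3⟩ := m24_sixteen_trans hs U0_mem
  have c1 := mconj_perm hσ c0.mem_right
  rw [permVec_pmVec, h3, Finset.image_empty] at c1
  exact c0.trans c1

/-! ### The second class -/

lemma even_card_of_pmVec_two_mem {s t : Finset GolayPt} (hts : t ⊆ s) (hs : s.card = 16)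
    (h : pmVec 2 s t ∈ leechLattice) : Even t.card := by
  obtain ⟨m, hm⟩ := sum_of_mem _ h
  rw [sum_pmVec 2 hts, hs, pmVec_apply] at hm
  rw [Nat.even_iff]
  split_ifs at hm <;> push_cast at hm <;> omega

lemma pair_to_yB {t : Finset GolayPt} (ht : t ⊆ U0) (hc : t.card = 2)
    (hL : pmVec 2 U0 t ∈ leechLattice) : MConj (pmVec 2 U0 t) yB := by
  obtain ⟨a, b, hab, rfl⟩ := Finset.card_eq_two.mp hc
  have ha : a ∉ O00 := Finset.mem_compl.mp (ht (by simp))
  have hb : b ∉ O00 := Finset.mem_compl.mp (ht (by simp))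
  obtain ⟨σ, hσ, h1, h2, h3⟩ := m24_marked_trans (Or.inl rfl) hab
    (by decide : (some 0 : GolayPt) ≠ some 1) O00_mem O00_mem
    ⟨fun h => absurd h ha, fun h => absurd h O00_zero⟩
    ⟨fun h => absurd h hb, fun h => absurd h O00_one⟩
  have c1 := mconj_perm hσ hL
  have hU : U0.image σ = U0 := by
    unfold U0
    rw [image_compl_perm, h3]
  have himg : ({a, b} : Finset GolayPt).image σ = P01 := by
    rw [Finset.image_insert, Finset.image_singleton, h1, h2]; rfl
  rw [permVec_pmVec, hU, himg] at c1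
  exact c1

lemma mconj_B (x : GolayPt → ℤ) (hx : x ∈ evenFam 16 0) (hnA : ¬ IsA x) : MConj x yB := by
  have hxL := (evenFam_sub 16 0 (by norm_num) x hx).1
  obtain ⟨s, t, p, t', ⟨hs, ⟨hts, hpar⟩, ⟨hps, hpc⟩, htp⟩, rfl⟩ := (mem_evenFam 16 0 x).mp hx
  have hp0 : p = ∅ := Finset.card_eq_zero.mp hpc
  subst hp0
  have ht0 : t' = ∅ := Finset.subset_empty.mp htp
  subst ht0
  rw [pm2Vec_empty] at hxL hnA ⊢
  obtain ⟨σ, hσ, h3⟩ := m24_sixteen_trans hs U0_mem
  have c1 := mconj_perm hσ hxL
  have hnA1 : ¬ IsA (permVec σ (pmVec 2 s t)) := by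
    intro h
    apply hnA
    have h' : IsA (permVec σ.symm (permVec σ (pmVec 2 s t))) := h.perm (M24.inv_mem hσ)
    rwa [permVec_symm] at h'
  rw [permVec_pmVec, h3] at c1 hnA1
  have ht1 : t.image σ ⊆ U0 := by rw [← h3]; exact Finset.image_subset_image hts
  obtain ⟨d, hd, hdP, -⟩ := exists_code_delta PU ∅ (listW eUM) (listW_mem eU_ok) eU_delta
    (fun _ _ q hq => absurd hq (Finset.notMem_empty q)) (t.image σ)
  have c2 := mconj_sign hd c1.mem_right
  have hnA2 : ¬ IsA (signVec d (pmVec 2 U0 (t.image σ))) := by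
    intro h
    apply hnA1
    have h' := h.sign hd
    rwa [signVec_signVec] at h'
  rw [signVec_pmVec_gen d 2 U0 _ ht1] at c2 hnA2
  set t2 := U0.filter fun q => ¬ (d q = 1 ↔ q ∈ t.image σ) with ht2
  have ht2U : t2 ⊆ U0 := Finset.filter_subset _ _
  have ht2R : t2 ⊆ R5 := by
    intro q hq
    rw [← U0_sdiff, Finset.mem_sdiff]
    rw [ht2, Finset.mem_filter] at hq
    exact ⟨hq.1, fun hP => hq.2 (hdP q hP)⟩
  have hev : Even t2.card := even_card_of_pmVec_two_mem ht2U U0_card c2.mem_right
  have hne : t2 ≠ ∅ := by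
    intro h
    apply hnA2
    rw [h]
    refine ⟨U0, U0_mem, 0, golayCode.zero_mem, ?_⟩
    ext q
    simp [signVec_apply, sgnOf]
  have hle : t2.card ≤ 5 := by
    have := Finset.card_le_card ht2R
    rwa [R5_card] at this
  have hpos : 0 < t2.card := Finset.card_pos.mpr (Finset.nonempty_iff_ne_empty.mpr hne)
  have hcases : t2.card = 2 ∨ t2.card = 4 := by
    obtain ⟨k, hk⟩ := hev
    omega
  rcases hcases with h2 | h4
  · exact (c1.trans c2).trans (pair_to_yB ht2U h2 c2.mem_right)
  · have hone : (R5 \ t2).card = 1 := by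
      rw [Finset.card_sdiff_of_subset ht2R, R5_card, h4]
    obtain ⟨r, hr⟩ := Finset.card_eq_one.mp hone
    have hrR : r ∈ R5 := by
      have : r ∈ R5 \ t2 := by rw [hr]; simp
      exact (Finset.mem_sdiff.mp this).1
    have ht2e : t2 = R5.erase r := by
      rw [← Finset.sdiff_singleton_eq_erase, ← hr, Finset.sdiff_sdiff_eq_self ht2R]
    obtain ⟨m, hm, hcard⟩ := corr_four r hrR
    have hmc : vec m ∈ golayCode :=
      (vec_mem_golayCode_iff (corr_ok m hm).1).mpr (corr_ok m hm).2
    have c3 := mconj_sign hmc c2.mem_right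
    rw [signVec_pmVec_gen (vec m) 2 U0 _ ht2U] at c3
    rw [← ht2e] at hcard
    exact ((c1.trans c2).trans c3).trans
      (pair_to_yB (Finset.filter_subset _ _) hcard c3.mem_right)

/-! ### Counting the first class -/

/-- The first class as a finite set. -/
noncomputable def famA : Finset (GolayPt → ℤ) :=
  ((codeSupps 16) ×ˢ codeAll).image fun q => signVec q.2 (pmVec 2 q.1 ∅)

lemma mem_famA (x : GolayPt → ℤ) : x ∈ famA ↔ IsA x := by
  unfold famA IsA
  rw [Finset.mem_image]
  constructor
  · rintro ⟨⟨s, d⟩, hq, rfl⟩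
    rw [Finset.mem_product, mem_codeAll] at hq
    exact ⟨s, hq.1, d, hq.2, rfl⟩
  · rintro ⟨s, hs, d, hd, rfl⟩
    exact ⟨⟨s, d⟩, Finset.mem_product.mpr ⟨hs, (mem_codeAll d).mpr hd⟩, rfl⟩

lemma famA_sub : famA ⊆ evenFam 16 0 := by
  intro x hx
  have hA := (mem_famA x).mp hx
  have hxL := hA.memL
  obtain ⟨s, hs, d, hd, rfl⟩ := hA
  rw [signVec_pmVec_gen d 2 s ∅ (Finset.empty_subset _)] at hxL ⊢
  have hev := even_card_of_pmVec_two_mem (Finset.filter_subset _ _) (card_of_mem_codeSupps hs) hxL
  rw [mem_evenFam]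
  refine ⟨s, _, ∅, ∅, ⟨hs, ⟨Finset.filter_subset _ _, ?_⟩, ⟨Finset.empty_subset _, rfl⟩,
    Finset.empty_subset _⟩, (pm2Vec_empty _ _).symm⟩
  rw [Nat.even_iff.mp hev]

/-- The code words vanishing at a point. -/
noncomputable def halfCode (i : GolayPt) : Finset (GolayPt → ZMod 2) :=
  codeAll.filter fun d => d i = 0

lemma card_halfCode (i : GolayPt) : (halfCode i).card = 2048 := by
  have h1 : (codeAll.filter fun d => d i = 0).card = (codeAll.filter fun d => ¬ d i = 0).card := by
    apply Finset.card_bij (fun d _ => d + 1)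
    · intro d hd
      rw [Finset.mem_filter, mem_codeAll] at hd ⊢
      refine ⟨golayCode.add_mem hd.1 golayCode_one_mem, ?_⟩
      rw [Pi.add_apply, Pi.one_apply, hd.2]
      decide
    · intro d _ d' _ h
      exact add_right_cancel h
    · intro d hd
      rw [Finset.mem_filter, mem_codeAll] at hd
      refine ⟨d + 1, ?_, ?_⟩
      · rw [Finset.mem_filter, mem_codeAll]
        refine ⟨golayCode.add_mem hd.1 golayCode_one_mem, ?_⟩
        rw [Pi.add_apply, Pi.one_apply]
        rcases zmod2_cases (d i) with h | h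
        · exact absurd h hd.2
        · rw [h]; decide
      · ext q
        simp only [Pi.add_apply, Pi.one_apply]
        rcases zmod2_cases (d q) with h | h <;> rw [h] <;> decide
  have h2 := Finset.card_filter_add_card_filter_not (s := codeAll) (fun d => d i = 0)
  rw [card_codeAll] at h2
  unfold halfCode
  omega

/-- A point off a set (when there is one). -/
noncomputable def pick (s : Finset GolayPt) : GolayPt :=
  if h : ∃ i, i ∉ s then h.choose else none

lemma pick_spec {s : Finset GolayPt} (hs : s.card = 16) : pick s ∉ s := by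
  have hex : ∃ i, i ∉ s := by
    by_contra h
    push Not at h
    have : s = Finset.univ := Finset.eq_univ_iff_forall.mpr h
    rw [this, Finset.card_univ, golayPt_card] at hs
    norm_num at hs
  unfold pick
  rw [dif_pos hex]
  exact hex.choose_spec

/-- Parameters of the first class. -/
noncomputable def paramA : Finset (Σ _ : Finset GolayPt, GolayPt → ZMod 2) :=
  (codeSupps 16).sigma fun s => halfCode (pick s)

lemma card_paramA : paramA.card = 1554432 := by
  unfold paramA
  rw [Finset.card_sigma, Finset.sum_congr rfl (fun s _ => card_halfCode (pick s)),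
    Finset.sum_const, smul_eq_mul, card_codeSupps, card_codeWords_sixteen]

lemma signVec_two_apply (d : GolayPt → ZMod 2) (s : Finset GolayPt) (q : GolayPt) :
    signVec d (pmVec 2 s ∅) q = if q ∈ s then sgnOf d q * 2 else 0 := by
  rw [signVec_apply, pmVec_apply]
  by_cases h : q ∈ s <;> simp [h]

lemma sgnOf_ne_zero (d : GolayPt → ZMod 2) (q : GolayPt) : sgnOf d q ≠ 0 := by
  unfold sgnOf
  rcases val_le_one (d q) with h | h <;> rw [h] <;> norm_num

lemma sgnOf_inj {d d' : GolayPt → ZMod 2} {q : GolayPt} (h : sgnOf d q = sgnOf d' q) :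
    d q = d' q := by
  unfold sgnOf at h
  rcases zmod2_cases (d q) with h1 | h1 <;> rcases zmod2_cases (d' q) with h2 | h2 <;>
    rw [h1, h2] at h ⊢ <;> simp [ZMod.val_one] at h

lemma famA_eq_image : famA = paramA.image fun q => signVec q.2 (pmVec 2 q.1 ∅) := by
  ext x
  rw [mem_famA, Finset.mem_image]
  constructor
  · rintro ⟨s, hs, d, hd, rfl⟩
    have hc16 := card_of_mem_codeSupps hs
    have hpick := pick_spec hc16
    rcases zmod2_cases (d (pick s)) with h0 | h1
    · refine ⟨⟨s, d⟩, ?_, rfl⟩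
      unfold paramA halfCode
      rw [Finset.mem_sigma, Finset.mem_filter, mem_codeAll]
      exact ⟨hs, hd, h0⟩
    · obtain ⟨cb, hcb, -, hsupp⟩ := (mem_codeSupps _ _).mp (compl_mem_codeSupps hs)
      have hcbp : cb (pick s) = 1 := by
        rw [← mem_bsupp, hsupp, Finset.mem_compl]; exact hpick
      refine ⟨⟨s, d + cb⟩, ?_, ?_⟩
      · unfold paramA halfCode
        rw [Finset.mem_sigma, Finset.mem_filter, mem_codeAll]
        refine ⟨hs, golayCode.add_mem hd hcb, ?_⟩
        show (d + cb) (pick s) = 0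
        rw [Pi.add_apply, h1, hcbp]; decide
      · ext q
        show signVec (d + cb) (pmVec 2 s ∅) q = signVec d (pmVec 2 s ∅) q
        rw [signVec_two_apply, signVec_two_apply]
        by_cases hq : q ∈ s
        · rw [if_pos hq, if_pos hq]
          have : cb q = 0 := by
            rw [← notMem_bsupp, hsupp, Finset.mem_compl, not_not]; exact hq
          unfold sgnOf
          rw [Pi.add_apply, this, add_zero]
        · rw [if_neg hq, if_neg hq]
  · rintro ⟨⟨s, d⟩, hq, rfl⟩
    unfold paramA halfCode at hq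
    rw [Finset.mem_sigma, Finset.mem_filter, mem_codeAll] at hq
    exact ⟨s, hq.1, d, hq.2.1, rfl⟩

lemma card_famA : famA.card = 1554432 := by
  rw [famA_eq_image, Finset.card_image_of_injOn, card_paramA]
  rintro ⟨s, d⟩ hq ⟨s', d'⟩ hq' h
  unfold paramA halfCode at hq hq'
  rw [Finset.mem_coe, Finset.mem_sigma, Finset.mem_filter, mem_codeAll] at hq hq'
  obtain ⟨hs, hd, hd0⟩ := hq
  obtain ⟨hs', hd', hd0'⟩ := hq'
  simp only at hs hd hd0 hs' hd' hd0' h
  have hval : ∀ q, (if q ∈ s then sgnOf d q * 2 else 0) = if q ∈ s' then sgnOf d' q * 2 else 0 := by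
    intro q
    rw [← signVec_two_apply, ← signVec_two_apply, h]
  have hss : s = s' := by
    ext q
    have := hval q
    by_cases h1 : q ∈ s <;> by_cases h2 : q ∈ s'
    · exact ⟨fun _ => h2, fun _ => h1⟩
    · rw [if_pos h1, if_neg h2] at this
      exact absurd this (mul_ne_zero (sgnOf_ne_zero d q) (by norm_num))
    · rw [if_neg h1, if_pos h2] at this
      exact absurd this.symm (mul_ne_zero (sgnOf_ne_zero d' q) (by norm_num))
    · exact ⟨fun h => absurd h h1, fun h => absurd h h2⟩
  subst hss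
  have hagree : ∀ q ∈ s, d q = d' q := by
    intro q hq
    have := hval q
    rw [if_pos hq, if_pos hq] at this
    exact sgnOf_inj (mul_right_cancel₀ (by norm_num) this)
  have hc16 := card_of_mem_codeSupps hs
  have hpick := pick_spec hc16
  have hw : d + d' = 0 := by
    by_contra hne
    have h8 := golayCode_hmin (d + d') (golayCode.add_mem hd hd') hne
    rw [hammingNorm_eq_card_bsupp] at h8
    have hsub : bsupp (d + d') ⊆ sᶜ.erase (pick s) := by
      intro q hq
      rw [mem_bsupp, Pi.add_apply] at hq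
      rw [Finset.mem_erase, Finset.mem_compl]
      constructor
      · intro hqp
        rw [hqp, hd0, hd0'] at hq
        exact absurd hq (by decide)
      · intro hqs
        rw [hagree q hqs] at hq
        rcases zmod2_cases (d' q) with h | h <;> rw [h] at hq <;> exact absurd hq (by decide)
    have hle := Finset.card_le_card hsub
    rw [Finset.card_erase_of_mem (Finset.mem_compl.mpr hpick), Finset.card_compl, golayPt_card,
      hc16] at hle
    omega
  have hdd : d = d' := by
    ext q
    have := congrFun hw q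
    rw [Pi.add_apply, Pi.zero_apply] at this
    rcases zmod2_cases (d q) with h1 | h1 <;> rcases zmod2_cases (d' q) with h2 | h2 <;>
      rw [h1, h2] at this ⊢ <;> exact absurd this (by decide)
  rw [hdd]

/-- The second class as a finite set. -/
noncomputable def famB : Finset (GolayPt → ℤ) := evenFam 16 0 \ famA

lemma card_famB : famB.card = 23316480 := by
  unfold famB
  rw [Finset.card_sdiff_of_subset famA_sub, card_famA, card_evenFam 16 0 (by norm_num),
    card_codeWords_sixteen]
  norm_num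

end Cfsg.Agent.Lib.Helper94
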