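import Mathlib
import Cfsg.Agent.Lib.Helper94.LeechMax4

/-! The stabiliser of the standard cross is a maximal subgroup of the automorphism group of the
lattice: a subgroup containing it moves `(8, 0^23)` onto a union of its nine classes of vectors,
and the sizes of the classes leave two possibilities only. -/

set_option autoImplicit false

namespace Cfsg.Agent.Lib.Helper94

open Cfsg
open Cfsg.Agent.Lib.Helper95

/-- The nine classes, indexed by numbers read off the entries. -/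
noncomputable def fam9 : ℕ → Finset (GolayPt → ℤ)
  | 0 => famA
  | 4 => sixFam
  | 6 => zeroFam 8 1
  | 7 => oddFam (oneVecs 5 (-3))
  | 8 => oddFam mixVecs
  | 10 => famB
  | 11 => evenFam 12 1
  | 12 => evenFam 8 2
  | 14 => zeroFam 4 4
  | _ => ∅

lemma fam9_cases {x : GolayPt → ℤ} {c : ℕ} (h : x ∈ fam9 c) :
    (c = 0 ∧ x ∈ famA) ∨ (c = 4 ∧ x ∈ sixFam) ∨ (c = 6 ∧ x ∈ zeroFam 8 1) ∨
      (c = 7 ∧ x ∈ oddFam (oneVecs 5 (-3))) ∨ (c = 8 ∧ x ∈ oddFam mixVecs) ∨
      (c = 10 ∧ x ∈ famB) ∨ (c = 11 ∧ x ∈ evenFam 12 1) ∨ (c = 12 ∧ x ∈ evenFam 8 2) ∨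
      (c = 14 ∧ x ∈ zeroFam 4 4) := by
  unfold fam9 at h
  split at h
  · exact Or.inl ⟨rfl, h⟩
  · exact Or.inr (Or.inl ⟨rfl, h⟩)
  · exact Or.inr (Or.inr (Or.inl ⟨rfl, h⟩))
  · exact Or.inr (Or.inr (Or.inr (Or.inl ⟨rfl, h⟩)))
  · exact Or.inr (Or.inr (Or.inr (Or.inr (Or.inl ⟨rfl, h⟩))))
  · exact Or.inr (Or.inr (Or.inr (Or.inr (Or.inr (Or.inl ⟨rfl, h⟩)))))
  · exact Or.inr (Or.inr (Or.inr (Or.inr (Or.inr (Or.inr (Or.inl ⟨rfl, h⟩))))))
  · exact Or.inr (Or.inr (Or.inr (Or.inr (Or.inr (Or.inr (Or.inr (Or.inl ⟨rfl, h⟩)))))))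
  · exact Or.inr (Or.inr (Or.inr (Or.inr (Or.inr (Or.inr (Or.inr (Or.inr ⟨rfl, h⟩)))))))
  · exact absurd h (Finset.notMem_empty _)

open Classical in
/-- The index of the class of a vector. -/
noncomputable def cls9 (x : GolayPt → ℤ) : ℕ := if x ∈ famA then 0 else tag x

lemma tag_famA {x : GolayPt → ℤ} (hx : x ∈ famA) : tag x = 10 :=
  tag_evenFam 16 0 (by norm_num) x (famA_sub hx)

lemma cls9_of_mem {x : GolayPt → ℤ} {c : ℕ} (h : x ∈ fam9 c) : cls9 x = c := by
  have notA : ∀ t, tag x = t → t ≠ 10 → x ∉ famA :=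
    fun t ht hne hA => hne (ht.symm.trans (tag_famA hA))
  unfold cls9
  rcases fam9_cases h with ⟨rfl, h'⟩ | ⟨rfl, h'⟩ | ⟨rfl, h'⟩ | ⟨rfl, h'⟩ | ⟨rfl, h'⟩ | ⟨rfl, h'⟩ |
    ⟨rfl, h'⟩ | ⟨rfl, h'⟩ | ⟨rfl, h'⟩
  · rw [if_pos h']
  · have ht : tag x = 4 := tag_sixFam x h'
    rw [if_neg (notA _ ht (by decide)), ht]
  · have ht : tag x = 6 := tag_zeroFam_eight x h'
    rw [if_neg (notA _ ht (by decide)), ht]
  · have ht : tag x = 7 := tag_odd5 x h'
    rw [if_neg (notA _ ht (by decide)), ht]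
  · have ht : tag x = 8 := tag_mix x h'
    rw [if_neg (notA _ ht (by decide)), ht]
  · have h' := Finset.mem_sdiff.mp h'
    have ht : tag x = 10 := tag_evenFam 16 0 (by norm_num) x h'.1
    rw [if_neg h'.2, ht]
  · have ht : tag x = 11 := tag_evenFam 12 1 (by norm_num) x h'
    rw [if_neg (notA _ ht (by decide)), ht]
  · have ht : tag x = 12 := tag_evenFam 8 2 (by norm_num) x h'
    rw [if_neg (notA _ ht (by decide)), ht]
  · have ht : tag x = 14 := tag_zeroFam_four x h'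
    rw [if_neg (notA _ ht (by decide)), ht]

lemma exists_fam9 (x : GolayPt → ℤ) (h : x ∈ leechLattice ∧ sqNorm x = 64) :
    ∃ c ∈ Finset.range 15, x ∈ fam9 c := by
  classical
  rcases (norm64_iff x).mp h with h | h | h | h | h | h | h | h
  · by_cases hA : x ∈ famA
    · exact ⟨0, by decide, hA⟩
    · exact ⟨10, by decide, Finset.mem_sdiff.mpr ⟨h, hA⟩⟩
  · exact ⟨11, by decide, h⟩
  · exact ⟨12, by decide, h⟩
  · exact ⟨4, by decide, h⟩
  · exact ⟨14, by decide, h⟩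
  · exact ⟨6, by decide, h⟩
  · exact ⟨7, by decide, h⟩
  · exact ⟨8, by decide, h⟩

lemma trans9 {c : ℕ} {x y : GolayPt → ℤ} (hx : x ∈ fam9 c) (hy : y ∈ fam9 c) : MConj x y := by
  rcases fam9_cases hx with ⟨rfl, hx'⟩ | ⟨rfl, hx'⟩ | ⟨rfl, hx'⟩ | ⟨rfl, hx'⟩ | ⟨rfl, hx'⟩ |
    ⟨rfl, hx'⟩ | ⟨rfl, hx'⟩ | ⟨rfl, hx'⟩ | ⟨rfl, hx'⟩
  · have hy' : y ∈ famA := hy
    exact (mconj_A x ((mem_famA x).mp hx')).trans (mconj_A y ((mem_famA y).mp hy')).symm
  · have hy' : y ∈ sixFam := hy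
    exact (mconj_six x hx').trans (mconj_six y hy').symm
  · have hy' : y ∈ zeroFam 8 1 := hy
    exact (mconj_F6 x hx').trans (mconj_F6 y hy').symm
  · have hy' : y ∈ oddFam (oneVecs 5 (-3)) := hy
    exact mconj_F7 x y hx' hy'
  · have hy' : y ∈ oddFam mixVecs := hy
    exact mconj_F8 x y hx' hy'
  · have hy' : y ∈ famB := hy
    have h1 := Finset.mem_sdiff.mp hx'
    have h2 := Finset.mem_sdiff.mp hy'
    exact (mconj_B x h1.1 (fun h => h1.2 ((mem_famA x).mpr h))).trans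
      (mconj_B y h2.1 (fun h => h2.2 ((mem_famA y).mpr h))).symm
  · have hy' : y ∈ evenFam 12 1 := hy
    exact (mconj_121 x hx').trans (mconj_121 y hy').symm
  · have hy' : y ∈ evenFam 8 2 := hy
    exact (mconj_82 x hx').trans (mconj_82 y hy').symm
  · have hy' : y ∈ zeroFam 4 4 := hy
    exact (mconj_F5 x hx').trans (mconj_F5 y hy').symm

lemma sum_range15 (g : ℕ → ℕ) : ∑ c ∈ Finset.range 15, g c
    = g 0 + g 1 + g 2 + g 3 + g 4 + g 5 + g 6 + g 7 + g 8 + g 9 + g 10 + g 11 + g 12 + g 13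
      + g 14 := by
  simp [Finset.sum_range_succ]

/-- The size of a set of vectors of sum of squares 64 closed under the stabiliser of the
standard cross. -/
lemma card_closed (O : Finset (GolayPt → ℤ))
    (hO64 : ∀ x ∈ O, x ∈ leechLattice ∧ sqNorm x = 64)
    (hcl : ∀ x ∈ O, ∀ y, MConj x y → y ∈ O) :
    O.card = (if (famA ∩ O).Nonempty then 1554432 else 0)
      + (if (sixFam ∩ O).Nonempty then 777216 else 0)
      + (if (zeroFam 8 1 ∩ O).Nonempty then 48 else 0)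
      + (if (oddFam (oneVecs 5 (-3)) ∩ O).Nonempty then 174096384 else 0)
      + (if (oddFam mixVecs ∩ O).Nonempty then 24870912 else 0)
      + (if (famB ∩ O).Nonempty then 23316480 else 0)
      + (if (evenFam 12 1 ∩ O).Nonempty then 126615552 else 0)
      + (if (evenFam 8 2 ∩ O).Nonempty then 46632960 else 0)
      + (if (zeroFam 4 4 ∩ O).Nonempty then 170016 else 0) := by
  classical
  have hcls : Set.MapsTo cls9 (O : Set (GolayPt → ℤ)) (Finset.range 15 : Finset ℕ) := by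
    intro x hx
    obtain ⟨c, hc, hxc⟩ := exists_fam9 x (hO64 x hx)
    rw [cls9_of_mem hxc]
    exact hc
  have hsum : O.card
      = ∑ c ∈ Finset.range 15, if (fam9 c ∩ O).Nonempty then (fam9 c).card else 0 := by
    rw [Finset.card_eq_sum_card_fiberwise hcls]
    apply Finset.sum_congr rfl
    intro c _
    have hfil : O.filter (fun x => cls9 x = c) = fam9 c ∩ O := by
      ext x
      rw [Finset.mem_filter, Finset.mem_inter]
      constructor
      · rintro ⟨hx, hxc⟩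
        obtain ⟨c', -, hxc'⟩ := exists_fam9 x (hO64 x hx)
        rw [cls9_of_mem hxc'] at hxc
        subst hxc
        exact ⟨hxc', hx⟩
      · rintro ⟨hxc, hx⟩
        exact ⟨hx, cls9_of_mem hxc⟩
    rw [hfil]
    split_ifs with hne
    · congr 1
      apply Finset.inter_eq_left.mpr
      obtain ⟨x0, hx0⟩ := hne
      rw [Finset.mem_inter] at hx0
      intro y hy
      exact hcl x0 hx0.2 y (trans9 hx0.1 hy)
    · rw [Finset.not_nonempty_iff_eq_empty.mp hne]
      rfl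
  rw [hsum, sum_range15]
  have z : (if ((∅ : Finset (GolayPt → ℤ)) ∩ O).Nonempty
      then (∅ : Finset (GolayPt → ℤ)).card else 0) = 0 := by simp
  show (if (famA ∩ O).Nonempty then famA.card else 0)
    + (if ((∅ : Finset (GolayPt → ℤ)) ∩ O).Nonempty then (∅ : Finset (GolayPt → ℤ)).card else 0)
    + (if ((∅ : Finset (GolayPt → ℤ)) ∩ O).Nonempty then (∅ : Finset (GolayPt → ℤ)).card else 0)
    + (if ((∅ : Finset (GolayPt → ℤ)) ∩ O).Nonempty then (∅ : Finset (GolayPt → ℤ)).card else 0)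
    + (if (sixFam ∩ O).Nonempty then sixFam.card else 0)
    + (if ((∅ : Finset (GolayPt → ℤ)) ∩ O).Nonempty then (∅ : Finset (GolayPt → ℤ)).card else 0)
    + (if (zeroFam 8 1 ∩ O).Nonempty then (zeroFam 8 1).card else 0)
    + (if (oddFam (oneVecs 5 (-3)) ∩ O).Nonempty then (oddFam (oneVecs 5 (-3))).card else 0)
    + (if (oddFam mixVecs ∩ O).Nonempty then (oddFam mixVecs).card else 0)
    + (if ((∅ : Finset (GolayPt → ℤ)) ∩ O).Nonempty then (∅ : Finset (GolayPt → ℤ)).card else 0)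
    + (if (famB ∩ O).Nonempty then famB.card else 0)
    + (if (evenFam 12 1 ∩ O).Nonempty then (evenFam 12 1).card else 0)
    + (if (evenFam 8 2 ∩ O).Nonempty then (evenFam 8 2).card else 0)
    + (if ((∅ : Finset (GolayPt → ℤ)) ∩ O).Nonempty then (∅ : Finset (GolayPt → ℤ)).card else 0)
    + (if (zeroFam 4 4 ∩ O).Nonempty then (zeroFam 4 4).card else 0) = _
  rw [z, card_famA, card_sixFam, card_zeroFam (by norm_num), card_zeroFam (by norm_num),
    card_oddFam_oneVecs 5 (by decide) (by norm_num), card_oddFam_mixVecs, card_famB,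
    card_evenFam 12 1 (by norm_num), card_evenFam 8 2 (by norm_num), card_codeWords_twelve,
    card_codeWords_eight]
  norm_num [Nat.choose]

set_option synthInstance.maxSize 4096 in
set_option synthInstance.maxHeartbeats 400000 in
lemma arithB : ∀ bA b4 b7 b8 bB b11 b12 b14 : Bool,
    ((bif bA then (1554432 : ℕ) else 0) + (bif b4 then 777216 else 0) + 48
      + (bif b7 then 174096384 else 0) + (bif b8 then 24870912 else 0)
      + (bif bB then 23316480 else 0) + (bif b11 then 126615552 else 0)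
      + (bif b12 then 46632960 else 0) + (bif b14 then 170016 else 0))
        ∣ 8315553613086720000 →
    (bA = false ∧ b4 = false ∧ b7 = false ∧ b8 = false ∧ bB = false ∧ b11 = false ∧
      b12 = false ∧ b14 = false) ∨
    (bA = true ∧ b4 = true ∧ b7 = true ∧ b8 = true ∧ bB = true ∧ b11 = true ∧
      b12 = true ∧ b14 = true) := by
  decide +kernel

lemma arithP (pA p4 p7 p8 pB p11 p12 p14 : Prop) [Decidable pA] [Decidable p4] [Decidable p7]
    [Decidable p8] [Decidable pB] [Decidable p11] [Decidable p12] [Decidable p14]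
    (h : ((if pA then 1554432 else 0) + (if p4 then 777216 else 0) + 48
      + (if p7 then 174096384 else 0) + (if p8 then 24870912 else 0)
      + (if pB then 23316480 else 0) + (if p11 then 126615552 else 0)
      + (if p12 then 46632960 else 0) + (if p14 then 170016 else 0))
        ∣ 8315553613086720000) :
    (¬ pA ∧ ¬ p4 ∧ ¬ p7 ∧ ¬ p8 ∧ ¬ pB ∧ ¬ p11 ∧ ¬ p12 ∧ ¬ p14) ∨
    (pA ∧ p4 ∧ p7 ∧ p8 ∧ pB ∧ p11 ∧ p12 ∧ p14) := by
  have := arithB (decide pA) (decide p4) (decide p7) (decide p8) (decide pB) (decide p11)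
    (decide p12) (decide p14) (by simpa only [Bool.cond_decide] using h)
  simpa only [decide_eq_false_iff_not, decide_eq_true_eq] using this

/-- The vector `(8, 0^23)` as a member of the lattice. -/
def E8L : ↥leechLattice := ⟨e8, e8_memL⟩

lemma mem_H0_of_fix (g : ↥Co0) (h : g.1 E8L = E8L) : g ∈ H0 := by
  unfold H0
  rw [MulAction.mem_stabilizer_iff]
  have hq : q0 = cls E8L.1 := rfl
  rw [hq, smul_cls]
  have : (g • E8L : leechLattice) = E8L := h
  rw [this]

lemma H0_ne_top : H0 ≠ ⊤ := by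
  intro h
  have h1 : Nat.card H0 = 4096 * 244823040 := card_stabilizer
  rw [h, Subgroup.card_top, card_Co0] at h1
  norm_num at h1

/-- The stabiliser of the standard cross is a maximal subgroup. -/
theorem H0_isCoatom : IsCoatom H0 := by
  classical
  refine ⟨H0_ne_top, fun K hK => ?_⟩
  have hle : H0 ≤ K := le_of_lt hK
  set N64 : Finset (GolayPt → ℤ) := (Finset.range 15).biUnion fam9 with hN
  set O : Finset (GolayPt → ℤ) :=
    N64.filter (fun y => ∃ k ∈ K, ((k.1 E8L : leechLattice) : GolayPt → ℤ) = y) with hO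
  have h64 : ∀ k : ↥Co0, ((k.1 E8L : leechLattice) : GolayPt → ℤ) ∈ leechLattice ∧
      sqNorm ((k.1 E8L : leechLattice) : GolayPt → ℤ) = 64 := fun k =>
    ⟨(k.1 E8L).2, by rw [← sqNorm_e8]; exact k.2.2 E8L⟩
  have memN : ∀ k : ↥Co0, ((k.1 E8L : leechLattice) : GolayPt → ℤ) ∈ N64 := by
    intro k
    obtain ⟨c, hc, hx⟩ := exists_fam9 _ (h64 k)
    exact Finset.mem_biUnion.mpr ⟨c, hc, hx⟩
  have memO : ∀ k ∈ K, ((k.1 E8L : leechLattice) : GolayPt → ℤ) ∈ O :=
    fun k hk => Finset.mem_filter.mpr ⟨memN k, k, hk, rfl⟩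
  have hO64 : ∀ x ∈ O, x ∈ leechLattice ∧ sqNorm x = 64 := by
    intro x hx
    obtain ⟨-, k, -, rfl⟩ := Finset.mem_filter.mp hx
    exact h64 k
  have hcl : ∀ x ∈ O, ∀ y, MConj x y → y ∈ O := by
    intro x hx y hxy
    obtain ⟨-, k, hk, rfl⟩ := Finset.mem_filter.mp hx
    obtain ⟨h, hh, hx', rfl⟩ := hxy
    exact memO (h * k) (K.mul_mem (hle hh) hk)
  have hdvd : O.card ∣ 8315553613086720000 := by
    rw [← card_Co0]
    have h1 : O.card = Nat.card (MulAction.orbit ↥K E8L) := by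
      rw [Nat.card_coe_set_eq, ← Set.ncard_image_of_injective _ Subtype.val_injective,
        ← Set.ncard_coe_finset O]
      congr 1
      ext y
      simp only [Finset.mem_coe, Set.mem_image]
      constructor
      · intro hy
        obtain ⟨-, k, hk, rfl⟩ := Finset.mem_filter.mp hy
        exact ⟨k.1 E8L, ⟨⟨k, hk⟩, rfl⟩, rfl⟩
      · rintro ⟨v, ⟨⟨k, hk⟩, rfl⟩, rfl⟩
        exact memO k hk
    rw [h1]
    have h2 := Subgroup.card_eq_card_quotient_mul_card_subgroup (MulAction.stabilizer ↥K E8L)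
    rw [← Nat.card_congr (MulAction.orbitEquivQuotientStabilizer ↥K E8L)] at h2
    exact (Dvd.intro _ h2.symm).trans (Subgroup.card_subgroup_dvd_card K)
  have hcard := card_closed O hO64 hcl
  have he8 : (zeroFam 8 1 ∩ O).Nonempty :=
    ⟨e8, Finset.mem_inter.mpr ⟨e8_mem, memO 1 K.one_mem⟩⟩
  rw [if_pos he8] at hcard
  rw [hcard] at hdvd
  have sub : ∀ c, (fam9 c ∩ O).Nonempty → ∀ y ∈ fam9 c, y ∈ O := by
    intro c hne y hy
    obtain ⟨x0, hx0⟩ := hne
    rw [Finset.mem_inter] at hx0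
    exact hcl x0 hx0.2 y (trans9 hx0.1 hy)
  rcases arithP _ _ _ _ _ _ _ _ hdvd with
    ⟨nA, n4, n7, n8, nB, n11, n12, n14⟩ | ⟨pA, p4, p7, p8, pB, p11, p12, p14⟩
  · exfalso
    apply not_le_of_gt hK
    intro k hk
    have hy := memO k hk
    rcases (norm64_iff _).mp (h64 k) with h | h | h | h | h | h | h | h
    · by_cases hA : ((k.1 E8L : leechLattice) : GolayPt → ℤ) ∈ famA
      · exact absurd ⟨_, Finset.mem_inter.mpr ⟨hA, hy⟩⟩ nA
      · exact absurd ⟨_, Finset.mem_inter.mpr ⟨Finset.mem_sdiff.mpr ⟨h, hA⟩, hy⟩⟩ nB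
    · exact absurd ⟨_, Finset.mem_inter.mpr ⟨h, hy⟩⟩ n11
    · exact absurd ⟨_, Finset.mem_inter.mpr ⟨h, hy⟩⟩ n12
    · exact absurd ⟨_, Finset.mem_inter.mpr ⟨h, hy⟩⟩ n4
    · exact absurd ⟨_, Finset.mem_inter.mpr ⟨h, hy⟩⟩ n14
    · obtain ⟨g, hg, hx', hge⟩ := mconj_F6 _ h
      have hfix : (g * k).1 E8L = E8L := Subtype.ext hge
      have hgk : g * k ∈ H0 := mem_H0_of_fix _ hfix
      have hk' : k = g⁻¹ * (g * k) := by group
      rw [hk']
      exact H0.mul_mem (H0.inv_mem hg) hgk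
    · exact absurd ⟨_, Finset.mem_inter.mpr ⟨h, hy⟩⟩ n7
    · exact absurd ⟨_, Finset.mem_inter.mpr ⟨h, hy⟩⟩ n8
  · rw [eq_top_iff]
    intro g _
    obtain ⟨c, hc, hyc⟩ := Finset.mem_biUnion.mp (memN g)
    have hne : (fam9 c ∩ O).Nonempty := by
      rcases fam9_cases hyc with ⟨rfl, -⟩ | ⟨rfl, -⟩ | ⟨rfl, -⟩ | ⟨rfl, -⟩ | ⟨rfl, -⟩ |
        ⟨rfl, -⟩ | ⟨rfl, -⟩ | ⟨rfl, -⟩ | ⟨rfl, -⟩
      · exact pA
      · exact p4
      · exact he8
      · exact p7
      · exact p8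
      · exact pB
      · exact p11
      · exact p12
      · exact p14
    have hyO := sub c hne _ hyc
    obtain ⟨-, k, hk, hke⟩ := Finset.mem_filter.mp hyO
    have h1 : k.1 E8L = g.1 E8L := Subtype.ext hke
    have hfix : (k⁻¹ * g).1 E8L = E8L := by
      show (k⁻¹ : ↥Co0).1 (g.1 E8L) = E8L
      rw [← h1]
      show ((k⁻¹ * k : ↥Co0)).1 E8L = E8L
      rw [inv_mul_cancel]
      rfl
    have hg' : g = k * (k⁻¹ * g) := by group
    rw [hg']
    exact K.mul_mem hk (hle (mem_H0_of_fix _ hfix))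

end Cfsg.Agent.Lib.Helper94
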