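import Mathlib

set_option autoImplicit false

/-!
# K-OTF-G1 (S3999 pack): a normal Hall subgroup from counts of `p`-elements
-/

namespace Cfsg.Agent.Lib.Helper94.OTF

/-- the join of a normal subgroup with a subgroup of coprime order -/
theorem g1_card_sup {G : Type*} [Group G] [Finite G] (A B : Subgroup G) [A.Normal]
    (h : (Nat.card A).Coprime (Nat.card B)) :
    Nat.card (A ⊔ B : Subgroup G) = Nat.card A * Nat.card B := by
  have hinf : A ⊓ B = ⊥ := Subgroup.inf_eq_bot_of_coprime h
  have h1 : A.relIndex (A ⊔ B) = Nat.card B := by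
    rw [Subgroup.relIndex_sup_left, ← Subgroup.inf_relIndex_right, hinf, Subgroup.relIndex_bot_left]
  have h2 : A.relIndex (A ⊔ B) * (A ⊔ B).index = A.index := Subgroup.relIndex_mul_index le_sup_left
  have h3 : Nat.card A * A.index = Nat.card G := Subgroup.card_mul_index A
  have h4 : Nat.card (A ⊔ B : Subgroup G) * (A ⊔ B).index = Nat.card G :=
    Subgroup.card_mul_index (A ⊔ B)
  have h5 : (A ⊔ B).index ≠ 0 := Subgroup.index_ne_zero_of_finite
  have h6 : Nat.card (A ⊔ B : Subgroup G) * (A ⊔ B).index =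
      (Nat.card A * Nat.card B) * (A ⊔ B).index := by
    rw [h4, ← h3, ← h2, h1]
    ring
  exact Nat.eq_of_mul_eq_mul_right (Nat.pos_of_ne_zero h5) h6

/-- for a prime `p ∣ k`: a normal subgroup of order `p ^ k.factorization p` -/
theorem g1_normal_sylow {G : Type*} [Group G] [Finite G] (k c : ℕ)
    (hcard : Nat.card G = k * c) (hco : Nat.Coprime k c) (p : ℕ) (hpp : p.Prime) (hpk : p ∣ k)
    (hp : Nat.card {x : G // ∃ j : ℕ, orderOf x = p ^ j} = p ^ (k.factorization p)) :
    ∃ Q : Subgroup G, Q.Normal ∧ Nat.card Q = p ^ (k.factorization p) := by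
  classical
  haveI : Fact p.Prime := ⟨hpp⟩
  have hG0 : Nat.card G ≠ 0 := Nat.card_pos.ne'
  have hk0 : k ≠ 0 := by
    rintro rfl
    rw [zero_mul] at hcard
    exact hG0 hcard
  have hc0 : c ≠ 0 := by
    rintro rfl
    rw [mul_zero] at hcard
    exact hG0 hcard
  have hpc : ¬ p ∣ c := by
    intro h
    have h1 : p ∣ Nat.gcd k c := Nat.dvd_gcd hpk h
    rw [hco] at h1
    exact hpp.one_lt.ne' (Nat.dvd_one.1 h1)
  have hfac : (Nat.card G).factorization p = k.factorization p := by
    rw [hcard, Nat.factorization_mul hk0 hc0, Finsupp.add_apply,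
      Nat.factorization_eq_zero_of_not_dvd hpc, add_zero]
  obtain ⟨Q⟩ : Nonempty (Sylow p G) := inferInstance
  have hQcard : Nat.card (Q : Subgroup G) = p ^ (k.factorization p) := by
    rw [Sylow.card_eq_multiplicity, hfac]
  have hQp : ∀ x : G, x ∈ (Q : Subgroup G) → ∃ j : ℕ, orderOf x = p ^ j := by
    intro x hx
    obtain ⟨j, hj⟩ := (IsPGroup.iff_orderOf.mp Q.isPGroup') ⟨x, hx⟩
    refine ⟨j, ?_⟩
    rw [← hj]
    exact (Subgroup.orderOf_mk x hx).symm
  have hall : ∀ x : G, (∃ j : ℕ, orderOf x = p ^ j) → x ∈ (Q : Subgroup G) := by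
    let f : ↥(Q : Subgroup G) → {x : G // ∃ j : ℕ, orderOf x = p ^ j} :=
      fun q => ⟨q.1, hQp q.1 q.2⟩
    have hf : Function.Injective f := by
      intro a b hab
      have := congrArg Subtype.val hab
      exact Subtype.ext this
    have hbij : Function.Bijective f :=
      (Nat.bijective_iff_injective_and_card f).2 ⟨hf, by rw [hQcard, hp]⟩
    intro x hx
    obtain ⟨q, hq⟩ := hbij.2 ⟨x, hx⟩
    have h1 : q.1 = x := congrArg Subtype.val hq
    rw [← h1]
    exact q.2
  refine ⟨(Q : Subgroup G), ⟨fun n hn g => hall _ ?_⟩, hQcard⟩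
  obtain ⟨j, hj⟩ := hQp n hn
  refine ⟨j, ?_⟩
  rw [← hj]
  exact (MulAut.conj g).orderOf_eq n

/-- LEAF G1 -/
theorem exists_normal_hall {G : Type*} [Group G] [Finite G] (k c : ℕ)
    (hcard : Nat.card G = k * c) (hco : Nat.Coprime k c)
    (hp : ∀ p : ℕ, p.Prime → p ∣ k →
      Nat.card {x : G // ∃ j : ℕ, orderOf x = p ^ j} = p ^ (k.factorization p)) :
    ∃ N : Subgroup G, N.Normal ∧ Nat.card N = k := by
  classical
  have hG0 : Nat.card G ≠ 0 := Nat.card_pos.ne'
  have hk0 : k ≠ 0 := by
    rintro rfl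
    rw [zero_mul] at hcard
    exact hG0 hcard
  -- choose the normal Sylow subgroups
  have hQ : ∀ p : ℕ, ∃ Q : Subgroup G, p ∈ k.primeFactors →
      Q.Normal ∧ Nat.card Q = p ^ (k.factorization p) := by
    intro p
    by_cases hpm : p ∈ k.primeFactors
    · have hpp := Nat.prime_of_mem_primeFactors hpm
      have hpk := Nat.dvd_of_mem_primeFactors hpm
      obtain ⟨Q, hQn, hQc⟩ := g1_normal_sylow k c hcard hco p hpp hpk (hp p hpp hpk)
      exact ⟨Q, fun _ => ⟨hQn, hQc⟩⟩
    · exact ⟨⊥, fun h => absurd h hpm⟩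
  choose Q hQ using hQ
  -- induction over subsets of the prime factors
  have key : ∀ s : Finset ℕ, s ⊆ k.primeFactors →
      (⨆ p ∈ s, Q p : Subgroup G).Normal ∧
        Nat.card (⨆ p ∈ s, Q p : Subgroup G) = ∏ p ∈ s, p ^ (k.factorization p) := by
    intro s
    induction s using Finset.induction_on with
    | empty =>
      intro _
      simp only [Finset.notMem_empty, iSup_false, iSup_bot, Finset.prod_empty]
      exact ⟨inferInstance, Subgroup.card_bot⟩
    | insert a t ha ih =>
      intro hs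
      have hat : a ∈ k.primeFactors := hs (Finset.mem_insert_self a t)
      have hts : t ⊆ k.primeFactors := fun x hx => hs (Finset.mem_insert_of_mem hx)
      obtain ⟨hBn, hBc⟩ := ih hts
      obtain ⟨hAn, hAc⟩ := hQ a hat
      rw [Finset.iSup_insert, Finset.prod_insert ha]
      have := hAn
      have := hBn
      have hcop : (Nat.card (Q a)).Coprime (Nat.card (⨆ p ∈ t, Q p : Subgroup G)) := by
        rw [hAc, hBc]
        apply Nat.Coprime.prod_right
        intro q hq
        have hqa : q ≠ a := fun h => ha (h ▸ hq)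
        have hqp := Nat.prime_of_mem_primeFactors (hts hq)
        have hap := Nat.prime_of_mem_primeFactors hat
        exact Nat.Coprime.pow _ _ ((Nat.coprime_primes hap hqp).2 hqa.symm)
      refine ⟨inferInstance, ?_⟩
      rw [g1_card_sup _ _ hcop, hAc, hBc]
  obtain ⟨hn, hc⟩ := key k.primeFactors (Finset.Subset.refl _)
  refine ⟨_, hn, ?_⟩
  rw [hc]
  have h1 := Nat.factorization_prod_pow_eq_self hk0
  rw [Finsupp.prod, Nat.support_factorization] at h1
  exact h1

end Cfsg.Agent.Lib.Helper94.OTF
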