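import Mathlib

set_option autoImplicit false

/-!
# K-RSU3-L15 (S2283 pack): `span_generic`: `F_p[μ³] = F` for `μ` of order `q + 1` in `F_{q²}`, `q ≠ 5, 8`
-/

namespace Cfsg.Agent.Lib.Helper94.RSU3

theorem l15_arith (q r m : ℕ) (hq : 3 ≤ q) (hq5 : q ≠ 5) (hq8 : q ≠ 8) (hr : 2 ≤ r) (hm : 2 ≤ m)
    (hrm : r ^ m = q ^ 2) (hd : (q + 1) / Nat.gcd (q + 1) 3 ∣ r - 1) : False := by
  have hg3 : Nat.gcd (q + 1) 3 ∣ 3 := Nat.gcd_dvd_right _ _
  have hgle : Nat.gcd (q + 1) 3 ≤ 3 := Nat.le_of_dvd (by norm_num) hg3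
  have hdg : (q + 1) / Nat.gcd (q + 1) 3 * Nat.gcd (q + 1) 3 = q + 1 :=
    Nat.div_mul_cancel (Nat.gcd_dvd_left _ _)
  have hdle : (q + 1) / Nat.gcd (q + 1) 3 ≤ r - 1 := Nat.le_of_dvd (by omega) hd
  have hq3r : q + 1 ≤ 3 * (r - 1) := by
    calc q + 1 = (q + 1) / Nat.gcd (q + 1) 3 * Nat.gcd (q + 1) 3 := hdg.symm
      _ ≤ (r - 1) * 3 := Nat.mul_le_mul hdle hgle
      _ = 3 * (r - 1) := by ring
  rcases Nat.lt_or_ge m 3 with hm3 | hm3
  · have hm2 : m = 2 := by omega
    subst hm2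
    have hrq : r = q := Nat.pow_left_injective (by norm_num : (2 : ℕ) ≠ 0) hrm
    subst hrq
    have hdq : (r + 1) / Nat.gcd (r + 1) 3 ∣ r + 1 := Dvd.intro _ hdg
    have hd2 : (r + 1) / Nat.gcd (r + 1) 3 ∣ 2 := by
      have h := Nat.dvd_sub hdq hd
      have h2 : r + 1 - (r - 1) = 2 := by omega
      rwa [h2] at h
    have hdle2 : (r + 1) / Nat.gcd (r + 1) 3 ≤ 2 := Nat.le_of_dvd (by norm_num) hd2
    have h6 : r + 1 ≤ 6 := by
      calc r + 1 = (r + 1) / Nat.gcd (r + 1) 3 * Nat.gcd (r + 1) 3 := hdg.symm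
        _ ≤ 2 * 3 := Nat.mul_le_mul hdle2 hgle
    have hr5 : r ≤ 5 := by omega
    interval_cases r <;> first | omega | (revert hd; decide)
  · have h3 : r ^ 3 ≤ q ^ 2 := by
      rw [← hrm]
      exact Nat.pow_le_pow_right (by omega) hm3
    have hq3 : q < 3 * r := by omega
    have hq2 : q ^ 2 < 9 * r ^ 2 := by nlinarith
    have hr9 : r < 9 := by
      by_contra hh
      push_neg at hh
      have h9 : 9 * r ^ 2 ≤ r ^ 3 := by
        calc 9 * r ^ 2 ≤ r * r ^ 2 := Nat.mul_le_mul_right _ hh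
          _ = r ^ 3 := by ring
      linarith
    have hq20 : q ≤ 20 := by omega
    interval_cases r <;> interval_cases q <;> first | omega | (revert hd h3; decide)

theorem span_generic {F : Type*} [Field F] [Fintype F] {q : ℕ}
    (hq : 3 ≤ q) (hq5 : q ≠ 5) (hq8 : q ≠ 8) (hF : Fintype.card F = q ^ 2)
    (μ : F) (hμ : orderOf μ = q + 1) (S : Set F) (h1 : (1 : F) ∈ S)
    (hadd : ∀ a ∈ S, ∀ b ∈ S, a + b ∈ S) (hmul : ∀ a ∈ S, μ ^ 3 * a ∈ S) : ∀ c : F, c ∈ S := by
  classical
  have hμ0 : μ ≠ 0 := by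
    have h := pow_orderOf_eq_one μ
    rw [hμ] at h
    rintro rfl
    rw [zero_pow (by omega)] at h
    exact zero_ne_one h
  have hpow : ∀ n : ℕ, (μ ^ 3) ^ n ∈ S := by
    intro n
    induction n with
    | zero => simpa using h1
    | succ n ih =>
      rw [pow_succ']
      exact hmul _ ih
  have hnat : ∀ n : ℕ, ((n + 1 : ℕ) : F) ∈ S := by
    intro n
    induction n with
    | zero => simpa using h1
    | succ n ih =>
      rw [Nat.cast_succ]
      exact hadd _ ih _ h1
  have hcardF : ((Fintype.card F : ℕ) : F) = 0 := FiniteField.cast_card_eq_zero F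
  have hcard9 : 9 ≤ Fintype.card F := by
    rw [hF]
    nlinarith
  have h0 : (0 : F) ∈ S := by
    obtain ⟨k, hk⟩ : ∃ k, Fintype.card F = k + 1 := ⟨Fintype.card F - 1, by omega⟩
    have h := hnat k
    rw [← hk, hcardF] at h
    exact h
  have hRS : ∀ x ∈ Subsemiring.closure ({μ ^ 3} : Set F), x ∈ S := by
    intro x hx
    rw [Subsemiring.mem_closure_iff] at hx
    induction hx using AddSubmonoid.closure_induction with
    | mem y hy =>
      rw [SetLike.mem_coe, Submonoid.mem_closure_singleton] at hy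
      obtain ⟨n, rfl⟩ := hy
      exact hpow n
    | zero => exact h0
    | add a b _ _ ha hb => exact hadd a ha b hb
  have hneg : ∀ x ∈ Subsemiring.closure ({μ ^ 3} : Set F),
      -x ∈ Subsemiring.closure ({μ ^ 3} : Set F) := by
    intro x hx
    have hm1 : ((Fintype.card F - 1 : ℕ) : F) = -1 := by
      have h : ((Fintype.card F - 1 : ℕ) : F) + 1 = 0 := by
        rw [← Nat.cast_succ, Nat.succ_eq_add_one, Nat.sub_add_cancel (by omega), hcardF]
      linear_combination h
    have h2 : -x = ((Fintype.card F - 1 : ℕ) : F) * x := by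
      rw [hm1]
      ring
    rw [h2]
    exact Subsemiring.mul_mem _ (natCast_mem _ _) hx
  have hinv : ∀ x ∈ Subsemiring.closure ({μ ^ 3} : Set F),
      x⁻¹ ∈ Subsemiring.closure ({μ ^ 3} : Set F) := by
    intro x hx
    by_cases hx0 : x = 0
    · rw [hx0, inv_zero]
      exact Subsemiring.zero_mem _
    · have h := FiniteField.pow_card_sub_one_eq_one x hx0
      have h2 : x ^ (Fintype.card F - 2) * x = 1 := by
        rw [← pow_succ]
        have h3 : Fintype.card F - 2 + 1 = Fintype.card F - 1 := by omega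
        rw [h3, h]
      have h4 : x⁻¹ = x ^ (Fintype.card F - 2) := (eq_inv_of_mul_eq_one_left h2).symm
      rw [h4]
      exact Subsemiring.pow_mem _ hx _
  let K : Subfield F :=
    { toSubring :=
        { toSubsemiring := Subsemiring.closure ({μ ^ 3} : Set F)
          neg_mem' := fun {x} hx => hneg x hx }
      inv_mem' := fun x hx => hinv x hx }
  have hKS : ∀ x : F, x ∈ K → x ∈ S := fun x hx => hRS x hx
  have hωK : μ ^ 3 ∈ K := Subsemiring.subset_closure (Set.mem_singleton _)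
  letI : Fintype K := Fintype.ofFinite K
  have hcardpow : Fintype.card F = Fintype.card K ^ Module.finrank K F :=
    Module.card_eq_pow_finrank
  have hr : 2 ≤ Fintype.card K := Fintype.one_lt_card
  have hω0 : μ ^ 3 ≠ 0 := pow_ne_zero 3 hμ0
  have hωr : (μ ^ 3) ^ (Fintype.card K - 1) = 1 := by
    have hne : (⟨μ ^ 3, hωK⟩ : K) ≠ 0 := by
      intro h
      apply hω0
      exact congrArg Subtype.val h
    have h := FiniteField.pow_card_sub_one_eq_one (⟨μ ^ 3, hωK⟩ : K) hne
    have h2 := congrArg (Subtype.val) h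
    simpa using h2
  have hord : orderOf (μ ^ 3) = (q + 1) / Nat.gcd (q + 1) 3 := by
    rw [orderOf_pow' μ (by norm_num : (3 : ℕ) ≠ 0), hμ]
  have hd : (q + 1) / Nat.gcd (q + 1) 3 ∣ Fintype.card K - 1 := by
    rw [← hord]
    exact orderOf_dvd_of_pow_eq_one hωr
  have hm0 : Module.finrank K F ≠ 0 := by
    intro h
    rw [h, pow_zero] at hcardpow
    omega
  by_cases hm1 : Module.finrank K F = 1
  · rw [hm1, pow_one] at hcardpow
    intro c
    have hbij : Function.Bijective (Subtype.val : K → F) :=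
      (Fintype.bijective_iff_injective_and_card _).2 ⟨Subtype.val_injective, hcardpow.symm⟩
    obtain ⟨k, rfl⟩ := hbij.2 c
    exact hKS _ k.2
  · exfalso
    refine l15_arith q (Fintype.card K) (Module.finrank K F) hq hq5 hq8 hr (by omega) ?_ hd
    rw [← hcardpow, hF]

end Cfsg.Agent.Lib.Helper94.RSU3
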