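import Mathlib
import Cfsg.Agent.Lib.Helper73.RUDefs
import Cfsg.Agent.Lib.Helper73.RUHub

set_option autoImplicit false

/-!
# K-RU4-B (S2279 pack, prime-field core by helper2): the triple commutator `tv_mem`
-/

namespace Cfsg.Agent.Lib.Helper94.RU4B

open Matrix Cfsg.Agent.Lib.Helper73.RU Cfsg.Agent.Lib.Helper73.RUSpec

section defs
variable (m : ℕ) (F : Type*) [Field F]

/-- the index `last - 1` -/
def pen : Fin (m + 3) := ⟨m + 1, by omega⟩

/-- the conjugator `g = 1 + l E_{last,0}` (a transvection) -/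
def g4 (l : F) : Matrix (Fin (m + 3)) (Fin (m + 3)) F :=
  1 + Matrix.single (Fin.last (m + 2)) 0 l

/-- `v = g a g⁻¹ = a + l E_{last,1} - l E_{last-1,0}` -/
def v4 (l : F) : Matrix (Fin (m + 3)) (Fin (m + 3)) F :=
  aMat m F + Matrix.single (Fin.last (m + 2)) 1 l - Matrix.single (pen m) 0 l

/-- `c₁ = a e_last = e_last + e_{last-1}` -/
def c1 : Fin (m + 3) → F := Pi.single (Fin.last (m + 2)) 1 + Pi.single (pen m) 1

/-- `φ₋₁ = e_0ᵀ a = e_0 + e_1` -/
def f1 : Fin (m + 3) → F := Pi.single 0 1 + Pi.single 1 1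

end defs

/-! ## the `3 × 3` calculus -/

section calc3
variable {F : Type*} [Field F]

def KM (ε ν : F) : Matrix (Fin 3) (Fin 3) F := !![0, 0, 0; ε, 0, 0; ν, ε, 0]
def X1 (l : F) : Matrix (Fin 3) (Fin 3) F := !![l, 0, 0; 0, -l, 0; 0, 0, 0]
def X0 (l : F) : Matrix (Fin 3) (Fin 3) F := !![0, 0, 0; 0, l, 0; 0, 0, -l]
def YM (l ε ν : F) : Matrix (Fin 3) (Fin 3) F :=
  !![0, 0, 0; -(l ^ 2 * ε), 0, 0; l ^ 2 * ν + l ^ 3, -(l ^ 2 * ε), 0]
def T3 (l : F) : Matrix (Fin 3) (Fin 3) F := !![0, 0, 0; 0, 0, 0; l ^ 3, 0, 0]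
def circ (K X Y : Matrix (Fin 3) (Fin 3) F) : Matrix (Fin 3) (Fin 3) F := X + Y + X * K * Y

theorem id1 (l ε ν : F) (hε : ε = 1 ∨ ε = -1) :
    circ (KM ε ν) (X1 l) (X0 l) =
      circ (KM ε ν) (YM l ε ν) (circ (KM ε ν) (X0 l) (X1 l)) := by
  rcases hε with rfl | rfl <;>
  · unfold circ KM X1 X0 YM
    ext i j
    fin_cases i <;> fin_cases j <;> simp [Matrix.mul_apply, Fin.sum_univ_three] <;> ring

theorem id2 (l ε ν : F) (hε : ε = 1 ∨ ε = -1) :
    circ (KM ε ν) (X1 l) (YM l ε ν) =
      circ (KM ε ν) (T3 l) (circ (KM ε ν) (YM l ε ν) (X1 l)) := by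
  rcases hε with rfl | rfl <;>
  · unfold circ KM X1 T3 YM
    ext i j
    fin_cases i <;> fin_cases j <;> simp [Matrix.mul_apply, Fin.sum_univ_three] <;> ring

theorem bracket_mul {n : ℕ} (C : Matrix (Fin n) (Fin 3) F) (P : Matrix (Fin 3) (Fin n) F)
    (K X Y : Matrix (Fin 3) (Fin 3) F) (hPC : P * C = K) :
    (1 + C * X * P) * (1 + C * Y * P) = 1 + C * circ K X Y * P := by
  have h : C * X * P * (C * Y * P) = C * (X * K * Y) * P := by
    rw [← hPC]
    simp only [Matrix.mul_assoc]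
  have e : (1 + C * X * P) * (1 + C * Y * P) =
      1 + C * X * P + C * Y * P + C * X * P * (C * Y * P) := by
    rw [Matrix.add_mul, Matrix.mul_add, Matrix.mul_add, Matrix.one_mul, Matrix.one_mul,
      Matrix.mul_one]
    abel
  unfold circ
  rw [e, h, Matrix.mul_add, Matrix.mul_add, Matrix.add_mul, Matrix.add_mul]
  abel

end calc3

/-! ## rows and columns of `aMat` -/

section big
variable (m : ℕ) (F : Type*) [Field F]

theorem aMat_split (i j : Fin (m + 3)) :
    aMat m F i j = (if i = j then 1 else 0) + (if i.val + 1 = j.val then 1 else 0) := by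
  unfold aMat
  simp only [of_apply]
  by_cases h1 : i = j
  · subst h1
    simp
  · by_cases h2 : i.val + 1 = j.val
    · simp [h1, h2]
    · simp [h1, h2]

theorem aMat_mulVec_apply (v : Fin (m + 3) → F) (i : Fin (m + 3)) :
    (aMat m F *ᵥ v) i = v i + if h : i.val + 1 < m + 3 then v ⟨i.val + 1, h⟩ else 0 := by
  unfold mulVec dotProduct
  simp only [aMat_split, add_mul, Finset.sum_add_distrib, ite_mul, one_mul, zero_mul,
    Finset.sum_ite_eq, Finset.mem_univ, if_true]
  congr 1
  split_ifs with h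
  · rw [Finset.sum_eq_single (⟨i.val + 1, h⟩ : Fin (m + 3))]
    · simp
    · intro b _ hb
      rw [if_neg]
      intro hh
      apply hb
      ext
      exact hh.symm
    · simp
  · apply Finset.sum_eq_zero
    intro b _
    rw [if_neg]
    intro hh
    have := b.2
    omega

theorem vecMul_aMat_apply (φ : Fin (m + 3) → F) (j : Fin (m + 3)) :
    (φ ᵥ* aMat m F) j = φ j + if h : 0 < j.val then φ ⟨j.val - 1, by omega⟩ else 0 := by
  unfold vecMul dotProduct
  simp only [aMat_split, mul_add, Finset.sum_add_distrib, mul_ite, mul_one, mul_zero,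
    Finset.sum_ite_eq', Finset.mem_univ, if_true]
  congr 1
  split_ifs with h
  · rw [Finset.sum_eq_single (⟨j.val - 1, by omega⟩ : Fin (m + 3))]
    · rw [if_pos]
      simp only
      omega
    · intro b _ hb
      rw [if_neg]
      intro hh
      apply hb
      ext
      simp only
      omega
    · simp
  · apply Finset.sum_eq_zero
    intro b _
    rw [if_neg]
    intro hh
    omega

def cm1 : Fin (m + 3) → F := fun i => (-1) ^ (m + i.val)
def fp1 : Fin (m + 3) → F := fun i => (-1) ^ i.val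
def el : Fin (m + 3) → F := Pi.single (Fin.last (m + 2)) 1
def e0 : Fin (m + 3) → F := Pi.single 0 1

theorem aMat_mulVec_cm1 : aMat m F *ᵥ cm1 m F = el m F := by
  ext i
  rw [aMat_mulVec_apply]
  unfold cm1 el
  by_cases h : i.val + 1 < m + 3
  · rw [dif_pos h]
    have hne : i ≠ Fin.last (m + 2) := by
      intro hh
      rw [hh] at h
      simp at h
    rw [Pi.single_eq_of_ne hne]
    simp only
    rw [← add_assoc, pow_succ]
    ring
  · rw [dif_neg h]
    have he : i = Fin.last (m + 2) := by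
      ext
      simp only [Fin.val_last]
      have := i.2
      omega
    subst he
    rw [Pi.single_eq_same, add_zero, Fin.val_last]
    have : Even (m + (m + 2)) := ⟨m + 1, by ring⟩
    exact this.neg_one_pow

theorem aMat_mulVec_el : aMat m F *ᵥ el m F = c1 m F := by
  ext i
  rw [aMat_mulVec_apply]
  unfold el c1 pen
  simp only [Pi.add_apply, Pi.single_apply, Fin.ext_iff, Fin.val_last]
  by_cases h1 : i.val = m + 2
  · have : ¬ (i.val + 1 < m + 3) := by omega
    rw [dif_neg this]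
    simp [h1]
  · by_cases h2 : i.val = m + 1
    · have : i.val + 1 < m + 3 := by omega
      rw [dif_pos this]
      simp [h2]
    · have hi := i.2
      have : i.val + 1 < m + 3 := by omega
      rw [dif_pos this]
      have h3 : ¬ (i.val + 1 = m + 2) := by omega
      simp [h1, h2, h3]

theorem fp1_vecMul_aMat : fp1 m F ᵥ* aMat m F = e0 m F := by
  ext j
  rw [vecMul_aMat_apply]
  unfold fp1 e0
  by_cases h : 0 < j.val
  · rw [dif_pos h]
    have hne : j ≠ 0 := by
      intro hh
      rw [hh] at h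
      simp at h
    rw [Pi.single_eq_of_ne hne]
    simp only
    obtain ⟨k, hk⟩ : ∃ k, j.val = k + 1 := ⟨j.val - 1, by omega⟩
    rw [hk, Nat.add_sub_cancel, pow_succ]
    ring
  · rw [dif_neg h]
    have he : j = 0 := by
      ext
      simp only [Fin.val_zero]
      omega
    subst he
    simp

def rowP : Fin 3 → Fin (m + 3) → F := ![f1 m F, e0 m F, fp1 m F]
def colC : Fin 3 → Fin (m + 3) → F := ![cm1 m F, el m F, c1 m F]
def PM : Matrix (Fin 3) (Fin (m + 3)) F := Matrix.of (rowP m F)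
def CM : Matrix (Fin (m + 3)) (Fin 3) F := (Matrix.of (colC m F))ᵀ

theorem PM_mul_CM_apply (k k' : Fin 3) :
    (PM m F * CM m F) k k' = rowP m F k ⬝ᵥ colC m F k' := by
  rw [Matrix.mul_apply]
  rfl

theorem f1_dot (c : Fin (m + 3) → F) : f1 m F ⬝ᵥ c = c 0 + c 1 := by
  unfold f1
  rw [add_dotProduct, single_dotProduct, single_dotProduct, one_mul, one_mul]

theorem e0_dot (c : Fin (m + 3) → F) : e0 m F ⬝ᵥ c = c 0 := by
  unfold e0
  rw [single_dotProduct, one_mul]

theorem last_ne_zero : (Fin.last (m + 2) : Fin (m + 3)) ≠ 0 := by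
  intro h; have := congrArg Fin.val h; simp at this

theorem last_ne_one : (Fin.last (m + 2) : Fin (m + 3)) ≠ 1 := by
  intro h; have := congrArg Fin.val h; simp at this

theorem pen_ne_zero : pen m ≠ 0 := by
  intro h; have := congrArg Fin.val h; simp [pen] at this

theorem pen_ne_one (hm : 1 ≤ m) : pen m ≠ 1 := by
  intro h; have := congrArg Fin.val h; simp [pen] at this; omega

theorem PM_mul_CM (hm : 1 ≤ m) :
    PM m F * CM m F = KM ((-1) ^ m) (((m + 3 : ℕ) : F) * (-1) ^ m) := by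
  ext k k'
  rw [PM_mul_CM_apply]
  have hl0 := last_ne_zero m
  have hl1 := last_ne_one m
  have hp0 := pen_ne_zero m
  have hp1 := pen_ne_one m hm
  fin_cases k <;> fin_cases k'
  · show f1 m F ⬝ᵥ cm1 m F = 0
    rw [f1_dot]
    unfold cm1
    simp only [Fin.val_zero, Fin.val_one, add_zero]
    rw [pow_succ]
    ring
  · show f1 m F ⬝ᵥ el m F = 0
    rw [f1_dot]
    unfold el
    rw [Pi.single_eq_of_ne hl0.symm, Pi.single_eq_of_ne hl1.symm, add_zero]
  · show f1 m F ⬝ᵥ c1 m F = 0
    rw [f1_dot]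
    unfold c1
    simp only [Pi.add_apply]
    rw [Pi.single_eq_of_ne hl0.symm, Pi.single_eq_of_ne hl1.symm, Pi.single_eq_of_ne hp0.symm,
      Pi.single_eq_of_ne hp1.symm, add_zero, add_zero]
  · show e0 m F ⬝ᵥ cm1 m F = (-1) ^ m
    rw [e0_dot]
    unfold cm1
    simp
  · show e0 m F ⬝ᵥ el m F = 0
    rw [e0_dot]
    unfold el
    rw [Pi.single_eq_of_ne hl0.symm]
  · show e0 m F ⬝ᵥ c1 m F = 0
    rw [e0_dot]
    unfold c1
    simp only [Pi.add_apply]
    rw [Pi.single_eq_of_ne hl0.symm, Pi.single_eq_of_ne hp0.symm, add_zero]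
  · show fp1 m F ⬝ᵥ cm1 m F = ((m + 3 : ℕ) : F) * (-1) ^ m
    unfold fp1 cm1 dotProduct
    have : ∀ i : Fin (m + 3), ((-1 : F) ^ i.val) * (-1) ^ (m + i.val) = (-1) ^ m := by
      intro i
      rw [pow_add, ← mul_assoc, mul_comm ((-1 : F) ^ i.val), mul_assoc, ← pow_add]
      have : Even (i.val + i.val) := ⟨i.val, rfl⟩
      rw [this.neg_one_pow, mul_one]
    simp only [this, Finset.sum_const, Finset.card_univ, Fintype.card_fin, nsmul_eq_mul]
  · show fp1 m F ⬝ᵥ el m F = (-1) ^ m
    unfold el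
    rw [dotProduct_single, mul_one]
    unfold fp1
    simp only [Fin.val_last]
    rw [pow_add]
    simp
  · show fp1 m F ⬝ᵥ c1 m F = 0
    unfold c1
    rw [dotProduct_add, dotProduct_single, dotProduct_single, mul_one, mul_one]
    unfold fp1 pen
    simp only [Fin.val_last]
    rw [show m + 2 = (m + 1) + 1 from rfl, pow_succ]
    ring

theorem CX1P (l : F) : CM m F * X1 l * PM m F =
    l • (vecMulVec (cm1 m F) (f1 m F) - vecMulVec (el m F) (e0 m F)) := by
  ext i j
  simp [Matrix.mul_apply, Fin.sum_univ_three, CM, PM, rowP, colC, X1, vecMulVec_apply]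
  ring

theorem CX0P (l : F) : CM m F * X0 l * PM m F =
    l • (vecMulVec (el m F) (e0 m F) - vecMulVec (c1 m F) (fp1 m F)) := by
  ext i j
  simp [Matrix.mul_apply, Fin.sum_univ_three, CM, PM, rowP, colC, X0, vecMulVec_apply]
  ring

theorem CT3P (l : F) : CM m F * T3 l * PM m F = vecMulVec (l ^ 3 • c1 m F) (f1 m F) := by
  ext i j
  simp [Matrix.mul_apply, Fin.sum_univ_three, CM, PM, rowP, colC, T3, vecMulVec_apply]
  left
  ring

theorem v4_eq (l : F) : v4 m F l =
    aMat m F + l • (vecMulVec (el m F) (f1 m F) - vecMulVec (c1 m F) (e0 m F)) := by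
  have h1 : vecMulVec (el m F) (f1 m F) - vecMulVec (c1 m F) (e0 m F) =
      Matrix.single (Fin.last (m + 2)) 1 (1 : F) - Matrix.single (pen m) 0 (1 : F) := by
    unfold el f1 c1 e0
    rw [vecMulVec_add, add_vecMulVec, single_eq_single_vecMulVec_single,
      single_eq_single_vecMulVec_single]
    abel
  rw [h1, smul_sub, smul_single, smul_single, smul_eq_mul, mul_one]
  unfold v4
  abel

theorem aMat_mul_D1 (l : F) : aMat m F * (1 + CM m F * X1 l * PM m F) = v4 m F l := by
  rw [CX1P, v4_eq, Matrix.mul_add, Matrix.mul_one, Matrix.mul_smul, Matrix.mul_sub,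
    mul_vecMulVec, mul_vecMulVec, aMat_mulVec_cm1, aMat_mulVec_el]

theorem D0_mul_aMat (l : F) : (1 + CM m F * X0 l * PM m F) * aMat m F = v4 m F l := by
  have h0 : e0 m F ᵥ* aMat m F = f1 m F := by
    ext j
    rw [vecMul_aMat_apply]
    unfold e0 f1
    by_cases h : 0 < j.val
    · rw [dif_pos h]
      have hne : j ≠ 0 := by
        intro hh
        rw [hh] at h
        simp at h
      simp only [Pi.add_apply, Pi.single_apply, Fin.ext_iff, Fin.val_zero, Fin.val_one]
      by_cases h1 : j.val = 1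
      · simp [h1]
      · have h2 : ¬ (j.val - 1 = 0) := by omega
        have h3 : ¬ (j.val = 0) := by omega
        simp [h1, h2, h3]
    · rw [dif_neg h]
      have he : j = 0 := by
        ext
        simp only [Fin.val_zero]
        omega
      subst he
      simp
  rw [CX0P, v4_eq, Matrix.add_mul, Matrix.one_mul, Matrix.smul_mul, Matrix.sub_mul,
    vecMulVec_mul, vecMulVec_mul, h0, fp1_vecMul_aMat]

end big

/-! ## LEAF B -/

theorem tv_mem {m : ℕ} {F : Type*} [Field F] (hm : 1 ≤ m)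
    {G : Subgroup (SpecialLinearGroup (Fin (m + 3)) F)} (l : F)
    (ha : InG G (aMat m F)) (hv : InG G (v4 m F l)) :
    InG G (tvm (l ^ 3 • c1 m F) (f1 m F)) := by
  set ε : F := (-1) ^ m with hε
  set ν : F := ((m + 3 : ℕ) : F) * (-1) ^ m with hν
  have hε' : ε = 1 ∨ ε = -1 := neg_one_pow_eq_or F m
  have hPC : PM m F * CM m F = KM ε ν := PM_mul_CM m F hm
  set C := CM m F
  set P := PM m F
  have hD1 : InG G (1 + C * X1 l * P) := by
    refine inG_of_mul_left ha ?_
    rw [aMat_mul_D1]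
    exact hv
  have hD0 : InG G (1 + C * X0 l * P) := by
    refine inG_of_mul_right ha ?_
    rw [D0_mul_aMat]
    exact hv
  have hY : InG G (1 + C * YM l ε ν * P) := by
    have h1 : InG G ((1 + C * X1 l * P) * (1 + C * X0 l * P)) := inG_mul hD1 hD0
    have h2 : InG G ((1 + C * X0 l * P) * (1 + C * X1 l * P)) := inG_mul hD0 hD1
    rw [bracket_mul C P (KM ε ν) _ _ hPC] at h1 h2
    rw [id1 l ε ν hε', ← bracket_mul C P (KM ε ν) _ _ hPC] at h1
    exact inG_of_mul_right h2 h1
  have hT : InG G (1 + C * T3 l * P) := by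
    have h1 : InG G ((1 + C * X1 l * P) * (1 + C * YM l ε ν * P)) := inG_mul hD1 hY
    have h2 : InG G ((1 + C * YM l ε ν * P) * (1 + C * X1 l * P)) := inG_mul hY hD1
    rw [bracket_mul C P (KM ε ν) _ _ hPC] at h1 h2
    rw [id2 l ε ν hε', ← bracket_mul C P (KM ε ν) _ _ hPC] at h1
    exact inG_of_mul_right h2 h1
  have hfin : (1 : Matrix (Fin (m + 3)) (Fin (m + 3)) F) + C * T3 l * P =
      tvm (l ^ 3 • c1 m F) (f1 m F) := by
    unfold tvm
    rw [CT3P]
  rw [← hfin]
  exact hT

end Cfsg.Agent.Lib.Helper94.RU4B
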