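import Mathlib
import Cfsg.Prelude.Def_Local
import Cfsg.Agent.Lib.Helper29.S1305K4a
import Cfsg.Agent.Lib.Helper30.Layer
import Cfsg.Agent.Lib.Helper28.Components

/-!
# K-S1305-K4: a component `K` of `C_X(a)` (`a` an involution) inside `E(X)` lies in `J·J^a` for a component `J` of `X`.
-/

set_option autoImplicit false
set_option linter.unusedVariables false
set_option linter.unusedSectionVars false

namespace Cfsg.Agent.Lib.Helper94.S1305K

open Cfsg

/-- the dichotomy for a component `K` of `C = C_X(a)` and a subgroup `W` normalized by `K`. -/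
theorem comp_dichotomy {X : Type*} [Group X] (C K W : Subgroup X) (hKC : K ≤ C)
    (hK : IsComponent (K.subgroupOf C)) (hKW : K ≤ Subgroup.normalizer (W : Set X)) :
    K ≤ W ⊓ C ∨ ∀ k ∈ K, ∀ n ∈ W ⊓ C, k * n = n * k := by
  have hnorm : K.subgroupOf C ≤ Subgroup.normalizer (((W ⊓ C).subgroupOf C : Subgroup C) : Set C) := by
    intro x hx
    have hxK : (x : X) ∈ K := hx
    have hxN := hKW hxK
    rw [Subgroup.mem_normalizer_iff]
    intro h
    rw [Subgroup.mem_subgroupOf, Subgroup.mem_subgroupOf, Subgroup.mem_inf, Subgroup.mem_inf]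
    have h1 := (Subgroup.mem_normalizer_iff.mp hxN) (h : X)
    constructor
    · rintro ⟨hw, _⟩
      exact ⟨h1.mp hw, (x * h * x⁻¹).2⟩
    · rintro ⟨hw, _⟩
      exact ⟨h1.mpr hw, h.2⟩
  rcases Cfsg.Agent.Lib.Helper28.component_le_or_commutes_of_normalizes _ _ hK hnorm with h | h
  · left
    intro k hk
    have h1 : (⟨k, hKC hk⟩ : C) ∈ K.subgroupOf C := hk
    exact h h1
  · right
    intro k hk n hn
    rw [Subgroup.commutator_eq_bot_iff_le_centralizer] at h
    have h1 : (⟨k, hKC hk⟩ : C) ∈ K.subgroupOf C := hk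
    have h2 := Subgroup.mem_centralizer_iff.mp (h h1) ⟨n, hn.2⟩ hn
    have h3 := congrArg Subtype.val h2
    exact h3.symm

/-- **K4**. -/
theorem exists_component_orbit {X : Type*} [Group X] [Finite X] (a : X) (ha : a * a = 1)
    (K : Subgroup X) (hKa : K ≤ Subgroup.centralizer ({a} : Set X))
    (hK : IsComponent (K.subgroupOf (Subgroup.centralizer ({a} : Set X))))
    (hKE : K ≤ layer X) :
    ∃ J : Subgroup X, IsComponent J ∧ K ≤ J ⊔ J.map (MulAut.conj a).toMonoidHom := by
  classical
  obtain ⟨C, hC⟩ : ∃ C : Subgroup X, C = Subgroup.centralizer ({a} : Set X) := ⟨_, rfl⟩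
  rw [← hC] at hKa hK
  -- `K` is perfect and non-trivial
  have hKperf : ⁅K, K⁆ = K := by
    have h1 := Cfsg.Agent.Lib.Helper30.component_perfect hK
    have h2 := congrArg (Subgroup.map C.subtype) h1
    rw [Subgroup.map_commutator, Subgroup.subgroupOf_map_subtype, inf_eq_left.mpr hKa] at h2
    exact h2
  have hKne : K ≠ ⊥ := by
    intro h
    apply Cfsg.Agent.Lib.Helper30.component_ne_bot hK
    rw [h, Subgroup.bot_subgroupOf]
  by_contra hcon
  push Not at hcon
  have hainv : a⁻¹ = a := inv_eq_of_mul_eq_one_left ha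
  have hconj2 : ∀ J : Subgroup X,
      (J.map (MulAut.conj a).toMonoidHom).map (MulAut.conj a).toMonoidHom = J := by
    intro J
    rw [Subgroup.map_map]
    have : (MulAut.conj a).toMonoidHom.comp (MulAut.conj a).toMonoidHom = MonoidHom.id X := by
      ext x
      simp only [MonoidHom.comp_apply, MulEquiv.coe_toMonoidHom, MulAut.conj_apply, MonoidHom.id_apply]
      rw [hainv]
      calc a * (a * x * a) * a = (a * a) * x * (a * a) := by group
        _ = x := by rw [ha, one_mul, mul_one]
    rw [this, Subgroup.map_id]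
  have hlayer_norm : ∀ J : Subgroup X, IsComponent J → layer X ≤ Subgroup.normalizer (J : Set X) :=
    fun J hJ => Cfsg.Agent.Lib.Helper30.layer_le
      (fun K' hK' => Cfsg.Agent.Lib.Helper30.component_le_normalizer hK' hJ.1)
  -- `K` commutes with every component
  have hkey : ∀ J : Subgroup X, IsComponent J → K ≤ Subgroup.centralizer (J : Set X) := by
    intro J hJ
    obtain ⟨Ja, hJa⟩ : ∃ Ja : Subgroup X, Ja = J.map (MulAut.conj a).toMonoidHom := ⟨_, rfl⟩
    have hJac : IsComponent Ja := hJa ▸ Cfsg.Agent.Lib.Helper30.isComponent_conj a hJ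
    have hJaa : Ja.map (MulAut.conj a).toMonoidHom = J := by rw [hJa]; exact hconj2 J
    let S : Set (Subgroup X) := {J' | IsComponent J' ∧ J' ≠ J ∧ J' ≠ Ja}
    obtain ⟨U, hU⟩ : ∃ U : Subgroup X, U = J ⊔ Ja := ⟨_, rfl⟩
    obtain ⟨V, hV⟩ : ∃ V : Subgroup X, V = sSup S := ⟨_, rfl⟩
    have haU : ∀ u ∈ U, a * u * a⁻¹ ∈ U := by
      intro u hu
      have h1 : U.map (MulAut.conj a).toMonoidHom = U := by
        rw [hU, Subgroup.map_sup, hJaa, ← hJa, sup_comm]
      rw [← h1]
      exact ⟨u, hu, rfl⟩
    have haV : ∀ v ∈ V, a * v * a⁻¹ ∈ V := by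
      have h1 : V ≤ V.comap (MulAut.conj a).toMonoidHom := by
        rw [hV]
        apply sSup_le
        rintro J' ⟨hJ'c, hJ'1, hJ'2⟩
        rw [← Subgroup.map_le_iff_le_comap]
        apply le_sSup
        refine ⟨Cfsg.Agent.Lib.Helper30.isComponent_conj a hJ'c, ?_, ?_⟩
        · intro h
          apply hJ'2
          rw [hJa, ← h, hconj2]
        · intro h
          apply hJ'1
          rw [hJa] at h
          exact Subgroup.map_injective (MulAut.conj a).injective h
      intro v hv
      exact h1 hv
    have hVU : V ≤ Subgroup.centralizer (U : Set X) := by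
      rw [hV]
      apply sSup_le
      rintro J' ⟨hJ'c, hJ'1, hJ'2⟩
      rw [Subgroup.le_centralizer_iff, hU]
      apply sup_le
      · rw [← Subgroup.commutator_eq_bot_iff_le_centralizer]
        exact Cfsg.Agent.Lib.Helper30.component_commute hJ hJ'c (Ne.symm hJ'1)
      · rw [← Subgroup.commutator_eq_bot_iff_le_centralizer]
        exact Cfsg.Agent.Lib.Helper30.component_commute hJac hJ'c (Ne.symm hJ'2)
    have hUV : ∀ u ∈ U, ∀ v ∈ V, u * v = v * u := by
      intro u hu v hv
      exact Subgroup.mem_centralizer_iff.mp (hVU hv) u hu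
    have hLUV : layer X ≤ U ⊔ V := by
      apply Cfsg.Agent.Lib.Helper30.layer_le
      intro J' hJ'
      by_cases h1 : J' = J
      · rw [h1, hU]; exact le_sup_of_le_left le_sup_left
      · by_cases h2 : J' = Ja
        · rw [h2, hU]; exact le_sup_of_le_left le_sup_right
        · rw [hV]; exact le_sup_of_le_right (le_sSup ⟨hJ', h1, h2⟩)
    have hKNM : K ≤ (U ⊓ C) ⊔ (V ⊓ C) := by
      rw [← hKperf, Subgroup.commutator_le]
      intro k hk k' hk'
      rw [commutatorElement_def, hC]
      have hKa' : K ≤ Subgroup.centralizer ({a} : Set X) := hC ▸ hKa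
      have hka : a * k = k * a :=
        Subgroup.mem_centralizer_iff.mp (hKa' hk) a (Set.mem_singleton a)
      have hka' : a * k' = k' * a :=
        Subgroup.mem_centralizer_iff.mp (hKa' hk') a (Set.mem_singleton a)
      exact Cfsg.Agent.Lib.Helper29.S1305K.commutator_mem_of_commuting_factors U V hUV a haU haV k k'
        (hLUV (hKE hk)) (hLUV (hKE hk')) hka hka'
    have hLU : layer X ≤ Subgroup.normalizer (U : Set X) := by
      rw [hU]
      exact (le_inf (hlayer_norm J hJ) (hlayer_norm Ja hJac)).trans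
        (Subgroup.normalizer_inf_normalizer_le_normalizer_sup J Ja)
    have hLV : layer X ≤ Subgroup.normalizer (V : Set X) := by
      rw [hV, sSup_eq_iSup']
      refine le_trans ?_ (Subgroup.iInf_normalizer_le_normalizer_iSup (fun J' : S => (J' : Subgroup X)))
      apply le_iInf
      rintro ⟨J', hJ'c, _, _⟩
      exact hlayer_norm J' hJ'c
    rcases comp_dichotomy C K U hKa hK (hKE.trans hLU) with h1 | h1
    · exfalso
      apply hcon J hJ
      rw [← hJa, ← hU]
      exact h1.trans inf_le_left
    · rcases comp_dichotomy C K V hKa hK (hKE.trans hLV) with h2 | h2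
      · intro k hk
        have h3 : k ∈ Subgroup.centralizer (U : Set X) := hVU (h2 hk).1
        exact Subgroup.centralizer_le (by rw [hU]; exact SetLike.coe_subset_coe.mpr le_sup_left) h3
      · exfalso
        have h3 : (U ⊓ C) ⊔ (V ⊓ C) ≤ Subgroup.centralizer (K : Set X) := by
          apply sup_le
          · intro n hn
            rw [Subgroup.mem_centralizer_iff]
            intro k hk
            exact h1 k hk n hn
          · intro n hn
            rw [Subgroup.mem_centralizer_iff]
            intro k hk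
            exact h2 k hk n hn
        have h4 : ⁅K, K⁆ = ⊥ := Subgroup.commutator_eq_bot_iff_le_centralizer.mpr (hKNM.trans h3)
        rw [hKperf] at h4
        exact hKne h4
  have h1 : layer X ≤ Subgroup.centralizer (K : Set X) :=
    Cfsg.Agent.Lib.Helper30.layer_le (fun J hJ => Subgroup.le_centralizer_iff.mp (hkey J hJ))
  have h3 : ⁅K, K⁆ = ⊥ := Subgroup.commutator_eq_bot_iff_le_centralizer.mpr (hKE.trans h1)
  rw [hKperf] at h3
  exact hKne h3

end Cfsg.Agent.Lib.Helper94.S1305K
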