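import Mathlib

/-! Keystone K-S4751-F: an elementary abelian normal 2-subgroup on which an element with square
inside it has exactly two fixed points has order at most four. -/

set_option autoImplicit false

namespace Cfsg.Agent.Lib.Helper94.S4751F

universe u

theorem card_le_four_of_fixed {G : Type u} [Group G] (N : Subgroup G) [N.Normal] [Finite N]
    (hexp : ∀ x ∈ N, x * x = 1) (g : G) (hg2 : g * g ∈ N)
    (hfix : Nat.card {x : N // g * (x : G) * g⁻¹ = (x : G)} = 2) : Nat.card N ≤ 4 := by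
  classical
  have hinv : ∀ x ∈ N, x⁻¹ = x := fun x hx => inv_eq_of_mul_eq_one_left (hexp x hx)
  have hcomm : ∀ x ∈ N, ∀ y ∈ N, x * y = y * x := by
    intro x hx y hy
    calc x * y = (x * y)⁻¹ := (hinv _ (N.mul_mem hx hy)).symm
      _ = y⁻¹ * x⁻¹ := mul_inv_rev x y
      _ = y * x := by rw [hinv x hx, hinv y hy]
  have hconj : ∀ x ∈ N, g * x * g⁻¹ ∈ N := fun x hx => ‹N.Normal›.conj_mem x hx g
  let F : Subgroup N :=
    { carrier := {x | g * (x : G) * g⁻¹ = (x : G)}
      mul_mem' := by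
        intro a b ha hb
        have ha' : g * (a : G) * g⁻¹ = (a : G) := ha
        have hb' : g * (b : G) * g⁻¹ = (b : G) := hb
        show g * ((a * b : N) : G) * g⁻¹ = ((a * b : N) : G)
        rw [Subgroup.coe_mul]
        calc g * ((a : G) * b) * g⁻¹ = (g * a * g⁻¹) * (g * b * g⁻¹) := by group
          _ = a * b := by rw [ha', hb']
      one_mem' := by
        show g * ((1 : N) : G) * g⁻¹ = ((1 : N) : G)
        simp
      inv_mem' := by
        intro a ha
        have ha' : g * (a : G) * g⁻¹ = (a : G) := ha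
        show g * ((a⁻¹ : N) : G) * g⁻¹ = ((a⁻¹ : N) : G)
        rw [Subgroup.coe_inv]
        calc g * (a : G)⁻¹ * g⁻¹ = (g * a * g⁻¹)⁻¹ := by group
          _ = (a : G)⁻¹ := by rw [ha'] }
  have hF : Nat.card F = 2 := hfix
  let φ : N →* N := MonoidHom.mk'
    (fun x => ⟨(x : G) * (g * x * g⁻¹), N.mul_mem x.2 (hconj x x.2)⟩) (by
      intro a b
      apply Subtype.ext
      show ((a * b : N) : G) * (g * ((a * b : N) : G) * g⁻¹)
        = (a : G) * (g * a * g⁻¹) * ((b : G) * (g * b * g⁻¹))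
      rw [Subgroup.coe_mul]
      have h1 : g * ((a : G) * b) * g⁻¹ = (g * a * g⁻¹) * (g * b * g⁻¹) := by group
      rw [h1]
      have h2 := hcomm (b : G) b.2 (g * a * g⁻¹) (hconj a a.2)
      calc (a : G) * b * (g * a * g⁻¹ * (g * b * g⁻¹))
          = a * (b * (g * a * g⁻¹)) * (g * b * g⁻¹) := by simp only [mul_assoc]
        _ = a * ((g * a * g⁻¹) * b) * (g * b * g⁻¹) := by rw [h2]
        _ = _ := by simp only [mul_assoc])
  have hφ : ∀ x : N, ((φ x : N) : G) = (x : G) * (g * x * g⁻¹) := fun _ => rfl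
  have hker : φ.ker ≤ F := by
    intro x hx
    rw [MonoidHom.mem_ker] at hx
    have h1 : (x : G) * (g * x * g⁻¹) = 1 := by
      rw [← hφ, hx]; rfl
    show g * (x : G) * g⁻¹ = (x : G)
    have h2 : g * (x : G) * g⁻¹ = (x : G)⁻¹ := (inv_eq_of_mul_eq_one_right h1).symm
    rw [h2, hinv _ x.2]
  have hrange : φ.range ≤ F := by
    rintro y ⟨x, rfl⟩
    show g * ((φ x : N) : G) * g⁻¹ = ((φ x : N) : G)
    rw [hφ]
    have h1 : g * ((x : G) * (g * x * g⁻¹)) * g⁻¹
        = (g * x * g⁻¹) * ((g * g) * x * (g * g)⁻¹) := by group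
    have h2 : (g * g) * (x : G) * (g * g)⁻¹ = x := by
      rw [hcomm _ hg2 _ x.2]; group
    rw [h1, h2, hcomm _ (hconj x x.2) _ x.2]
  have h1 := Subgroup.card_eq_card_quotient_mul_card_subgroup φ.ker
  have h2 : Nat.card (N ⧸ φ.ker) = Nat.card φ.range :=
    Nat.card_congr (QuotientGroup.quotientKerEquivRange φ).toEquiv
  have h3 : Nat.card φ.ker ≤ Nat.card F := Subgroup.card_le_of_le hker
  have h4 : Nat.card φ.range ≤ Nat.card F := Subgroup.card_le_of_le hrange
  calc Nat.card N = Nat.card φ.range * Nat.card φ.ker := by rw [h1, h2]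
    _ ≤ 2 * 2 := Nat.mul_le_mul (h4.trans hF.le) (h3.trans hF.le)

end Cfsg.Agent.Lib.Helper94.S4751F
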