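import Mathlib
import Cfsg.Agent.Lib.Helper69.StNDefs

/-!
# K-StN-E4 (keystone 240115, pack for S2401, architect helper69): `φ` is injective on `Upos X`

Parallel hand by helper94.  Route: for an IDEAL `R` of positive roots (closed under adding positive roots)
let `U(R) = ⟨X i j t : (i,j) ∈ R⟩`.  If `ρ₀ ∈ R` has minimal height then `R' = R \ {ρ₀}` is an ideal,
`X_{ρ₀}` normalizes `U(R')`, `U(R) = X_{ρ₀} U(R')`, and `φ (U(R'))` consists of matrices with zero
`ρ₀`-entry.  Induction on `|R|`.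
-/

set_option autoImplicit false
set_option linter.unusedSectionVars false
set_option linter.unusedVariables false

namespace Cfsg.Agent.Lib.Helper94.StN

open Cfsg.Agent.Lib.Helper69.StN Matrix

variable {n : ℕ} {K : Type*} [Field K] {S : Type*} [Group S] {X : Fin n → Fin n → K → S}

/-- the subgroup generated by the root elements of the roots in `R` -/
def UR (X : Fin n → Fin n → K → S) (R : Finset (Fin n × Fin n)) : Subgroup S :=
  Subgroup.closure {g | ∃ i j t, (i, j) ∈ R ∧ g = X i j t}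

/-- `R` consists of positive roots and is closed under adding positive roots -/
def IsIdeal (R : Finset (Fin n × Fin n)) : Prop :=
  (∀ p ∈ R, p.1 < p.2) ∧
    ∀ i j, (i, j) ∈ R → ∀ l, (j < l → (i, l) ∈ R) ∧ (l < i → (l, j) ∈ R)

theorem e4_X_mem (R : Finset (Fin n × Fin n)) {i j : Fin n} (h : (i, j) ∈ R) (t : K) :
    X i j t ∈ UR X R := Subgroup.subset_closure ⟨i, j, t, h, rfl⟩

/-- `X i0 j0 s` normalizes `U(R')` -/
theorem e4_conj (hX : IsSt X) {i0 j0 : Fin n} (h0 : i0 < j0) (R' : Finset (Fin n × Fin n))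
    (hlt : ∀ p ∈ R', p.1 < p.2)
    (hR1 : ∀ i, (i, i0) ∈ R' → (i, j0) ∈ R') (hR2 : ∀ j, (j0, j) ∈ R' → (i0, j) ∈ R') (s : K) :
    ∀ y ∈ UR X R', X i0 j0 s * y * (X i0 j0 s)⁻¹ ∈ UR X R' := by
  intro y hy
  unfold UR at hy
  induction hy using Subgroup.closure_induction with
  | mem y hy =>
    obtain ⟨i, j, u, hij, rfl⟩ := hy
    have hijlt : i < j := hlt _ hij
    by_cases hj : j = i0
    · subst hj
      have h1 : i ≠ j := ne_of_lt hijlt
      have h2 : j ≠ j0 := ne_of_lt h0
      have h3 : i ≠ j0 := ne_of_lt (lt_trans hijlt h0)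
      have hc := hX.comm3 i j j0 h1 h2 h3 u s
      have e : X j j0 s * X i j u * (X j j0 s)⁻¹ = (X i j0 (u * s))⁻¹ * X i j u := by
        rw [← hc]; group
      rw [e]
      exact (UR X R').mul_mem ((UR X R').inv_mem (e4_X_mem R' (hR1 i hij) _)) (e4_X_mem R' hij _)
    · by_cases hi : i = j0
      · subst hi
        have h1 : i0 ≠ i := ne_of_lt h0
        have h2 : i ≠ j := ne_of_lt hijlt
        have h3 : i0 ≠ j := ne_of_lt (lt_trans h0 hijlt)
        have hc := hX.comm3 i0 i j h1 h2 h3 s u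
        have e : X i0 i s * X i j u * (X i0 i s)⁻¹ = X i0 j (s * u) * X i j u := by
          rw [← hc]; group
        rw [e]
        exact (UR X R').mul_mem (e4_X_mem R' (hR2 j hij) _) (e4_X_mem R' hij _)
      · have hc := hX.comm i0 j0 i j (ne_of_lt h0) (ne_of_lt hijlt) (fun h => hj h.symm)
          (fun h => hi h.symm) s u
        have e : X i0 j0 s * X i j u * (X i0 j0 s)⁻¹ = X i j u := by
          rw [hc]; group
        rw [e]
        exact e4_X_mem R' hij _
  | one =>
    rw [mul_one, mul_inv_cancel]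
    exact (UR X R').one_mem
  | mul a b _ _ iha ihb =>
    have e : X i0 j0 s * (a * b) * (X i0 j0 s)⁻¹ =
        (X i0 j0 s * a * (X i0 j0 s)⁻¹) * (X i0 j0 s * b * (X i0 j0 s)⁻¹) := by group
    rw [e]
    exact (UR X R').mul_mem iha ihb
  | inv a _ iha =>
    have e : X i0 j0 s * a⁻¹ * (X i0 j0 s)⁻¹ = (X i0 j0 s * a * (X i0 j0 s)⁻¹)⁻¹ := by group
    rw [e]
    exact (UR X R').inv_mem iha

/-- `U(R) = X_{ρ₀} U(R')` -/
theorem e4_decomp (hX : IsSt X) {i0 j0 : Fin n} (h0 : i0 < j0) (R : Finset (Fin n × Fin n))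
    (hρ : (i0, j0) ∈ R)
    (hnorm : ∀ s : K, ∀ y ∈ UR X (R.erase (i0, j0)),
      X i0 j0 s * y * (X i0 j0 s)⁻¹ ∈ UR X (R.erase (i0, j0))) :
    ∀ g ∈ UR X R, ∃ t : K, ∃ g' ∈ UR X (R.erase (i0, j0)), g = X i0 j0 t * g' := by
  have hne : i0 ≠ j0 := ne_of_lt h0
  intro g hg
  unfold UR at hg
  induction hg using Subgroup.closure_induction with
  | mem y hy =>
    obtain ⟨i, j, u, hij, rfl⟩ := hy
    by_cases h : (i, j) = (i0, j0)
    · have hi : i = i0 := congrArg Prod.fst h
      have hj : j = j0 := congrArg Prod.snd h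
      subst hi; subst hj
      exact ⟨u, 1, Subgroup.one_mem _, by rw [mul_one]⟩
    · refine ⟨0, X i j u, e4_X_mem _ (Finset.mem_erase.mpr ⟨h, hij⟩) _, ?_⟩
      rw [hX.zero hne, one_mul]
  | one => exact ⟨0, 1, Subgroup.one_mem _, by rw [hX.zero hne, one_mul]⟩
  | mul a b _ _ iha ihb =>
    obtain ⟨t1, g1, hg1, rfl⟩ := iha
    obtain ⟨t2, g2, hg2, rfl⟩ := ihb
    have hn := hnorm (-t2) g1 hg1
    have hinv : (X i0 j0 (-t2))⁻¹ = X i0 j0 t2 := by rw [hX.inv hne, neg_neg]
    rw [hinv] at hn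
    refine ⟨t1 + t2, (X i0 j0 (-t2) * g1 * X i0 j0 t2) * g2, Subgroup.mul_mem _ hn hg2, ?_⟩
    rw [← hX.add i0 j0 hne t1 t2, ← hX.inv hne t2]
    group
  | inv a _ iha =>
    obtain ⟨t1, g1, hg1, rfl⟩ := iha
    have hn := hnorm t1 g1⁻¹ (Subgroup.inv_mem _ hg1)
    refine ⟨-t1, X i0 j0 t1 * g1⁻¹ * (X i0 j0 t1)⁻¹, hn, ?_⟩
    rw [← hX.inv hne t1]
    group

/-! ### the matrix side -/

/-- unit diagonal and zero entries outside `R` -/
def InMat (R : Finset (Fin n × Fin n)) (A : Matrix (Fin n) (Fin n) K) : Prop :=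
  (∀ i, A i i = 1) ∧ ∀ i j, i ≠ j → (i, j) ∉ R → A i j = 0

theorem e4_inMat_one (R : Finset (Fin n × Fin n)) : InMat R (1 : Matrix (Fin n) (Fin n) K) :=
  ⟨fun i => Matrix.one_apply_eq i, fun i j hij _ => Matrix.one_apply_ne hij⟩

theorem e4_inMat_transv (R : Finset (Fin n × Fin n)) {i j : Fin n} (hne : i ≠ j)
    (hij : (i, j) ∈ R) (t : K) :
    InMat R ((SpecialLinearGroup.transvection hne t : SpecialLinearGroup (Fin n) K) :
      Matrix (Fin n) (Fin n) K) := by
  rw [SpecialLinearGroup.transvection_coe]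
  constructor
  · intro a
    rw [Matrix.add_apply, Matrix.one_apply_eq, Matrix.single_apply, if_neg, add_zero]
    rintro ⟨h1, h2⟩
    exact hne (h1.trans h2.symm)
  · intro a b hab hR
    rw [Matrix.add_apply, Matrix.one_apply_ne hab, Matrix.single_apply, if_neg, add_zero]
    rintro ⟨h1, h2⟩
    apply hR
    rw [← h1, ← h2]
    exact hij

theorem e4_inMat_mul (R : Finset (Fin n × Fin n)) (hR : IsIdeal R)
    (A B : Matrix (Fin n) (Fin n) K) (hA : InMat R A) (hB : InMat R B) : InMat R (A * B) := by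
  constructor
  · intro a
    rw [Matrix.mul_apply, Finset.sum_eq_single a]
    · rw [hA.1, hB.1, mul_one]
    · intro l _ hl
      by_cases h : (a, l) ∈ R
      · have h1 : a < l := hR.1 _ h
        have h2 : (l, a) ∉ R := fun h' => lt_asymm h1 (hR.1 _ h')
        rw [hB.2 l a hl h2, mul_zero]
      · rw [hA.2 a l (Ne.symm hl) h, zero_mul]
    · intro h
      exact absurd (Finset.mem_univ a) h
  · intro a b hab hnot
    rw [Matrix.mul_apply]
    apply Finset.sum_eq_zero
    intro l _
    by_cases hla : l = a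
    · subst hla
      rw [hB.2 l b hab hnot, mul_zero]
    · by_cases hlb : l = b
      · subst hlb
        rw [hA.2 a l hab hnot, zero_mul]
      · by_cases h1 : (a, l) ∈ R
        · by_cases h2 : (l, b) ∈ R
          · exfalso
            exact hnot ((hR.2 a l h1 b).1 (hR.1 _ h2))
          · rw [hB.2 l b hlb h2, mul_zero]
        · rw [hA.2 a l (Ne.symm hla) h1, zero_mul]

theorem e4_phi_mem (hX : IsSt X) {φ : S →* SpecialLinearGroup (Fin n) K} (hφ : IsPhi X φ)
    (R : Finset (Fin n × Fin n)) (hR : IsIdeal R) :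
    ∀ g ∈ UR X R, InMat R ((φ g : SpecialLinearGroup (Fin n) K) : Matrix (Fin n) (Fin n) K) := by
  intro g hg
  unfold UR at hg
  induction hg using Subgroup.closure_induction_left with
  | one =>
    rw [map_one]
    exact e4_inMat_one R
  | mul_left x hx y _ ih =>
    obtain ⟨i, j, t, hij, rfl⟩ := hx
    have hne : i ≠ j := ne_of_lt (hR.1 _ hij)
    rw [map_mul]
    show InMat R (((φ (X i j t) : SpecialLinearGroup (Fin n) K) : Matrix (Fin n) (Fin n) K) *
      ((φ y : SpecialLinearGroup (Fin n) K) : Matrix (Fin n) (Fin n) K))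
    rw [hφ i j hne t]
    exact e4_inMat_mul R hR _ _ (e4_inMat_transv R hne hij t) ih
  | inv_mul_cancel x hx y _ ih =>
    obtain ⟨i, j, t, hij, rfl⟩ := hx
    have hne : i ≠ j := ne_of_lt (hR.1 _ hij)
    rw [hX.inv hne, map_mul]
    show InMat R (((φ (X i j (-t)) : SpecialLinearGroup (Fin n) K) : Matrix (Fin n) (Fin n) K) *
      ((φ y : SpecialLinearGroup (Fin n) K) : Matrix (Fin n) (Fin n) K))
    rw [hφ i j hne (-t)]
    exact e4_inMat_mul R hR _ _ (e4_inMat_transv R hne hij (-t)) ih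

/-! ### the induction -/

theorem e4_UR_empty : UR X (∅ : Finset (Fin n × Fin n)) = ⊥ := by
  unfold UR
  rw [Subgroup.closure_eq_bot_iff]
  rintro g ⟨i, j, t, h, _⟩
  exact absurd h (Finset.notMem_empty _)

theorem e4_main (hX : IsSt X) {φ : S →* SpecialLinearGroup (Fin n) K} (hφ : IsPhi X φ) :
    ∀ (c : ℕ) (R : Finset (Fin n × Fin n)), R.card = c → IsIdeal R →
      ∀ g ∈ UR X R, φ g = 1 → g = 1 := by
  intro c
  induction c with
  | zero =>
    intro R hc hR g hg _
    rw [Finset.card_eq_zero] at hc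
    subst hc
    rw [e4_UR_empty] at hg
    exact Subgroup.mem_bot.mp hg
  | succ c ih =>
    intro R hc hR g hg hφg
    have hne : R.Nonempty := by
      rw [← Finset.card_pos]
      omega
    obtain ⟨ρ, hρ, hmin⟩ := Finset.exists_min_image R (fun p => p.2.val - p.1.val) hne
    obtain ⟨i0, j0⟩ := ρ
    have h0 : i0 < j0 := hR.1 _ hρ
    set R' := R.erase (i0, j0) with hR'
    have hc' : R'.card = c := by
      rw [Finset.card_erase_of_mem hρ, hc]
      rfl
    have hsub : ∀ p, p ∈ R' → p ∈ R := fun p hp => Finset.mem_of_mem_erase hp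
    have hR'ideal : IsIdeal R' := by
      refine ⟨fun p hp => hR.1 p (hsub p hp), ?_⟩
      intro i j hij l
      have hijR := hsub _ hij
      have hlt : i < j := hR.1 _ hijR
      have hm := hmin _ hijR
      simp only at hm
      have h0' := Fin.lt_def.mp h0
      constructor
      · intro hl
        refine Finset.mem_erase.mpr ⟨?_, (hR.2 i j hijR l).1 hl⟩
        intro h
        have h1 : i = i0 := congrArg Prod.fst h
        have h2 : l = j0 := congrArg Prod.snd h
        subst h1; subst h2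
        have := Fin.lt_def.mp hlt
        have := Fin.lt_def.mp hl
        omega
      · intro hl
        refine Finset.mem_erase.mpr ⟨?_, (hR.2 i j hijR l).2 hl⟩
        intro h
        have h1 : l = i0 := congrArg Prod.fst h
        have h2 : j = j0 := congrArg Prod.snd h
        subst h1; subst h2
        have := Fin.lt_def.mp hlt
        have := Fin.lt_def.mp hl
        omega
    have hR1 : ∀ i, (i, i0) ∈ R' → (i, j0) ∈ R' := by
      intro i hi
      have hiR := hsub _ hi
      have hlt : i < i0 := hR.1 _ hiR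
      refine Finset.mem_erase.mpr ⟨?_, (hR.2 i i0 hiR j0).1 h0⟩
      intro h
      have h1 : i = i0 := congrArg Prod.fst h
      exact absurd h1 (ne_of_lt hlt)
    have hR2 : ∀ j, (j0, j) ∈ R' → (i0, j) ∈ R' := by
      intro j hj
      have hjR := hsub _ hj
      have hlt : j0 < j := hR.1 _ hjR
      refine Finset.mem_erase.mpr ⟨?_, (hR.2 j0 j hjR i0).2 h0⟩
      intro h
      have h2 : j = j0 := congrArg Prod.snd h
      exact absurd h2 (ne_of_gt hlt)
    have hnorm := fun s => e4_conj hX h0 R' hR'ideal.1 hR1 hR2 s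
    obtain ⟨t, g', hg', rfl⟩ := e4_decomp hX h0 R hρ hnorm g hg
    have hM := e4_phi_mem hX hφ R' hR'ideal g' hg'
    have hne0 : i0 ≠ j0 := ne_of_lt h0
    have hentry : ((φ (X i0 j0 t * g') : SpecialLinearGroup (Fin n) K) :
        Matrix (Fin n) (Fin n) K) i0 j0 = t := by
      rw [map_mul]
      show (((φ (X i0 j0 t) : SpecialLinearGroup (Fin n) K) : Matrix (Fin n) (Fin n) K) *
        ((φ g' : SpecialLinearGroup (Fin n) K) : Matrix (Fin n) (Fin n) K)) i0 j0 = t
      rw [hφ i0 j0 hne0 t, SpecialLinearGroup.transvection_coe, Matrix.add_mul, Matrix.one_mul,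
        Matrix.add_apply, Matrix.single_mul_apply_same, hM.1 j0,
        hM.2 i0 j0 hne0 (Finset.notMem_erase _ _), zero_add, mul_one]
    have ht : t = 0 := by
      rw [← hentry, hφg]
      show (1 : Matrix (Fin n) (Fin n) K) i0 j0 = 0
      exact Matrix.one_apply_ne hne0
    rw [ht, hX.zero hne0, one_mul] at hφg ⊢
    exact ih R' hc' hR'ideal g' hg' hφg

/-- LEAF E4 (240115) -/
theorem Upos_inj (hX : IsSt X) {φ : S →* SpecialLinearGroup (Fin n) K} (hφ : IsPhi X φ) :
    ∀ g ∈ Upos X, φ g = 1 → g = 1 := by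
  intro g hg hφg
  set R : Finset (Fin n × Fin n) := Finset.univ.filter (fun p => p.1 < p.2) with hRdef
  have hmem : ∀ i j : Fin n, (i, j) ∈ R ↔ i < j := by
    intro i j
    simp [hRdef]
  have hR : IsIdeal R := by
    refine ⟨fun p hp => by simpa [hRdef] using hp, ?_⟩
    intro i j hij l
    rw [hmem] at hij
    exact ⟨fun h => (hmem i l).2 (lt_trans hij h), fun h => (hmem l j).2 (lt_trans h hij)⟩
  have hg' : g ∈ UR X R := by
    refine Subgroup.closure_mono ?_ hg
    rintro y ⟨i, j, t, hij, rfl⟩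
    exact ⟨i, j, t, (hmem i j).2 hij, rfl⟩
  exact e4_main hX hφ R.card R rfl hR g hg' hφg

end Cfsg.Agent.Lib.Helper94.StN
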