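import Mathlib
import Cfsg.Agent.Lib.Helper49.StOpDefs
import Cfsg.Agent.Lib.Helper50.PlusForm
import Cfsg.Agent.Lib.Helper74.SiegelQF

/-!
# K-StOp-C5a1 (keystone 254822, pack for S2548, architect helper49): the elimination step

Parallel hand by helper94.  Route: Siegel elements `E(u,z) x = x + B(x,u) z - (B(x,z) + Q(z) B(x,u)) u`
(Helper74.SiegelQF) with `u = e_j` (upper triangular) or `u = f_j` (lower triangular) and `z` supported
strictly between `e_j` and `f_j`.  One upper element makes the `e_j`-coordinate nonzero, one lower element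
clears everything else.
-/

set_option autoImplicit false
set_option linter.unusedSectionVars false
set_option linter.unusedVariables false

namespace Cfsg.Agent.Lib.Helper94.StOp

open Matrix QuadraticMap Cfsg Cfsg.Agent.Lib.Helper49.StOp Cfsg.Agent.Lib.Helper50
  Cfsg.Agent.Lib.Helper74.Siegel

variable {m : ℕ} {F : Type*} [Field F]

/-! ### the form -/

theorem c5_polar_single (y : OI m) (x : OI m → F) :
    polar (⇑(QPlus m F)) (Pi.single y 1) x = x (dualE m y) := by
  rcases y with i | i
  · exact polar_QPlus_single_inl i x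
  · exact polar_QPlus_single_inr i x

theorem c5_polar_single' (y : OI m) (x : OI m → F) :
    polar (⇑(QPlus m F)) x (Pi.single y 1) = x (dualE m y) := by
  rw [polar_comm]; exact c5_polar_single y x

theorem c5_quad_mat (g : OG m F) (u : OI m → F) :
    QPlus m F (mat g *ᵥ u) = QPlus m F u := quad_mulVec g u

theorem c5_polar_mat (g : OG m F) (x y : OI m → F) :
    polar (⇑(QPlus m F)) (mat g *ᵥ x) (mat g *ᵥ y) = polar (⇑(QPlus m F)) x y := by
  unfold polar
  rw [← Matrix.mulVec_add, c5_quad_mat, c5_quad_mat, c5_quad_mat]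

theorem c5_Q_single (y : OI m) : QPlus m F (Pi.single y (1 : F)) = 0 := by
  rw [QPlus_apply]
  apply Finset.sum_eq_zero
  intro i _
  rcases y with k | k
  · have h : (Sum.inr i : OI m) ≠ Sum.inl k := by simp
    rw [Pi.single_eq_of_ne h, mul_zero]
  · have h : (Sum.inl i : OI m) ≠ Sum.inr k := by simp
    rw [Pi.single_eq_of_ne h, zero_mul]

/-! ### Siegel elements -/

theorem c5_entry (u z : OI m → F) (x y : OI m) :
    siegM (QPlus m F) u z x y = (1 : Matrix (OI m) (OI m) F) x y + u (dualE m y) * z x
      - (z (dualE m y) + QPlus m F z * u (dualE m y)) * u x := by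
  rw [siegM_apply, c5_polar_single, c5_polar_single]

theorem c5_elem (u z : OI m → F) (hu : QPlus m F u = 0) (hzu : polar (⇑(QPlus m F)) z u = 0) :
    ∃ h : OG m F, mat h = siegM (QPlus m F) u z :=
  exists_of_isometry _ (siegM (QPlus m F) u (-z)) (siegM_mul_neg _ u z hu hzu)
    (siegM_neg_mul _ u z hu hzu) (fun v => siegM_isometry (QPlus m F) u z hu hzu v)

/-- `z` is supported strictly between `e_j` and `f_j` -/
def Sup (j : Fin m) (z : OI m → F) : Prop :=
  ∀ a, z a ≠ 0 → j.val < pos m a ∧ pos m a + j.val + 1 < 2 * m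

theorem c5_sup_dual (j : Fin m) (z : OI m → F) (hz : Sup j z) (a : OI m) (h : z (dualE m a) ≠ 0) :
    j.val < pos m a ∧ pos m a + j.val + 1 < 2 * m := by
  have h1 := hz _ h
  rw [pos_dualE] at h1
  have := pos_lt m a
  omega

theorem c5_pos_eI (j : Fin m) : pos m (eI j) = j.val := rfl
theorem c5_pos_fI (j : Fin m) : pos m (fI j) = 2 * m - 1 - j.val := rfl

theorem c5_sup_eI (j : Fin m) (z : OI m → F) (hz : Sup j z) : z (eI j) = 0 := by
  by_contra h
  have := (hz _ h).1
  rw [c5_pos_eI] at this
  omega

theorem c5_sup_fI (j : Fin m) (z : OI m → F) (hz : Sup j z) : z (fI j) = 0 := by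
  by_contra h
  have := (hz _ h).2
  rw [c5_pos_fI] at this
  have := j.2
  omega

theorem c5_eq_of_dual (y b : OI m) (h : dualE m y = b) : y = dualE m b := by
  rw [← h, dualE_dualE]

/-- the lower Siegel matrix is lower triangular -/
theorem c5_down_tri (j : Fin m) (z : OI m → F) (hz : Sup j z) (x y : OI m)
    (hxy : pos m x < pos m y) : siegM (QPlus m F) (Pi.single (fI j) 1) z x y = 0 := by
  rw [c5_entry]
  have h1 : (1 : Matrix (OI m) (OI m) F) x y = 0 :=
    Matrix.one_apply_ne (fun h => by subst h; exact lt_irrefl _ hxy)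
  have hj := j.2
  have h2 : (Pi.single (fI j) (1 : F) : OI m → F) (dualE m y) * z x = 0 := by
    by_cases hy : dualE m y = fI j
    · have hy' : y = eI j := c5_eq_of_dual y _ hy
      by_cases hzx : z x = 0
      · rw [hzx, mul_zero]
      · have := (hz x hzx).1
        rw [hy', c5_pos_eI] at hxy
        omega
    · rw [Pi.single_eq_of_ne hy, zero_mul]
  have h3 : (z (dualE m y) + QPlus m F z * (Pi.single (fI j) (1 : F) : OI m → F) (dualE m y)) *
      (Pi.single (fI j) (1 : F) : OI m → F) x = 0 := by
    by_cases hx : x = fI j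
    · rw [hx, c5_pos_fI] at hxy
      have e1 : z (dualE m y) = 0 := by
        by_contra h
        have := c5_sup_dual j z hz y h
        omega
      have e2 : (Pi.single (fI j) (1 : F) : OI m → F) (dualE m y) = 0 := by
        apply Pi.single_eq_of_ne
        intro hy
        have hy' : y = eI j := c5_eq_of_dual y _ hy
        rw [hy', c5_pos_eI] at hxy
        omega
      rw [e1, e2, mul_zero, add_zero, zero_mul]
    · rw [Pi.single_eq_of_ne hx, mul_zero]
  rw [h1, h2, h3]
  ring

/-- the upper Siegel matrix is upper triangular -/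
theorem c5_up_tri (j : Fin m) (z : OI m → F) (hz : Sup j z) (x y : OI m)
    (hxy : pos m y < pos m x) : siegM (QPlus m F) (Pi.single (eI j) 1) z x y = 0 := by
  rw [c5_entry]
  have h1 : (1 : Matrix (OI m) (OI m) F) x y = 0 :=
    Matrix.one_apply_ne (fun h => by subst h; exact lt_irrefl _ hxy)
  have hj := j.2
  have h2 : (Pi.single (eI j) (1 : F) : OI m → F) (dualE m y) * z x = 0 := by
    by_cases hy : dualE m y = eI j
    · have hy' : y = fI j := c5_eq_of_dual y _ hy
      by_cases hzx : z x = 0
      · rw [hzx, mul_zero]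
      · have := (hz x hzx).2
        rw [hy', c5_pos_fI] at hxy
        omega
    · rw [Pi.single_eq_of_ne hy, zero_mul]
  have h3 : (z (dualE m y) + QPlus m F z * (Pi.single (eI j) (1 : F) : OI m → F) (dualE m y)) *
      (Pi.single (eI j) (1 : F) : OI m → F) x = 0 := by
    by_cases hx : x = eI j
    · rw [hx, c5_pos_eI] at hxy
      have e1 : z (dualE m y) = 0 := by
        by_contra h
        have := c5_sup_dual j z hz y h
        omega
      have e2 : (Pi.single (eI j) (1 : F) : OI m → F) (dualE m y) = 0 := by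
        apply Pi.single_eq_of_ne
        intro hy
        have hy' : y = fI j := c5_eq_of_dual y _ hy
        rw [hy', c5_pos_fI] at hxy
        omega
      rw [e1, e2, mul_zero, add_zero, zero_mul]
    · rw [Pi.single_eq_of_ne hx, mul_zero]
  rw [h1, h2, h3]
  ring

/-- `h` fixes the first `j` basis vectors -/
def FixCols (j : ℕ) (h : OG m F) : Prop :=
  ∀ a c : OI m, pos m c < j → mat h a c = (1 : Matrix (OI m) (OI m) F) a c

theorem c5_fixCols_mul (j : ℕ) (h1 h2 : OG m F) (a1 : FixCols j h1) (a2 : FixCols j h2) :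
    FixCols j (h1 * h2) := by
  intro a c hc
  rw [mat_mul, Matrix.mul_apply]
  have : ∀ r : OI m, mat h1 a r * mat h2 r c = mat h1 a r * (1 : Matrix (OI m) (OI m) F) r c := by
    intro r
    rw [a2 r c hc]
  simp_rw [this]
  rw [← Matrix.mul_apply, Matrix.mul_one]
  exact a1 a c hc

/-- both Siegel matrices fix the first `j` basis vectors -/
theorem c5_fix (j : Fin m) (u z : OI m → F) (hz : Sup j z) (hu : u = Pi.single (eI j) 1 ∨
    u = Pi.single (fI j) 1) (x c : OI m) (hc : pos m c < j.val) :
    siegM (QPlus m F) u z x c = (1 : Matrix (OI m) (OI m) F) x c := by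
  rw [c5_entry]
  have hj := j.2
  have hpd : pos m (dualE m c) = 2 * m - 1 - pos m c := pos_dualE m c
  have e1 : z (dualE m c) = 0 := by
    by_contra h
    have := (hz _ h).2
    omega
  have e2 : u (dualE m c) = 0 := by
    rcases hu with rfl | rfl
    · apply Pi.single_eq_of_ne
      intro h
      rw [h, c5_pos_eI] at hpd
      omega
    · apply Pi.single_eq_of_ne
      intro h
      rw [h, c5_pos_fI] at hpd
      omega
  rw [e1, e2]
  ring


/-- the lower Siegel element -/
theorem c5_down (j : Fin m) (z : OI m → F) (hz : Sup j z) :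
    ∃ h : OG m F, h ∈ Bminus m F ∧ FixCols j.val h ∧
      ∀ x : OI m → F, mat h *ᵥ x = x + x (eI j) • z
        - (polar (⇑(QPlus m F)) x z + QPlus m F z * x (eI j)) • Pi.single (fI j) 1 := by
  have hzu : polar (⇑(QPlus m F)) z (Pi.single (fI j) 1) = 0 := by
    rw [c5_polar_single']
    exact c5_sup_eI j z hz
  obtain ⟨h, hh⟩ := c5_elem (Pi.single (fI j) 1) z (c5_Q_single _) hzu
  refine ⟨h, ?_, ?_, ?_⟩
  · rw [mem_Bminus_iff]
    intro a b hab
    rw [hh]
    exact c5_down_tri j z hz a b hab
  · intro a c hc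
    rw [hh]
    exact c5_fix j _ z hz (Or.inr rfl) a c hc
  · intro x
    rw [hh, siegM_mulVec, c5_polar_single']
    rfl

/-- the upper Siegel element -/
theorem c5_up (j : Fin m) (z : OI m → F) (hz : Sup j z) :
    ∃ h : OG m F, h ∈ Bsub m F ∧ FixCols j.val h ∧
      ∀ x : OI m → F, mat h *ᵥ x = x + x (fI j) • z
        - (polar (⇑(QPlus m F)) x z + QPlus m F z * x (fI j)) • Pi.single (eI j) 1 := by
  have hzu : polar (⇑(QPlus m F)) z (Pi.single (eI j) 1) = 0 := by
    rw [c5_polar_single']
    exact c5_sup_fI j z hz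
  obtain ⟨h, hh⟩ := c5_elem (Pi.single (eI j) 1) z (c5_Q_single _) hzu
  refine ⟨h, ?_, ?_, ?_⟩
  · rw [mem_Bsub_iff]
    intro a b hab
    rw [hh]
    exact c5_up_tri j z hz a b hab
  · intro a c hc
    rw [hh]
    exact c5_fix j _ z hz (Or.inl rfl) a c hc
  · intro x
    rw [hh, siegM_mulVec, c5_polar_single']
    rfl

/-! ### case A: the `e_j`-coordinate is nonzero -/

theorem c5_caseA (j : Fin m) (v : OI m → F)
    (hS : ∀ a, 2 * m - 1 - j.val < pos m a → v a = 0)
    (hiso : QPlus m F v = 0) (hx : v (eI j) ≠ 0) :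
    ∃ h : OG m F, h ∈ Bminus m F ∧ FixCols j.val h ∧
      ∀ a, j.val < pos m a → (mat h *ᵥ v) a = 0 := by
  classical
  have hj := j.2
  set c : F := -(v (eI j))⁻¹ with hc
  set w' : OI m → F :=
    fun a => if j.val < pos m a ∧ pos m a + j.val + 1 < 2 * m then v a else 0 with hw'
  set z : OI m → F := c • w' with hzdef
  have hz : Sup j z := by
    intro a ha
    by_contra hcon
    apply ha
    show c * w' a = 0
    rw [hw']
    simp only
    rw [if_neg hcon, mul_zero]
  have hw_inl : ∀ i : Fin m, w' (Sum.inl i) = if j.val < i.val then v (Sum.inl i) else 0 := by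
    intro i
    rw [hw']
    simp only
    have hi := i.2
    by_cases h : j.val < i.val
    · rw [if_pos h, if_pos]
      refine ⟨h, ?_⟩
      show i.val + j.val + 1 < 2 * m
      omega
    · rw [if_neg h, if_neg]
      rintro ⟨h1, _⟩
      exact h h1
  have hw_inr : ∀ i : Fin m, w' (Sum.inr i) = if j.val < i.val then v (Sum.inr i) else 0 := by
    intro i
    rw [hw']
    simp only
    have hi := i.2
    by_cases h : j.val < i.val
    · rw [if_pos h, if_pos]
      refine ⟨?_, ?_⟩
      · show j.val < 2 * m - 1 - i.val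
        omega
      · show 2 * m - 1 - i.val + j.val + 1 < 2 * m
        omega
    · rw [if_neg h, if_neg]
      rintro ⟨_, h2⟩
      have h3 : 2 * m - 1 - i.val + j.val + 1 < 2 * m := h2
      omega
  set S : F := ∑ i : Fin m, (if j.val < i.val then v (Sum.inl i) * v (Sum.inr i) else 0) with hSdef
  have hQz : QPlus m F z = c ^ 2 * S := by
    rw [QPlus_apply, hSdef, Finset.mul_sum]
    apply Finset.sum_congr rfl
    intro i _
    show (c * w' (Sum.inl i)) * (c * w' (Sum.inr i)) = _
    rw [hw_inl, hw_inr]
    split_ifs <;> ring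
  have hpol : polar (⇑(QPlus m F)) v z = 2 * c * S := by
    rw [polar_QPlus, hSdef, Finset.mul_sum]
    apply Finset.sum_congr rfl
    intro i _
    show v (Sum.inl i) * (c * w' (Sum.inr i)) + v (Sum.inr i) * (c * w' (Sum.inl i)) = _
    rw [hw_inl, hw_inr]
    split_ifs <;> ring
  have hQv : v (eI j) * v (fI j) + S = 0 := by
    rw [← hiso, QPlus_apply, hSdef]
    have : ∀ i : Fin m, v (Sum.inl i) * v (Sum.inr i) =
        (if i = j then v (eI j) * v (fI j) else 0) +
          (if j.val < i.val then v (Sum.inl i) * v (Sum.inr i) else 0) := by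
      intro i
      by_cases h1 : i = j
      · subst h1
        rw [if_pos rfl, if_neg (lt_irrefl _), add_zero]
      · rw [if_neg h1]
        by_cases h2 : j.val < i.val
        · rw [if_pos h2, zero_add]
        · rw [if_neg h2, add_zero]
          have h3 : i.val < j.val := by
            have : i.val ≠ j.val := fun h => h1 (Fin.ext h)
            omega
          have : v (Sum.inr i) = 0 := by
            apply hS
            show 2 * m - 1 - j.val < 2 * m - 1 - i.val
            have := i.2
            omega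
          rw [this, mul_zero]
    rw [Finset.sum_congr rfl (fun i _ => this i), Finset.sum_add_distrib, Finset.sum_ite_eq']
    simp
  obtain ⟨h, hB, hfix, hact⟩ := c5_down j z hz
  refine ⟨h, hB, hfix, ?_⟩
  intro a ha
  rw [hact]
  show v a + v (eI j) * z a - (polar (⇑(QPlus m F)) v z + QPlus m F z * v (eI j)) *
    (Pi.single (fI j) (1 : F) : OI m → F) a = 0
  by_cases haf : a = fI j
  · rw [haf, Pi.single_eq_same, c5_sup_fI j z hz, hpol, hQz, mul_zero, mul_one, add_zero]
    have hx' : v (eI j) ≠ 0 := hx
    rw [hc]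
    field_simp
    linear_combination hQv
  · rw [Pi.single_eq_of_ne haf, mul_zero, sub_zero]
    show v a + v (eI j) * (c * w' a) = 0
    rw [hw']
    simp only
    by_cases hR : j.val < pos m a ∧ pos m a + j.val + 1 < 2 * m
    · rw [if_pos hR, hc]
      field_simp
      ring
    · rw [if_neg hR, mul_zero, mul_zero, add_zero]
      apply hS
      have h1 : pos m a ≠ pos m (fI j) := fun h => haf (pos_injective m h)
      rw [c5_pos_fI] at h1
      by_contra h2
      apply hR
      refine ⟨ha, ?_⟩
      omega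

/-! ### case B: make the `e_j`-coordinate nonzero -/

/-- the upper Siegel element keeps the vanishing of the coordinates beyond `f_j` -/
theorem c5_up_keep (j : Fin m) (z : OI m → F) (hz : Sup j z) (v : OI m → F) (t : F) (a : OI m)
    (ha : 2 * m - 1 - j.val < pos m a) (hva : v a = 0) :
    (v + v (fI j) • z - t • (Pi.single (eI j) (1 : F) : OI m → F)) a = 0 := by
  have hj := j.2
  show v a + v (fI j) * z a - t * (Pi.single (eI j) (1 : F) : OI m → F) a = 0
  have h1 : z a = 0 := by
    by_contra h
    have := (hz a h).2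
    omega
  have h2 : (Pi.single (eI j) (1 : F) : OI m → F) a = 0 := by
    apply Pi.single_eq_of_ne
    intro h
    rw [h, c5_pos_eI] at ha
    omega
  rw [hva, h1, h2]
  ring

theorem c5_caseB (j : Fin m) (hj2 : j.val + 2 ≤ m) (v : OI m → F)
    (hS : ∀ a, 2 * m - 1 - j.val < pos m a → v a = 0)
    (hx : v (eI j) = 0) (hne : ∃ a, j.val < pos m a ∧ v a ≠ 0) :
    ∃ h : OG m F, h ∈ Bsub m F ∧ FixCols j.val h ∧ (mat h *ᵥ v) (eI j) ≠ 0 ∧
      ∀ a, 2 * m - 1 - j.val < pos m a → (mat h *ᵥ v) a = 0 := by
  classical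
  have hj := j.2
  by_cases hmid : ∃ a, (j.val < pos m a ∧ pos m a + j.val + 1 < 2 * m) ∧ v a ≠ 0
  · obtain ⟨a, ⟨ha1, ha2⟩, hva⟩ := hmid
    set z : OI m → F := Pi.single (dualE m a) 1 with hzdef
    have hz : Sup j z := by
      intro b hb
      have hb' : b = dualE m a := by
        by_contra h
        apply hb
        rw [hzdef]
        exact Pi.single_eq_of_ne h _
      rw [hb', pos_dualE]
      have := pos_lt m a
      omega
    obtain ⟨h, hB, hfix, hact⟩ := c5_up j z hz
    refine ⟨h, hB, hfix, ?_, ?_⟩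
    · rw [hact]
      show v (eI j) + v (fI j) * z (eI j) - (polar (⇑(QPlus m F)) v z + QPlus m F z * v (fI j)) *
        (Pi.single (eI j) (1 : F) : OI m → F) (eI j) ≠ 0
      rw [hx, c5_sup_eI j z hz, Pi.single_eq_same, hzdef, c5_polar_single', c5_Q_single,
        dualE_dualE]
      intro h0
      apply hva
      linear_combination -h0
    · intro b hb
      rw [hact]
      exact c5_up_keep j z hz v _ b hb (hS b hb)
  · -- `v` vanishes strictly between `e_j` and `f_j`, so `v (fI j) ≠ 0`
    have hmid' : ∀ a, j.val < pos m a → pos m a + j.val + 1 < 2 * m → v a = 0 := by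
      intro a h1 h2
      by_contra h
      exact hmid ⟨a, ⟨h1, h2⟩, h⟩
    have hy : v (fI j) ≠ 0 := by
      obtain ⟨a, ha, hva⟩ := hne
      have h1 : ¬ (2 * m - 1 - j.val < pos m a) := fun h => hva (hS a h)
      have h2 : ¬ (pos m a + j.val + 1 < 2 * m) := fun h => hva (hmid' a ha h)
      have h3 : pos m a = pos m (fI j) := by
        rw [c5_pos_fI]
        omega
      rw [← pos_injective m h3]
      exact hva
    set k : Fin m := ⟨j.val + 1, by omega⟩ with hk
    set z : OI m → F := Pi.single (eI k) 1 + Pi.single (fI k) 1 with hzdef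
    have hz : Sup j z := by
      intro b hb
      by_cases hb1 : b = eI k
      · rw [hb1, c5_pos_eI]
        show j.val < j.val + 1 ∧ j.val + 1 + j.val + 1 < 2 * m
        omega
      · by_cases hb2 : b = fI k
        · rw [hb2, c5_pos_fI]
          show j.val < 2 * m - 1 - (j.val + 1) ∧ 2 * m - 1 - (j.val + 1) + j.val + 1 < 2 * m
          omega
        · exfalso
          apply hb
          show (Pi.single (eI k) (1 : F) : OI m → F) b + (Pi.single (fI k) (1 : F) : OI m → F) b = 0
          rw [Pi.single_eq_of_ne hb1, Pi.single_eq_of_ne hb2, add_zero]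
    have hQz : QPlus m F z = 1 := by
      rw [hzdef, QuadraticMap.map_add (⇑(QPlus m F)), c5_Q_single, c5_Q_single, c5_polar_single]
      show 0 + 0 + (Pi.single (fI k) (1 : F) : OI m → F) (fI k) = 1
      rw [Pi.single_eq_same]
      ring
    have hpol : polar (⇑(QPlus m F)) v z = 0 := by
      rw [hzdef, polar_add_right, c5_polar_single', c5_polar_single']
      show v (fI k) + v (eI k) = 0
      rw [hmid' (fI k) (by rw [c5_pos_fI]; show j.val < 2 * m - 1 - (j.val + 1); omega)
          (by rw [c5_pos_fI]; show 2 * m - 1 - (j.val + 1) + j.val + 1 < 2 * m; omega),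
        hmid' (eI k) (by rw [c5_pos_eI]; show j.val < j.val + 1; omega)
          (by rw [c5_pos_eI]; show j.val + 1 + j.val + 1 < 2 * m; omega), add_zero]
    obtain ⟨h, hB, hfix, hact⟩ := c5_up j z hz
    refine ⟨h, hB, hfix, ?_, ?_⟩
    · rw [hact]
      show v (eI j) + v (fI j) * z (eI j) - (polar (⇑(QPlus m F)) v z + QPlus m F z * v (fI j)) *
        (Pi.single (eI j) (1 : F) : OI m → F) (eI j) ≠ 0
      rw [hx, c5_sup_eI j z hz, Pi.single_eq_same, hpol, hQz]
      intro h0
      apply hy
      linear_combination -h0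
    · intro b hb
      rw [hact]
      exact c5_up_keep j z hz v _ b hb (hS b hb)

/-! ### the elimination -/

theorem c5_fixCols_one (j : ℕ) : FixCols j (1 : OG m F) := fun _ _ _ => rfl

theorem c5_elim (j : Fin m) (hj2 : j.val + 2 ≤ m) (v : OI m → F)
    (hS : ∀ a, 2 * m - 1 - j.val < pos m a → v a = 0) (hiso : QPlus m F v = 0) :
    ∃ h : OG m F, h ∈ Bsub m F ⊔ Bminus m F ∧ FixCols j.val h ∧
      ∀ a, j.val < pos m a → (mat h *ᵥ v) a = 0 := by
  by_cases hx : v (eI j) = 0
  · by_cases hne : ∃ a, j.val < pos m a ∧ v a ≠ 0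
    · obtain ⟨h1, hB1, hfix1, hx1, hS1⟩ := c5_caseB j hj2 v hS hx hne
      have hiso1 : QPlus m F (mat h1 *ᵥ v) = 0 := by rw [c5_quad_mat, hiso]
      obtain ⟨h2, hB2, hfix2, hz2⟩ := c5_caseA j (mat h1 *ᵥ v) hS1 hiso1 hx1
      refine ⟨h2 * h1, Subgroup.mul_mem _ (Subgroup.mem_sup_right hB2) (Subgroup.mem_sup_left hB1),
        c5_fixCols_mul _ _ _ hfix2 hfix1, ?_⟩
      intro a ha
      rw [mat_mul, ← Matrix.mulVec_mulVec]
      exact hz2 a ha
    · refine ⟨1, Subgroup.one_mem _, c5_fixCols_one _, ?_⟩
      intro a ha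
      rw [mat_one, Matrix.one_mulVec]
      by_contra h
      exact hne ⟨a, ha, h⟩
  · obtain ⟨h2, hB2, hfix2, hz2⟩ := c5_caseA j v hS hiso hx
    exact ⟨h2, Subgroup.mem_sup_right hB2, hfix2, hz2⟩

/-- LEAF C5a1 (254822): the elimination step -/
theorem flagStab_step (j : ℕ) (hj : j + 2 ≤ m) (g : OG m F) (hg : g ∈ FlagStab m F j) :
    ∃ h ∈ Bsub m F ⊔ Bminus m F, h * g ∈ FlagStab m F (j + 1) := by
  have hjm : j < m := by omega
  set jj : Fin m := ⟨j, hjm⟩ with hjj
  set v : OI m → F := fun r => mat g r (eI jj) with hv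
  have hvcol : mat g *ᵥ Pi.single (eI jj) 1 = v := by
    funext r
    simp [hv]
  -- `g⁻¹` also stabilises the partial flag
  have hbt : (mat g).BlockTriangular (fun a : OI m => min (pos m a) j) := by
    intro a b hab
    simp only at hab
    have h1 : pos m b < j := by
      by_contra h
      have : min (pos m b) j = j := min_eq_right (by omega)
      rw [this] at hab
      have := min_le_right (pos m a) j
      omega
    have h2 : pos m b < pos m a := by
      have : min (pos m b) j = pos m b := min_eq_left (by omega)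
      rw [this] at hab
      have := min_le_left (pos m a) j
      omega
    exact hg a b h1 h2
  have hinv := blockTriangular_inv _ g hbt
  have hS : ∀ a, 2 * m - 1 - jj.val < pos m a → v a = 0 := by
    intro a ha
    have ha' : 2 * m - 1 - j < pos m a := ha
    have h1 : v a = polar (⇑(QPlus m F)) (Pi.single (dualE m a) 1) v := by
      rw [c5_polar_single, dualE_dualE]
    have h2 : Pi.single (dualE m a) (1 : F) =
        mat g *ᵥ (mat g⁻¹ *ᵥ Pi.single (dualE m a) (1 : F)) := by
      rw [Matrix.mulVec_mulVec, mat_mul_mat_inv, Matrix.one_mulVec]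
    rw [h1, h2, ← hvcol, c5_polar_mat, c5_polar_single']
    have h3 : (mat g⁻¹ *ᵥ Pi.single (dualE m a) (1 : F)) (dualE m (eI jj)) =
        mat g⁻¹ (fI jj) (dualE m a) := by
      simp
    rw [h3]
    apply hinv
    simp only
    have hpa := pos_lt m a
    have e1 : pos m (dualE m a) = 2 * m - 1 - pos m a := pos_dualE m a
    have e2 : pos m (fI jj) = 2 * m - 1 - j := rfl
    rw [e1, e2]
    have : min (2 * m - 1 - pos m a) j = 2 * m - 1 - pos m a := min_eq_left (by omega)
    rw [this]
    have : min (2 * m - 1 - j) j = j := min_eq_right (by omega)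
    rw [this]
    omega
  have hiso : QPlus m F v = 0 := by
    rw [← hvcol, c5_quad_mat, c5_Q_single]
  obtain ⟨h, hK, hfix, hz⟩ := c5_elim jj hj v hS hiso
  refine ⟨h, hK, ?_⟩
  intro a b hb hab
  rw [mat_mul, Matrix.mul_apply]
  by_cases hb' : pos m b < j
  · have hterm : ∀ r : OI m, mat h a r * mat g r b =
        (1 : Matrix (OI m) (OI m) F) a r * mat g r b := by
      intro r
      by_cases hr : pos m r < j
      · rw [hfix a r hr]
      · have : mat g r b = 0 := hg r b hb' (by omega)
        rw [this, mul_zero, mul_zero]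
    simp_rw [hterm]
    rw [← Matrix.mul_apply, Matrix.one_mul]
    exact hg a b hb' hab
  · have hbj : b = eI jj := by
      apply pos_injective m
      show pos m b = j
      omega
    have : ∑ r, mat h a r * mat g r b = (mat h *ᵥ v) a := by
      rw [hbj]
      rfl
    rw [this]
    apply hz a
    show j < pos m a
    omega

end Cfsg.Agent.Lib.Helper94.StOp
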