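import Mathlib
import Cfsg.Agent.Lib.Helper49.StSUDefs

/-!
# K-StSU-C5a1 (keystone 254620, pack for S2546, architect helper49): the elimination step

Parallel hand by helper94.  Route: Eichler–Siegel elements
`ES(u,v,c) x = x + h(x,u) v - h(x,v) u + c h(x,u) u` with `u = e_j` (upper unitriangular) or
`u = e_{rev j}` (lower unitriangular) and `v` supported strictly between `j` and `rev j`.
-/

set_option autoImplicit false
set_option linter.unusedSectionVars false
set_option linter.unusedVariables false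

namespace Cfsg.Agent.Lib.Helper94.StSU

open Matrix Cfsg Cfsg.Agent.Lib.Helper49.StSU

variable {n : ℕ} {F : Type*} [Field F] {q : ℕ}

/-! ### the form -/

theorem frob_zero (ok : Ok n F q) : (0 : F) ^ q = 0 := by
  have h := ok.frob_add 0 0
  rw [add_zero] at h
  have : (0 : F) ^ q + 0 = (0 : F) ^ q + (0 : F) ^ q := by rw [add_zero]; exact h
  exact (add_left_cancel this).symm

theorem frob_neg (ok : Ok n F q) (x : F) : (-x) ^ q = -(x ^ q) := by
  have h := ok.frob_add x (-x)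
  rw [add_neg_cancel, frob_zero ok] at h
  exact eq_neg_of_add_eq_zero_right h.symm

theorem frob_sub (ok : Ok n F q) (x y : F) : (x - y) ^ q = x ^ q - y ^ q := by
  rw [sub_eq_add_neg, ok.frob_add, frob_neg ok, ← sub_eq_add_neg]

/-- Frobenius as an additive map -/
def frobHom (ok : Ok n F q) : F →+ F where
  toFun := fun x => x ^ q
  map_zero' := frob_zero ok
  map_add' := ok.frob_add

theorem frob_sum (ok : Ok n F q) {ι : Type*} (s : Finset ι) (f : ι → F) :
    (∑ i ∈ s, f i) ^ q = ∑ i ∈ s, (f i) ^ q :=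
  map_sum (frobHom ok) f s

theorem hJ_add_left (x y z : Fin n → F) : hJ n F q (x + y) z = hJ n F q x z + hJ n F q y z := by
  simp [hJ, add_mul, Finset.sum_add_distrib]

theorem hJ_sub_left (x y z : Fin n → F) : hJ n F q (x - y) z = hJ n F q x z - hJ n F q y z := by
  simp [hJ, sub_mul, Finset.sum_sub_distrib]

theorem hJ_smul_left (a : F) (x z : Fin n → F) : hJ n F q (a • x) z = a * hJ n F q x z := by
  simp [hJ, Finset.mul_sum, mul_assoc]

theorem hJ_add_right (ok : Ok n F q) (z x y : Fin n → F) :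
    hJ n F q z (x + y) = hJ n F q z x + hJ n F q z y := by
  simp [hJ, ok.frob_add, mul_add, Finset.sum_add_distrib]

theorem hJ_sub_right (ok : Ok n F q) (z x y : Fin n → F) :
    hJ n F q z (x - y) = hJ n F q z x - hJ n F q z y := by
  simp [hJ, frob_sub ok, mul_sub, Finset.sum_sub_distrib]

theorem hJ_smul_right (a : F) (z x : Fin n → F) :
    hJ n F q z (a • x) = a ^ q * hJ n F q z x := by
  simp only [hJ, Pi.smul_apply, smul_eq_mul, mul_pow, Finset.mul_sum]
  apply Finset.sum_congr rfl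
  intro i _
  ring

theorem hJ_zero_right (ok : Ok n F q) (z : Fin n → F) : hJ n F q z 0 = 0 := by
  simp [hJ, frob_zero ok]

theorem hJ_zero_left (z : Fin n → F) : hJ n F q 0 z = 0 := by
  simp [hJ]

theorem hJ_single_right (ok : Ok n F q) (x : Fin n → F) (m : Fin n) :
    hJ n F q x (Pi.single m 1) = x (Fin.rev m) := by
  unfold hJ
  rw [Finset.sum_eq_single (Fin.rev m)]
  · simp
  · intro b _ hb
    have : Fin.rev b ≠ m := by
      intro h
      apply hb
      rw [← h, Fin.rev_rev]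
    rw [Pi.single_eq_of_ne this, frob_zero ok, mul_zero]
  · intro h
    exact absurd (Finset.mem_univ _) h

theorem hJ_single_left (x : Fin n → F) (m : Fin n) :
    hJ n F q (Pi.single m 1) x = (x (Fin.rev m)) ^ q := by
  unfold hJ
  rw [Finset.sum_eq_single m]
  · simp
  · intro b _ hb
    rw [Pi.single_eq_of_ne hb, zero_mul]
  · intro h
    exact absurd (Finset.mem_univ _) h

theorem hJ_conj (ok : Ok n F q) (x y : Fin n → F) : hJ n F q y x = (hJ n F q x y) ^ q := by
  unfold hJ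
  rw [frob_sum ok]
  rw [← Equiv.sum_comp Fin.revPerm]
  apply Finset.sum_congr rfl
  intro i _
  simp only [Fin.revPerm_apply, Fin.rev_rev, mul_pow, ok.frob_frob]
  ring

/-! ### Eichler–Siegel matrices -/

/-- the row vector `s ↦ (u (rev s))^q`, so that `cj u ⬝ᵥ x = h(x,u)` -/
def cj (q : ℕ) (u : Fin n → F) : Fin n → F := fun s => (u (Fin.rev s)) ^ q

theorem cj_dot (u x : Fin n → F) : cj q u ⬝ᵥ x = hJ n F q x u := by
  simp only [cj, dotProduct, hJ]
  apply Finset.sum_congr rfl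
  intro i _
  ring

/-- the matrix of `x ↦ x + h(x,u) v - h(x,v) u + c h(x,u) u` -/
def esMat (q : ℕ) (u v : Fin n → F) (c : F) : Matrix (Fin n) (Fin n) F :=
  1 + vecMulVec v (cj q u) - vecMulVec u (cj q v) + c • vecMulVec u (cj q u)

theorem vecMulVec_mulVec' (a b x : Fin n → F) : vecMulVec a b *ᵥ x = (b ⬝ᵥ x) • a := by
  funext r
  simp only [mulVec, dotProduct, vecMulVec_apply, Pi.smul_apply, smul_eq_mul, Finset.sum_mul]
  apply Finset.sum_congr rfl
  intro i _
  ring

theorem esMat_mulVec (u v : Fin n → F) (c : F) (x : Fin n → F) :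
    esMat q u v c *ᵥ x =
      x + hJ n F q x u • v - hJ n F q x v • u + (c * hJ n F q x u) • u := by
  unfold esMat
  rw [add_mulVec, sub_mulVec, add_mulVec, one_mulVec, smul_mulVec, vecMulVec_mulVec',
    vecMulVec_mulVec', vecMulVec_mulVec', cj_dot, cj_dot, smul_smul]

theorem esMat_pres (ok : Ok n F q) (u v : Fin n → F) (c : F) (huu : hJ n F q u u = 0)
    (huv : hJ n F q u v = 0) (hc : c + c ^ q = -(hJ n F q v v)) (x y : Fin n → F) :
    hJ n F q (esMat q u v c *ᵥ x) (esMat q u v c *ᵥ y) = hJ n F q x y := by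
  have hvu : hJ n F q v u = 0 := by rw [hJ_conj ok u v, huv, frob_zero ok]
  rw [esMat_mulVec, esMat_mulVec]
  simp only [hJ_add_left, hJ_sub_left, hJ_smul_left, hJ_add_right ok, hJ_sub_right ok,
    hJ_smul_right, huu, huv, hvu]
  rw [hJ_conj ok y u, hJ_conj ok y v]
  have hc' : c ^ q = -(hJ n F q v v) - c := by rw [← hc]; ring
  rw [mul_pow, hc']
  ring

/-! ### entries for `u = e_m` -/

theorem cj_single (ok : Ok n F q) (m s : Fin n) :
    cj q (Pi.single m (1 : F)) s = if Fin.rev s = m then 1 else 0 := by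
  unfold cj
  by_cases h : Fin.rev s = m
  · rw [if_pos h, h, Pi.single_eq_same, one_pow]
  · rw [if_neg h, Pi.single_eq_of_ne h, frob_zero ok]

theorem es_entry (ok : Ok n F q) (m : Fin n) (v : Fin n → F) (c : F) (r s : Fin n) :
    esMat q (Pi.single m 1) v c r s = (1 : Matrix (Fin n) (Fin n) F) r s +
      v r * (if Fin.rev s = m then 1 else 0) - (if r = m then 1 else 0) * (v (Fin.rev s)) ^ q +
      c * ((if r = m then 1 else 0) * (if Fin.rev s = m then 1 else 0)) := by
  unfold esMat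
  simp only [Matrix.add_apply, Matrix.sub_apply, Matrix.smul_apply, vecMulVec_apply, smul_eq_mul,
    cj_single ok]
  have h1 : (Pi.single m (1 : F) : Fin n → F) r = if r = m then 1 else 0 := by
    rw [Pi.single_apply]
  rw [h1]
  rfl

/-- the off-identity entries of `ES(e_m, v, c)` -/
theorem es_entry_cases (ok : Ok n F q) (j : ℕ) (m : Fin n) (v : Fin n → F)
    (hv : ∀ r : Fin n, v r ≠ 0 → j < r.val ∧ r.val < n - 1 - j) (c : F) (r s : Fin n) :
    esMat q (Pi.single m 1) v c r s = (1 : Matrix (Fin n) (Fin n) F) r s ∨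
      (j < r.val ∧ r.val < n - 1 - j ∧ s.val = n - 1 - m.val) ∨
      (r = m ∧ j < s.val ∧ s.val < n - 1 - j) ∨ (r = m ∧ s.val = n - 1 - m.val) := by
  by_contra hne
  push Not at hne
  obtain ⟨h0, hA, hB, hC⟩ := hne
  apply h0
  rw [es_entry ok]
  have hrev : Fin.rev s = m → s.val = n - 1 - m.val := by
    intro h
    have h1 := Fin.val_rev s
    rw [h] at h1
    have := s.isLt
    omega
  have T1 : v r * (if Fin.rev s = m then (1 : F) else 0) = 0 := by
    by_cases h1 : Fin.rev s = m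
    · by_cases h2 : v r = 0
      · rw [h2, zero_mul]
      · exfalso
        obtain ⟨a, b⟩ := hv r h2
        exact hA a b (hrev h1)
    · rw [if_neg h1, mul_zero]
  have T2 : (if r = m then (1 : F) else 0) * (v (Fin.rev s)) ^ q = 0 := by
    by_cases h1 : r = m
    · by_cases h2 : v (Fin.rev s) = 0
      · rw [h2, frob_zero ok, mul_zero]
      · exfalso
        obtain ⟨a, b⟩ := hv _ h2
        have h3 := Fin.val_rev s
        have := s.isLt
        have := hB h1 (by omega)
        omega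
    · rw [if_neg h1, zero_mul]
  have T3 : c * ((if r = m then (1 : F) else 0) * (if Fin.rev s = m then (1 : F) else 0)) = 0 := by
    by_cases h1 : r = m
    · by_cases h2 : Fin.rev s = m
      · exfalso
        exact hC h1 (hrev h2)
      · rw [if_neg h2, mul_zero, mul_zero]
    · rw [if_neg h1, zero_mul, mul_zero]
  rw [T1, T2, T3]
  ring

/-- the first `j` columns are those of the identity -/
def FixCols (j : ℕ) (h : GJ n F q) : Prop :=
  ∀ r s : Fin n, s.val < j → mat h r s = (1 : Matrix (Fin n) (Fin n) F) r s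

theorem fixCols_one (j : ℕ) : FixCols j (1 : GJ n F q) := fun _ _ _ => rfl

theorem fixCols_mul (j : ℕ) (h1 h2 : GJ n F q) (a1 : FixCols j h1) (a2 : FixCols j h2) :
    FixCols j (h1 * h2) := by
  intro r s hs
  rw [mat_mul, Matrix.mul_apply]
  have : ∀ i : Fin n, mat h1 r i * mat h2 i s =
      mat h1 r i * (1 : Matrix (Fin n) (Fin n) F) i s := by
    intro i
    rw [a2 i s hs]
  simp_rw [this]
  rw [← Matrix.mul_apply, Matrix.mul_one]
  exact a1 r s hs

/-- the upper element `ES(e_j, v, c)` -/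
theorem es_elem_up (ok : Ok n F q) (j : ℕ) (hj : j < n / 2) (hjn : j < n) (v : Fin n → F)
    (hv : ∀ r : Fin n, v r ≠ 0 → j < r.val ∧ r.val < n - 1 - j) (c : F)
    (hc : c + c ^ q = -(hJ n F q v v)) :
    ∃ h : GJ n F q, h ∈ Bsub n F q ∧ FixCols j h ∧
      mat h = esMat q (Pi.single (⟨j, hjn⟩ : Fin n) 1) v c := by
  set m : Fin n := ⟨j, hjn⟩ with hm
  have hmv : m.val = j := rfl
  have hent := es_entry_cases ok j m v hv c
  have hup : ∀ r s : Fin n, s < r → esMat q (Pi.single m 1) v c r s = 0 := by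
    intro r s hsr
    have hsr' : s.val < r.val := hsr
    rcases hent r s with h | ⟨a, b, e⟩ | ⟨e, a, b⟩ | ⟨e, a⟩
    · rw [h, Matrix.one_apply_ne (ne_of_gt hsr)]
    · exfalso; omega
    · exfalso; rw [e] at hsr'; omega
    · exfalso; rw [e] at hsr'; omega
  have hdiag : ∀ r : Fin n, esMat q (Pi.single m 1) v c r r = 1 := by
    intro r
    rcases hent r r with h | ⟨a, b, e⟩ | ⟨e, a, b⟩ | ⟨e, a⟩
    · rw [h, Matrix.one_apply_eq]
    · exfalso; omega
    · exfalso; rw [e] at a; omega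
    · exfalso; rw [e] at a; omega
  have hdet : (esMat q (Pi.single m 1) v c).det = 1 := by
    rw [Matrix.det_of_isUpperTriangular (fun r s hsr => hup r s hsr)]
    exact Finset.prod_eq_one (fun r _ => hdiag r)
  have huu : hJ n F q (Pi.single m (1 : F)) (Pi.single m 1) = 0 := by
    rw [hJ_single_left]
    have : Fin.rev m ≠ m := by
      intro h
      have h1 := Fin.val_rev m
      rw [h] at h1
      omega
    rw [Pi.single_eq_of_ne this, frob_zero ok]
  have huv : hJ n F q (Pi.single m (1 : F)) v = 0 := by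
    rw [hJ_single_left]
    have : v (Fin.rev m) = 0 := by
      by_contra h
      obtain ⟨a, b⟩ := hv _ h
      have h1 := Fin.val_rev m
      omega
    rw [this, frob_zero ok]
  refine ⟨⟨⟨esMat q (Pi.single m 1) v c, hdet⟩, esMat_pres ok _ v c huu huv hc⟩, ?_, ?_, rfl⟩
  · rw [mem_Bsub_iff]
    intro a b hab
    exact hup a b hab
  · intro r s hs
    show esMat q (Pi.single m 1) v c r s = _
    rcases hent r s with h | ⟨a, b, e⟩ | ⟨e, a, b⟩ | ⟨e, a⟩
    · exact h
    · exfalso; omega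
    · exfalso; omega
    · exfalso; omega

/-- the lower element `ES(e_{rev j}, v, c)` -/
theorem es_elem_down (ok : Ok n F q) (j : ℕ) (hj : j < n / 2) (hkn : n - 1 - j < n) (v : Fin n → F)
    (hv : ∀ r : Fin n, v r ≠ 0 → j < r.val ∧ r.val < n - 1 - j) (c : F)
    (hc : c + c ^ q = -(hJ n F q v v)) :
    ∃ h : GJ n F q, h ∈ Bminus n F q ∧ FixCols j h ∧
      mat h = esMat q (Pi.single (⟨n - 1 - j, hkn⟩ : Fin n) 1) v c := by
  set m : Fin n := ⟨n - 1 - j, hkn⟩ with hm
  have hmv : m.val = n - 1 - j := rfl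
  have hent := es_entry_cases ok j m v hv c
  have hlow : ∀ r s : Fin n, r < s → esMat q (Pi.single m 1) v c r s = 0 := by
    intro r s hsr
    have hsr' : r.val < s.val := hsr
    rcases hent r s with h | ⟨a, b, e⟩ | ⟨e, a, b⟩ | ⟨e, a⟩
    · rw [h, Matrix.one_apply_ne (ne_of_lt hsr)]
    · exfalso; omega
    · exfalso; rw [e] at hsr'; omega
    · exfalso; rw [e] at hsr'; omega
  have hdiag : ∀ r : Fin n, esMat q (Pi.single m 1) v c r r = 1 := by
    intro r
    rcases hent r r with h | ⟨a, b, e⟩ | ⟨e, a, b⟩ | ⟨e, a⟩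
    · rw [h, Matrix.one_apply_eq]
    · exfalso; omega
    · exfalso; rw [e] at a; omega
    · exfalso; rw [e] at a; omega
  have hdet : (esMat q (Pi.single m 1) v c).det = 1 := by
    rw [Matrix.det_of_isLowerTriangular _
      (fun r s hsr => hlow r s (OrderDual.toDual_lt_toDual.mp hsr))]
    exact Finset.prod_eq_one (fun r _ => hdiag r)
  have huu : hJ n F q (Pi.single m (1 : F)) (Pi.single m 1) = 0 := by
    rw [hJ_single_left]
    have : Fin.rev m ≠ m := by
      intro h
      have h1 := Fin.val_rev m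
      rw [h] at h1
      omega
    rw [Pi.single_eq_of_ne this, frob_zero ok]
  have huv : hJ n F q (Pi.single m (1 : F)) v = 0 := by
    rw [hJ_single_left]
    have : v (Fin.rev m) = 0 := by
      by_contra h
      obtain ⟨a, b⟩ := hv _ h
      have h1 := Fin.val_rev m
      omega
    rw [this, frob_zero ok]
  refine ⟨⟨⟨esMat q (Pi.single m 1) v c, hdet⟩, esMat_pres ok _ v c huu huv hc⟩, ?_, ?_, rfl⟩
  · rw [mem_Bminus_iff]
    intro a b hab
    exact hlow a b hab
  · intro r s hs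
    show esMat q (Pi.single m 1) v c r s = _
    rcases hent r s with h | ⟨a, b, e⟩ | ⟨e, a, b⟩ | ⟨e, a⟩
    · exact h
    · exfalso; omega
    · exfalso; omega
    · exfalso; omega

/-! ### reachability -/

/-- `w'` is the image of `w` under an element of `B ⊔ B⁻` fixing `e_0, …, e_{j-1}` -/
def Reach (j : ℕ) (w w' : Fin n → F) : Prop :=
  ∃ h : GJ n F q, h ∈ Bsub n F q ⊔ Bminus n F q ∧ FixCols j h ∧ mat h *ᵥ w = w'

theorem reach_refl (j : ℕ) (w : Fin n → F) : Reach (q := q) j w w :=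
  ⟨1, Subgroup.one_mem _, fixCols_one j, by rw [mat_one, one_mulVec]⟩

theorem reach_trans (j : ℕ) {w w1 w2 : Fin n → F} (h1 : Reach (q := q) j w w1)
    (h2 : Reach (q := q) j w1 w2) : Reach (q := q) j w w2 := by
  obtain ⟨a, a1, a2, a3⟩ := h1
  obtain ⟨b, b1, b2, b3⟩ := h2
  refine ⟨b * a, Subgroup.mul_mem _ b1 a1, fixCols_mul j b a b2 a2, ?_⟩
  rw [mat_mul, ← mulVec_mulVec, a3, b3]

theorem reach_iso (j : ℕ) {w w1 : Fin n → F} (h1 : Reach (q := q) j w w1) :
    hJ n F q w1 w1 = hJ n F q w w := by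
  obtain ⟨a, _, _, a3⟩ := h1
  rw [← a3]
  exact hJ_mat a w w

theorem reach_up (ok : Ok n F q) (j : ℕ) (hj : j < n / 2) (hjn : j < n) (hkn : n - 1 - j < n)
    (v : Fin n → F) (hv : ∀ r : Fin n, v r ≠ 0 → j < r.val ∧ r.val < n - 1 - j) (c : F)
    (hc : c + c ^ q = -(hJ n F q v v)) (w : Fin n → F) :
    Reach (q := q) j w (w + w ⟨n - 1 - j, hkn⟩ • v - hJ n F q w v • Pi.single (⟨j, hjn⟩ : Fin n) 1 +
      (c * w ⟨n - 1 - j, hkn⟩) • Pi.single (⟨j, hjn⟩ : Fin n) 1) := by
  obtain ⟨h, h1, h2, h3⟩ := es_elem_up ok j hj hjn v hv c hc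
  refine ⟨h, (le_sup_left : Bsub n F q ≤ _) h1, h2, ?_⟩
  rw [h3, esMat_mulVec, hJ_single_right ok]
  have : Fin.rev (⟨j, hjn⟩ : Fin n) = ⟨n - 1 - j, hkn⟩ := by
    apply Fin.ext
    rw [Fin.val_rev]
    simp only
    omega
  rw [this]

theorem reach_down (ok : Ok n F q) (j : ℕ) (hj : j < n / 2) (hjn : j < n) (hkn : n - 1 - j < n)
    (v : Fin n → F) (hv : ∀ r : Fin n, v r ≠ 0 → j < r.val ∧ r.val < n - 1 - j) (c : F)
    (hc : c + c ^ q = -(hJ n F q v v)) (w : Fin n → F) :
    Reach (q := q) j w (w + w ⟨j, hjn⟩ • v - hJ n F q w v • Pi.single (⟨n - 1 - j, hkn⟩ : Fin n) 1 +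
      (c * w ⟨j, hjn⟩) • Pi.single (⟨n - 1 - j, hkn⟩ : Fin n) 1) := by
  obtain ⟨h, h1, h2, h3⟩ := es_elem_down ok j hj hkn v hv c hc
  refine ⟨h, (le_sup_right : Bminus n F q ≤ _) h1, h2, ?_⟩
  rw [h3, esMat_mulVec, hJ_single_right ok]
  have : Fin.rev (⟨n - 1 - j, hkn⟩ : Fin n) = ⟨j, hjn⟩ := by
    apply Fin.ext
    rw [Fin.val_rev]
    simp only
    omega
  rw [this]

theorem exists_tr (ok : Ok n F q) (v : Fin n → F) : ∃ c : F, c + c ^ q = -(hJ n F q v v) := by
  apply ok.tr_surj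
  rw [frob_neg ok, ← hJ_conj ok v v]

/-! ### the four steps -/

theorem stepX (ok : Ok n F q) (j : ℕ) (hj : j < n / 2) (hjn : j < n) (hkn : n - 1 - j < n)
    (w : Fin n → F) (hS : ∀ r : Fin n, n - 1 - j < r.val → w r = 0)
    (hk : w ⟨n - 1 - j, hkn⟩ ≠ 0) :
    ∃ w1 : Fin n → F, Reach (q := q) j w w1 ∧
      (∀ r : Fin n, j < r.val → r.val ≠ n - 1 - j → w1 r = 0) ∧ w1 ⟨n - 1 - j, hkn⟩ ≠ 0 := by
  let v : Fin n → F := fun r =>
    if j < r.val ∧ r.val < n - 1 - j then -((w ⟨n - 1 - j, hkn⟩)⁻¹) * w r else 0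
  have hv : ∀ r : Fin n, v r ≠ 0 → j < r.val ∧ r.val < n - 1 - j := by
    intro r hr
    by_contra hcon
    apply hr
    simp only [v]
    rw [if_neg hcon]
  obtain ⟨c, hc⟩ := exists_tr ok v
  refine ⟨_, reach_up ok j hj hjn hkn v hv c hc w, ?_, ?_⟩
  · intro r hr1 hr2
    have hrj : r ≠ (⟨j, hjn⟩ : Fin n) := by
      intro h
      rw [h] at hr1
      exact lt_irrefl _ hr1
    simp only [Pi.add_apply, Pi.sub_apply, Pi.smul_apply, smul_eq_mul, Pi.single_eq_of_ne hrj,
      mul_zero, sub_zero, add_zero]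
    by_cases h3 : r.val < n - 1 - j
    · have hvr : v r = -((w ⟨n - 1 - j, hkn⟩)⁻¹) * w r := by
        simp only [v]
        rw [if_pos ⟨hr1, h3⟩]
      rw [hvr]
      have h4 : w ⟨n - 1 - j, hkn⟩ * (-((w ⟨n - 1 - j, hkn⟩)⁻¹) * w r) = -(w r) := by
        rw [neg_mul, mul_neg, ← mul_assoc, mul_inv_cancel₀ hk, one_mul]
      rw [h4, add_neg_cancel]
    · have hwr : w r = 0 := hS r (by omega)
      have hvr : v r = 0 := by
        simp only [v]
        rw [if_neg (fun h => h3 h.2)]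
      rw [hwr, hvr, mul_zero, add_zero]
  · have hkj : (⟨n - 1 - j, hkn⟩ : Fin n) ≠ ⟨j, hjn⟩ := by
      intro h
      have := congrArg Fin.val h
      simp only at this
      omega
    simp only [Pi.add_apply, Pi.sub_apply, Pi.smul_apply, smul_eq_mul, Pi.single_eq_of_ne hkj,
      mul_zero, sub_zero, add_zero]
    have hvk : v ⟨n - 1 - j, hkn⟩ = 0 := by
      simp only [v]
      rw [if_neg (fun h => lt_irrefl _ h.2)]
    rw [hvk, mul_zero, add_zero]
    exact hk

theorem supp_zero (j : ℕ) :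
    ∀ r : Fin n, (0 : Fin n → F) r ≠ 0 → j < r.val ∧ r.val < n - 1 - j :=
  fun _ hr => absurd rfl hr

theorem aPar_tr (ok : Ok n F q) :
    aPar F q + (aPar F q) ^ q = -(hJ n F q (0 : Fin n → F) 0) := by
  rw [ok.a_pow, hJ_zero_left]
  ring

theorem stepU (ok : Ok n F q) (j : ℕ) (hj : j < n / 2) (hjn : j < n) (hkn : n - 1 - j < n)
    (w : Fin n → F) (hT : ∀ r : Fin n, j < r.val → r.val ≠ n - 1 - j → w r = 0)
    (hk : w ⟨n - 1 - j, hkn⟩ ≠ 0) :
    ∃ w2 : Fin n → F, Reach (q := q) j w w2 ∧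
      (∀ r : Fin n, j < r.val → r.val ≠ n - 1 - j → w2 r = 0) ∧ w2 ⟨n - 1 - j, hkn⟩ ≠ 0 ∧
      w2 ⟨j, hjn⟩ ≠ 0 := by
  have hkj : (⟨n - 1 - j, hkn⟩ : Fin n) ≠ ⟨j, hjn⟩ := by
    intro h
    have := congrArg Fin.val h
    simp only at this
    omega
  by_cases h0 : w ⟨j, hjn⟩ = 0
  · refine ⟨_, reach_up ok j hj hjn hkn 0 (supp_zero j) (aPar F q) (aPar_tr ok) w, ?_, ?_, ?_⟩
    · intro r hr1 hr2
      have hrj : r ≠ (⟨j, hjn⟩ : Fin n) := by
        intro h
        rw [h] at hr1
        exact lt_irrefl _ hr1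
      simp only [Pi.add_apply, Pi.sub_apply, Pi.smul_apply, smul_eq_mul, Pi.single_eq_of_ne hrj,
        mul_zero, sub_zero, add_zero, Pi.zero_apply]
      exact hT r hr1 hr2
    · simp only [Pi.add_apply, Pi.sub_apply, Pi.smul_apply, smul_eq_mul, Pi.single_eq_of_ne hkj,
        mul_zero, sub_zero, add_zero, Pi.zero_apply]
      exact hk
    · simp only [Pi.add_apply, Pi.sub_apply, Pi.smul_apply, smul_eq_mul, Pi.single_eq_same,
        mul_zero, add_zero, Pi.zero_apply, mul_one, hJ_zero_right ok, h0, sub_zero, zero_add]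
      exact mul_ne_zero ok.a_ne hk
  · exact ⟨w, reach_refl j w, hT, hk, h0⟩

theorem stepL (ok : Ok n F q) (j : ℕ) (hj : j < n / 2) (hjn : j < n) (hkn : n - 1 - j < n)
    (w : Fin n → F) (hT : ∀ r : Fin n, j < r.val → r.val ≠ n - 1 - j → w r = 0)
    (hjw : w ⟨j, hjn⟩ ≠ 0) (hiso : hJ n F q w w = 0) :
    ∃ w3 : Fin n → F, Reach (q := q) j w w3 ∧ ∀ r : Fin n, j < r.val → w3 r = 0 := by
  have hjk : (⟨j, hjn⟩ : Fin n) ≠ ⟨n - 1 - j, hkn⟩ := by
    intro h
    have := congrArg Fin.val h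
    simp only at this
    omega
  have hrevj : Fin.rev (⟨j, hjn⟩ : Fin n) = ⟨n - 1 - j, hkn⟩ := by
    apply Fin.ext
    rw [Fin.val_rev]
    simp only
    omega
  have hrevk : Fin.rev (⟨n - 1 - j, hkn⟩ : Fin n) = ⟨j, hjn⟩ := by
    apply Fin.ext
    rw [Fin.val_rev]
    simp only
    omega
  have hsum : hJ n F q w w = w ⟨j, hjn⟩ * (w ⟨n - 1 - j, hkn⟩) ^ q +
      w ⟨n - 1 - j, hkn⟩ * (w ⟨j, hjn⟩) ^ q := by
    unfold hJ
    rw [Finset.sum_eq_add (⟨j, hjn⟩ : Fin n) ⟨n - 1 - j, hkn⟩ hjk, hrevj, hrevk]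
    · intro r _ h12
      obtain ⟨h1, h2⟩ := h12
      by_cases h3 : r.val < j
      · have h4 : w (Fin.rev r) = 0 := by
          apply hT
          · rw [Fin.val_rev]; omega
          · rw [Fin.val_rev]; omega
        rw [h4, frob_zero ok, mul_zero]
      · have h4 : r.val ≠ j := fun h => h1 (Fin.ext h)
        have h5 : r.val ≠ n - 1 - j := fun h => h2 (Fin.ext h)
        rw [hT r (by omega) h5, zero_mul]
    · intro h
      exact absurd (Finset.mem_univ _) h
    · intro h
      exact absurd (Finset.mem_univ _) h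
  rw [hsum] at hiso
  have hα : (w ⟨j, hjn⟩) ^ q ≠ 0 := pow_ne_zero _ hjw
  have hc : -(w ⟨n - 1 - j, hkn⟩ / w ⟨j, hjn⟩) + (-(w ⟨n - 1 - j, hkn⟩ / w ⟨j, hjn⟩)) ^ q =
      -(hJ n F q (0 : Fin n → F) 0) := by
    rw [hJ_zero_left, neg_zero, frob_neg ok, div_pow]
    field_simp
    linear_combination (-1 : F) * hiso
  refine ⟨_, reach_down ok j hj hjn hkn 0 (supp_zero j) _ hc w, ?_⟩
  intro r hr
  by_cases h1 : r = ⟨n - 1 - j, hkn⟩
  · rw [h1]
    simp only [Pi.add_apply, Pi.sub_apply, Pi.smul_apply, smul_eq_mul, Pi.single_eq_same,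
      mul_zero, add_zero, Pi.zero_apply, mul_one, hJ_zero_right ok, sub_zero]
    field_simp
    ring
  · have h2 : r.val ≠ n - 1 - j := fun h => h1 (Fin.ext h)
    simp only [Pi.add_apply, Pi.sub_apply, Pi.smul_apply, smul_eq_mul, Pi.single_eq_of_ne h1,
      mul_zero, sub_zero, add_zero, Pi.zero_apply]
    exact hT r hr h2

theorem stepY (ok : Ok n F q) (j : ℕ) (hj : j < n / 2) (hjn : j < n) (hkn : n - 1 - j < n)
    (w : Fin n → F) (hS : ∀ r : Fin n, n - 1 - j < r.val → w r = 0)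
    (hk0 : w ⟨n - 1 - j, hkn⟩ = 0) (a : Fin n) (ha1 : j < a.val) (ha2 : a.val < n - 1 - j)
    (hwa : w a ≠ 0) :
    ∃ w1 : Fin n → F, Reach (q := q) j w w1 ∧ (∀ r : Fin n, n - 1 - j < r.val → w1 r = 0) ∧
      w1 ⟨n - 1 - j, hkn⟩ ≠ 0 := by
  by_cases h0 : w ⟨j, hjn⟩ = 0
  · have hv : ∀ r : Fin n, (Pi.single (Fin.rev a) (1 : F) : Fin n → F) r ≠ 0 →
        j < r.val ∧ r.val < n - 1 - j := by
      intro r hr
      have : r = Fin.rev a := by
        by_contra h
        exact hr (Pi.single_eq_of_ne h _)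
      rw [this, Fin.val_rev]
      omega
    obtain ⟨c, hc⟩ := exists_tr ok (Pi.single (Fin.rev a) (1 : F))
    refine ⟨_, reach_down ok j hj hjn hkn _ hv c hc w, ?_, ?_⟩
    · intro r hr
      have hrk : r ≠ (⟨n - 1 - j, hkn⟩ : Fin n) := by
        intro h
        rw [h] at hr
        exact lt_irrefl _ hr
      have hra : r ≠ Fin.rev a := by
        intro h
        rw [h, Fin.val_rev] at hr
        omega
      simp only [Pi.add_apply, Pi.sub_apply, Pi.smul_apply, smul_eq_mul, Pi.single_eq_of_ne hrk,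
        Pi.single_eq_of_ne hra, mul_zero, sub_zero, add_zero]
      exact hS r hr
    · have hka : (⟨n - 1 - j, hkn⟩ : Fin n) ≠ Fin.rev a := by
        intro h
        have := congrArg Fin.val h
        rw [Fin.val_rev] at this
        simp only at this
        omega
      simp only [Pi.add_apply, Pi.sub_apply, Pi.smul_apply, smul_eq_mul, Pi.single_eq_same,
        Pi.single_eq_of_ne hka, mul_zero, add_zero, mul_one, hk0, h0,
        hJ_single_right ok, Fin.rev_rev, zero_sub]
      exact neg_ne_zero.mpr hwa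
  · refine ⟨_, reach_down ok j hj hjn hkn 0 (supp_zero j) (aPar F q) (aPar_tr ok) w, ?_, ?_⟩
    · intro r hr
      have hrk : r ≠ (⟨n - 1 - j, hkn⟩ : Fin n) := by
        intro h
        rw [h] at hr
        exact lt_irrefl _ hr
      simp only [Pi.add_apply, Pi.sub_apply, Pi.smul_apply, smul_eq_mul, Pi.single_eq_of_ne hrk,
        mul_zero, sub_zero, add_zero, Pi.zero_apply]
      exact hS r hr
    · simp only [Pi.add_apply, Pi.sub_apply, Pi.smul_apply, smul_eq_mul, Pi.single_eq_same,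
        mul_zero, add_zero, Pi.zero_apply, mul_one, hJ_zero_right ok, hk0, sub_zero, zero_add]
      exact mul_ne_zero ok.a_ne h0

/-! ### the elimination -/

theorem elim (ok : Ok n F q) (j : ℕ) (hj : j < n / 2) (w : Fin n → F)
    (hS : ∀ r : Fin n, n - 1 - j < r.val → w r = 0) (hiso : hJ n F q w w = 0) :
    ∃ h : GJ n F q, h ∈ Bsub n F q ⊔ Bminus n F q ∧ FixCols j h ∧
      ∀ b : Fin n, j < b.val → (mat h *ᵥ w) b = 0 := by
  have hjn : j < n := by omega
  have hkn : n - 1 - j < n := by omega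
  have common : ∀ w0 : Fin n → F, (∀ r : Fin n, n - 1 - j < r.val → w0 r = 0) →
      hJ n F q w0 w0 = 0 → w0 ⟨n - 1 - j, hkn⟩ ≠ 0 →
      ∃ w3 : Fin n → F, Reach (q := q) j w0 w3 ∧ ∀ r : Fin n, j < r.val → w3 r = 0 := by
    intro w0 hS0 hiso0 hk0
    obtain ⟨w1, r1, t1, k1⟩ := stepX ok j hj hjn hkn w0 hS0 hk0
    obtain ⟨w2, r2, t2, k2, j2⟩ := stepU ok j hj hjn hkn w1 t1 k1
    have iso2 : hJ n F q w2 w2 = 0 := by rw [reach_iso j r2, reach_iso j r1, hiso0]
    obtain ⟨w3, r3, t3⟩ := stepL ok j hj hjn hkn w2 t2 j2 iso2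
    exact ⟨w3, reach_trans j (reach_trans j r1 r2) r3, t3⟩
  have fin : ∀ w3 : Fin n → F, Reach (q := q) j w w3 → (∀ r : Fin n, j < r.val → w3 r = 0) →
      ∃ h : GJ n F q, h ∈ Bsub n F q ⊔ Bminus n F q ∧ FixCols j h ∧
        ∀ b : Fin n, j < b.val → (mat h *ᵥ w) b = 0 := by
    rintro w3 ⟨h, h1, h2, h3⟩ hz
    exact ⟨h, h1, h2, fun b hb => by rw [h3]; exact hz b hb⟩
  by_cases hk : w ⟨n - 1 - j, hkn⟩ = 0
  · by_cases hmid : ∃ a : Fin n, j < a.val ∧ a.val < n - 1 - j ∧ w a ≠ 0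
    · obtain ⟨a, ha1, ha2, hwa⟩ := hmid
      obtain ⟨w1, r1, s1, k1⟩ := stepY ok j hj hjn hkn w hS hk a ha1 ha2 hwa
      obtain ⟨w3, r3, t3⟩ := common w1 s1 (by rw [reach_iso j r1, hiso]) k1
      exact fin w3 (reach_trans j r1 r3) t3
    · push Not at hmid
      apply fin w (reach_refl j w)
      intro r hr
      by_cases h1 : r.val < n - 1 - j
      · exact hmid r hr h1
      · by_cases h2 : r.val = n - 1 - j
        · have : r = ⟨n - 1 - j, hkn⟩ := Fin.ext h2
          rw [this]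
          exact hk
        · exact hS r (by omega)
  · obtain ⟨w3, r3, t3⟩ := common w hS hiso hk
    exact fin w3 r3 t3

/-- LEAF C5a1 (254620): the elimination step -/
theorem flagStab_step (ok : Ok n F q) (j : ℕ) (hj : j < n / 2) (g : GJ n F q)
    (hg : g ∈ FlagStab n F q j) :
    ∃ h ∈ Bsub n F q ⊔ Bminus n F q, h * g ∈ FlagStab n F q (j + 1) := by
  have hjn : j < n := by omega
  have hkn : n - 1 - j < n := by omega
  -- the column `j` of `g`
  set w : Fin n → F := fun r => mat g r ⟨j, hjn⟩ with hw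
  have hwcol : mat g *ᵥ Pi.single (⟨j, hjn⟩ : Fin n) 1 = w := by
    funext r
    simp [hw]
  -- `g⁻¹` also stabilises the partial flag
  have hbt : (mat g).BlockTriangular (fun i : Fin n => min i.val j) := by
    intro a b hab
    simp only at hab
    have h1 : b.val < j := by
      by_contra h
      have : min b.val j = j := min_eq_right (by omega)
      rw [this] at hab
      have := min_le_right a.val j
      omega
    have h2 : b < a := by
      have : min b.val j = b.val := min_eq_left (by omega)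
      rw [this] at hab
      have := min_le_left a.val j
      exact Fin.lt_def.mpr (by omega)
    exact hg b a h1 h2
  have hinv := blockTriangular_inv _ g hbt
  have hS : ∀ r : Fin n, n - 1 - j < r.val → w r = 0 := by
    intro r hr
    have h1 : w r = hJ n F q w (Pi.single (Fin.rev r) 1) := by
      rw [hJ_single_right ok, Fin.rev_rev]
    have h2 : Pi.single (Fin.rev r) (1 : F) =
        mat g *ᵥ (mat g⁻¹ *ᵥ Pi.single (Fin.rev r) (1 : F)) := by
      rw [mulVec_mulVec, mat_mul_inv, one_mulVec]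
    rw [h1, h2, ← hwcol, hJ_mat, hJ_single_left]
    have h3 : (mat g⁻¹ *ᵥ Pi.single (Fin.rev r) (1 : F)) (Fin.rev (⟨j, hjn⟩ : Fin n)) =
        mat g⁻¹ (Fin.rev (⟨j, hjn⟩ : Fin n)) (Fin.rev r) := by
      simp
    rw [h3]
    have h4 : mat g⁻¹ (Fin.rev (⟨j, hjn⟩ : Fin n)) (Fin.rev r) = 0 := by
      apply hinv
      simp only [Fin.val_rev]
      have : min (n - (r.val + 1)) j = n - (r.val + 1) := min_eq_left (by omega)
      rw [this]
      have : min (n - (j + 1)) j = j := min_eq_right (by omega)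
      rw [this]
      omega
    rw [h4, frob_zero ok]
  have hiso : hJ n F q w w = 0 := by
    rw [← hwcol, hJ_mat, hJ_single_left]
    have : Fin.rev (⟨j, hjn⟩ : Fin n) ≠ ⟨j, hjn⟩ := by
      intro h
      have h1 := congrArg Fin.val h
      rw [Fin.val_rev] at h1
      simp only at h1
      omega
    rw [Pi.single_eq_of_ne this, frob_zero ok]
  obtain ⟨h, hK, hfix, hz⟩ := elim ok j hj w hS hiso
  refine ⟨h, hK, ?_⟩
  intro a b ha hab
  rw [mat_mul, Matrix.mul_apply]
  by_cases ha' : a.val < j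
  · have hterm : ∀ r : Fin n, mat h b r * mat g r a =
        (1 : Matrix (Fin n) (Fin n) F) b r * mat g r a := by
      intro r
      by_cases hr : r.val < j
      · rw [hfix b r hr]
      · have : mat g r a = 0 := hg a r ha' (Fin.lt_def.mpr (by omega))
        rw [this, mul_zero, mul_zero]
    simp_rw [hterm]
    rw [← Matrix.mul_apply, Matrix.one_mul]
    exact hg a b ha' hab
  · have haj : a = ⟨j, hjn⟩ := Fin.ext (show a.val = j by omega)
    have : ∑ r, mat h b r * mat g r a = (mat h *ᵥ w) b := by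
      rw [haj]
      rfl
    rw [this]
    apply hz
    have := Fin.lt_def.mp hab
    omega

end Cfsg.Agent.Lib.Helper94.StSU
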