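import Mathlib
import Cfsg.Agent.Lib.Helper94.THDefs
import Cfsg.Agent.Lib.Helper56.THB0
import Cfsg.Agent.Lib.Helper28.THB2
import Cfsg.Agent.Lib.Helper61.THB4
import Cfsg.Agent.Lib.Helper85.THB5a

/-!
# K-TH-B6 : the theta inversion formula (pack K-TH, S1632), hypothesis form

`theta_inversion_of` proves `Th A τ z = cst n A * rt τ ^ n * ThD n A τ z` by induction on `n`
(Schur complement + one-dimensional Jacobi step + Fubini), taking the statement of K-TH-B5b
(absolute summability of the dual sum) as a hypothesis.  K-TH-B1 (`schur_isPD6`) is proved here.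
-/

set_option autoImplicit false

namespace Cfsg.Agent.Lib.Helper94.TH

open Matrix Complex
open scoped Real
open Cfsg.Agent.Lib.Helper56.TH Cfsg.Agent.Lib.Helper28.TH Cfsg.Agent.Lib.Helper61.TH
  Cfsg.Agent.Lib.Helper85.TH

/-- the statement of K-TH-B5b -/
def B5bStmt : Prop :=
  ∀ (n : ℕ) (A : Matrix (Fin n) (Fin n) ℝ), IsPD A → ∀ (τ : ℂ), 0 < τ.im → ∀ z : Fin n → ℂ,
    Summable (fun k : Fin n → ℤ => ‖ThDTerm n A τ z k‖)

theorem pos00 {n : ℕ} {A : Matrix (Fin (n + 1)) (Fin (n + 1)) ℝ} (hA : IsPD A) : 0 < A 0 0 := by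
  have h := hA.2 (Pi.single 0 1) (by
    intro h
    have := congrFun h 0
    simp at this)
  simpa [rq] using h

/-- K-TH-B1 (own copy) -/
theorem schur_isPD6 {n : ℕ} {A : Matrix (Fin (n + 1)) (Fin (n + 1)) ℝ} (hA : IsPD A) :
    0 < A 0 0 ∧ IsPD (schur A) := by
  have ha := pos00 hA
  refine ⟨ha, ?_, ?_⟩
  · ext i j
    simp only [Matrix.transpose_apply, schur, Matrix.of_apply]
    rw [hA.1.apply i.succ j.succ, hA.1.apply 0 j.succ, ← hA.1.apply i.succ 0]
    ring
  · intro y hy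
    have hrq := rq_cons hA.1 ha.ne' (-(∑ i, A 0 i.succ * y i) / A 0 0) y
    have hne : (Fin.cons (-(∑ i, A 0 i.succ * y i) / A 0 0) y : Fin (n + 1) → ℝ) ≠ 0 := by
      intro h
      apply hy
      funext i
      have := congrFun h i.succ
      simpa using this
    have hpos := hA.2 _ hne
    rw [hrq] at hpos
    have hz : -(∑ i, A 0 i.succ * y i) / A 0 0 + (∑ i, A 0 i.succ * y i) / A 0 0 = 0 := by ring
    rw [hz] at hpos
    simpa using hpos

section step

variable {n : ℕ} (A : Matrix (Fin (n + 1)) (Fin (n + 1)) ℝ)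

/-- `β_y = Σ b_i y_i` -/
noncomputable def bet (y : Fin n → ℤ) : ℝ := ∑ i, A 0 i.succ * (y i : ℝ)

/-- the shifted characteristic `ζ_k` -/
noncomputable def zet (z : Fin (n + 1) → ℂ) (k : ℤ) : Fin n → ℂ :=
  fun i => z i.succ + ((k : ℂ) - z 0) * (A 0 i.succ : ℂ) / (A 0 0 : ℂ)

/-- the factor `E(y)` -/
noncomputable def Efac (τ : ℂ) (z : Fin (n + 1) → ℂ) (y : Fin n → ℤ) : ℂ :=
  cexp (π * I * (τ * ((bet A y ^ 2 / A 0 0 + rq (schur A) (fun i => (y i : ℝ)) : ℝ) : ℂ) +
    2 * ∑ i, (y i : ℂ) * z i.succ))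

theorem term1 (hA : IsPD A) (τ : ℂ) (z : Fin (n + 1) → ℂ) (m : ℤ) (y : Fin n → ℤ) :
    ThTerm A τ z (Fin.cons m y) =
      cexp (π * I * (τ * ((A 0 0 * (m : ℝ) ^ 2 : ℝ) : ℂ) + 2 * (m : ℂ) * (τ * (bet A y : ℂ) + z 0))) *
        Efac A τ z y := by
  have ha : A 0 0 ≠ 0 := (schur_isPD6 hA).1.ne'
  have hrq := rq_cons hA.1 ha (m : ℝ) (fun i => (y i : ℝ))
  unfold ThTerm Efac
  rw [← Complex.exp_add]
  congr 1
  have hcons : (fun i : Fin (n + 1) => ((Fin.cons m y : Fin (n + 1) → ℤ) i : ℝ)) =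
      Fin.cons (m : ℝ) (fun i => (y i : ℝ)) := by
    funext i
    refine Fin.cases ?_ (fun j => ?_) i <;> simp
  rw [hcons, hrq, Fin.sum_univ_succ]
  simp only [Fin.cons_zero, Fin.cons_succ]
  have hb : (∑ i, A 0 i.succ * (y i : ℝ)) = bet A y := rfl
  rw [hb]
  push_cast
  have ha' : (A 0 0 : ℂ) ≠ 0 := by exact_mod_cast ha
  field_simp
  ring

theorem term2 (hA : IsPD A) {τ : ℂ} (hτ : τ ≠ 0) (z : Fin (n + 1) → ℂ) (k : ℤ) (y : Fin n → ℤ) :
    cexp (-(π * I / τ) * (((k : ℂ) - (τ * (bet A y : ℂ) + z 0)) ^ 2 / (A 0 0 : ℂ))) * Efac A τ z y =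
      cexp (-(π * I / τ) * (((k : ℂ) - z 0) ^ 2 / (A 0 0 : ℂ))) *
        ThTerm (schur A) τ (zet A z k) y := by
  have ha : A 0 0 ≠ 0 := (schur_isPD6 hA).1.ne'
  have ha' : (A 0 0 : ℂ) ≠ 0 := by exact_mod_cast ha
  unfold ThTerm Efac
  rw [← Complex.exp_add, ← Complex.exp_add]
  congr 1
  have hsum : ∑ i, (y i : ℂ) * zet A z k i =
      ∑ i, (y i : ℂ) * z i.succ + ((k : ℂ) - z 0) * (bet A y : ℂ) / (A 0 0 : ℂ) := by
    unfold zet bet
    push_cast
    rw [Finset.mul_sum, Finset.sum_div, ← Finset.sum_add_distrib]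
    apply Finset.sum_congr rfl
    intro i _
    field_simp
  rw [hsum]
  push_cast
  field_simp
  ring

theorem term3 (τ : ℂ) (z : Fin (n + 1) → ℂ) (k : ℤ) (k' : Fin n → ℤ) :
    ThDTerm (n + 1) A τ z (Fin.cons k k') =
      cexp (-(π * I / τ) * (((k : ℂ) - z 0) ^ 2 / (A 0 0 : ℂ))) *
        ThDTerm n (schur A) τ (zet A z k) k' := by
  unfold ThDTerm
  rw [← Complex.exp_add]
  congr 1
  rw [dq]
  simp only [Fin.cons_zero, Fin.cons_succ]
  have : (fun i : Fin n => ((k' i : ℂ) - z i.succ) - ((k : ℂ) - z 0) * (A 0 i.succ : ℂ) / (A 0 0 : ℂ)) =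
      fun i => (k' i : ℂ) - zet A z k i := by
    funext i
    unfold zet
    ring
  rw [this]
  ring

end step

theorem zet_im {n : ℕ} (A : Matrix (Fin (n + 1)) (Fin (n + 1)) ℝ) (z : Fin (n + 1) → ℂ) (k : ℤ)
    (i : Fin n) : (zet A z k i).im = (zet A z 0 i).im := by
  have h : zet A z k i = zet A z 0 i + (((k : ℝ) * A 0 i.succ / A 0 0 : ℝ) : ℂ) := by
    unfold zet
    push_cast
    ring
  rw [h, Complex.add_im, Complex.ofReal_im, add_zero]

theorem norm_ThTerm_zet {n : ℕ} (A : Matrix (Fin (n + 1)) (Fin (n + 1)) ℝ) (τ : ℂ)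
    (z : Fin (n + 1) → ℂ) (k : ℤ) (y : Fin n → ℤ) :
    ‖ThTerm (schur A) τ (zet A z k) y‖ = ‖ThTerm (schur A) τ (zet A z 0) y‖ := by
  rw [norm_ThTerm, norm_ThTerm]
  simp only [zet_im A z k]

theorem theta_inversion_x (hB5b : B5bStmt) : ∀ (n : ℕ) (A : Matrix (Fin n) (Fin n) ℝ),
    IsPD A → ∀ (τ : ℂ),
    0 < τ.im → ∀ z : Fin n → ℂ, Th A τ z = (cst n A : ℂ) * rt τ ^ n * ThD n A τ z := by
  intro n
  induction n with
  | zero =>
    intro A _ τ _ z
    unfold Th ThD
    rw [tsum_eq_single (0 : Fin 0 → ℤ) (fun b hb => absurd (Subsingleton.elim b 0) hb),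
      tsum_eq_single (0 : Fin 0 → ℤ) (fun b hb => absurd (Subsingleton.elim b 0) hb)]
    simp [ThTerm, ThDTerm, dq, cst, rq]
  | succ n ih =>
    intro A hA τ hτ z
    have hτ0 : τ ≠ 0 := by
      intro h0
      rw [h0] at hτ
      simp at hτ
    obtain ⟨ha, hS⟩ := schur_isPD6 hA
    set a : ℝ := A 0 0 with ha_def
    set σ : ℂ := π * I / τ with hσ
    -- reindexing
    have hcons : ∀ p : ℤ × (Fin n → ℤ), (Fin.consEquiv (fun _ : Fin (n + 1) => ℤ)) p = Fin.cons p.1 p.2 := by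
      intro p; rfl
    -- the family on the product, y first
    let F : (Fin n → ℤ) × ℤ → ℂ := fun p => ThTerm A τ z (Fin.cons p.2 p.1)
    have hFn : Summable (fun p => ‖F p‖) := by
      have h1 := summable_ThTerm hA hτ z
      have h2 := ((Fin.consEquiv (fun _ : Fin (n + 1) => ℤ)).summable_iff).mpr h1
      have h3 := ((Equiv.prodComm (Fin n → ℤ) ℤ).summable_iff).mpr h2
      refine h3.congr ?_
      intro p
      simp [F, Function.comp, hcons]
    have hF : Summable F := hFn.of_norm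
    have hTh : Th A τ z = ∑' p, F p := by
      unfold Th
      rw [← (Fin.consEquiv (fun _ : Fin (n + 1) => ℤ)).tsum_eq, ← (Equiv.prodComm (Fin n → ℤ) ℤ).tsum_eq]
      apply tsum_congr
      intro p
      simp [F, hcons]
    -- the double family after the Jacobi step
    let g : (Fin n → ℤ) → ℤ → ℂ := fun y k =>
      cexp (-σ * (((k : ℂ) - z 0) ^ 2 / (a : ℂ))) * ThTerm (schur A) τ (zet A z k) y
    have hgn : Summable (fun p : (Fin n → ℤ) × ℤ => ‖g p.1 p.2‖) := by
      have h1 : Summable (fun y : Fin n → ℤ => ‖ThTerm (schur A) τ (zet A z 0) y‖) :=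
        summable_ThTerm hS hτ _
      have h2 : Summable (fun k : ℤ => ‖cexp (-σ * (((k : ℂ) - z 0) ^ 2 / (a : ℂ)))‖) :=
        (jacobi_step ha hτ (z 0)).2.1
      have h3 := Summable.mul_of_nonneg h1 h2 (fun _ => norm_nonneg _) (fun _ => norm_nonneg _)
      refine h3.congr ?_
      intro p
      simp only [g, norm_mul, norm_ThTerm_zet A τ z p.2 p.1]
      ring
    have hg : Summable (Function.uncurry g) := by
      have : Summable (fun p : (Fin n → ℤ) × ℤ => g p.1 p.2) := hgn.of_norm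
      exact this
    -- inner sums over m
    have hinner : ∀ y : Fin n → ℤ, ∑' m : ℤ, F (y, m) =
        (((Real.sqrt a)⁻¹ : ℝ) : ℂ) * rt τ * ∑' k : ℤ, g y k := by
      intro y
      have hJ := (jacobi_step ha hτ (τ * (bet A y : ℂ) + z 0)).2.2
      have h1 : ∀ m : ℤ, F (y, m) =
          cexp (π * I * (τ * ((a * (m : ℝ) ^ 2 : ℝ) : ℂ) +
            2 * (m : ℂ) * (τ * (bet A y : ℂ) + z 0))) * Efac A τ z y := fun m => term1 A hA τ z m y
      simp_rw [h1]
      rw [tsum_mul_right, hJ, mul_assoc, ← tsum_mul_right]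
      congr 1
      apply tsum_congr
      intro k
      exact term2 A hA hτ0 z k y
    -- inner sums over y
    have hinner2 : ∀ k : ℤ, ∑' y : Fin n → ℤ, g y k =
        (cst n (schur A) : ℂ) * rt τ ^ n *
          ∑' k' : Fin n → ℤ, ThDTerm (n + 1) A τ z (Fin.cons k k') := by
      intro k
      simp only [g]
      rw [tsum_mul_left]
      have := ih (schur A) hS τ hτ (zet A z k)
      unfold Th at this
      rw [this]
      unfold ThD
      rw [← mul_assoc, mul_comm (cexp _), mul_assoc, ← tsum_mul_left]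
      congr 1
      apply tsum_congr
      intro k'
      exact (term3 A τ z k k').symm
    -- the dual family on the product
    let H : ℤ × (Fin n → ℤ) → ℂ := fun p => ThDTerm (n + 1) A τ z (Fin.cons p.1 p.2)
    have hHn : Summable (fun p => ‖H p‖) := by
      have h1 := hB5b (n + 1) A hA τ hτ z
      have h2 := ((Fin.consEquiv (fun _ : Fin (n + 1) => ℤ)).summable_iff).mpr h1
      refine h2.congr ?_
      intro p
      simp [H, Function.comp, hcons]
    have hH : Summable H := hHn.of_norm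
    have hThD : ThD (n + 1) A τ z = ∑' p, H p := by
      unfold ThD
      rw [← (Fin.consEquiv (fun _ : Fin (n + 1) => ℤ)).tsum_eq]
      apply tsum_congr
      intro p
      simp [H, hcons]
    -- assemble
    rw [hTh, hF.tsum_prod]
    simp_rw [hinner]
    rw [tsum_mul_left, ← hg.tsum_comm]
    simp_rw [hinner2]
    rw [tsum_mul_left, hThD, hH.tsum_prod]
    have hc : (cst (n + 1) A : ℂ) = (((Real.sqrt a)⁻¹ : ℝ) : ℂ) * (cst n (schur A) : ℂ) := by
      rw [cst]; push_cast; rfl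
    rw [hc, pow_succ]
    ring

/-- K-TH-B6, with the statement of K-TH-B5b as hypothesis -/
theorem theta_inversion_of (hB5b : B5bStmt) (n : ℕ) {A : Matrix (Fin n) (Fin n) ℝ} (hA : IsPD A)
    {τ : ℂ} (hτ : 0 < τ.im) (z : Fin n → ℂ) :
    Th A τ z = (cst n A : ℂ) * rt τ ^ n * ThD n A τ z :=
  theta_inversion_x hB5b n A hA τ hτ z

end Cfsg.Agent.Lib.Helper94.TH
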