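import Mathlib
import Cfsg.Agent.Lib.Helper94.THDefs
import Cfsg.Agent.Lib.Helper94.THB6

/-!
# K-TH-B5b : absolute summability of the dual theta sum (pack K-TH, S1632)

Induction on `n` along the recursion of `dq`, with a bound uniform in the real part of the
characteristic.
-/

set_option autoImplicit false

namespace Cfsg.Agent.Lib.Helper94.TH

open Matrix Complex
open scoped Real

theorem re_quad5 (c : ℂ) (t v : ℝ) :
    (c * (((t : ℂ) - (v : ℂ) * I) ^ 2)).re = c.re * t ^ 2 + 2 * c.im * v * t - c.re * v ^ 2 := by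
  simp [pow_two, Complex.mul_re, Complex.mul_im, Complex.sub_re, Complex.sub_im]
  ring

theorem norm_gterm5 (c : ℂ) (a : ℝ) (w : ℂ) (k : ℤ) :
    ‖cexp (c * (((k : ℂ) - w) ^ 2 / (a : ℂ)))‖ =
      Real.exp ((c.re * ((k : ℝ) - w.re) ^ 2 + 2 * c.im * w.im * ((k : ℝ) - w.re)
        - c.re * w.im ^ 2) / a) := by
  rw [Complex.norm_exp]
  congr 1
  have h1 : ((k : ℂ) - w) = (((k : ℝ) - w.re : ℝ) : ℂ) - (w.im : ℂ) * I := by
    apply Complex.ext <;> simp
  have h2 : c * (((k : ℂ) - w) ^ 2 / (a : ℂ)) = (c * ((k : ℂ) - w) ^ 2) * ((a⁻¹ : ℝ) : ℂ) := by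
    push_cast
    ring
  rw [h2, Complex.re_mul_ofReal, h1, re_quad5, div_eq_mul_inv]

theorem summable_gauss5 {δ : ℝ} (hδ : 0 < δ) : Summable (fun j : ℤ => Real.exp (-δ * (j : ℝ) ^ 2)) := by
  have h := summable_pow_mul_jacobiTheta₂_term_bound 0 (T := δ / π) (by positivity) 0
  refine h.congr ?_
  intro j
  simp only [pow_zero, one_mul]
  congr 1
  have hpi : (π : ℝ) ≠ 0 := Real.pi_ne_zero
  field_simp
  ring

/-- the one-dimensional bound, uniform in the real part of `w` -/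
theorem gauss_unif5 {c : ℂ} (hc : c.re < 0) {a : ℝ} (ha : 0 < a) (v : ℝ) :
    ∃ C : ℝ, ∀ w : ℂ, w.im = v →
      Summable (fun k : ℤ => ‖cexp (c * (((k : ℂ) - w) ^ 2 / (a : ℂ)))‖) ∧
      ∑' k : ℤ, ‖cexp (c * (((k : ℂ) - w) ^ 2 / (a : ℂ)))‖ ≤ C := by
  set α : ℝ := -c.re with hα
  have hα0 : 0 < α := by rw [hα]; linarith
  set P : ℝ := 2 * c.im * v / α with hP
  set K : ℝ := Real.exp ((α / 2 + α * P ^ 2 / 2 + α * v ^ 2) / a) with hK
  set δ : ℝ := α / (4 * a) with hδ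
  have hδ0 : 0 < δ := by rw [hδ]; positivity
  set G : ℤ → ℝ := fun j => K * Real.exp (-δ * (j : ℝ) ^ 2) with hG
  have hGs : Summable G := (summable_gauss5 hδ0).mul_left K
  refine ⟨∑' j, G j, ?_⟩
  intro w hw
  set m : ℤ := ⌊w.re⌋ with hm
  have hbound : ∀ k : ℤ, ‖cexp (c * (((k : ℂ) - w) ^ 2 / (a : ℂ)))‖ ≤ G (k - m) := by
    intro k
    rw [norm_gterm5, hG]
    simp only
    rw [hK, ← Real.exp_add]
    apply Real.exp_le_exp.mpr
    set t : ℝ := (k : ℝ) - w.re with ht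
    set r : ℝ := w.re - (m : ℝ) with hr
    have hr0 : 0 ≤ r := by rw [hr, hm]; linarith [Int.floor_le w.re]
    have hr1 : r < 1 := by rw [hr, hm]; linarith [Int.lt_floor_add_one w.re]
    set j : ℝ := ((k - m : ℤ) : ℝ) with hj
    have htj : t = j - r := by rw [ht, hj, hr]; push_cast; ring
    have h1 : j ^ 2 / 2 - 1 ≤ t ^ 2 := by
      rw [htj]; nlinarith [sq_nonneg (j - 2 * r)]
    have h2 : -t ^ 2 + P * t ≤ 1 / 2 + P ^ 2 / 2 - j ^ 2 / 4 := by
      nlinarith [sq_nonneg (t - P)]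
    have hcre : c.re = -α := by rw [hα]; ring
    have hcim : 2 * c.im * w.im = α * P := by
      rw [hP, hw]; field_simp
    rw [hcre, hcim, hw]
    have h3 : (-α * t ^ 2 + α * P * t - -α * v ^ 2) ≤
        (α / 2 + α * P ^ 2 / 2 + α * v ^ 2) - (α / 4) * j ^ 2 := by
      nlinarith [mul_le_mul_of_nonneg_left h2 hα0.le]
    have h4 : (α / 2 + α * P ^ 2 / 2 + α * v ^ 2) / a + -δ * j ^ 2 =
        ((α / 2 + α * P ^ 2 / 2 + α * v ^ 2) - (α / 4) * j ^ 2) / a := by
      rw [hδ]; field_simp; ring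
    rw [h4]
    exact div_le_div_of_nonneg_right h3 ha.le
  have hGs' : Summable (fun k : ℤ => G (k - m)) :=
    ((Equiv.subRight m).summable_iff).mpr hGs
  have hsum : Summable (fun k : ℤ => ‖cexp (c * (((k : ℂ) - w) ^ 2 / (a : ℂ)))‖) :=
    Summable.of_nonneg_of_le (fun _ => norm_nonneg _) hbound hGs'
  refine ⟨hsum, ?_⟩
  calc ∑' k : ℤ, ‖cexp (c * (((k : ℂ) - w) ^ 2 / (a : ℂ)))‖ ≤ ∑' k : ℤ, G (k - m) :=
        hsum.tsum_le_tsum hbound hGs'
    _ = ∑' j, G j := (Equiv.subRight m).tsum_eq G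

theorem re_c5 {τ : ℂ} (hτ : 0 < τ.im) : (-(π * I / τ)).re < 0 := by
  have hτ0 : τ ≠ 0 := by
    intro h
    rw [h] at hτ
    simp at hτ
  have hn : 0 < Complex.normSq τ := Complex.normSq_pos.mpr hτ0
  have h : (π * I / τ).re = π * τ.im / Complex.normSq τ := by
    rw [Complex.div_re]
    simp
  rw [Complex.neg_re, h]
  have : 0 < π * τ.im / Complex.normSq τ := div_pos (mul_pos Real.pi_pos hτ) hn
  linarith

theorem unif5 {τ : ℂ} (hτ : 0 < τ.im) : ∀ (n : ℕ) (A : Matrix (Fin n) (Fin n) ℝ), IsPD A →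
    ∀ v : Fin n → ℝ, ∃ C : ℝ, ∀ z : Fin n → ℂ, (∀ i, (z i).im = v i) →
      Summable (fun k : Fin n → ℤ => ‖ThDTerm n A τ z k‖) ∧
      ∑' k : Fin n → ℤ, ‖ThDTerm n A τ z k‖ ≤ C := by
  intro n
  induction n with
  | zero =>
    intro A _ v
    refine ⟨1, fun z _ => ⟨Summable.of_finite, ?_⟩⟩
    rw [tsum_eq_single (0 : Fin 0 → ℤ) (fun b hb => absurd (Subsingleton.elim b 0) hb)]
    simp [ThDTerm, dq]
  | succ n ih =>
    intro A hA v
    obtain ⟨ha, hS⟩ := schur_isPD6 hA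
    set a : ℝ := A 0 0 with ha_def
    set v' : Fin n → ℝ := fun i => v i.succ - v 0 * A 0 i.succ / a with hv'
    obtain ⟨C', hC'⟩ := ih (schur A) hS v'
    obtain ⟨C'', hC''⟩ := gauss_unif5 (re_c5 hτ) ha (v 0)
    refine ⟨C'' * C', ?_⟩
    intro z hz
    have hzet : ∀ k : ℤ, ∀ i, (zet A z k i).im = v' i := by
      intro k i
      have h : zet A z k i = z i.succ + ((((k : ℝ) * A 0 i.succ / a : ℝ) : ℂ) -
          z 0 * ((A 0 i.succ / a : ℝ) : ℂ)) := by
        unfold zet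
        push_cast
        ring
      rw [h, hv']
      simp only [Complex.add_im, Complex.sub_im, Complex.ofReal_im, Complex.im_mul_ofReal, hz]
      ring
    set g : ℤ → ℝ := fun k => ‖cexp (-(π * I / τ) * (((k : ℂ) - z 0) ^ 2 / (a : ℂ)))‖ with hg
    obtain ⟨hgs, hgle⟩ := hC'' (z 0) (hz 0)
    set F : ℤ × (Fin n → ℤ) → ℝ := fun p => ‖ThDTerm (n + 1) A τ z (Fin.cons p.1 p.2)‖ with hF
    have hFeq : ∀ k k', F (k, k') = g k * ‖ThDTerm n (schur A) τ (zet A z k) k'‖ := by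
      intro k k'
      simp only [hF, hg]
      rw [term3 A τ z k k', norm_mul]
    have hF0 : 0 ≤ F := fun p => norm_nonneg _
    have hC'0 : 0 ≤ C' :=
      le_trans (tsum_nonneg (fun _ => norm_nonneg _)) (hC' (zet A z 0) (hzet 0)).2
    have hinner : ∀ k : ℤ, Summable (fun k' => F (k, k')) := by
      intro k
      have := (hC' (zet A z k) (hzet k)).1.mul_left (g k)
      refine this.congr ?_
      intro k'
      rw [hFeq]
    have hinner_le : ∀ k : ℤ, ∑' k', F (k, k') ≤ g k * C' := by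
      intro k
      have h1 : ∑' k', F (k, k') = g k * ∑' k', ‖ThDTerm n (schur A) τ (zet A z k) k'‖ := by
        rw [← tsum_mul_left]
        apply tsum_congr
        intro k'
        rw [hFeq]
      rw [h1]
      exact mul_le_mul_of_nonneg_left (hC' (zet A z k) (hzet k)).2 (norm_nonneg _)
    have houter : Summable (fun k : ℤ => ∑' k', F (k, k')) :=
      Summable.of_nonneg_of_le (fun k => tsum_nonneg (fun k' => hF0 (k, k'))) hinner_le
        (hgs.mul_right C')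
    have hFs : Summable F := (summable_prod_of_nonneg hF0).mpr ⟨hinner, houter⟩
    have hFt : ∑' p, F p ≤ C'' * C' := by
      rw [hFs.tsum_prod]
      calc ∑' k, ∑' k', F (k, k') ≤ ∑' k, g k * C' :=
            houter.tsum_le_tsum hinner_le (hgs.mul_right C')
        _ = (∑' k, g k) * C' := tsum_mul_right
        _ ≤ C'' * C' := mul_le_mul_of_nonneg_right hgle hC'0
    have hcons : ∀ p : ℤ × (Fin n → ℤ),
        (Fin.consEquiv (fun _ : Fin (n + 1) => ℤ)) p = Fin.cons p.1 p.2 := fun p => rfl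
    have e1 : Summable (fun x : Fin (n + 1) → ℤ => ‖ThDTerm (n + 1) A τ z x‖) := by
      refine ((Fin.consEquiv (fun _ : Fin (n + 1) => ℤ)).summable_iff
        (f := fun x => ‖ThDTerm (n + 1) A τ z x‖)).mp ?_
      refine hFs.congr ?_
      intro p
      simp [hF, Function.comp, hcons]
    refine ⟨e1, ?_⟩
    rw [← (Fin.consEquiv (fun _ : Fin (n + 1) => ℤ)).tsum_eq]
    refine le_trans (le_of_eq ?_) hFt
    apply tsum_congr
    intro p
    simp [hF, hcons]

/-- K-TH-B5b -/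
theorem summable_ThDTerm {n : ℕ} {A : Matrix (Fin n) (Fin n) ℝ} (hA : IsPD A) {τ : ℂ}
    (hτ : 0 < τ.im) (z : Fin n → ℂ) : Summable (fun k : Fin n → ℤ => ‖ThDTerm n A τ z k‖) := by
  obtain ⟨C, hC⟩ := unif5 hτ n A hA (fun i => (z i).im)
  exact (hC z (fun _ => rfl)).1

theorem b5bStmt : B5bStmt := fun _ _ hA _ hτ z => summable_ThDTerm hA hτ z

end Cfsg.Agent.Lib.Helper94.TH
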