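import Mathlib
import Cfsg.Agent.Lib.Helper94.THDefs
import Cfsg.Agent.Lib.Helper94.THB6
import Cfsg.Agent.Lib.Helper91.THA0
import Cfsg.Agent.Lib.Helper93.THB3
import Cfsg.Agent.Lib.Helper42.THB7core
import Cfsg.Agent.Lib.Helper90.THC1
import Cfsg.Agent.Lib.Helper96.THC2
import Cfsg.Agent.Lib.Helper62.THC3of
import Cfsg.Agent.Lib.Helper04.THD1
import Cfsg.Agent.Lib.Helper52.THC5
import Cfsg.Agent.Lib.Helper88.THE3

/-!
# S1632 (pack K-TH): final glue, with the statement `B5bStmt` of K-TH-B5b as the only hypothesis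

`main_of hB5b h h2 : rep B 2 = 196560 ∧ rep B 3 = 16773120 ∧ rep B 4 = 398034000`.
-/

set_option autoImplicit false

namespace Cfsg.Agent.Lib.Helper94.TH

open Matrix Complex ModularForm
open UpperHalfPlane hiding I
open scoped Real MatrixGroups

theorem thetaC_S_of5 (hB5b : B5bStmt) {B : Matrix (Fin 24) (Fin 24) ℤ} (h : Hyp B) {τ : ℂ}
    (hτ : 0 < τ.im) : thetaC B (-1 / τ) = τ ^ 12 * thetaC B τ :=
  Cfsg.Agent.Lib.Helper42.TH.thetaC_S_of h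
    (fun x => Cfsg.Agent.Lib.Helper93.TH.dq_mulVec (Cfsg.Agent.Lib.Helper91.TH.isPD_of_hyp h) x)
    (fun τ hτ => theta_inversion_of hB5b 24 (Cfsg.Agent.Lib.Helper91.TH.isPD_of_hyp h) hτ 0)
    (Cfsg.Agent.Lib.Helper96.TH.summable_thetaC h (τ := I) (by simp)) hτ

theorem thetaC_hasSum5 {B : Matrix (Fin 24) (Fin 24) ℤ} (h : Hyp B) (τ : ℍ) :
    HasSum (fun m : ℕ => (rep B m : ℂ) • Function.Periodic.qParam 1 (τ : ℂ) ^ m)
      (thetaC B (τ : ℂ)) :=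
  Cfsg.Agent.Lib.Helper04.TH.thetaC_hasSum_of h τ
    (Cfsg.Agent.Lib.Helper96.TH.summable_thetaC h τ.im_pos)

theorem exists_thetaMF_of5 (hB5b : B5bStmt) {B : Matrix (Fin 24) (Fin 24) ℤ} (h : Hyp B) :
    ∃ f : ModularForm 𝒮ℒ 12, ∀ τ : ℍ, f τ = thetaC B (τ : ℂ) :=
  Cfsg.Agent.Lib.Helper52.TH.exists_thetaMF_of (fun τ hτ => thetaC_S_of5 hB5b h hτ)
    (Cfsg.Agent.Lib.Helper90.TH.thetaC_T h)
    (Cfsg.Agent.Lib.Helper62.TH.thetaC_differentiableOn_of h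
      (fun τ hτ => Cfsg.Agent.Lib.Helper96.TH.summable_thetaC h hτ))
    (thetaC_hasSum5 h)

theorem rep_zero {B : Matrix (Fin 24) (Fin 24) ℤ} (h : Hyp B) : rep B 0 = 1 := by
  unfold rep
  have : {x : Fin 24 → ℤ | x ⬝ᵥ (B *ᵥ x) = 2 * ((0 : ℕ) : ℤ)} = {0} := by
    ext x
    simp only [Nat.cast_zero, mul_zero, Set.mem_ofPred_eq, Set.mem_singleton_iff]
    constructor
    · intro hx
      by_contra hne
      have := h.pos x hne
      omega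
    · rintro rfl
      simp
  rw [this, Set.ncard_singleton]

theorem rep_one {B : Matrix (Fin 24) (Fin 24) ℤ}
    (h2 : ∀ x : Fin 24 → ℤ, x ⬝ᵥ (B *ᵥ x) ≠ 2) : rep B 1 = 0 := by
  unfold rep
  have : {x : Fin 24 → ℤ | x ⬝ᵥ (B *ᵥ x) = 2 * ((1 : ℕ) : ℤ)} = ∅ := by
    ext x
    simp only [Nat.cast_one, mul_one, Set.mem_ofPred_eq, Set.mem_empty_iff_false, iff_false]
    exact h2 x
  rw [this, Set.ncard_empty]

theorem main_of (hB5b : B5bStmt) {B : Matrix (Fin 24) (Fin 24) ℤ} (h : Hyp B)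
    (h2 : ∀ x : Fin 24 → ℤ, x ⬝ᵥ (B *ᵥ x) ≠ 2) :
    rep B 2 = 196560 ∧ rep B 3 = 16773120 ∧ rep B 4 = 398034000 := by
  obtain ⟨f, hf⟩ := exists_thetaMF_of5 hB5b h
  obtain ⟨G, g0, g1, g2, g3, g4⟩ := Cfsg.Agent.Lib.Helper88.TH.exists_G
  have hc : ∀ m : ℕ, (rep B m : ℂ) = (qExpansion 1 f).coeff m := fun m =>
    ModularFormClass.qExpansion_coeff_unique one_pos one_mem_strictPeriods_SL
      (fun τ => by rw [hf τ]; exact thetaC_hasSum5 h τ) m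
  have hsub : qExpansion 1 (f - G) = qExpansion 1 f - qExpansion 1 G := by
    have := ModularForm.qExpansion_sub (h := 1) one_pos one_mem_strictPeriods_SL f G
    simpa using this
  have hfG : f - G = 0 := by
    apply sturm_bound_levelOne
    have h2le : ((2 : ℕ) : ℕ∞) ≤ (qExpansion 1 (f - G)).order := by
      apply PowerSeries.nat_le_order
      intro i hi
      rw [hsub, map_sub]
      interval_cases i
      · rw [← hc 0, g0, rep_zero h]; simp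
      · rw [← hc 1, g1, rep_one h2]; simp
    refine lt_of_lt_of_le ?_ h2le
    have h12 : (12 : ℤ).toNat / 12 < 2 := by decide
    exact_mod_cast h12
  have hfeq : f = G := sub_eq_zero.mp hfG
  refine ⟨?_, ?_, ?_⟩
  · have := hc 2
    rw [hfeq, g2] at this
    exact_mod_cast this
  · have := hc 3
    rw [hfeq, g3] at this
    exact_mod_cast this
  · have := hc 4
    rw [hfeq, g4] at this
    exact_mod_cast this

/-- the statement of S1632, with `B5bStmt` as hypothesis -/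
theorem counts_of (hB5b : B5bStmt) (B : Matrix (Fin 24) (Fin 24) ℤ) (hsymm : B.IsSymm)
    (hpos : ∀ x : Fin 24 → ℤ, x ≠ 0 → 0 < x ⬝ᵥ (B *ᵥ x))
    (heven : ∀ x : Fin 24 → ℤ, (2 : ℤ) ∣ x ⬝ᵥ (B *ᵥ x)) (hdet : B.det = 1)
    (h2 : ∀ x : Fin 24 → ℤ, x ⬝ᵥ (B *ᵥ x) ≠ 2) :
    {x : Fin 24 → ℤ | x ⬝ᵥ (B *ᵥ x) = 4}.ncard = 196560 ∧
    {x : Fin 24 → ℤ | x ⬝ᵥ (B *ᵥ x) = 6}.ncard = 16773120 ∧
    {x : Fin 24 → ℤ | x ⬝ᵥ (B *ᵥ x) = 8}.ncard = 398034000 := by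
  have h : Hyp B := ⟨hsymm, hpos, heven, hdet⟩
  obtain ⟨m2, m3, m4⟩ := main_of hB5b h h2
  unfold rep at m2 m3 m4
  norm_num at m2 m3 m4
  exact ⟨m2, m3, m4⟩

end Cfsg.Agent.Lib.Helper94.TH
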