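import Mathlib
import Cfsg.Prelude.Def_SporadicB
import Cfsg.Agent.S0058

/-! # TT68 core: 3-transposition groups with a normal 2-subgroup `Q`
KEY lemma: for 3-transpositions `a`, `e` with `a * e` of order 3, `a` centralizes `C_Q(a * e)`. -/

set_option autoImplicit false

namespace Cfsg.Agent.Lib.Helper94.TT68

open Cfsg

variable {G : Type*} [Group G]

/-- an element of a 2-group whose cube is 1 is trivial -/
theorem eq_one_of_two_group_of_cube {Q : Subgroup G} (hQ : IsPGroup 2 Q) {u : G} (hu : u ∈ Q)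
    (h3 : u ^ 3 = 1) : u = 1 := by
  obtain ⟨k, hk⟩ := hQ ⟨u, hu⟩
  have hk' : u ^ (2 ^ k) = 1 := by
    have := congrArg Subtype.val hk
    simpa using this
  have h1 : orderOf u ∣ 3 := orderOf_dvd_of_pow_eq_one h3
  have h2 : orderOf u ∣ 2 ^ k := orderOf_dvd_of_pow_eq_one hk'
  have hcop : Nat.Coprime 3 (2 ^ k) := Nat.Coprime.pow_right _ (by decide)
  have : orderOf u = 1 := Nat.eq_one_of_dvd_coprimes hcop h1 h2
  exact orderOf_eq_one_iff.mp this

/-- KEY lemma. -/
theorem key {Q : Subgroup G} [Q.Normal] (hQ : IsPGroup 2 Q) {D : Set G}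
    (hD : IsThreeTranspositionSet D) (hconj : ∀ d ∈ D, ∀ g : G, g * d * g⁻¹ ∈ D)
    {a e : G} (ha : a ∈ D) (he : e ∈ D) (h3 : (a * e) ^ 3 = 1) (hne : a * e ≠ 1)
    {q : G} (hq : q ∈ Q) (hcomm : Commute q (a * e)) : Commute q a := by
  have ha2 : a * a = 1 := by
    have := hD.1 a ha
    rw [← pow_two, ← this, pow_orderOf_eq_one]
  have he2 : e * e = 1 := by
    have := hD.1 e he
    rw [← pow_two, ← this, pow_orderOf_eq_one]
  have hainv : a⁻¹ = a := inv_eq_of_mul_eq_one_left ha2
  have heinv : e⁻¹ = e := inv_eq_of_mul_eq_one_left he2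
  set k := a * e with hk
  -- u = q⁻¹ a q a ∈ Q
  set u := q⁻¹ * (a * q * a) with hu
  have huQ : u ∈ Q := by
    apply Q.mul_mem (Q.inv_mem hq)
    have := ‹Q.Normal›.conj_mem q hq a
    rwa [hainv] at this
  -- a k a = k⁻¹
  have haka : a * k * a = k⁻¹ := by
    rw [hk, mul_inv_rev, hainv, heinv]
    calc a * (a * e) * a = (a * a) * e * a := by group
      _ = e * a := by rw [ha2, one_mul]
  -- a q a commutes with k
  have h1 : Commute (a * q * a) k := by
    have h2 : Commute (a * q * a) (a * k * a) := by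
      have : a * q * a * (a * k * a) = a * (q * k) * a := by
        calc a * q * a * (a * k * a) = a * q * (a * a) * k * a := by group
          _ = a * (q * k) * a := by rw [ha2]; group
      have h' : a * k * a * (a * q * a) = a * (k * q) * a := by
        calc a * k * a * (a * q * a) = a * k * (a * a) * q * a := by group
          _ = a * (k * q) * a := by rw [ha2]; group
      show a * q * a * (a * k * a) = a * k * a * (a * q * a)
      rw [this, h', hcomm.eq]
    rw [haka] at h2
    exact (Commute.inv_right_iff).mp h2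
  have huk : Commute u k := (hcomm.inv_left).mul_left h1
  -- (q⁻¹ a q) e = u k
  have hprod : (q⁻¹ * a * q⁻¹⁻¹) * e = u * k := by
    rw [hu, hk, inv_inv]
    calc q⁻¹ * a * q * e = q⁻¹ * a * q * (a * a) * e := by rw [ha2, mul_one]
      _ = q⁻¹ * (a * q * a) * (a * e) := by group
  have hmem : q⁻¹ * a * q⁻¹⁻¹ ∈ D := hconj a ha q⁻¹
  have hu1 : u = 1 := by
    rcases hD.2 _ hmem e he with h | h
    · -- (uk)^2 = 1 → k^2 ∈ Q → contradiction
      exfalso
      rw [hprod, huk.mul_pow] at h
      have hk2 : k ^ 2 = (u ^ 2)⁻¹ := eq_inv_of_mul_eq_one_right h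
      have hk2Q : k ^ 2 ∈ Q := by rw [hk2]; exact Q.inv_mem (Q.pow_mem huQ 2)
      have : k ^ 2 = 1 := by
        apply eq_one_of_two_group_of_cube hQ hk2Q
        rw [← pow_mul, mul_comm, pow_mul, h3, one_pow]
      -- k^3 = 1 and k^2 = 1 → k = 1
      apply hne
      calc k = k ^ 3 * (k ^ 2)⁻¹ := by group
        _ = 1 := by rw [h3, this]; simp
    · rw [hprod, huk.mul_pow, h3, mul_one] at h
      exact eq_one_of_two_group_of_cube hQ huQ h
  -- q⁻¹ (a q a) = 1 → a q a = q
  have h4 : a * q * a = q := by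
    have : q⁻¹ * (a * q * a) = 1 := hu1
    exact (inv_mul_eq_one.mp this).symm
  show q * a = a * q
  calc q * a = (a * q * a) * a := by rw [h4]
    _ = a * q * (a * a) := by group
    _ = a * q := by rw [ha2, mul_one]

end Cfsg.Agent.Lib.Helper94.TT68

namespace Cfsg.Agent.Lib.Helper94.TT68

open Cfsg

variable {G : Type*} [Group G]

/-- (*) two commuting elements of order 3 inverted by a 3-transposition `a ∉ Q` generate a cyclic group,
when `C_G(Q) ≤ Q`. -/
theorem inverted_commuting [Finite G] {Q : Subgroup G} [Q.Normal] (hQ : IsPGroup 2 Q)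
    (hCQ : Subgroup.centralizer (Q : Set G) ≤ Q) {D : Set G}
    (hD : IsThreeTranspositionSet D) (hconj : ∀ d ∈ D, ∀ g : G, g * d * g⁻¹ ∈ D)
    {a : G} (ha : a ∈ D) (haQ : a ∉ Q) {x y : G} (hx3 : x ^ 3 = 1) (hy3 : y ^ 3 = 1)
    (hxy : Commute x y) (hax : a * x * a = x⁻¹) (hay : a * y * a = y⁻¹) (hx1 : x ≠ 1) :
    y ∈ Subgroup.zpowers x := by
  classical
  by_contra hy
  have ha2 : a * a = 1 := by
    have := hD.1 a ha
    rw [← pow_two, ← this, pow_orderOf_eq_one]
  have hainv : a⁻¹ = a := inv_eq_of_mul_eq_one_left ha2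
  set A : Subgroup G := Subgroup.closure {x, y} with hA
  have hcommA : ∀ u ∈ ({x, y} : Set G), ∀ v ∈ ({x, y} : Set G), u * v = v * u := by
    intro u hu v hv
    rcases hu with rfl | rfl <;> rcases hv with rfl | rfl
    · rfl
    · exact hxy.eq
    · exact hxy.eq.symm
    · rfl
  have : IsMulCommutative A := Subgroup.isMulCommutative_closure hcommA
  have hAcomm : ∀ u ∈ A, ∀ v ∈ A, u * v = v * u := by
    intro u hu v hv
    exact setLike_mul_comm hu hv
  -- every element of A has cube 1 and is inverted by a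
  have hAprop : ∀ z ∈ A, z ^ 3 = 1 ∧ a * z * a = z⁻¹ := by
    intro z hz
    induction hz using Subgroup.closure_induction with
    | mem z hz =>
      rcases hz with rfl | rfl
      · exact ⟨hx3, hax⟩
      · exact ⟨hy3, hay⟩
    | one => exact ⟨one_pow _, by rw [mul_one, ha2, inv_one]⟩
    | mul u v hu hv ihu ihv =>
      refine ⟨?_, ?_⟩
      · rw [(show Commute u v from hAcomm u hu v hv).mul_pow, ihu.1, ihv.1, one_mul]
      · calc a * (u * v) * a = (a * u * a) * (a * v * a) := by
              calc a * (u * v) * a = a * u * 1 * v * a := by group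
                _ = a * u * (a * a) * v * a := by rw [ha2]
                _ = (a * u * a) * (a * v * a) := by group
          _ = u⁻¹ * v⁻¹ := by rw [ihu.2, ihv.2]
          _ = (u * v)⁻¹ := by rw [mul_inv_rev, hAcomm _ (A.inv_mem hu) _ (A.inv_mem hv)]
    | inv u hu ihu =>
      refine ⟨by rw [inv_pow, ihu.1, inv_one], ?_⟩
      have : a * u⁻¹ * a = (a * u * a)⁻¹ := by
        rw [mul_inv_rev, mul_inv_rev, hainv]; group
      rw [this, ihu.2]
  -- A is a 3-group
  have hA3 : IsPGroup 3 A := by
    intro z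
    refine ⟨1, ?_⟩
    apply Subtype.ext
    have := (hAprop z.1 z.2).1
    simpa using this
  have hxA : x ∈ A := Subgroup.subset_closure (by simp)
  have hyA : y ∈ A := Subgroup.subset_closure (by simp)
  -- A not cyclic
  have hncyc : ¬ IsCyclic A := by
    intro hc
    obtain ⟨g, hg⟩ := hc.exists_generator
    have hg3 : g ^ 3 = 1 := by
      apply Subtype.ext
      have := (hAprop g.1 g.2).1
      simpa using this
    -- every element of A is a power of g with exponent mod 3
    have hx' := hg ⟨x, hxA⟩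
    have hy' := hg ⟨y, hyA⟩
    rw [Subgroup.mem_zpowers_iff] at hx' hy'
    obtain ⟨i, hi⟩ := hx'
    obtain ⟨j, hj⟩ := hy'
    have hgo : orderOf g ∣ 3 := orderOf_dvd_of_pow_eq_one hg3
    have hgo' : orderOf g = 3 := by
      rcases (Nat.dvd_prime Nat.prime_three).mp hgo with h | h
      · exfalso
        rw [orderOf_eq_one_iff] at h
        apply hx1
        have : (⟨x, hxA⟩ : A) = 1 := by rw [← hi, h, one_zpow]
        exact congrArg Subtype.val this
      · exact h
    -- x = g^i with i not divisible by 3, so g ∈ zpowers x, so y ∈ zpowers x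
    have hxo : orderOf (⟨x, hxA⟩ : A) = 3 := by
      have h1 : orderOf (⟨x, hxA⟩ : A) ∣ 3 := by
        apply orderOf_dvd_of_pow_eq_one
        apply Subtype.ext
        simpa using hx3
      rcases (Nat.dvd_prime Nat.prime_three).mp h1 with h | h
      · exfalso
        rw [orderOf_eq_one_iff] at h
        exact hx1 (congrArg Subtype.val h)
      · exact h
    have hcard : Nat.card (Subgroup.zpowers g) = 3 := by rw [Nat.card_zpowers, hgo']
    have hcardx : Nat.card (Subgroup.zpowers (⟨x, hxA⟩ : A)) = 3 := by rw [Nat.card_zpowers, hxo]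
    have hle : Subgroup.zpowers (⟨x, hxA⟩ : A) ≤ Subgroup.zpowers g := by
      rw [Subgroup.zpowers_le]; exact hg _
    have heq : Subgroup.zpowers (⟨x, hxA⟩ : A) = Subgroup.zpowers g := by
      apply Subgroup.eq_of_le_of_card_ge hle
      rw [hcard, hcardx]
    have : (⟨y, hyA⟩ : A) ∈ Subgroup.zpowers (⟨x, hxA⟩ : A) := by rw [heq]; exact hg _
    rw [Subgroup.mem_zpowers_iff] at this
    obtain ⟨m, hm⟩ := this
    apply hy
    rw [Subgroup.mem_zpowers_iff]
    refine ⟨m, ?_⟩
    have := congrArg Subtype.val hm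
    simpa using this
  -- coprimality
  have hcop : (Nat.card A).Coprime (Nat.card Q) := by
    obtain ⟨n, hn⟩ := hA3.exists_card_eq
    obtain ⟨m, hm⟩ := hQ.exists_card_eq
    rw [hn, hm]
    exact Nat.Coprime.pow _ _ (by decide)
  have hAQ : A ≤ Subgroup.normalizer (Q : Set G) := by
    rw [Subgroup.normalizer_eq_top]; exact le_top
  have hgen := Cfsg.Agent.S0058.result A Q hncyc hAQ hcop
  -- each piece is centralized by a
  have hle : Q ≤ Subgroup.centralizer {a} := by
    rw [← hgen]
    apply iSup₂_le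
    intro z hz
    obtain ⟨hzA, hz1⟩ := hz
    intro q hq
    obtain ⟨hqQ, hqz⟩ := Subgroup.mem_inf.mp hq
    obtain ⟨hz3, hinv⟩ := hAprop z hzA
    -- e = z * a * z⁻¹ = a * z
    have he : z * a * z⁻¹ = a * z := by
      have h1 : z * a = a * z⁻¹ := by
        calc z * a = (a * a) * z * a := by rw [ha2, one_mul]
          _ = a * (a * z * a) := by group
          _ = a * z⁻¹ := by rw [hinv]
      have h2 : z⁻¹ * z⁻¹ = z := by
        calc z⁻¹ * z⁻¹ = z⁻¹ * z⁻¹ * 1 := by rw [mul_one]
          _ = z⁻¹ * z⁻¹ * z ^ 3 := by rw [hz3]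
          _ = z := by group
      rw [h1, mul_assoc, h2]
    have heD : a * z ∈ D := by rw [← he]; exact hconj a ha z
    have hprod : a * (a * z) = z := by rw [← mul_assoc, ha2, one_mul]
    have hqz' : Commute q z := by
      rw [Subgroup.mem_centralizer_iff] at hqz
      exact (hqz z rfl).symm
    have := key hQ hD hconj ha heD (by rw [hprod]; exact hz3) (by rw [hprod]; exact hz1) hqQ
      (by rw [hprod]; exact hqz')
    rw [Subgroup.mem_centralizer_iff]
    intro w hw
    rw [Set.mem_singleton_iff] at hw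
    subst hw
    exact this.eq.symm
  apply haQ
  apply hCQ
  rw [Subgroup.mem_centralizer_iff]
  intro q hq
  have := hle hq
  rw [Subgroup.mem_centralizer_iff] at this
  exact (this a rfl).symm

end Cfsg.Agent.Lib.Helper94.TT68
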