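import Mathlib
import Cfsg.Prelude.Def_SporadicB
import Cfsg.Agent.Lib.Helper94.TT68Core
import Cfsg.Agent.Lib.Helper89.TT68T1
import Cfsg.Agent.S0444

/-! # TT68: splitting over `Q` when `G/Q` has order 54 -/

set_option autoImplicit false

namespace Cfsg.Agent.Lib.Helper94.TT68

open Cfsg

/-- two non-commuting involutions with product of order 3 generate a group of order 6 -/
theorem card_closure_pair {H : Type*} [Group H] {x y : H} (hx : x * x = 1) (hy : y * y = 1)
    (hxy : (x * y) ^ 3 = 1) (hne : x ≠ y) (hx1 : x ≠ 1) (hy1 : y ≠ 1) :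
    Nat.card (Subgroup.closure ({x, y} : Set H)) = 6 := by
  have hox : orderOf x = 2 := orderOf_eq_prime (by rw [pow_two]; exact hx) hx1
  have hoy : orderOf y = 2 := orderOf_eq_prime (by rw [pow_two]; exact hy) hy1
  have hyx : (y * x) ^ 3 = 1 := by
    have : y * x = (x * y)⁻¹ := by
      rw [mul_inv_rev, inv_eq_of_mul_eq_one_left hx, inv_eq_of_mul_eq_one_left hy]
    rw [this, inv_pow, hxy, inv_one]
  have hE : IsThreeTranspositionSet ({x, y} : Set H) := by
    refine ⟨?_, ?_⟩
    · intro d hd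
      rcases hd with rfl | rfl
      · exact hox
      · exact hoy
    · intro d hd e he
      rcases hd with rfl | rfl <;> rcases he with rfl | rfl
      · left; rw [hx, one_pow]
      · right; exact hxy
      · right; exact hyx
      · left; rw [hy, one_pow]
  have hnc : ¬ Commute x y := by
    intro h
    -- (xy)^3 = x^3 y^3 = x y = 1 → x = y
    have h3 : (x * y) ^ 3 = x * y := by
      rw [h.mul_pow]
      have : x ^ 3 = x := by rw [pow_succ, pow_two, hx, one_mul]
      have h' : y ^ 3 = y := by rw [pow_succ, pow_two, hy, one_mul]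
      rw [this, h']
    rw [hxy] at h3
    apply hne
    have : x = y⁻¹ := eq_inv_of_mul_eq_one_left h3.symm
    rw [this, inv_eq_of_mul_eq_one_left hy]
  obtain ⟨e⟩ := Cfsg.Agent.S0444.result hE (Set.mem_insert _ _) (Set.mem_insert_of_mem _ rfl) hnc
  rw [Nat.card_congr e.toEquiv, Nat.card_eq_fintype_card, Fintype.card_perm, Fintype.card_fin]
  rfl


/-- basic consequences of the class hypothesis -/
theorem class_conj {G : Type*} [Group G] {D : Set G} (hD : IsThreeTranspositionClass D) :
    ∀ d ∈ D, ∀ g : G, g * d * g⁻¹ ∈ D := by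
  obtain ⟨d0, _, hDeq⟩ := hD.2.1
  intro d hd g
  rw [hDeq] at hd ⊢
  have hd' : IsConj d0 d := hd
  show IsConj d0 (g * d * g⁻¹)
  exact hd'.trans (isConj_iff.mpr ⟨g, rfl⟩)

theorem sq_one {G : Type*} [Group G] {D : Set G} (hD : IsThreeTranspositionSet D) {d : G}
    (hd : d ∈ D) : d * d = 1 := by
  have := hD.1 d hd
  rw [← pow_two, ← this, pow_orderOf_eq_one]

/-- in a quotient of order `2 * odd`, commuting 3-transpositions have the same image -/
theorem image_eq_of_commute {G : Type*} [Group G] [Finite G] {Q : Subgroup G} [Q.Normal]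
    {D : Set G} (hD : IsThreeTranspositionSet D) (hDQ : ∀ d ∈ D, d ∉ Q)
    (hodd : ¬ 4 ∣ Nat.card (G ⧸ Q)) {a b : G} (ha : a ∈ D) (hb : b ∈ D)
    (h : (a * b) ^ 2 = 1) : (QuotientGroup.mk a : G ⧸ Q) = QuotientGroup.mk b := by
  by_contra hne
  set x : G ⧸ Q := QuotientGroup.mk a with hx
  set y : G ⧸ Q := QuotientGroup.mk b with hy
  have hx2 : x * x = 1 := by rw [hx, ← QuotientGroup.mk_mul, sq_one hD ha]; rfl
  have hy2 : y * y = 1 := by rw [hy, ← QuotientGroup.mk_mul, sq_one hD hb]; rfl
  have hx1 : x ≠ 1 := by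
    intro h1
    exact hDQ a ha ((QuotientGroup.eq_one_iff a).mp h1)
  have hy1 : y ≠ 1 := by
    intro h1
    exact hDQ b hb ((QuotientGroup.eq_one_iff b).mp h1)
  have hcomm : x * y = y * x := by
    have h1 : (x * y) * (x * y) = 1 := by
      rw [hx, hy, ← QuotientGroup.mk_mul, ← QuotientGroup.mk_mul, ← pow_two, h]; rfl
    calc x * y = x * y * (y * y) * (x * x) := by rw [hx2, hy2, mul_one, mul_one]
      _ = (x * y * (x * y))⁻¹ * (x * y * (y * y) * (x * x)) := by rw [h1, inv_one, one_mul]
      _ = y * x := by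
        rw [hx2, hy2, mul_one, mul_one, h1, inv_one, one_mul]
        calc x * y = (x * y) * ((y * x) * (y * x)⁻¹) := by group
          _ = (x * (y * y) * x) * (y * x)⁻¹ := by group
          _ = (y * x)⁻¹ := by rw [hy2, mul_one, hx2, one_mul]
          _ = y * x := by
            rw [mul_inv_rev, inv_eq_of_mul_eq_one_left hx2, inv_eq_of_mul_eq_one_left hy2]
            -- x * y = y * x is what we prove; use h1 directly
            calc x * y = (x * y)⁻¹ := (inv_eq_of_mul_eq_one_left h1).symm
              _ = y * x := by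
                rw [mul_inv_rev, inv_eq_of_mul_eq_one_left hx2, inv_eq_of_mul_eq_one_left hy2]
  -- V = closure {x, y} is an elementary abelian 2-group with ≥ 3 elements
  set V : Subgroup (G ⧸ Q) := Subgroup.closure {x, y} with hV
  have hcommV : ∀ u ∈ ({x, y} : Set (G ⧸ Q)), ∀ v ∈ ({x, y} : Set (G ⧸ Q)), u * v = v * u := by
    intro u hu v hv
    rcases hu with rfl | rfl <;> rcases hv with rfl | rfl
    · rfl
    · exact hcomm
    · exact hcomm.symm
    · rfl
  have : IsMulCommutative V := Subgroup.isMulCommutative_closure hcommV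
  have hVsq : ∀ z ∈ V, z * z = 1 := by
    intro z hz
    induction hz using Subgroup.closure_induction with
    | mem z hz =>
      rcases hz with rfl | rfl
      · exact hx2
      · exact hy2
    | one => exact one_mul 1
    | mul u v hu hv ihu ihv =>
      have hc : u * v = v * u := setLike_mul_comm hu hv
      calc u * v * (u * v) = u * v * (v * u) := by rw [hc]
        _ = u * (v * v) * u := by group
        _ = 1 := by rw [ihv, mul_one, ihu]
    | inv u hu ihu =>
      rw [← mul_inv_rev, ihu, inv_one]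
  have hV2 : IsPGroup 2 V := by
    intro z
    refine ⟨1, ?_⟩
    apply Subtype.ext
    have := hVsq z.1 z.2
    simpa [pow_two] using this
  obtain ⟨n, hn⟩ := hV2.exists_card_eq
  have hdvd : Nat.card V ∣ Nat.card (G ⧸ Q) := Subgroup.card_subgroup_dvd_card V
  have hn1 : n ≤ 1 := by
    by_contra hn2
    push Not at hn2
    apply hodd
    refine dvd_trans ?_ hdvd
    rw [hn]
    exact pow_dvd_pow 2 hn2
  have hle : Nat.card V ≤ 2 := by
    rw [hn]
    calc 2 ^ n ≤ 2 ^ 1 := Nat.pow_le_pow_right (by norm_num) hn1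
      _ = 2 := by norm_num
  -- but 1, x, y are three distinct elements of V
  have hxV : x ∈ V := Subgroup.subset_closure (by simp)
  have hyV : y ∈ V := Subgroup.subset_closure (by simp)
  have h3 : 3 ≤ Nat.card V := by
    have hfin : Finite V := inferInstance
    let f : Fin 3 → V := ![1, ⟨x, hxV⟩, ⟨y, hyV⟩]
    have hf : Function.Injective f := by
      intro i j hij
      have e1 : (⟨x, hxV⟩ : V) ≠ 1 := fun h => hx1 (congrArg Subtype.val h)
      have e2 : (⟨y, hyV⟩ : V) ≠ 1 := fun h => hy1 (congrArg Subtype.val h)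
      have e3 : (⟨x, hxV⟩ : V) ≠ ⟨y, hyV⟩ := fun h => hne (congrArg Subtype.val h)
      fin_cases i <;> fin_cases j <;> simp [f] at hij ⊢
      all_goals (exfalso; first | exact hx1 hij | exact hx1 hij.symm | exact hy1 hij | exact hy1 hij.symm | exact hne hij | exact hne hij.symm | exact e1 hij | exact e1 hij.symm | exact e2 hij | exact e2 hij.symm | exact e3 hij | exact e3 hij.symm)
    have := Nat.card_le_card_of_injective f hf
    simpa using this
  omega


/-- in a group, `(b*c)^3 = 1` for involutions gives the braid relation -/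
theorem braid {H : Type*} [Group H] {b c : H} (hb : b * b = 1) (hc : c * c = 1)
    (h : (b * c) ^ 3 = 1) : c * b * c = b * c * b := by
  have hbi : b⁻¹ = b := inv_eq_of_mul_eq_one_left hb
  have hci : c⁻¹ = c := inv_eq_of_mul_eq_one_left hc
  have h1 : b * c * (b * c) * (b * c) = 1 := by rw [← h, pow_succ, pow_two]
  calc c * b * c = (b * c * b)⁻¹⁻¹ * ((b * c * b)⁻¹ * (c * b * c)) := by group
    _ = (b * c * b)⁻¹⁻¹ * (b⁻¹ * c⁻¹ * b⁻¹ * (c * b * c)) := by group
    _ = (b * c * b)⁻¹⁻¹ * (b * c * b * (c * b * c)) := by rw [hbi, hci]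
    _ = (b * c * b)⁻¹⁻¹ * (b * c * (b * c) * (b * c)) := by group
    _ = b * c * b := by rw [h1, mul_one, inv_inv]

/-- MAIN splitting theorem: `Q` a normal 2-subgroup with `C_G(Q) ≤ Q`, `G` generated by a class of
3-transpositions, `|G/Q| = 54` ⟹ `Q` has a complement (generated by three transpositions). -/
theorem exists_triangle_complement {G : Type*} [Group G] [Finite G] {Q : Subgroup G} [Q.Normal]
    (hQ : IsPGroup 2 Q) (hCQ : Subgroup.centralizer (Q : Set G) ≤ Q) {D : Set G}
    (hD : IsThreeTranspositionClass D) (hcard : Nat.card (G ⧸ Q) = 54) :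
    ∃ a b c : G, a ∈ D ∧ b ∈ D ∧ c ∈ D ∧ (a * b) ^ 3 = 1 ∧ (b * c) ^ 3 = 1 ∧ (c * a) ^ 3 = 1 ∧
      (a * (c * b * c)) ^ 3 = 1 ∧
      Q.IsComplement' (Subgroup.closure {a, b, c}) := by
  classical
  have hset := hD.1
  have hconj := class_conj hD
  obtain ⟨d0, hd0, hDeq⟩ := hD.2.1
  have hgen := hD.2.2
  let π : G →* G ⧸ Q := QuotientGroup.mk' Q
  have hπ : ∀ g, π g = (QuotientGroup.mk g : G ⧸ Q) := fun _ => rfl
  have hπsurj : Function.Surjective π := QuotientGroup.mk'_surjective Q
  -- D ∩ Q = ∅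
  have hDQ : ∀ d ∈ D, d ∉ Q := by
    intro d hd hdQ
    have hsub : D ⊆ Q := by
      intro e he
      rw [hDeq] at hd he
      have h1 : IsConj d0 d := hd
      have h2 : IsConj d0 e := he
      obtain ⟨g, hg⟩ := isConj_iff.mp (h1.symm.trans h2)
      rw [← hg]
      exact ‹Q.Normal›.conj_mem d hdQ g
    have : Q = ⊤ := by
      rw [eq_top_iff, ← hgen]
      exact (Subgroup.closure_le Q).mpr hsub
    have h1 : Nat.card (G ⧸ Q) = 1 := by
      subst this
      exact Nat.card_eq_one_iff_unique.mpr ⟨QuotientGroup.subsingleton_quotient_top, ⟨1⟩⟩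
    omega
  have hodd : ¬ 4 ∣ Nat.card (G ⧸ Q) := by rw [hcard]; decide
  have himg := fun {a b : G} (ha : a ∈ D) (hb : b ∈ D) (h : (a * b) ^ 2 = 1) =>
    image_eq_of_commute hset hDQ hodd ha hb h
  have hπ2 : ∀ d ∈ D, π d * π d = 1 := by
    intro d hd; rw [← map_mul, sq_one hset hd, map_one]
  have hπ1 : ∀ d ∈ D, π d ≠ 1 := by
    intro d hd h
    exact hDQ d hd ((QuotientGroup.eq_one_iff d).mp h)
  have hcube : ∀ {a b : G}, a ∈ D → b ∈ D → π a ≠ π b → (a * b) ^ 3 = 1 := by
    intro a b ha hb hne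
    rcases hset.2 a ha b hb with h | h
    · exact absurd (himg ha hb h) hne
    · exact h
  -- first generator
  set a := d0 with ha_def
  have ha : a ∈ D := hd0
  -- second generator
  have hb_ex : ∃ b ∈ D, π b ≠ π a := by
    by_contra hno
    push Not at hno
    have hle : (⊤ : Subgroup (G ⧸ Q)) ≤ Subgroup.zpowers (π a) := by
      rw [← MonoidHom.range_eq_top.mpr hπsurj, MonoidHom.range_eq_map, ← hgen,
        MonoidHom.map_closure, Subgroup.closure_le]
      rintro _ ⟨d, hd, rfl⟩
      rw [hno d hd]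
      exact Subgroup.mem_zpowers _
    have h1 : Nat.card (G ⧸ Q) ≤ 2 := by
      have h2 : Nat.card (Subgroup.zpowers (π a)) ≤ 2 := by
        rw [Nat.card_zpowers]
        apply Nat.le_of_dvd (by norm_num)
        apply orderOf_dvd_of_pow_eq_one
        rw [pow_two]; exact hπ2 a ha
      have h3 : Nat.card (⊤ : Subgroup (G ⧸ Q)) ≤ Nat.card (Subgroup.zpowers (π a)) :=
        Subgroup.card_le_of_le hle
      rw [Subgroup.card_top] at h3
      omega
    omega
  obtain ⟨b, hb, hba⟩ := hb_ex
  have hab3 : (a * b) ^ 3 = 1 := hcube ha hb (Ne.symm hba)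
  have hπab : (π a * π b) ^ 3 = 1 := by rw [← map_mul, ← map_pow, hab3, map_one]
  have hS6 : Nat.card (Subgroup.closure ({π a, π b} : Set (G ⧸ Q))) = 6 :=
    card_closure_pair (hπ2 a ha) (hπ2 b hb) hπab (Ne.symm hba) (hπ1 a ha) (hπ1 b hb)
  -- third generator
  have hc_ex : ∃ c ∈ D, π c ∉ Subgroup.closure ({π a, π b} : Set (G ⧸ Q)) := by
    by_contra hno
    push Not at hno
    have hle : (⊤ : Subgroup (G ⧸ Q)) ≤ Subgroup.closure ({π a, π b} : Set (G ⧸ Q)) := by
      rw [← MonoidHom.range_eq_top.mpr hπsurj, MonoidHom.range_eq_map, ← hgen,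
        MonoidHom.map_closure, Subgroup.closure_le]
      rintro _ ⟨d, hd, rfl⟩
      exact hno d hd
    have h3 := Subgroup.card_le_of_le hle
    rw [Subgroup.card_top, hS6] at h3
    omega
  obtain ⟨c, hc, hcS⟩ := hc_ex
  have hπa_mem : π a ∈ Subgroup.closure ({π a, π b} : Set (G ⧸ Q)) :=
    Subgroup.subset_closure (by simp)
  have hπb_mem : π b ∈ Subgroup.closure ({π a, π b} : Set (G ⧸ Q)) :=
    Subgroup.subset_closure (by simp)
  have hcb : π c ≠ π b := fun h => hcS (h ▸ hπb_mem)
  have hca : π c ≠ π a := fun h => hcS (h ▸ hπa_mem)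
  have hbc3 : (b * c) ^ 3 = 1 := hcube hb hc (Ne.symm hcb)
  have hca3 : (c * a) ^ 3 = 1 := hcube hc ha hca
  have ha2 := sq_one hset ha
  have hb2 := sq_one hset hb
  have hc2 := sq_one hset hc
  have hcinv : c⁻¹ = c := inv_eq_of_mul_eq_one_left hc2
  have hcbcD : c * b * c ∈ D := by
    have := hconj b hb c
    rwa [hcinv] at this
  have ht3 : (a * (c * b * c)) ^ 3 = 1 := by
    apply hcube ha hcbcD
    intro h
    -- π a = π c π b π c = π b π c π b → π c = π b π a π b
    apply hcS
    have hbr : π c * π b * π c = π b * π c * π b :=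
      braid (hπ2 b hb) (hπ2 c hc) (by rw [← map_mul, ← map_pow, hbc3, map_one])
    have h1 : π a = π b * π c * π b := by
      rw [h, map_mul, map_mul, hbr]
    have h2 : π c = π b * π a * π b := by
      rw [h1]
      calc π c = (π b * π b) * π c * (π b * π b) := by rw [hπ2 b hb, one_mul, mul_one]
        _ = π b * (π b * π c * π b) * π b := by group
    rw [h2]
    exact Subgroup.mul_mem _ (Subgroup.mul_mem _ hπb_mem hπa_mem) hπb_mem
  refine ⟨a, b, c, ha, hb, hc, hab3, hbc3, hca3, ht3, ?_⟩
  set K : Subgroup G := Subgroup.closure {a, b, c} with hK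
  have haK : a ∈ K := Subgroup.subset_closure (by simp)
  have hbK : b ∈ K := Subgroup.subset_closure (by simp)
  have hcK : c ∈ K := Subgroup.subset_closure (by simp)
  -- T1
  have hT1 : Nat.card K ∣ 54 := by
    have hgenK : Subgroup.closure ({⟨a, haK⟩, ⟨b, hbK⟩, ⟨c, hcK⟩} : Set K) = ⊤ := by
      have h0 : Subgroup.closure (((↑) : K → G) ⁻¹' {a, b, c}) = ⊤ :=
        Subgroup.closure_closure_coe_preimage
      convert h0 using 2
      ext x
      simp [Subtype.ext_iff]
    exact (Cfsg.Agent.Lib.Helper89.TT68.tri_card_dvd (K := K) ⟨a, haK⟩ ⟨b, hbK⟩ ⟨c, hcK⟩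
      (Subtype.ext ha2) (Subtype.ext hb2) (Subtype.ext hc2)
      (Subtype.ext (by simpa using hab3)) (Subtype.ext (by simpa using hbc3))
      (Subtype.ext (by simpa using hca3)) (Subtype.ext (by simpa using ht3)) hgenK).2
  -- the restriction of π to K
  let f : K →* G ⧸ Q := π.comp K.subtype
  have hker2 : IsPGroup 2 f.ker := by
    intro x
    have hxQ : ((x : K) : G) ∈ Q := by
      have := x.2
      rw [MonoidHom.mem_ker] at this
      exact (QuotientGroup.eq_one_iff _).mp this
    obtain ⟨n, hn⟩ := hQ ⟨_, hxQ⟩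
    refine ⟨n, ?_⟩
    apply Subtype.ext
    apply Subtype.ext
    have := congrArg Subtype.val hn
    simpa using this
  obtain ⟨n, hn⟩ := hker2.exists_card_eq
  have hKcard : Nat.card K = Nat.card f.range * Nat.card f.ker := by
    rw [Subgroup.card_eq_card_quotient_mul_card_subgroup f.ker,
      Nat.card_congr (QuotientGroup.quotientKerEquivRange f).toEquiv]
  have hrange_dvd : Nat.card f.range ∣ 54 := by
    rw [← hcard]; exact Subgroup.card_subgroup_dvd_card _
  have hSle : Subgroup.closure ({π a, π b} : Set (G ⧸ Q)) ≤ f.range := by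
    rw [Subgroup.closure_le]
    rintro _ (rfl | rfl)
    · exact ⟨⟨a, haK⟩, rfl⟩
    · exact ⟨⟨b, hbK⟩, rfl⟩
  have h6dvd : 6 ∣ Nat.card f.range := by
    rw [← hS6]; exact Subgroup.card_dvd_of_le hSle
  have hne6 : Nat.card f.range ≠ 6 := by
    intro h6
    have : Subgroup.closure ({π a, π b} : Set (G ⧸ Q)) = f.range := by
      apply Subgroup.eq_of_le_of_card_ge hSle
      rw [h6, hS6]
    apply hcS
    rw [this]
    exact ⟨⟨c, hcK⟩, rfl⟩
  -- numerics
  have hnum : Nat.card f.ker = 1 ∧ (Nat.card f.range = 18 ∨ Nat.card f.range = 54) := by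
    have hr : Nat.card f.range ∈ Nat.divisors 54 := Nat.mem_divisors.mpr ⟨hrange_dvd, by norm_num⟩
    have hdiv : Nat.divisors 54 = {1, 2, 3, 6, 9, 18, 27, 54} := by decide
    rw [hdiv] at hr
    have hmul : Nat.card f.range * 2 ^ n ∣ 54 := by rw [← hn, ← hKcard]; exact hT1
    have hn0 : n = 0 := by
      by_contra hn0
      have h2 : 2 ∣ 2 ^ n := dvd_pow_self 2 hn0
      have h12 : 6 * 2 ∣ 54 := dvd_trans (Nat.mul_dvd_mul h6dvd h2) hmul
      revert h12; decide
    refine ⟨by rw [hn, hn0, pow_zero], ?_⟩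
    simp only [Finset.mem_insert, Finset.mem_singleton] at hr
    rcases hr with h | h | h | h | h | h | h | h <;> rw [h] at h6dvd hne6 <;>
      first | (exfalso; revert h6dvd; decide) | (exfalso; exact hne6 rfl) | (left; exact h) | (right; exact h)
  obtain ⟨hker1, hrange⟩ := hnum
  have hdisj : Disjoint Q K := by
    rw [Subgroup.disjoint_def]
    intro x hxQ hxK
    have hmem : (⟨x, hxK⟩ : K) ∈ f.ker := by
      rw [MonoidHom.mem_ker]
      exact (QuotientGroup.eq_one_iff x).mpr hxQ
    have hbot : f.ker = ⊥ := Subgroup.card_eq_one.mp hker1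
    rw [hbot, Subgroup.mem_bot] at hmem
    exact congrArg Subtype.val hmem
  have hKr : Nat.card K = Nat.card f.range := by rw [hKcard, hker1, mul_one]
  rcases hrange with h18 | h54
  · -- impossible: K of order 18
    exfalso
    have hK18 : Nat.card K = 18 := by rw [hKr, h18]
    haveI : Fact (Nat.Prime 3) := ⟨Nat.prime_three⟩
    obtain ⟨P, hP⟩ := Sylow.exists_subgroup_card_pow_prime (G := K) 3 (n := 2)
      (by rw [hK18]; decide)
    have hPidx : P.index = 2 := by
      have := P.card_mul_index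
      rw [hP, hK18] at this
      omega
    haveI : P.Normal := Subgroup.normal_of_index_eq_two hPidx
    have hmemP : ∀ z : K, z ^ 3 = 1 → z ∈ P := by
      intro z hz
      have h1 : (QuotientGroup.mk z : K ⧸ P) ^ 2 = 1 := by
        have hc2' : Nat.card (K ⧸ P) = 2 := hPidx
        rw [← hc2']; exact pow_card_eq_one'
      have h2 : (QuotientGroup.mk z : K ⧸ P) ^ 3 = 1 := by
        rw [← QuotientGroup.mk_pow, hz]; rfl
      have h3 : (QuotientGroup.mk z : K ⧸ P) = 1 := by
        calc (QuotientGroup.mk z : K ⧸ P) = (QuotientGroup.mk z : K ⧸ P) ^ 3 * ((QuotientGroup.mk z : K ⧸ P) ^ 2)⁻¹ := by group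
          _ = 1 := by rw [h1, h2]; simp
      exact (QuotientGroup.eq_one_iff z).mp h3
    have hPcomm : IsMulCommutative P := IsPGroup.isMulCommutative_of_card_eq_prime_sq hP
    set x : G := a * b with hx
    set y : G := a * c with hy
    have hxK : x ∈ K := K.mul_mem haK hbK
    have hyK : y ∈ K := K.mul_mem haK hcK
    have hy3 : y ^ 3 = 1 := by
      -- (a c)^3 = ((c a)^3)⁻¹
      have : a * c = (c * a)⁻¹ := by
        rw [mul_inv_rev, inv_eq_of_mul_eq_one_left ha2, hcinv]
      rw [hy, this, inv_pow, hca3, inv_one]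
    have hxP : (⟨x, hxK⟩ : K) ∈ P := hmemP _ (Subtype.ext (by simpa using hab3))
    have hyP : (⟨y, hyK⟩ : K) ∈ P := hmemP _ (Subtype.ext (by simpa using hy3))
    have hxy : Commute x y := by
      have := setLike_mul_comm hxP hyP
      exact congrArg Subtype.val this
    have hainv : a⁻¹ = a := inv_eq_of_mul_eq_one_left ha2
    have hbinv : b⁻¹ = b := inv_eq_of_mul_eq_one_left hb2
    have hax : a * x * a = x⁻¹ := by
      rw [hx, mul_inv_rev, hainv, hbinv]
      calc a * (a * b) * a = (a * a) * b * a := by group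
        _ = b * a := by rw [ha2, one_mul]
    have hay : a * y * a = y⁻¹ := by
      rw [hy, mul_inv_rev, hainv, hcinv]
      calc a * (a * c) * a = (a * a) * c * a := by group
        _ = c * a := by rw [ha2, one_mul]
    have hx1 : x ≠ 1 := by
      intro h
      apply hba
      have : b = a := by
        have := eq_inv_of_mul_eq_one_right h
        rw [this, hainv]
      rw [this]
    have hmem := inverted_commuting hQ hCQ hset hconj ha (hDQ a ha) hab3 hy3 hxy hax hay hx1
    obtain ⟨m, hm⟩ := Subgroup.mem_zpowers_iff.mp hmem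
    apply hcS
    have hc_eq : c = a * (a * b) ^ m := by
      rw [hm, hy, ← mul_assoc, ha2, one_mul]
    rw [hc_eq, map_mul, map_zpow, map_mul]
    exact Subgroup.mul_mem _ hπa_mem (Subgroup.zpow_mem _ (Subgroup.mul_mem _ hπa_mem hπb_mem) m)
  · apply Subgroup.isComplement'_of_card_mul_and_disjoint _ hdisj
    rw [hKr, h54, Subgroup.card_eq_card_quotient_mul_card_subgroup Q, hcard, mul_comm]

end Cfsg.Agent.Lib.Helper94.TT68
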