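import Mathlib
import Cfsg.Prelude.Def_SporadicB
import Cfsg.Prelude.Def_Transfer
import Cfsg.Agent.Lib.Helper94.TT68Core
import Cfsg.Agent.Lib.Helper94.TT68Split
import Cfsg.Agent.Lib.Helper85.TT68F0
import Cfsg.Agent.Lib.Helper63.TT68G1
import Cfsg.Agent.S1324

/-! # TT68: structure of `H/O_2(H)` when it is 3-by-2 -/

set_option autoImplicit false

namespace Cfsg.Agent.Lib.Helper94.TT68

open Cfsg

variable {H : Type*} [Group H]

/-- an element of a 3-group whose square is 1 is trivial -/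
theorem eq_one_of_three_group_of_sq {P : Subgroup H} (hP : IsPGroup 3 P) {u : H} (hu : u ∈ P)
    (h2 : u ^ 2 = 1) : u = 1 := by
  obtain ⟨k, hk⟩ := hP ⟨u, hu⟩
  have hk' : u ^ (3 ^ k) = 1 := by
    have := congrArg Subtype.val hk
    simpa using this
  have h1 : orderOf u ∣ 2 := orderOf_dvd_of_pow_eq_one h2
  have h3 : orderOf u ∣ 3 ^ k := orderOf_dvd_of_pow_eq_one hk'
  have hcop : Nat.Coprime 2 (3 ^ k) := Nat.Coprime.pow_right _ (by decide)
  have : orderOf u = 1 := Nat.eq_one_of_dvd_coprimes hcop h1 h3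
  exact orderOf_eq_one_iff.mp this

/-- a 2-group and a 3-group meet trivially -/
theorem inf_two_three {Q P : Subgroup H} (hQ : IsPGroup 2 Q) (hP : IsPGroup 3 P) {u : H}
    (huQ : u ∈ Q) (huP : u ∈ P) : u = 1 := by
  obtain ⟨k, hk⟩ := hP ⟨u, huP⟩
  obtain ⟨m, hm⟩ := hQ ⟨u, huQ⟩
  have hk' : u ^ (3 ^ k) = 1 := by simpa using congrArg Subtype.val hk
  have hm' : u ^ (2 ^ m) = 1 := by simpa using congrArg Subtype.val hm
  have h1 : orderOf u ∣ 2 ^ m := orderOf_dvd_of_pow_eq_one hm'
  have h3 : orderOf u ∣ 3 ^ k := orderOf_dvd_of_pow_eq_one hk'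
  have hcop : Nat.Coprime (2 ^ m) (3 ^ k) := Nat.Coprime.pow _ _ (by decide)
  have : orderOf u = 1 := Nat.eq_one_of_dvd_coprimes hcop h1 h3
  exact orderOf_eq_one_iff.mp this

/-- (J2) inverted elements of the 3-group have order dividing 3 and give 3-transpositions -/
theorem inverted_props {D : Set H} (hD : IsThreeTranspositionSet D)
    (hconj : ∀ d ∈ D, ∀ g : H, g * d * g⁻¹ ∈ D) {a : H} (ha : a ∈ D)
    {P : Subgroup H} (hP : IsPGroup 3 P) {x : H} (hx : x ∈ P) (hinv : a * x * a = x⁻¹) :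
    x ^ 3 = 1 ∧ a * x ∈ D := by
  have ha2 := sq_one hD ha
  have hainv : a⁻¹ = a := inv_eq_of_mul_eq_one_left ha2
  -- x a x⁻¹ = a x⁻¹ x⁻¹ ... we use: x⁻¹ a x = a x x
  have h1 : x⁻¹ * a * x⁻¹⁻¹ = a * (x * x) := by
    rw [inv_inv]
    have : x⁻¹ * a = a * x := by
      calc x⁻¹ * a = (a * x * a) * a := by rw [hinv]
        _ = a * x * (a * a) := by group
        _ = a * x := by rw [ha2, mul_one]
    rw [this]; group
  have hmem : a * (x * x) ∈ D := by rw [← h1]; exact hconj a ha x⁻¹
  have hprod : a * (a * (x * x)) = x * x := by rw [← mul_assoc, ha2, one_mul]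
  have hx3 : x ^ 3 = 1 := by
    rcases hD.2 a ha _ hmem with h | h
    · rw [hprod] at h
      -- (x^2)^2 = 1 → x^2 = 1 → x = 1
      have hxx : x * x = 1 := by
        apply eq_one_of_three_group_of_sq hP (P.mul_mem hx hx)
        exact h
      have : x = 1 := eq_one_of_three_group_of_sq hP hx (by rw [pow_two]; exact hxx)
      rw [this, one_pow]
    · rw [hprod] at h
      -- (x^2)^3 = (x^3)^2 = 1
      apply eq_one_of_three_group_of_sq hP (P.pow_mem hx 3)
      rw [← pow_mul]
      have : x ^ (3 * 2) = (x * x) ^ 3 := by rw [← pow_two, ← pow_mul, mul_comm]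
      rw [this, h]
  refine ⟨hx3, ?_⟩
  -- a x = a (x⁻¹ x⁻¹) since x^3 = 1; x⁻¹ is inverted too
  have hxinv2 : x⁻¹ * x⁻¹ = x := by
    calc x⁻¹ * x⁻¹ = x⁻¹ * x⁻¹ * x ^ 3 := by rw [hx3, mul_one]
      _ = x := by group
  have h2 : x * a * x⁻¹ = a * (x⁻¹ * x⁻¹) := by
    have : x * a = a * x⁻¹ := by
      calc x * a = (a * a) * x * a := by rw [ha2, one_mul]
        _ = a * (a * x * a) := by group
        _ = a * x⁻¹ := by rw [hinv]
    rw [this]; group
  rw [← hxinv2, ← h2]
  exact hconj a ha x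


/-- the subgroup `P ∪ aP` -/
def dihSub (P : Subgroup H) (a : H) (ha2 : a * a = 1) (haP : ∀ x ∈ P, a * x * a ∈ P) : Subgroup H where
  carrier := {s | ∃ x ∈ P, s = x ∨ s = a * x}
  one_mem' := ⟨1, P.one_mem, Or.inl rfl⟩
  mul_mem' := by
    intro s t hs ht
    obtain ⟨x, hx, hs⟩ := hs
    obtain ⟨x', hx', ht⟩ := ht
    rcases hs with hs | hs <;> rcases ht with ht | ht
    · exact ⟨x * x', P.mul_mem hx hx', Or.inl (by rw [hs, ht])⟩
    · refine ⟨(a * x * a) * x', P.mul_mem (haP x hx) hx', Or.inr ?_⟩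
      rw [hs, ht]
      calc x * (a * x') = (a * a) * x * (a * x') := by rw [ha2, one_mul]
        _ = a * (a * x * a * x') := by group
    · exact ⟨x * x', P.mul_mem hx hx', Or.inr (by rw [hs, ht]; group)⟩
    · refine ⟨(a * x * a) * x', P.mul_mem (haP x hx) hx', Or.inl ?_⟩
      rw [hs, ht]
      group
  inv_mem' := by
    intro s hs
    obtain ⟨x, hx, hs⟩ := hs
    rcases hs with hs | hs
    · exact ⟨x⁻¹, P.inv_mem hx, Or.inl (by rw [hs])⟩
    · refine ⟨a * x⁻¹ * a, haP _ (P.inv_mem hx), Or.inr ?_⟩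
      have hainv : a⁻¹ = a := inv_eq_of_mul_eq_one_left ha2
      rw [hs]
      calc (a * x)⁻¹ = x⁻¹ * a := by rw [mul_inv_rev, hainv]
        _ = (a * a) * x⁻¹ * a := by rw [ha2, one_mul]
        _ = a * (a * x⁻¹ * a) := by group

theorem mem_decomp {Q P : Subgroup H} [Q.Normal] {a : H} (ha2 : a * a = 1)
    (haP : ∀ x ∈ P, a * x * a ∈ P) (htop : Subgroup.zpowers a ⊔ P ⊔ Q = ⊤) (h : H) :
    ∃ x ∈ P, ∃ q ∈ Q, h = x * q ∨ h = a * x * q := by
  have hle : Subgroup.zpowers a ⊔ P ≤ dihSub P a ha2 haP := by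
    apply sup_le
    · rw [Subgroup.zpowers_le]
      exact ⟨1, P.one_mem, Or.inr (mul_one a).symm⟩
    · intro x hx
      exact ⟨x, hx, Or.inl rfl⟩
  have hh : h ∈ ((Subgroup.zpowers a ⊔ P ⊔ Q : Subgroup H) : Set H) := by rw [htop]; trivial
  rw [Subgroup.mul_normal] at hh
  obtain ⟨s, hs, q, hq, rfl⟩ := hh
  obtain ⟨x, hx, hsx | hsx⟩ := hle hs
  · exact ⟨x, hx, q, hq, Or.inl (by rw [hsx])⟩
  · exact ⟨x, hx, q, hq, Or.inr (by rw [hsx])⟩

/-- every transposition lies in `a I Q`; hence `<a> <I> Q = H`. -/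
theorem top_of_inverted [Finite H] {Q P : Subgroup H} [Q.Normal] (hQ : IsPGroup 2 Q) (hP : IsPGroup 3 P)
    {D : Set H} (hD : IsThreeTranspositionClass D) (hDQ : ∀ d ∈ D, d ∉ Q)
    {a : H} (ha : a ∈ D)
    (haP : ∀ x ∈ P, a * x * a ∈ P) (htop : Subgroup.zpowers a ⊔ P ⊔ Q = ⊤) :
    Subgroup.zpowers a ⊔ Subgroup.closure {x : H | x ∈ P ∧ a * x * a = x⁻¹} ⊔ Q = ⊤ := by
  have ha2 := sq_one hD.1 ha
  rw [eq_top_iff, ← hD.2.2, Subgroup.closure_le]
  intro e he
  obtain ⟨x, hx, q, hq, h | h⟩ := mem_decomp ha2 haP htop e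
  · -- e = x q: then x^2 ∈ Q ∩ P so x = 1, e ∈ Q: contradiction
    exfalso
    have he2 := sq_one hD.1 he
    have hxQ : x * x ∈ Q := by
      -- (x q)(x q) = 1 → x x = (x q x⁻¹ ... ) use normality: x*x = (x q)(x q) * stuff
      have h1 : x * q * (x * q) = 1 := by rw [← h]; exact he2
      have h2 : x * x = (x * q * (x * q)) * q⁻¹ * (x⁻¹ * q⁻¹ * x) := by group
      rw [h2, h1, one_mul]
      apply Q.mul_mem (Q.inv_mem hq)
      have := ‹Q.Normal›.conj_mem q⁻¹ (Q.inv_mem hq) x⁻¹
      rwa [inv_inv] at this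
    have hx1 : x = 1 := by
      have hxx : x * x = 1 := inf_two_three hQ hP hxQ (P.mul_mem hx hx)
      exact eq_one_of_three_group_of_sq hP hx (by rw [pow_two]; exact hxx)
    apply hDQ e he
    rw [h, hx1, one_mul]; exact hq
  · -- e = a x q: then (a x)^2 ∈ Q ∩ P
    have he2 := sq_one hD.1 he
    have h1 : a * x * q * (a * x * q) = 1 := by rw [← h]; exact he2
    have hmemP : (a * x * a) * x ∈ P := P.mul_mem (haP x hx) hx
    have hmemQ : (a * x * a) * x ∈ Q := by
      have h2 : (a * x * a) * x = (a * x * q * (a * x * q)) * q⁻¹ * ((a * x)⁻¹ * q⁻¹ * (a * x)) := by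
        group
      rw [h2, h1, one_mul]
      apply Q.mul_mem (Q.inv_mem hq)
      have := ‹Q.Normal›.conj_mem q⁻¹ (Q.inv_mem hq) (a * x)⁻¹
      rwa [inv_inv] at this
    have hinv : a * x * a = x⁻¹ := by
      have := inf_two_three hQ hP hmemQ hmemP
      exact eq_inv_of_mul_eq_one_left this
    rw [h]
    apply Subgroup.mul_mem _ _ (Subgroup.mem_sup_right hq)
    apply Subgroup.mem_sup_left
    apply Subgroup.mul_mem
    · exact Subgroup.mem_sup_left (Subgroup.mem_zpowers a)
    · exact Subgroup.mem_sup_right (Subgroup.subset_closure ⟨hx, hinv⟩)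


theorem aux_comm1 {t2 t3 : H} (hc : t2 * t3 = t3 * t2) (h3 : t2 ^ 3 = 1) :
    t2 * t3 * t2 = t2⁻¹ * t3 := by
  have hinv : t2⁻¹ = t2 * t2 := by
    calc t2⁻¹ = t2⁻¹ * t2 ^ 3 := by rw [h3, mul_one]
      _ = t2⁻¹ * (t2 * t2 * t2) := by rw [pow_succ, pow_two]
      _ = t2 * t2 := by group
  have hc' : t2⁻¹ * t3 = t3 * t2⁻¹ := by
    have : Commute t2 t3 := hc
    exact (this.inv_left).eq
  rw [hc', hinv, hc, mul_assoc]

theorem aux_comm2 {t2 t3 : H} (hc : t2 * t3 = t3 * t2) (h3 : t2 ^ 3 = 1) :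
    t2⁻¹ * t3 * t2⁻¹ = t2 * t3 := by
  have hinv : t2⁻¹ * t2⁻¹ = t2 := by
    calc t2⁻¹ * t2⁻¹ = t2⁻¹ * t2⁻¹ * t2 ^ 3 := by rw [h3, mul_one]
      _ = t2⁻¹ * t2⁻¹ * (t2 * t2 * t2) := by rw [pow_succ, pow_two]
      _ = t2 := by group
  have hc' : t2⁻¹ * t3 = t3 * t2⁻¹ := by
    have : Commute t2 t3 := hc
    exact (this.inv_left).eq
  rw [hc', mul_assoc, hinv, hc]

theorem pigeon [Finite H] {T B : Subgroup H} (hTcomm : ∀ u ∈ T, ∀ v ∈ T, u * v = v * u)
    (hBT : B ≤ T) (hidx : B.relIndex T ≤ 3) (hT3 : ∀ t ∈ T, t ^ 3 = 1) {t2 t3 : H}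
    (ht2 : t2 ∈ T) (ht3 : t3 ∈ T) :
    t2 ∈ B ∨ t3 ∈ B ∨ t2⁻¹ * t3 ∈ B ∨ t2 * t3 ∈ B := by
  classical
  by_cases h1 : t2 ∈ B
  · exact Or.inl h1
  by_cases h3 : t3 ∈ B
  · exact Or.inr (Or.inl h3)
  right; right
  set Bt : Subgroup T := B.subgroupOf T with hBt
  have hnorm : Bt.Normal := by
    refine ⟨fun n hn g => ?_⟩
    have : g * n * g⁻¹ = n := by
      apply Subtype.ext
      have := hTcomm g.1 g.2 n.1 n.2
      simp only [Subgroup.coe_mul, Subgroup.coe_inv]
      rw [this]; group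
    rwa [this]
  have hidx' : Nat.card (T ⧸ Bt) ≤ 3 := hidx
  set x : T ⧸ Bt := QuotientGroup.mk ⟨t2, ht2⟩ with hx
  have hx1 : x ≠ 1 := by
    intro h
    apply h1
    have := (QuotientGroup.eq_one_iff _).mp h
    exact Subgroup.mem_subgroupOf.mp this
  have hx3 : x ^ 3 = 1 := by
    rw [hx, ← QuotientGroup.mk_pow]
    have : (⟨t2, ht2⟩ : T) ^ 3 = 1 := Subtype.ext (by simpa using hT3 t2 ht2)
    rw [this]; rfl
  have hox : orderOf x = 3 := by
    have h1 : orderOf x ∣ 3 := orderOf_dvd_of_pow_eq_one hx3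
    rcases (Nat.dvd_prime Nat.prime_three).mp h1 with h | h
    · exact absurd (orderOf_eq_one_iff.mp h) hx1
    · exact h
  have hcard : Nat.card (T ⧸ Bt) = 3 := by
    have h1 : orderOf x ∣ Nat.card (T ⧸ Bt) := orderOf_dvd_natCard x
    rw [hox] at h1
    have hpos : 0 < Nat.card (T ⧸ Bt) := Nat.card_pos
    have := Nat.le_of_dvd hpos h1
    omega
  have : Fact (Nat.Prime 3) := ⟨Nat.prime_three⟩
  have hmem : (QuotientGroup.mk ⟨t3, ht3⟩ : T ⧸ Bt) ∈ Submonoid.powers x :=
    mem_powers_of_prime_card hcard hx1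
  obtain ⟨n, hn⟩ := hmem
  have hn' : x ^ (n % 3) = QuotientGroup.mk ⟨t3, ht3⟩ := by
    have := pow_mod_natCard x n
    rw [hcard] at this
    rw [this]; exact hn
  have hlt : n % 3 < 3 := Nat.mod_lt _ (by norm_num)
  interval_cases hm : n % 3
  · exfalso
    apply h3
    rw [pow_zero] at hn'
    have := (QuotientGroup.eq_one_iff _).mp hn'.symm
    exact Subgroup.mem_subgroupOf.mp this
  · left
    rw [pow_one, hx] at hn'
    have := QuotientGroup.eq.mp hn'
    have h := Subgroup.mem_subgroupOf.mp this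
    simpa using h
  · right
    rw [hx, ← QuotientGroup.mk_pow] at hn'
    have := QuotientGroup.eq.mp hn'
    have h := Subgroup.mem_subgroupOf.mp this
    have h2 : (t2 ^ 2)⁻¹ = t2 := by
      have h3 := hT3 t2 ht2
      calc (t2 ^ 2)⁻¹ = (t2 ^ 2)⁻¹ * t2 ^ 3 := by rw [h3, mul_one]
        _ = t2 := by group
    have h' : (t2 ^ 2)⁻¹ * t3 ∈ B := by simpa using h
    rwa [h2] at h'

/-- STRUCTURE THEOREM. -/
theorem struct_main [Finite H] {Q P : Subgroup H} [Q.Normal] (hQ : IsPGroup 2 Q)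
    (hCQ : Subgroup.centralizer (Q : Set H) ≤ Q) (hP : IsPGroup 3 P)
    {D : Set H} (hD : IsThreeTranspositionClass D) (hDQ : ∀ d ∈ D, d ∉ Q)
    {a : H} (ha : a ∈ D) (haP : ∀ x ∈ P, a * x * a ∈ P)
    (hgen : P = Subgroup.closure {x : H | x ∈ P ∧ a * x * a = x⁻¹}) (hPne : P ≠ ⊥) :
    Nat.card P = 3 ∨ ∃ y y2 : H, y ∈ P ∧ y2 ∈ P ∧ a * y * a = y⁻¹ ∧ a * y2 * a = y2⁻¹ ∧
      ¬ Commute y y2 ∧ P = Subgroup.closure {y, y2} := by
  classical
  have hset := hD.1
  have hconj := class_conj hD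
  have ha2 := sq_one hset ha
  have hainv : a⁻¹ = a := inv_eq_of_mul_eq_one_left ha2
  have haQ : a ∉ Q := hDQ a ha
  have hgen_le : P ≤ Subgroup.closure {x : H | x ∈ P ∧ a * x * a = x⁻¹} := by
    rw [← hgen]
  -- KEY'
  have hkey : ∀ x ∈ P, a * x * a = x⁻¹ → x ≠ 1 → ∀ q ∈ Q, Commute q x → Commute q a := by
    intro x hx hinv hx1 q hq hqx
    obtain ⟨hx3, hxD⟩ := inverted_props hset hconj ha hP hx hinv
    have hprod : a * (a * x) = x := by rw [← mul_assoc, ha2, one_mul]
    exact key hQ hset hconj ha hxD (by rw [hprod]; exact hx3) (by rw [hprod]; exact hx1) hq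
      (by rw [hprod]; exact hqx)
  -- (*)
  have hstar : ∀ x ∈ P, a * x * a = x⁻¹ → ∀ y ∈ P, a * y * a = y⁻¹ → Commute x y → x ≠ 1 →
      y ∈ Subgroup.zpowers x := by
    intro x hx hxinv y hy hyinv hxy hx1
    exact inverted_commuting hQ hCQ hset hconj ha haQ
      (inverted_props hset hconj ha hP hx hxinv).1 (inverted_props hset hconj ha hP hy hyinv).1
      hxy hxinv hyinv hx1
  by_cases hcase : ∃ x ∈ P, a * x * a = x⁻¹ ∧ x ≠ 1 ∧ ∀ g ∈ P, Commute x g
  · -- Case A
    left
    obtain ⟨x, hx, hxinv, hx1, hxc⟩ := hcase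
    have hle : P ≤ Subgroup.zpowers x := by
      refine hgen_le.trans ?_
      rw [Subgroup.closure_le]
      rintro y ⟨hy, hyinv⟩
      exact hstar x hx hxinv y hy hyinv (hxc y hy) hx1
    have hx3 := (inverted_props hset hconj ha hP hx hxinv).1
    have hox : orderOf x = 3 := by
      have h1 : orderOf x ∣ 3 := orderOf_dvd_of_pow_eq_one hx3
      rcases (Nat.dvd_prime Nat.prime_three).mp h1 with h | h
      · exact absurd (orderOf_eq_one_iff.mp h) hx1
      · exact h
    have heq : P = Subgroup.zpowers x :=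
      le_antisymm hle ((Subgroup.zpowers_le).mpr hx)
    rw [heq, Nat.card_zpowers, hox]
  · -- Case B
    right
    push Not at hcase
    have hZ : ∀ x ∈ P, a * x * a = x⁻¹ → (∀ g ∈ P, Commute x g) → x = 1 := by
      intro x hx hinv hc
      by_contra hx1
      obtain ⟨g, hg, hng⟩ := hcase x hx hinv hx1
      exact hng (hc g hg)
    obtain ⟨hcentA, y, hyP, hyinv, ⟨g0, hg0P, hg0⟩, hcentral⟩ :=
      Cfsg.Agent.Lib.Helper85.TT68.exists_second_center_inverted P hP a ha2 haP hgen hZ hPne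
    -- y2
    have hy2_ex : ∃ y2 ∈ P, a * y2 * a = y2⁻¹ ∧ ¬ Commute y y2 := by
      by_contra hno
      push Not at hno
      apply hg0
      have hle : P ≤ Subgroup.centralizer {y} := by
        refine hgen_le.trans ?_
        rw [Subgroup.closure_le]
        rintro z ⟨hz, hzinv⟩
        rw [SetLike.mem_coe, Subgroup.mem_centralizer_iff]
        intro w hw
        rw [Set.mem_singleton_iff] at hw
        subst hw
        exact (hno z hz hzinv).eq
      have := hle hg0P
      rw [Subgroup.mem_centralizer_iff] at this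
      exact this y rfl
    obtain ⟨y2, hy2P, hy2inv, hyy2⟩ := hy2_ex
    refine ⟨y, y2, hyP, hy2P, hyinv, hy2inv, hyy2, ?_⟩
    set U : Subgroup H := Subgroup.closure {y, y2} with hU
    have hyU : y ∈ U := Subgroup.subset_closure (by simp)
    have hy2U : y2 ∈ U := Subgroup.subset_closure (by simp)
    have hUP : U ≤ P := by
      rw [hU, Subgroup.closure_le]
      rintro z (rfl | rfl)
      · exact hyP
      · exact hy2P
    refine le_antisymm ?_ hUP
    refine hgen_le.trans ?_
    rw [Subgroup.closure_le]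
    rintro y3 ⟨hy3P, hy3inv⟩
    by_contra hy3U
    rw [SetLike.mem_coe] at hy3U
    exfalso
    -- the commutator map
    set φ : H → H := fun g => y⁻¹ * g⁻¹ * y * g with hφ
    have hφcent : ∀ g ∈ P, ∀ h ∈ P, Commute (φ g) h := hcentral
    have hφP : ∀ g ∈ P, φ g ∈ P := fun g hg =>
      P.mul_mem (P.mul_mem (P.mul_mem (P.inv_mem hyP) (P.inv_mem hg)) hyP) hg
    have hconjy : ∀ g, g⁻¹ * y * g = y * φ g := by
      intro g; simp only [hφ]; group
    have hφmul : ∀ g ∈ P, ∀ h ∈ P, φ (g * h) = φ g * φ h := by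
      intro g hg h hh
      have h1 : φ (g * h) = (y⁻¹ * h⁻¹ * y * h) * (h⁻¹ * φ g * h) := by
        have : φ (g * h) = y⁻¹ * h⁻¹ * (g⁻¹ * y * g) * h := by simp only [hφ]; group
        rw [this, hconjy g]; group
      have h2 : h⁻¹ * φ g * h = φ g := by
        have := (hφcent g hg h hh).eq
        calc h⁻¹ * φ g * h = h⁻¹ * (φ g * h) := by group
          _ = h⁻¹ * (h * φ g) := by rw [this]
          _ = φ g := by group
      rw [h1, h2]
      exact ((hφcent g hg _ (hφP h hh)).eq).symm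
    have hy3 := (inverted_props hset hconj ha hP hyP hyinv).1
    have hφ3 : ∀ g ∈ P, (φ g) ^ 3 = 1 := by
      intro g hg
      have hc : Commute y (φ g) := (hφcent g hg y hyP).symm
      have h1 : (g⁻¹ * y * g) ^ 3 = 1 := by
        have := conj_pow (i := 3) (a := g⁻¹) (b := y)
        rw [inv_inv] at this
        rw [this, hy3]; group
      rw [hconjy g, hc.mul_pow, hy3, one_mul] at h1
      exact h1
    have hφa : ∀ g ∈ P, a * φ g * a = φ g := fun g hg =>
      hcentA (φ g) (hφP g hg) (fun h hh => hφcent g hg h hh)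
    have hφone : φ 1 = 1 := by simp [hφ]
    have hφinv : ∀ g ∈ P, φ g⁻¹ = (φ g)⁻¹ := by
      intro g hg
      have := hφmul g hg g⁻¹ (P.inv_mem hg)
      rw [mul_inv_cancel, hφone] at this
      exact eq_inv_of_mul_eq_one_right this.symm
    -- the subgroup T
    set T : Subgroup H := Subgroup.closure {t : H | ∃ g ∈ P, t = φ g} with hT
    have hTP : T ≤ P := by
      rw [hT, Subgroup.closure_le]
      rintro t ⟨g, hg, rfl⟩
      exact hφP g hg
    have hTcent : ∀ t ∈ T, ∀ h ∈ P, Commute t h := by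
      intro t ht h hh
      induction ht using Subgroup.closure_induction with
      | mem t ht => obtain ⟨g, hg, rfl⟩ := ht; exact hφcent g hg h hh
      | one => exact Commute.one_left h
      | mul u v _ _ ihu ihv => exact ihu.mul_left ihv
      | inv u _ ihu => exact ihu.inv_left
    have hTa : ∀ t ∈ T, a * t * a = t := fun t ht =>
      hcentA t (hTP ht) (fun h hh => hTcent t ht h hh)
    have hTcomm : IsMulCommutative T := by
      rw [hT]
      apply Subgroup.isMulCommutative_closure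
      rintro u ⟨g, hg, rfl⟩ v ⟨g', hg', rfl⟩
      exact (hφcent g hg _ (hφP g' hg')).eq
    have hT3 : ∀ t ∈ T, t ^ 3 = 1 := by
      intro t ht
      induction ht using Subgroup.closure_induction with
      | mem t ht => obtain ⟨g, hg, rfl⟩ := ht; exact hφ3 g hg
      | one => exact one_pow 3
      | mul u v hu hv ihu ihv =>
        have hc : Commute u v := hTcent u hu v (hTP hv)
        rw [hc.mul_pow, ihu, ihv, one_mul]
      | inv u _ ihu => rw [inv_pow, ihu, inv_one]
    have hφT : ∀ g ∈ P, φ g ∈ T := fun g hg => Subgroup.subset_closure ⟨g, hg, rfl⟩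
    -- general finishing step
    have finish : ∀ B : Subgroup H, B ≤ T → ∀ y' ∈ P, a * y' * a = y'⁻¹ → φ y' ∈ B → y' ∉ Subgroup.zpowers y →
        ∀ r ∈ Q ⊓ Subgroup.centralizer (B : Set H), Commute r a := by
      intro B hBT y' hy'P hy'inv hφB hy'U
      have hBP : B ≤ P := hBT.trans hTP
      have hy'3 := (inverted_props hset hconj ha hP hy'P hy'inv).1
      apply Cfsg.Agent.Lib.Helper63.TT68.heis_generation (Q ⊓ Subgroup.centralizer (B : Set H)) B y y' a
      · exact hQ.to_le inf_le_left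
      · exact hP.to_le hBP
      · exact hy3
      · exact hy'3
      · intro h1
        apply hg0
        rw [h1]
        exact Commute.one_left g0
      · exact ha2
      · exact hyinv
      · exact hy'inv
      · intro l hl r hr
        have := (Subgroup.mem_inf.mp hr).2
        rw [Subgroup.mem_centralizer_iff] at this
        exact this l hl
      · intro l hl; exact hTcent l (hBT hl) y hyP
      · intro l hl; exact hTcent l (hBT hl) y' hy'P
      · intro l hl
        have h1 := hTa l (hBT hl)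
        show l * a = a * l
        calc l * a = (a * l * a) * a := by rw [h1]
          _ = a * l * (a * a) := by group
          _ = a * l := by rw [ha2, mul_one]
      · exact hφB
      · intro i l hl heq
        -- apply a-conjugation
        have hlP : l ∈ P := hBP hl
        have hla : a * l * a = l := hTa l (hBT hl)
        have hyi : a * y ^ i * a = (y ^ i)⁻¹ := by
          have := conj_zpow (i := i) (a := a) (b := y)
          rw [hainv] at this
          rw [← this, hyinv, inv_zpow]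
        have h1 : a * y' * a = (y ^ i)⁻¹ * l := by
          rw [heq]
          calc a * (y ^ i * l) * a = a * y ^ i * (a * a) * l * a := by rw [ha2]; group
            _ = (a * y ^ i * a) * (a * l * a) := by group
            _ = (y ^ i)⁻¹ * l := by rw [hyi, hla]
        rw [hy'inv, heq, mul_inv_rev] at h1
        -- l⁻¹ (y^i)⁻¹ = (y^i)⁻¹ l, and l central: l⁻¹ = l
        have hyiP : (y ^ i)⁻¹ ∈ P := P.inv_mem (P.zpow_mem hyP i)
        have hc : Commute l⁻¹ (y ^ i)⁻¹ := (hTcent l (hBT hl) _ hyiP).inv_left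
        rw [hc.eq] at h1
        have hll : l⁻¹ = l := mul_left_cancel h1
        have hl1 : l = 1 := by
          apply eq_one_of_three_group_of_sq hP hlP
          rw [pow_two]
          calc l * l = l⁻¹ * l := by rw [hll]
            _ = 1 := inv_mul_cancel l
        apply hy'U
        rw [heq, hl1, mul_one]
        exact Subgroup.zpow_mem_zpowers y i
      · intro r hr
        obtain ⟨hrQ, hrB⟩ := Subgroup.mem_inf.mp hr
        refine Subgroup.mem_inf.mpr ⟨‹Q.Normal›.conj_mem r hrQ y, ?_⟩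
        rw [Subgroup.mem_centralizer_iff] at hrB ⊢
        intro l hl
        have h1 := hrB l hl
        have h2 : l * y = y * l := (hTcent l (hBT hl) y hyP).eq
        have h3 : l * y⁻¹ = y⁻¹ * l := ((hTcent l (hBT hl) y hyP).inv_right).eq
        calc l * (y * r * y⁻¹) = (l * y) * r * y⁻¹ := by group
          _ = y * (l * r) * y⁻¹ := by rw [h2]; group
          _ = y * (r * l) * y⁻¹ := by rw [h1]
          _ = y * r * (l * y⁻¹) := by group
          _ = y * r * y⁻¹ * l := by rw [h3]; group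
      · intro r hr
        obtain ⟨hrQ, hrB⟩ := Subgroup.mem_inf.mp hr
        refine Subgroup.mem_inf.mpr ⟨‹Q.Normal›.conj_mem r hrQ y', ?_⟩
        rw [Subgroup.mem_centralizer_iff] at hrB ⊢
        intro l hl
        have h1 := hrB l hl
        have h2 : l * y' = y' * l := (hTcent l (hBT hl) y' hy'P).eq
        have h3 : l * y'⁻¹ = y'⁻¹ * l := ((hTcent l (hBT hl) y' hy'P).inv_right).eq
        calc l * (y' * r * y'⁻¹) = (l * y') * r * y'⁻¹ := by group
          _ = y' * (l * r) * y'⁻¹ := by rw [h2]; group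
          _ = y' * (r * l) * y'⁻¹ := by rw [h1]
          _ = y' * r * (l * y'⁻¹) := by group
          _ = y' * r * y'⁻¹ * l := by rw [h3]; group
      · intro k hk hkinv hk1 r hr hrk
        have hkP : k ∈ P := by
          have hle : Subgroup.closure ({y, y'} : Set H) ⊔ B ≤ P := by
            apply sup_le _ hBP
            rw [Subgroup.closure_le]
            rintro z (rfl | rfl)
            · exact hyP
            · exact hy'P
          exact hle hk
        exact hkey k hkP hkinv hk1 r (Subgroup.mem_inf.mp hr).1 hrk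
    have hzU : Subgroup.zpowers y ≤ U := (Subgroup.zpowers_le).mpr hyU
    have hy2z : y2 ∉ Subgroup.zpowers y := by
      intro h
      obtain ⟨i, hi⟩ := Subgroup.mem_zpowers_iff.mp h
      apply hyy2
      rw [← hi]
      exact (Commute.refl y).zpow_right i
    have hy2_3 := (inverted_props hset hconj ha hP hy2P hy2inv).1
    have hTc : ∀ u ∈ T, ∀ v ∈ T, u * v = v * u := fun u hu v hv => (hTcent u hu v (hTP hv)).eq
    have hall : ∀ B : Subgroup H, B ≤ T → B.relIndex T ≤ 3 →
        ∀ r ∈ Q ⊓ Subgroup.centralizer (B : Set H), Commute r a := by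
      intro B hBT hidx
      have ht2T := hφT y2 hy2P
      have ht3T := hφT y3 hy3P
      have ht2_3 := hT3 _ ht2T
      rcases pigeon hTc hBT hidx hT3 ht2T ht3T with h | h | h | h
      · exact finish B hBT y2 hy2P hy2inv h hy2z
      · exact finish B hBT y3 hy3P hy3inv h (fun hz => hy3U (hzU hz))
      · -- y' = y2 * y3 * y2
        have hy'P : y2 * y3 * y2 ∈ P := P.mul_mem (P.mul_mem hy2P hy3P) hy2P
        have hy'inv : a * (y2 * y3 * y2) * a = (y2 * y3 * y2)⁻¹ := by
          calc a * (y2 * y3 * y2) * a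
              = (a * y2 * a) * (a * y3 * a) * (a * y2 * a) := by
                calc a * (y2 * y3 * y2) * a = a * y2 * 1 * y3 * 1 * y2 * a := by group
                  _ = a * y2 * (a * a) * y3 * (a * a) * y2 * a := by rw [ha2]
                  _ = (a * y2 * a) * (a * y3 * a) * (a * y2 * a) := by group
            _ = y2⁻¹ * y3⁻¹ * y2⁻¹ := by rw [hy2inv, hy3inv]
            _ = (y2 * y3 * y2)⁻¹ := by group
        have hφ' : φ (y2 * y3 * y2) ∈ B := by
          rw [hφmul _ (P.mul_mem hy2P hy3P) _ hy2P, hφmul _ hy2P _ hy3P]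
          have hc : φ y2 * φ y3 * φ y2 = (φ y2)⁻¹ * φ y3 :=
            aux_comm1 (hTc _ ht2T _ ht3T) ht2_3
          rw [hc]; exact h
        refine finish B hBT _ hy'P hy'inv hφ' ?_
        intro hz
        apply hy3U
        have : y3 = y2⁻¹ * (y2 * y3 * y2) * y2⁻¹ := by group
        rw [this]
        exact U.mul_mem (U.mul_mem (U.inv_mem hy2U) (hzU hz)) (U.inv_mem hy2U)
      · -- y' = y2⁻¹ * y3 * y2⁻¹
        have hy2iP : y2⁻¹ ∈ P := P.inv_mem hy2P
        have hy'P : y2⁻¹ * y3 * y2⁻¹ ∈ P := P.mul_mem (P.mul_mem hy2iP hy3P) hy2iP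
        have hy2iinv : a * y2⁻¹ * a = y2 := by
          have : a * y2⁻¹ * a = (a * y2 * a)⁻¹ := by
            rw [mul_inv_rev, mul_inv_rev, hainv]; group
          rw [this, hy2inv, inv_inv]
        have hy'inv : a * (y2⁻¹ * y3 * y2⁻¹) * a = (y2⁻¹ * y3 * y2⁻¹)⁻¹ := by
          calc a * (y2⁻¹ * y3 * y2⁻¹) * a
              = (a * y2⁻¹ * a) * (a * y3 * a) * (a * y2⁻¹ * a) := by
                calc a * (y2⁻¹ * y3 * y2⁻¹) * a = a * y2⁻¹ * 1 * y3 * 1 * y2⁻¹ * a := by group
                  _ = a * y2⁻¹ * (a * a) * y3 * (a * a) * y2⁻¹ * a := by rw [ha2]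
                  _ = (a * y2⁻¹ * a) * (a * y3 * a) * (a * y2⁻¹ * a) := by group
            _ = y2 * y3⁻¹ * y2 := by rw [hy2iinv, hy3inv]
            _ = (y2⁻¹ * y3 * y2⁻¹)⁻¹ := by group
        have hφ' : φ (y2⁻¹ * y3 * y2⁻¹) ∈ B := by
          rw [hφmul _ (P.mul_mem hy2iP hy3P) _ hy2iP, hφmul _ hy2iP _ hy3P, hφinv y2 hy2P]
          have hc : (φ y2)⁻¹ * φ y3 * (φ y2)⁻¹ = φ y2 * φ y3 :=
            aux_comm2 (hTc _ ht2T _ ht3T) ht2_3
          rw [hc]; exact h
        refine finish B hBT _ hy'P hy'inv hφ' ?_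
        intro hz
        apply hy3U
        have : y3 = y2 * (y2⁻¹ * y3 * y2⁻¹) * y2 := by group
        rw [this]
        exact U.mul_mem (U.mul_mem hy2U (hzU hz)) hy2U
    -- a centralizes Q
    have hQa : ∀ r ∈ Q, Commute r a := by
      by_cases h9 : 3 ^ 2 ≤ Nat.card T
      · have hEA : IsElementaryAbelian 3 T := ⟨hTcomm, hT3⟩
        have hX : ¬ 3 ∣ Nat.card Q := by
          obtain ⟨m, hm⟩ := hQ.exists_card_eq
          rw [hm]
          intro h
          have := (Nat.Prime.dvd_of_dvd_pow Nat.prime_three h)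
          revert this; decide
        have hAX : T ≤ Subgroup.normalizer (Q : Set H) := by
          rw [Subgroup.normalizer_eq_top]; exact le_top
        have : Fact (Nat.Prime 3) := ⟨Nat.prime_three⟩
        have hS := Cfsg.Agent.S1324.result 3 T Q hEA h9 hX hAX
        have hle : (⨆ B : {B : Subgroup H // B ≤ T ∧ B.relIndex T ≤ 3},
            Q ⊓ Subgroup.centralizer ((B : Subgroup H) : Set H)) ≤ Subgroup.centralizer {a} := by
          apply iSup_le
          intro B r hr
          rw [Subgroup.mem_centralizer_iff]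
          intro w hw
          rw [Set.mem_singleton_iff] at hw
          subst hw
          exact (hall B.1 B.2.1 B.2.2 r hr).eq.symm
        intro r hr
        rw [hS] at hr
        have := hle hr
        rw [Subgroup.mem_centralizer_iff] at this
        exact (this a rfl).symm
      · -- card T = 3, B = ⊥
        push Not at h9
        have hT3grp : IsPGroup 3 T := hP.to_le hTP
        obtain ⟨n, hn⟩ := hT3grp.exists_card_eq
        have ht2ne : φ y2 ≠ 1 := by
          intro h
          apply hyy2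
          have h1 : y⁻¹ * y2⁻¹ * y * y2 = 1 := h
          show y * y2 = y2 * y
          calc y * y2 = y2 * y * (y⁻¹ * y2⁻¹ * y * y2) := by group
            _ = y2 * y := by rw [h1, mul_one]
        have hn1 : n = 1 := by
          have hn0 : n ≠ 0 := by
            intro h0
            rw [h0, pow_zero] at hn
            have hbot : T = ⊥ := Subgroup.card_eq_one.mp hn
            have := hφT y2 hy2P
            rw [hbot, Subgroup.mem_bot] at this
            exact ht2ne this
          have hlt : 3 ^ n < 3 ^ 2 := by rw [← hn]; exact h9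
          have := (Nat.pow_lt_pow_iff_right (by norm_num : 1 < 3)).mp hlt
          omega
        have hidx : (⊥ : Subgroup H).relIndex T ≤ 3 := by
          rw [Subgroup.relIndex_bot_left, hn, hn1, pow_one]
        intro r hr
        apply hall ⊥ bot_le hidx r
        refine Subgroup.mem_inf.mpr ⟨hr, ?_⟩
        rw [Subgroup.mem_centralizer_iff]
        intro w hw
        have : w = 1 := by simpa using hw
        rw [this, one_mul, mul_one]
    apply haQ
    apply hCQ
    rw [Subgroup.mem_centralizer_iff]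
    intro q hq
    exact (hQa q hq).eq

end Cfsg.Agent.Lib.Helper94.TT68
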