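import Mathlib
import Cfsg.Prelude.Def_SporadicB
import Cfsg.Prelude.Def_Solvable
import Cfsg.Prelude.Def_Classical
import Cfsg.Agent.Lib.Helper94.TT68Struct
import Cfsg.Agent.Lib.Helper89.TT68T2
import Cfsg.Agent.Lib.Helper03.TT68C1
import Cfsg.Agent.Lib.Helper21.TT68P1
import Cfsg.Agent.Lib.Helper96.TT68Q1
import Cfsg.Agent.Lib.Helper56.TT68IDX
import Cfsg.Agent.S5356
import Cfsg.Agent.S1265
import Cfsg.Prelude.Def_Local
import Cfsg.Prelude.Def_Transfer

/-! # TT68: final assembly for S5559 -/

set_option autoImplicit false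

namespace Cfsg.Agent.Lib.Helper94.TT68

open Cfsg

variable {H : Type*} [Group H]

/-- a 2-group cannot be generated by a class of 3-transpositions with two members -/
theorem not_two_group [Finite H] {E : Set H} (hE : IsThreeTranspositionClass E)
    (hE2 : ∃ a ∈ E, ∃ b ∈ E, a ≠ b) (h2 : IsPGroup 2 H) : False := by
  obtain ⟨d0, hd0, hEeq⟩ := hE.2.1
  have : Fact (Nat.Prime 2) := ⟨Nat.prime_two⟩
  have hz := Cfsg.Agent.Lib.Helper21.TT68.pgroup_class_generated h2 d0 (by rw [← hEeq]; exact hE.2.2)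
  -- H = zpowers d0 is commutative, so the class of d0 is {d0}
  have hcomm : ∀ g : H, g * d0 = d0 * g := by
    intro g
    have hg : g ∈ Subgroup.zpowers d0 := by rw [hz]; trivial
    obtain ⟨i, rfl⟩ := Subgroup.mem_zpowers_iff.mp hg
    exact ((Commute.refl d0).zpow_left i).eq
  have hsingle : ∀ e ∈ E, e = d0 := by
    intro e he
    rw [hEeq] at he
    have : IsConj d0 e := he
    obtain ⟨g, hg⟩ := isConj_iff.mp this
    rw [← hg, hcomm g]; group
  obtain ⟨a, ha, b, hb, hab⟩ := hE2
  exact hab ((hsingle a ha).trans (hsingle b hb).symm)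


/-- in `H/Q` (no element of order 4 dividing), two transpositions commute iff they have the same image -/
theorem commute_iff_image [Finite H] {Q : Subgroup H} [Q.Normal] (hQ : IsPGroup 2 Q)
    {D : Set H} (hD : IsThreeTranspositionSet D) (hDQ : ∀ d ∈ D, d ∉ Q)
    (hodd : ¬ 4 ∣ Nat.card (H ⧸ Q)) {u v : H} (hu : u ∈ D) (hv : v ∈ D) :
    Commute u v ↔ (QuotientGroup.mk u : H ⧸ Q) = QuotientGroup.mk v := by
  have hu2 := sq_one hD hu
  have hv2 := sq_one hD hv
  have huinv : u⁻¹ = u := inv_eq_of_mul_eq_one_left hu2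
  have hvinv : v⁻¹ = v := inv_eq_of_mul_eq_one_left hv2
  constructor
  · intro h
    apply image_eq_of_commute hD hDQ hodd hu hv
    rw [h.mul_pow, pow_two, pow_two, hu2, hv2, one_mul]
  · intro h
    have hmem : u * v ∈ Q := by
      have := QuotientGroup.eq.mp h
      rwa [huinv] at this
    rcases hD.2 u hu v hv with h2 | h3
    · -- (uv)^2 = 1 → commute
      show u * v = v * u
      have h1 : u * v * (u * v) = 1 := by rw [← pow_two]; exact h2
      calc u * v = (u * v * (u * v)) * (v⁻¹ * u⁻¹) := by group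
        _ = v * u := by rw [h1, one_mul, huinv, hvinv]
    · have h1 : u * v = 1 := eq_one_of_two_group_of_cube hQ hmem h3
      have : v = u := by
        have := eq_inv_of_mul_eq_one_right h1
        rw [this, huinv]
      rw [this]

/-- FINAL ASSEMBLY for S5559. -/
theorem final [Finite H] {E : Set H} (hE : IsThreeTranspositionClass E)
    (hE2 : ∃ a ∈ E, ∃ b ∈ E, a ≠ b)
    (hF : Cfsg.generalizedFittingSubgroup H = Cfsg.pCore 2 H)
    (h232 : ∃ P : Sylow 3 (H ⧸ Cfsg.pCore 2 H), (P : Subgroup (H ⧸ Cfsg.pCore 2 H)).Normal ∧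
      ∃ k : ℕ, (P : Subgroup (H ⧸ Cfsg.pCore 2 H)).index = 2 ^ k) :
    Nonempty (H ⧸ Cfsg.pCore 2 H ≃* Equiv.Perm (Fin 3)) ∨
      ∃ (F : Type) (_ : Field F) (_ : Fintype F), Fintype.card F = 4 ∧
        Nonempty (H ⧸ Cfsg.pCore 2 H ≃* ↥(commutator ↥(Cfsg.SU 3 F 2))) := by
  classical
  set Q : Subgroup H := Cfsg.pCore 2 H with hQdef
  have hQ2 : IsPGroup 2 Q := Sylow.sSup_of_normal _ (fun _ h => h.2) (fun _ h => h.1)
  have hCQ : Subgroup.centralizer (Q : Set H) ≤ Q := by
    have := Cfsg.Agent.S1265.result (G := H)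
    rwa [hF] at this
  have hset := hE.1
  have hconj := class_conj hE
  obtain ⟨d0, hd0, hEeq⟩ := hE.2.1
  let π : H →* H ⧸ Q := QuotientGroup.mk' Q
  have hπsurj : Function.Surjective π := QuotientGroup.mk'_surjective Q
  -- Step 1
  have hDQ : ∀ d ∈ E, d ∉ Q := by
    intro d hd hdQ
    have hsub : E ⊆ Q := by
      intro e he
      rw [hEeq] at hd he
      have h1 : IsConj d0 d := hd
      have h2 : IsConj d0 e := he
      obtain ⟨g, hg⟩ := isConj_iff.mp (h1.symm.trans h2)
      rw [← hg]
      exact (inferInstance : Q.Normal).conj_mem d hdQ g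
    have htop : Q = ⊤ := by
      rw [eq_top_iff, ← hE.2.2]
      exact (Subgroup.closure_le Q).mpr hsub
    apply not_two_group hE hE2
    intro g
    obtain ⟨n, hn⟩ := hQ2 ⟨g, by rw [htop]; trivial⟩
    exact ⟨n, by simpa using congrArg Subtype.val hn⟩
  have hπ2 : ∀ d ∈ E, π d * π d = 1 := by
    intro d hd; rw [← map_mul, sq_one hset hd, map_one]
  have hπ1 : ∀ d ∈ E, π d ≠ 1 := by
    intro d hd h
    exact hDQ d hd ((QuotientGroup.eq_one_iff d).mp h)
  -- Step 2
  obtain ⟨Pbar, hPn, k, hk⟩ := h232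
  have hidx2 : (Pbar : Subgroup (H ⧸ Q)).index ≤ 2 := by
    have := hPn
    apply Cfsg.Agent.Lib.Helper56.TT68.index_le_two_of_class_generated (Pbar : Subgroup (H ⧸ Q)) k hk
      (π d0) (hπ2 d0 hd0)
    rw [eq_top_iff, ← MonoidHom.range_eq_top.mpr hπsurj, MonoidHom.range_eq_map, ← hE.2.2,
      MonoidHom.map_closure, Subgroup.closure_le]
    rintro _ ⟨e, he, rfl⟩
    apply Subgroup.subset_closure
    rw [hEeq] at he
    have h1 : IsConj d0 e := he
    obtain ⟨g, hg⟩ := isConj_iff.mp h1
    show IsConj (π d0) (π e)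
    rw [isConj_iff]
    exact ⟨π g, by rw [← hg, map_mul, map_mul, map_inv]⟩
  have hodd : ¬ 4 ∣ Nat.card (H ⧸ Q) := by
    intro h4
    have hcard : Nat.card (Pbar : Subgroup (H ⧸ Q)) * (Pbar : Subgroup (H ⧸ Q)).index
        = Nat.card (H ⧸ Q) := Subgroup.card_mul_index _
    obtain ⟨m, hm⟩ := Pbar.isPGroup'.exists_card_eq
    rw [← hcard, hm] at h4
    have hcop : Nat.Coprime 4 (3 ^ m) := Nat.Coprime.pow_right _ (by decide)
    have h4i : 4 ∣ (Pbar : Subgroup (H ⧸ Q)).index := hcop.dvd_of_dvd_mul_left h4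
    have hpos : 0 < (Pbar : Subgroup (H ⧸ Q)).index := by rw [hk]; positivity
    have := Nat.le_of_dvd hpos h4i
    omega
  have hciff := fun {u v : H} (hu : u ∈ E) (hv : v ∈ E) =>
    commute_iff_image hQ2 hset hDQ hodd hu hv
  -- Step 3: S5356
  set a := d0 with ha_def
  have ha : a ∈ E := hd0
  have ha2 := sq_one hset ha
  have hainv : a⁻¹ = a := inv_eq_of_mul_eq_one_left ha2
  have hV : {y : H | y ∈ E ∧ Commute a y} =
      {v : H | v ∈ E ∧ ∀ e ∈ E, Commute v e ↔ Commute a e} := by
    ext y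
    constructor
    · rintro ⟨hy, hay⟩
      refine ⟨hy, fun e he => ?_⟩
      rw [hciff hy he, hciff ha he, (hciff ha hy).mp hay]
    · rintro ⟨hy, hall⟩
      exact ⟨hy, ((hall a ha).mpr (Commute.refl a)).symm⟩
  obtain ⟨P, haN, htopP⟩ := Cfsg.Agent.S5356.result hE hE2 ha hV
  have hP3 : IsPGroup 3 (P : Subgroup H) := P.isPGroup'
  have haP : ∀ x ∈ (P : Subgroup H), a * x * a ∈ (P : Subgroup H) := by
    intro x hx
    have := (Subgroup.mem_normalizer_iff.mp haN x).mp hx
    rwa [hainv] at this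
  -- Step 5: R
  set R : Subgroup H := Subgroup.closure {x : H | x ∈ (P : Subgroup H) ∧ a * x * a = x⁻¹} with hRdef
  have hRP : R ≤ (P : Subgroup H) := by
    rw [hRdef, Subgroup.closure_le]
    rintro x ⟨hx, -⟩
    exact hx
  have hR3 : IsPGroup 3 R := hP3.to_le hRP
  have htopR : Subgroup.zpowers a ⊔ R ⊔ Q = ⊤ := top_of_inverted hQ2 hP3 hE hDQ ha haP htopP
  have haR : ∀ x ∈ R, a * x * a ∈ R := by
    intro x hx
    induction hx using Subgroup.closure_induction with
    | mem x hx =>
      obtain ⟨hxP, hxinv⟩ := hx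
      rw [hxinv]
      exact R.inv_mem (Subgroup.subset_closure ⟨hxP, hxinv⟩)
    | one => rw [mul_one, ha2]; exact R.one_mem
    | mul u v _ _ ihu ihv =>
      have : a * (u * v) * a = (a * u * a) * (a * v * a) := by
        calc a * (u * v) * a = a * u * 1 * v * a := by group
          _ = a * u * (a * a) * v * a := by rw [ha2]
          _ = (a * u * a) * (a * v * a) := by group
      rw [this]; exact R.mul_mem ihu ihv
    | inv u _ ihu =>
      have : a * u⁻¹ * a = (a * u * a)⁻¹ := by
        rw [mul_inv_rev, mul_inv_rev, hainv]; group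
      rw [this]; exact R.inv_mem ihu
  have hgenR : R = Subgroup.closure {x : H | x ∈ R ∧ a * x * a = x⁻¹} := by
    apply le_antisymm
    · rw [hRdef, Subgroup.closure_le]
      rintro x ⟨hxP, hxinv⟩
      exact Subgroup.subset_closure ⟨Subgroup.subset_closure ⟨hxP, hxinv⟩, hxinv⟩
    · rw [Subgroup.closure_le]
      rintro x ⟨hxR, -⟩
      exact hxR
  -- Step 6
  have hcardQ : Nat.card (H ⧸ Q) = 2 * Nat.card R :=
    Cfsg.Agent.Lib.Helper96.TT68.card_quotient_eq Q hQ2 R hR3 a ha2 (hDQ a ha) haR htopR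
  -- Step 7
  have hRne : R ≠ ⊥ := by
    intro hbot
    apply not_two_group hE hE2
    -- card H = 2 * card Q
    have hcH : Nat.card H = Nat.card (H ⧸ Q) * Nat.card Q :=
      Subgroup.card_eq_card_quotient_mul_card_subgroup Q
    obtain ⟨m, hm⟩ := hQ2.exists_card_eq
    have : Fact (Nat.Prime 2) := ⟨Nat.prime_two⟩
    apply IsPGroup.of_card (n := m + 1)
    rw [hcH, hcardQ, hbot, Subgroup.card_bot, hm, pow_succ]; ring
  -- a second transposition
  have hb_ex : ∃ b ∈ E, π b ≠ π a := by
    by_contra hno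
    push Not at hno
    have hle : (⊤ : Subgroup (H ⧸ Q)) ≤ Subgroup.zpowers (π a) := by
      rw [← MonoidHom.range_eq_top.mpr hπsurj, MonoidHom.range_eq_map, ← hE.2.2,
        MonoidHom.map_closure, Subgroup.closure_le]
      rintro _ ⟨d, hd, rfl⟩
      rw [hno d hd]
      exact Subgroup.mem_zpowers _
    have h2 : Nat.card (Subgroup.zpowers (π a)) ≤ 2 := by
      rw [Nat.card_zpowers]
      apply Nat.le_of_dvd (by norm_num)
      apply orderOf_dvd_of_pow_eq_one
      rw [pow_two]; exact hπ2 a ha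
    have h3 : Nat.card (⊤ : Subgroup (H ⧸ Q)) ≤ Nat.card (Subgroup.zpowers (π a)) :=
      Subgroup.card_le_of_le hle
    rw [Subgroup.card_top, hcardQ] at h3
    have hRpos : 1 < Nat.card R := by
      rw [Subgroup.one_lt_card_iff_ne_bot]; exact hRne
    omega
  -- Step 8
  rcases struct_main hQ2 hCQ hR3 hE hDQ ha haR hgenR hRne with h3 | ⟨y, y2, hyR, hy2R, hyinv, hy2inv, hyy2, hRgen⟩
  · -- card R = 3: S_3
    left
    obtain ⟨b, hb, hba⟩ := hb_ex
    have hab3 : (a * b) ^ 3 = 1 := by
      rcases hset.2 a ha b hb with h | h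
      · exact absurd (image_eq_of_commute hset hDQ hodd ha hb h).symm hba
      · exact h
    have hπab : (π a * π b) ^ 3 = 1 := by rw [← map_mul, ← map_pow, hab3, map_one]
    have hS6 : Nat.card (Subgroup.closure ({π a, π b} : Set (H ⧸ Q))) = 6 :=
      card_closure_pair (hπ2 a ha) (hπ2 b hb) hπab (Ne.symm hba) (hπ1 a ha) (hπ1 b hb)
    have htop6 : Subgroup.closure ({π a, π b} : Set (H ⧸ Q)) = ⊤ := by
      apply Subgroup.eq_top_of_card_eq
      rw [hS6, hcardQ, h3]
    -- S0444
    have hox : orderOf (π a) = 2 := orderOf_eq_prime (by rw [pow_two]; exact hπ2 a ha) (hπ1 a ha)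
    have hoy : orderOf (π b) = 2 := orderOf_eq_prime (by rw [pow_two]; exact hπ2 b hb) (hπ1 b hb)
    have hπba : (π b * π a) ^ 3 = 1 := by
      have : π b * π a = (π a * π b)⁻¹ := by
        rw [mul_inv_rev, inv_eq_of_mul_eq_one_left (hπ2 a ha), inv_eq_of_mul_eq_one_left (hπ2 b hb)]
      rw [this, inv_pow, hπab, inv_one]
    have hE' : IsThreeTranspositionSet ({π a, π b} : Set (H ⧸ Q)) := by
      refine ⟨?_, ?_⟩
      · intro d hd
        rcases hd with rfl | rfl
        · exact hox
        · exact hoy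
      · intro d hd e he
        rcases hd with rfl | rfl <;> rcases he with rfl | rfl
        · left; rw [hπ2 a ha, one_pow]
        · right; exact hπab
        · right; exact hπba
        · left; rw [hπ2 b hb, one_pow]
    have hnc : ¬ Commute (π a) (π b) := by
      intro h
      have h3' : (π a * π b) ^ 3 = π a * π b := by
        rw [h.mul_pow]
        have h1 : π a ^ 3 = π a := by rw [pow_succ, pow_two, hπ2 a ha, one_mul]
        have h2 : π b ^ 3 = π b := by rw [pow_succ, pow_two, hπ2 b hb, one_mul]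
        rw [h1, h2]
      rw [hπab] at h3'
      apply hba
      have : π a = (π b)⁻¹ := eq_inv_of_mul_eq_one_left h3'.symm
      rw [this, inv_eq_of_mul_eq_one_left (hπ2 b hb)]
    obtain ⟨e⟩ := Cfsg.Agent.S0444.result hE' (Set.mem_insert _ _) (Set.mem_insert_of_mem _ rfl) hnc
    exact ⟨(Subgroup.topEquiv.symm.trans (MulEquiv.subgroupCongr htop6.symm)).trans e⟩
  · -- the order 54 case
    right
    have hy3 := (inverted_props hset hconj ha hR3 hyR hyinv).1
    have hbE : a * y ∈ E := (inverted_props hset hconj ha hR3 hyR hyinv).2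
    have hy2_3 := (inverted_props hset hconj ha hR3 hy2R hy2inv).1
    have hcE : a * y2 ∈ E := (inverted_props hset hconj ha hR3 hy2R hy2inv).2
    set b := a * y with hb_def
    set c := a * y2 with hc_def
    have hb2 := sq_one hset hbE
    have hc2 := sq_one hset hcE
    have hab : a * b = y := by rw [hb_def, ← mul_assoc, ha2, one_mul]
    have hac : a * c = y2 := by rw [hc_def, ← mul_assoc, ha2, one_mul]
    have hab3 : (a * b) ^ 3 = 1 := by rw [hab]; exact hy3
    have hbc : b * c = y⁻¹ * y2 := by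
      calc b * c = a * y * (a * y2) := rfl
        _ = (a * y * a) * y2 := by group
        _ = y⁻¹ * y2 := by rw [hyinv]
    have hbc3 : (b * c) ^ 3 = 1 := by
      rcases hset.2 b hbE c hcE with h | h
      · exfalso
        rw [hbc] at h
        have h1 : y⁻¹ * y2 = 1 :=
          eq_one_of_three_group_of_sq hR3 (R.mul_mem (R.inv_mem hyR) hy2R) h
        apply hyy2
        have : y2 = y := by
          have := eq_inv_of_mul_eq_one_right h1
          rw [this, inv_inv]
        rw [this]
      · exact h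
    have hca : c * a = y2⁻¹ := by
      calc c * a = a * y2 * a := rfl
        _ = y2⁻¹ := hy2inv
    have hca3 : (c * a) ^ 3 = 1 := by rw [hca, inv_pow, hy2_3, inv_one]
    have htw : a * (c * b * c) = y2 * y⁻¹ * y2 := by
      calc a * (c * b * c) = a * (a * y2 * (a * y) * (a * y2)) := rfl
        _ = (a * a) * y2 * (a * y * a) * y2 := by group
        _ = y2 * y⁻¹ * y2 := by rw [ha2, hyinv, one_mul]
    have ht3 : (a * (c * b * c)) ^ 3 = 1 := by
      rw [htw]
      have hwR : y2 * y⁻¹ * y2 ∈ R := R.mul_mem (R.mul_mem hy2R (R.inv_mem hyR)) hy2R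
      have hyiinv : a * y⁻¹ * a = y := by
        have : a * y⁻¹ * a = (a * y * a)⁻¹ := by
          rw [mul_inv_rev, mul_inv_rev, hainv]; group
        rw [this, hyinv, inv_inv]
      have hwinv : a * (y2 * y⁻¹ * y2) * a = (y2 * y⁻¹ * y2)⁻¹ := by
        calc a * (y2 * y⁻¹ * y2) * a
            = (a * y2 * a) * (a * y⁻¹ * a) * (a * y2 * a) := by
              calc a * (y2 * y⁻¹ * y2) * a = a * y2 * 1 * y⁻¹ * 1 * y2 * a := by group
                _ = a * y2 * (a * a) * y⁻¹ * (a * a) * y2 * a := by rw [ha2]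
                _ = (a * y2 * a) * (a * y⁻¹ * a) * (a * y2 * a) := by group
          _ = y2⁻¹ * y * y2⁻¹ := by rw [hy2inv, hyiinv]
          _ = (y2 * y⁻¹ * y2)⁻¹ := by group
      exact (inverted_props hset hconj ha hR3 hwR hwinv).1
    -- generation in the quotient
    have hgenbar : Subgroup.closure ({π a, π b, π c} : Set (H ⧸ Q)) = ⊤ := by
      have himg : ({π a, π b, π c} : Set (H ⧸ Q)) = π '' {a, b, c} := by
        simp [Set.image_insert_eq]
      rw [himg, ← MonoidHom.map_closure]
      set K : Subgroup H := Subgroup.closure {a, b, c} with hK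
      have haK : a ∈ K := Subgroup.subset_closure (by simp)
      have hbK : b ∈ K := Subgroup.subset_closure (by simp)
      have hcK : c ∈ K := Subgroup.subset_closure (by simp)
      have hyK : y ∈ K := by rw [← hab]; exact K.mul_mem haK hbK
      have hy2K : y2 ∈ K := by rw [← hac]; exact K.mul_mem haK hcK
      have hRK : R ≤ K := by
        rw [hRgen, Subgroup.closure_le]
        rintro z (rfl | rfl)
        · exact hyK
        · exact hy2K
      have hKQ : K ⊔ Q = ⊤ := by
        rw [eq_top_iff, ← htopR]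
        apply sup_le_sup_right
        exact sup_le ((Subgroup.zpowers_le).mpr haK) hRK
      have : (K ⊔ Q).map π = ⊤ := by rw [hKQ, ← MonoidHom.range_eq_map, MonoidHom.range_eq_top]; exact hπsurj
      rw [Subgroup.map_sup] at this
      have hQmap : Q.map π = ⊥ := by
        rw [eq_bot_iff]
        rintro _ ⟨q, hq, rfl⟩
        rw [Subgroup.mem_bot]
        exact (QuotientGroup.eq_one_iff q).mpr hq
      rw [hQmap, sup_bot_eq] at this
      exact this
    have hrel : ∀ {u v : H}, (u * v) ^ 3 = 1 → (π u * π v) ^ 3 = 1 := by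
      intro u v h; rw [← map_mul, ← map_pow, h, map_one]
    have htbar : (π a * (π c * π b * π c)) ^ 3 = 1 := by
      rw [← map_mul, ← map_mul, ← map_mul, ← map_pow, ht3, map_one]
    have hdvd := (Cfsg.Agent.Lib.Helper89.TT68.tri_card_dvd (π a) (π b) (π c) (hπ2 a ha) (hπ2 b hbE)
      (hπ2 c hcE) (hrel hab3) (hrel hbc3) (hrel hca3) htbar hgenbar).2
    -- card R = 27
    have hcard54 : Nat.card (H ⧸ Q) = 54 := by
      obtain ⟨n, hn⟩ := hR3.exists_card_eq
      rw [hcardQ, hn] at hdvd ⊢
      have hn3 : 3 ≤ n := by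
        by_contra hlt
        push Not at hlt
        apply hyy2
        have hcommR : ∀ u v : R, u * v = v * u := by
          interval_cases n
          · -- card 1
            intro u v
            have hsub : Subsingleton R :=
              (Nat.card_eq_one_iff_unique.mp (by rw [hn]; norm_num)).1
            rw [Subsingleton.elim u v]
          · have : Fact (Nat.Prime 3) := ⟨Nat.prime_three⟩
            have hcyc : IsCyclic R := isCyclic_of_prime_card (p := 3) (by rw [hn]; norm_num)
            have := hcyc.isMulCommutative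
            intro u v
            exact mul_comm' u v
          · have : Fact (Nat.Prime 3) := ⟨Nat.prime_three⟩
            have := IsPGroup.isMulCommutative_of_card_eq_prime_sq (p := 3) hn
            intro u v
            exact mul_comm' u v
        have := hcommR ⟨y, hyR⟩ ⟨y2, hy2R⟩
        exact congrArg Subtype.val this
      have hn3' : n ≤ 3 := by
        by_contra hgt
        push Not at hgt
        have h81 : 2 * 3 ^ 4 ∣ 54 := by
          refine dvd_trans (Nat.mul_dvd_mul_left 2 (pow_dvd_pow 3 hgt)) hdvd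
        revert h81; decide
      have : n = 3 := le_antisymm hn3' hn3
      rw [this]; norm_num
    -- the model
    have hF4 : Fintype.card Cfsg.Agent.Lib.Helper48.U32F4.F4 = 4 :=
      Cfsg.Agent.Lib.Helper48.U32F4.F4.card_F4
    obtain ⟨hC54, a', b', c', ha', hb', hc', hab', hbc', hca', ht', hgen'⟩ :=
      Cfsg.Agent.Lib.Helper03.TT68.su32_commutator_triangle hF4
    refine ⟨Cfsg.Agent.Lib.Helper48.U32F4.F4, inferInstance, inferInstance, hF4, ?_⟩
    exact Cfsg.Agent.Lib.Helper89.TT68.tri_mulEquiv (π a) (π b) (π c) a' b' c'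
      (hπ2 a ha) (hπ2 b hbE) (hπ2 c hcE) (hrel hab3) (hrel hbc3) (hrel hca3) htbar hgenbar hcard54
      ha' hb' hc' hab' hbc' hca' ht' hgen' hC54

end Cfsg.Agent.Lib.Helper94.TT68
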